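/-
Aschbacher's theorem for the classes of `Def_GeometricClasses`: basic vocabulary.
Enveloping algebras of matrix groups, conjugation, invariant subspaces.
-/
import Mathlib
import Cfsg.Prelude.Def_GeometricClasses

set_option autoImplicit false

namespace Cfsg.Agent.Aschbacher

open scoped MatrixGroups Matrix
open Cfsg.Geo

variable {ι : Type} [Fintype ι] [DecidableEq ι] {F : Type*} [Field F]

/-- Conjugation by an invertible matrix, as an algebra automorphism. -/
def cj (g : GL ι F) : Matrix ι ι F ≃ₐ[F] Matrix ι ι F where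
  toFun X := (g : Matrix ι ι F) * X * ((g⁻¹ : GL ι F) : Matrix ι ι F)
  invFun X := ((g⁻¹ : GL ι F) : Matrix ι ι F) * X * (g : Matrix ι ι F)
  left_inv X := by simp [mul_assoc]
  right_inv X := by simp [mul_assoc]
  map_mul' X Y := by simp [mul_assoc]
  map_add' X Y := by simp [mul_add, add_mul]
  commutes' c := by
    rw [← Algebra.commutes, mul_assoc, ← Units.val_mul, mul_inv_cancel, Units.val_one, mul_one]

lemma cj_apply (g : GL ι F) (X : Matrix ι ι F) :
    cj g X = (g : Matrix ι ι F) * X * ((g⁻¹ : GL ι F) : Matrix ι ι F) := rfl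

lemma cj_val (g x : GL ι F) : cj g (x : Matrix ι ι F) = ((g * x * g⁻¹ : GL ι F) : Matrix ι ι F) := by
  simp [cj_apply]

lemma cj_mul (g h : GL ι F) (X : Matrix ι ι F) : cj (g * h) X = cj g (cj h X) := by
  simp [cj_apply, mul_assoc]

lemma cj_inv_apply (g : GL ι F) (X : Matrix ι ι F) : cj g⁻¹ (cj g X) = X := by
  rw [← cj_mul, inv_mul_cancel]; simp [cj_apply]

lemma mul_eq_cj_mul (g : GL ι F) (X : Matrix ι ι F) :
    (g : Matrix ι ι F) * X = cj g X * (g : Matrix ι ι F) := by
  simp [cj_apply, mul_assoc]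

lemma cj_eq_self_iff (g : GL ι F) (X : Matrix ι ι F) :
    cj g X = X ↔ (g : Matrix ι ι F) * X = X * (g : Matrix ι ι F) := by
  constructor
  · intro h
    rw [mul_eq_cj_mul, h]
  · intro h
    rw [cj_apply, h, mul_assoc, ← Units.val_mul, mul_inv_cancel, Units.val_one, mul_one]

/-- Membership in the normaliser of a subalgebra from one-sided conditions. -/
lemma mem_subalgebraNormalizer {A : Subalgebra F (Matrix ι ι F)} {g : GL ι F}
    (h₁ : ∀ X ∈ A, cj g X ∈ A) (h₂ : ∀ X ∈ A, cj g⁻¹ X ∈ A) : g ∈ subalgebraNormalizer A := by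
  intro k
  refine ⟨fun hk => h₁ k hk, fun hk => ?_⟩
  have := h₂ _ hk
  rwa [← cj_apply, cj_inv_apply] at this

lemma cj_mem_of_mem_normalizer {A : Subalgebra F (Matrix ι ι F)} {g : GL ι F}
    (hg : g ∈ subalgebraNormalizer A) {X : Matrix ι ι F} (hX : X ∈ A) : cj g X ∈ A :=
  (hg X).mp hX

/-- A subgroup normalising `A`: every element conjugates `A` into itself. -/
lemma le_subalgebraNormalizer {H : Subgroup (GL ι F)} {A : Subalgebra F (Matrix ι ι F)}
    (h : ∀ g ∈ H, ∀ X ∈ A, cj g X ∈ A) : H ≤ subalgebraNormalizer A :=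
  fun g hg => mem_subalgebraNormalizer (h g hg) (h g⁻¹ (H.inv_mem hg))

/-- The enveloping algebra of a subgroup. -/
def env (N : Subgroup (GL ι F)) : Subalgebra F (Matrix ι ι F) :=
  Algebra.adjoin F (matrixSet N)

lemma mem_matrixSet {N : Subgroup (GL ι F)} {x : GL ι F} (hx : x ∈ N) :
    (x : Matrix ι ι F) ∈ matrixSet N := ⟨x, hx, rfl⟩

lemma val_mem_env {N : Subgroup (GL ι F)} {x : GL ι F} (hx : x ∈ N) :
    (x : Matrix ι ι F) ∈ env N := Algebra.subset_adjoin (mem_matrixSet hx)

lemma env_mono {M N : Subgroup (GL ι F)} (h : M ≤ N) : env M ≤ env N :=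
  Algebra.adjoin_mono (Set.image_mono h)

lemma env_le_iff {N : Subgroup (GL ι F)} {A : Subalgebra F (Matrix ι ι F)} :
    env N ≤ A ↔ ∀ x ∈ N, (x : Matrix ι ι F) ∈ A := by
  constructor
  · exact fun h x hx => h (val_mem_env hx)
  · intro h
    refine Algebra.adjoin_le ?_
    rintro _ ⟨x, hx, rfl⟩
    exact h x hx

/-- If `g` conjugates `N` into itself it conjugates the envelope of `N` into itself. -/
lemma cj_mem_env {N : Subgroup (GL ι F)} {g : GL ι F} (hg : ∀ x ∈ N, g * x * g⁻¹ ∈ N)
    {X : Matrix ι ι F} (hX : X ∈ env N) : cj g X ∈ env N := by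
  have hle : env N ≤ (env N).comap (cj g).toAlgHom := by
    rw [env_le_iff]
    intro x hx
    show cj g (x : Matrix ι ι F) ∈ env N
    rw [cj_val]
    exact val_mem_env (hg x hx)
  exact hle hX

/-- The envelope is spanned by the group. -/
lemma env_toSubmodule (N : Subgroup (GL ι F)) :
    Subalgebra.toSubmodule (env N) = Submodule.span F (matrixSet N) := by
  rw [env, Algebra.adjoin_eq_span]
  congr 1
  refine Set.Subset.antisymm ?_ Submonoid.subset_closure
  intro x hx
  induction hx using Submonoid.closure_induction with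
  | mem y hy => exact hy
  | one => exact ⟨1, N.one_mem, rfl⟩
  | mul y z _ _ hy hz =>
    obtain ⟨a, ha, rfl⟩ := hy
    obtain ⟨b, hb, rfl⟩ := hz
    exact ⟨a * b, N.mul_mem ha hb, by simp⟩

/-- The centre of a subalgebra, inside the matrix algebra. -/
def centre (A : Subalgebra F (Matrix ι ι F)) : Subalgebra F (Matrix ι ι F) :=
  A ⊓ Subalgebra.centralizer F (A : Set (Matrix ι ι F))

lemma mem_centre {A : Subalgebra F (Matrix ι ι F)} {X : Matrix ι ι F} :
    X ∈ centre A ↔ X ∈ A ∧ ∀ Y ∈ A, Y * X = X * Y := by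
  simp [centre, Subalgebra.mem_centralizer_iff]

lemma cj_mem_centre {A : Subalgebra F (Matrix ι ι F)} {g : GL ι F}
    (hg : g ∈ subalgebraNormalizer A) {X : Matrix ι ι F} (hX : X ∈ centre A) :
    cj g X ∈ centre A := by
  rw [mem_centre] at hX ⊢
  refine ⟨cj_mem_of_mem_normalizer hg hX.1, fun Y hY => ?_⟩
  have hY' : cj g⁻¹ Y ∈ A := cj_mem_of_mem_normalizer ((subalgebraNormalizer A).inv_mem hg) hY
  have hkey := congrArg (cj g) (hX.2 _ hY')
  have hYY : cj g (cj g⁻¹ Y) = Y := by
    rw [← cj_mul, mul_inv_cancel]; simp [cj_apply]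
  simpa [hYY] using hkey

lemma normalizer_centre_le {H : Subgroup (GL ι F)} {A : Subalgebra F (Matrix ι ι F)}
    (h : H ≤ subalgebraNormalizer A) : H ≤ subalgebraNormalizer (centre A) :=
  le_subalgebraNormalizer fun _ hg _ hX => cj_mem_centre (h hg) hX

/-- Irreducibility, as invariance under the group elements. -/
lemma eq_bot_or_eq_top {H : Subgroup (GL ι F)} (hH : ActsIrreducibly (matrixSet H))
    (W : Submodule F (ι → F)) (hW : ∀ g ∈ H, ∀ w ∈ W, (g : Matrix ι ι F) *ᵥ w ∈ W) :
    W = ⊥ ∨ W = ⊤ := by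
  refine hH W ?_
  rintro _ ⟨g, hg, rfl⟩ _ ⟨w, hw, rfl⟩
  rw [Matrix.toLin'_apply]
  exact hW g hg w hw

lemma actsIrreducibly_mono {H K : Subgroup (GL ι F)} (hHK : H ≤ K)
    (hH : ActsIrreducibly (matrixSet H)) : ActsIrreducibly (matrixSet K) :=
  fun W hW => hH W fun s hs => hW s (Set.image_mono hHK hs)

/-- A set of matrices permuted by an irreducible group, all of whose products of some fixed
length vanish, consists of zero. -/
lemma eq_zero_of_nilpotent_invariant [Nonempty ι] {H : Subgroup (GL ι F)}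
    (hH : ActsIrreducibly (matrixSet H)) (S : Set (Matrix ι ι F))
    (hS : ∀ g ∈ H, ∀ s ∈ S, cj g s ∈ S) (k : ℕ)
    (hk : ∀ l : List (Matrix ι ι F), l.length = k → (∀ x ∈ l, x ∈ S) → l.prod = 0) :
    ∀ s ∈ S, s = 0 := by
  induction k with
  | zero =>
    exact absurd (hk [] rfl (by simp)) one_ne_zero
  | succ k ih =>
    by_cases hall : ∀ l : List (Matrix ι ι F), l.length = k → (∀ x ∈ l, x ∈ S) → l.prod = 0
    · exact ih hall
    push Not at hall
    obtain ⟨l, hlen, hlS, hl⟩ := hall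
    let W : Submodule F (ι → F) :=
      { carrier := {v | ∀ s ∈ S, s *ᵥ v = 0}
        add_mem' := fun {a b} ha hb s hs => by rw [Matrix.mulVec_add, ha s hs, hb s hs, add_zero]
        zero_mem' := fun s _ => Matrix.mulVec_zero s
        smul_mem' := fun c v hv s hs => by rw [Matrix.mulVec_smul, hv s hs, smul_zero] }
    have hW : ∀ g ∈ H, ∀ w ∈ W, (g : Matrix ι ι F) *ᵥ w ∈ W := by
      intro g hg w hw s hs
      have hs' := hS g⁻¹ (H.inv_mem hg) s hs
      rw [Matrix.mulVec_mulVec]
      have : s * (g : Matrix ι ι F) = (g : Matrix ι ι F) * cj g⁻¹ s := by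
        simp [cj_apply, ← mul_assoc]
      rw [this, ← Matrix.mulVec_mulVec, hw _ hs', Matrix.mulVec_zero]
    obtain ⟨v, hv⟩ : ∃ v, l.prod *ᵥ v ≠ 0 := by
      by_contra h
      push Not at h
      exact hl (Matrix.toLin'.injective (LinearMap.ext fun v => by simp [h v]))
    have hmem : l.prod *ᵥ v ∈ W := by
      intro s hs
      have h0 := hk (s :: l) (by simp [hlen]) (List.forall_mem_cons.mpr ⟨hs, hlS⟩)
      rw [List.prod_cons] at h0
      rw [Matrix.mulVec_mulVec, h0, Matrix.zero_mulVec]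
    rcases eq_bot_or_eq_top hH W hW with h | h
    · rw [h, Submodule.mem_bot] at hmem
      exact absurd hmem hv
    · intro s hs
      refine Matrix.toLin'.injective (LinearMap.ext fun w => ?_)
      have hw : w ∈ W := h ▸ Submodule.mem_top
      simpa using hw s hs

end Cfsg.Agent.Aschbacher
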