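/-
Forms fixed by absolutely irreducible sets of matrices: Gram matrices, uniqueness up to scalars,
and normalisers lie in similarity groups.
-/
import Cfsg.Agent.Aschbacher.Basic

set_option autoImplicit false

namespace Cfsg.Agent.Aschbacher

open scoped MatrixGroups Matrix
open Cfsg.Geo

variable {ι : Type} [Fintype ι] [DecidableEq ι] {F : Type*} [Field F]

/-- A form linear in the first argument and σ-semilinear in the second. -/
structure IsSesq (σ : F ≃+* F) (f : (ι → F) → (ι → F) → F) : Prop where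
  add_left : ∀ x y v, f (x + y) v = f x v + f y v
  smul_left : ∀ (c : F) (x v : ι → F), f (c • x) v = c * f x v
  add_right : ∀ v x y, f v (x + y) = f v x + f v y
  smul_right : ∀ (c : F) (v x : ι → F), f v (c • x) = σ c * f v x

lemma isSesq_of_bilinear {f : (ι → F) → (ι → F) → F} (h : IsBilinearForm f) :
    IsSesq (RingEquiv.refl F) f :=
  ⟨h.add_left, h.smul_left, h.add_right, h.smul_right⟩

lemma isSesq_of_unitary {σ : F ≃+* F} {f : (ι → F) → (ι → F) → F} (h : IsUnitaryForm σ f) :
    IsSesq σ f := by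
  refine ⟨h.add_left, h.smul_left, fun v x y => ?_, fun c v x => ?_⟩
  · rw [h.herm, h.add_left, map_add, ← h.herm, ← h.herm]
  · rw [h.herm, h.smul_left, map_mul, ← h.herm]

lemma formOfGram_eq (σ : F ≃+* F) (G : Matrix ι ι F) (x y : ι → F) :
    formOfGram σ G x y = x ⬝ᵥ (G *ᵥ (σ ∘ y)) := by
  simp [formOfGram, dotProduct, Matrix.mulVec, Finset.mul_sum, mul_assoc]

lemma isSesq_formOfGram (σ : F ≃+* F) (G : Matrix ι ι F) : IsSesq σ (formOfGram σ G) := by
  refine ⟨fun x y v => ?_, fun c x v => ?_, fun v x y => ?_, fun c v x => ?_⟩ <;>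
    simp only [formOfGram_eq]
  · rw [add_dotProduct]
  · rw [smul_dotProduct, smul_eq_mul]
  · rw [show (σ ∘ (x + y) : ι → F) = σ ∘ x + σ ∘ y from funext fun i => map_add σ _ _,
      Matrix.mulVec_add, dotProduct_add]
  · rw [show (σ ∘ (c • x) : ι → F) = σ c • (σ ∘ x) from funext fun i => map_mul σ _ _,
      Matrix.mulVec_smul, dotProduct_smul, smul_eq_mul]

lemma gram_formOfGram (σ : F ≃+* F) (G : Matrix ι ι F) : gramMatrix (formOfGram σ G) = G := by
  ext a b
  have : (σ ∘ Pi.single b (1 : F) : ι → F) = Pi.single b 1 := by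
    funext i; by_cases h : i = b
    · subst h; simp
    · simp [h]
  simp [gramMatrix, formOfGram_eq, this]

lemma IsSesq.eq_formOfGram {σ : F ≃+* F} {f : (ι → F) → (ι → F) → F} (h : IsSesq σ f)
    (x y : ι → F) : f x y = formOfGram σ (gramMatrix f) x y := by
  classical
  have hx : ∀ x : ι → F, x = ∑ a, x a • Pi.single a 1 := fun x => by
    funext i; simp [Finset.sum_apply, Pi.single_apply]
  let L : (ι → F) → ((ι → F) →+ F) := fun v => AddMonoidHom.mk' (fun u => f u v) fun a b =>
    h.add_left a b v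
  let R : (ι → F) → ((ι → F) →+ F) := fun v => AddMonoidHom.mk' (fun u => f v u) fun a b =>
    h.add_right v a b
  calc f x y = L y (∑ a, x a • Pi.single a 1) := by rw [← hx x]; rfl
    _ = ∑ a, x a * f (Pi.single a 1) y := by
      rw [map_sum]; exact Finset.sum_congr rfl fun a _ => h.smul_left _ _ _
    _ = ∑ a, x a * ∑ b, σ (y b) * f (Pi.single a 1) (Pi.single b 1) := by
      refine Finset.sum_congr rfl fun a _ => ?_
      congr 1
      calc f (Pi.single a 1) y = R (Pi.single a 1) (∑ b, y b • Pi.single b 1) := by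
            rw [← hx y]; rfl
        _ = _ := by rw [map_sum]; exact Finset.sum_congr rfl fun b _ => h.smul_right _ _ _
    _ = _ := by
      simp only [formOfGram, gramMatrix, Finset.mul_sum]
      exact Finset.sum_congr rfl fun a _ => Finset.sum_congr rfl fun b _ => by ring

/-- The Gram matrix transformed by a matrix. -/
def gtr (σ : F ≃+* F) (G g : Matrix ι ι F) : Matrix ι ι F := gᵀ * G * g.map σ

lemma formOfGram_mulVec (σ : F ≃+* F) (G g : Matrix ι ι F) (x y : ι → F) :
    formOfGram σ G (g *ᵥ x) (g *ᵥ y) = formOfGram σ (gtr σ G g) x y := by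
  simp only [formOfGram_eq, gtr]
  have : (σ ∘ (g *ᵥ y) : ι → F) = g.map σ *ᵥ (σ ∘ y) :=
    funext fun i => σ.toRingHom.map_mulVec g y i
  rw [this, ← Matrix.mulVec_mulVec, ← Matrix.mulVec_mulVec,
    Matrix.dotProduct_mulVec x gᵀ, Matrix.vecMul_transpose]

lemma gtr_mul (σ : F ≃+* F) (G g h : Matrix ι ι F) :
    gtr σ G (g * h) = gtr σ (gtr σ G g) h := by
  simp [gtr, Matrix.transpose_mul, Matrix.map_mul, mul_assoc]

lemma gtr_smul (σ : F ≃+* F) (c : F) (G g : Matrix ι ι F) :
    gtr σ (c • G) g = c • gtr σ G g := by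
  simp [gtr]

lemma fixes_iff_gtr {σ : F ≃+* F} {f : (ι → F) → (ι → F) → F} (h : IsSesq σ f)
    (s : Matrix ι ι F) :
    (∀ u v, f (s *ᵥ u) (s *ᵥ v) = f u v) ↔ gtr σ (gramMatrix f) s = gramMatrix f := by
  constructor
  · intro hs
    have e : formOfGram σ (gtr σ (gramMatrix f) s) = formOfGram σ (gramMatrix f) := by
      funext x y; rw [← formOfGram_mulVec, ← h.eq_formOfGram, ← h.eq_formOfGram, hs]
    have := congrArg gramMatrix e
    rwa [gram_formOfGram, gram_formOfGram] at this
  · intro hs u v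
    rw [h.eq_formOfGram, formOfGram_mulVec, hs, ← h.eq_formOfGram]

lemma isUnit_gram {σ : F ≃+* F} {f : (ι → F) → (ι → F) → F} (h : IsSesq σ f)
    (hn : IsNondegenerateForm f) : IsUnit (gramMatrix f) := by
  rw [Matrix.isUnit_iff_isUnit_det, isUnit_iff_ne_zero]
  intro hdet
  obtain ⟨w, hw0, hw⟩ := Matrix.exists_mulVec_eq_zero_iff.mpr hdet
  have hv : (σ.symm ∘ w : ι → F) ≠ 0 := by
    intro hc
    exact hw0 (funext fun i => by simpa using congrFun hc i)
  obtain ⟨⟨x, hx⟩, -⟩ := hn _ hv
  apply hx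
  rw [h.eq_formOfGram, formOfGram_eq,
    show (σ ∘ (σ.symm ∘ w) : ι → F) = w from funext fun i => σ.apply_symm_apply _, hw,
    dotProduct_zero]

lemma nondegenerate_formOfGram {σ : F ≃+* F} {G : Matrix ι ι F} (hG : IsUnit G) :
    IsNondegenerateForm (formOfGram σ G) := by
  have hdet : IsUnit G.det := (Matrix.isUnit_iff_isUnit_det G).mp hG
  intro v hv
  constructor
  · by_contra hc
    push Not at hc
    have h1 : G *ᵥ (σ ∘ v) = 0 := dotProduct_eq_zero _ fun x => by
      rw [dotProduct_comm, ← formOfGram_eq]; exact hc x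
    have h2 : (σ ∘ v : ι → F) = 0 :=
      Matrix.mulVec_injective_iff_isUnit.mpr hG (h1.trans (Matrix.mulVec_zero G).symm)
    exact hv (funext fun i => by simpa using congrFun h2 i)
  · by_contra hc
    push Not at hc
    have h1 : v ᵥ* G = 0 := dotProduct_eq_zero _ fun x => by
      rw [← Matrix.dotProduct_mulVec]
      have := hc (σ.symm ∘ x)
      rwa [formOfGram_eq,
        show (σ ∘ (σ.symm ∘ x) : ι → F) = x from funext fun i => σ.apply_symm_apply _] at this
    exact hv (Matrix.vecMul_injective_iff_isUnit.mpr hG (h1.trans (Matrix.zero_vecMul G).symm))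

/-- Two invariant forms of an absolutely irreducible set differ by a scalar. -/
theorem invariant_unique {σ : F ≃+* F} {S : Set (Matrix ι ι F)}
    (hS : ActsAbsolutelyIrreducibly S) {G G' : Matrix ι ι F} (hG : IsUnit G)
    (h : ∀ s ∈ S, gtr σ G s = G) (h' : ∀ s ∈ S, gtr σ G' s = G') :
    ∃ c : F, G' = c • G := by
  have hd : IsUnit G.det := (Matrix.isUnit_iff_isUnit_det G).mp hG
  have key : ∀ s ∈ S, G⁻¹ * G' * s.map σ = s.map σ * (G⁻¹ * G') := by
    intro s hs
    have h1 := h s hs
    have h2 := h' s hs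
    simp only [gtr] at h1 h2
    -- s^T is invertible
    have hu : IsUnit sᵀ.det := by
      have := congrArg Matrix.det h1
      rw [Matrix.det_mul, Matrix.det_mul] at this
      rw [isUnit_iff_ne_zero]
      intro h0
      rw [h0, zero_mul, zero_mul] at this
      exact hd.ne_zero this.symm
    have e1 : G * s.map σ = sᵀ⁻¹ * G := by
      calc G * s.map σ = sᵀ⁻¹ * (sᵀ * G * s.map σ) := by
            rw [← mul_assoc, ← mul_assoc, Matrix.nonsing_inv_mul _ hu, one_mul]
        _ = _ := by rw [h1]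
    have e2 : G' * s.map σ = sᵀ⁻¹ * G' := by
      calc G' * s.map σ = sᵀ⁻¹ * (sᵀ * G' * s.map σ) := by
            rw [← mul_assoc, ← mul_assoc, Matrix.nonsing_inv_mul _ hu, one_mul]
        _ = _ := by rw [h2]
    calc G⁻¹ * G' * s.map σ = G⁻¹ * sᵀ⁻¹ * G' := by rw [mul_assoc, e2, ← mul_assoc]
      _ = G⁻¹ * (sᵀ⁻¹ * G) * (G⁻¹ * G') := by
          simp only [mul_assoc]; rw [← mul_assoc G G⁻¹, Matrix.mul_nonsing_inv _ hd, one_mul]
      _ = s.map σ * (G⁻¹ * G') := by
          rw [← e1, ← mul_assoc G⁻¹ G, Matrix.nonsing_inv_mul _ hd, one_mul]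
  obtain ⟨c, hc⟩ := hS.2 ((G⁻¹ * G').map σ.symm) fun s hs => by
    have := congrArg (fun M : Matrix ι ι F => M.map σ.symm) (key s hs)
    simp only [Matrix.map_mul, Matrix.map_map] at this
    have hid : ∀ M : Matrix ι ι F, M.map (σ.symm ∘ σ) = M := fun M => by ext i j; simp
    simpa [hid, Matrix.map_mul] using this
  refine ⟨σ c, ?_⟩
  have h3 : G⁻¹ * G' = σ c • 1 := by
    have := congrArg (fun M : Matrix ι ι F => M.map σ) hc
    simp only [Matrix.map_map] at this
    rw [show (G⁻¹ * G').map (σ ∘ σ.symm) = G⁻¹ * G' by ext i j; simp] at this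
    rw [this]
    ext i j; by_cases hij : i = j
    · subst hij; simp
    · simp [hij]
  calc G' = G * (G⁻¹ * G') := by rw [← mul_assoc, Matrix.mul_nonsing_inv _ hd, one_mul]
    _ = _ := by rw [h3, Matrix.mul_smul, mul_one]

/-- The normaliser of an absolutely irreducible group fixing a form consists of similarities. -/
theorem mem_similarityGroup_of_normalizes {σ : F ≃+* F} {P : Subgroup (GL ι F)}
    (hP : ActsAbsolutelyIrreducibly (matrixSet P)) {f : (ι → F) → (ι → F) → F} (hf : IsSesq σ f)
    (hn : IsNondegenerateForm f) (hfix : FixesForm (matrixSet P) f) {g : GL ι F}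
    (hg : ∀ x ∈ P, g * x * g⁻¹ ∈ P) : g ∈ similarityGroup f := by
  set G := gramMatrix f
  have hfG : ∀ x ∈ P, gtr σ G (x : Matrix ι ι F) = G := fun x hx =>
    (fixes_iff_gtr hf _).mp (hfix _ (mem_matrixSet hx))
  have h' : ∀ s ∈ matrixSet P, gtr σ (gtr σ G (g : Matrix ι ι F)) s = gtr σ G g := by
    rintro _ ⟨x, hx, rfl⟩
    show gtr σ (gtr σ G (g : Matrix ι ι F)) (x : Matrix ι ι F) = _
    rw [← gtr_mul, ← Units.val_mul, show g * x = (g * x * g⁻¹) * g by group, Units.val_mul,
      gtr_mul, hfG _ (hg x hx)]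
  obtain ⟨c, hc⟩ := invariant_unique hP (isUnit_gram hf hn)
    (by rintro _ ⟨x, hx, rfl⟩; exact hfG x hx) h'
  by_cases hι : IsEmpty ι
  · exact ⟨1, fun u v => by
      rw [Subsingleton.elim ((g : Matrix ι ι F) *ᵥ u) u,
        Subsingleton.elim ((g : Matrix ι ι F) *ᵥ v) v, Units.val_one, one_mul]⟩
  rw [not_isEmpty_iff] at hι
  have hc0 : c ≠ 0 := by
    intro h0
    rw [h0, zero_smul] at hc
    have hu : IsUnit (gtr σ G (g : Matrix ι ι F)) := by
      rw [gtr, Matrix.isUnit_iff_isUnit_det, Matrix.det_mul, Matrix.det_mul, Matrix.det_transpose]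
      refine IsUnit.mul (IsUnit.mul ((Matrix.isUnit_iff_isUnit_det _).mp g.isUnit)
        ((Matrix.isUnit_iff_isUnit_det _).mp (isUnit_gram hf hn))) ?_
      rw [show ((g : Matrix ι ι F).map σ).det = σ (g : Matrix ι ι F).det from
        (σ.toRingHom.map_det _).symm]
      exact ((Matrix.isUnit_iff_isUnit_det _).mp g.isUnit).map σ
    rw [hc] at hu
    exact not_isUnit_zero hu
  refine ⟨Units.mk0 c hc0, fun u v => ?_⟩
  rw [hf.eq_formOfGram, formOfGram_mulVec, hc, hf.eq_formOfGram u v]
  simp only [formOfGram_eq, Matrix.smul_mulVec, dotProduct_smul, smul_eq_mul, Units.val_mk0]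

/-- A group fixing a symplectic or unitary form lies with its normaliser in the similarity group. -/
theorem le_similarityGroup {σ : F ≃+* F} {H P : Subgroup (GL ι F)}
    (hP : ActsAbsolutelyIrreducibly (matrixSet P)) (hn : ∀ h ∈ H, ∀ x ∈ P, h * x * h⁻¹ ∈ P)
    {f : (ι → F) → (ι → F) → F} (hf : IsSesq σ f) (hnd : IsNondegenerateForm f)
    (hfix : FixesForm (matrixSet P) f) : H ≤ similarityGroup f :=
  fun _ hg => mem_similarityGroup_of_normalizes hP hf hnd hfix (hn _ hg)

lemma fixesForm_polar {S : Set (Matrix ι ι F)} {Q : (ι → F) → F} (h : FixesQuadForm S Q) :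
    FixesForm S (QuadraticMap.polar Q) := by
  intro s hs u v
  simp only [QuadraticMap.polar, ← Matrix.mulVec_add, h s hs]

lemma two_mul_quad {Q : (ι → F) → F} (hQ : IsNondegenerateQuadraticForm Q) (v : ι → F) :
    2 * Q v = QuadraticMap.polar Q v v := by
  have : Q (v + v) = 4 * Q v := by
    rw [← two_smul F v, hQ.smul]; ring
  simp only [QuadraticMap.polar, this]
  ring

/-- A group fixing a quadratic form lies with its normaliser in the similarity group
(odd characteristic). -/
theorem le_quadSimilarityGroup {H P : Subgroup (GL ι F)}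
    (hP : ActsAbsolutelyIrreducibly (matrixSet P)) (hn : ∀ h ∈ H, ∀ x ∈ P, h * x * h⁻¹ ∈ P)
    {Q : (ι → F) → F} (hQ : IsNondegenerateQuadraticForm Q) (h2 : (2 : F) ≠ 0)
    (hfix : FixesQuadForm (matrixSet P) Q) : H ≤ quadSimilarityGroup Q := by
  intro g hg
  obtain ⟨c, hc⟩ := le_similarityGroup hP hn (isSesq_of_bilinear hQ.polar_bilinear)
    hQ.nondegenerate (fixesForm_polar hfix) hg
  refine ⟨c, fun v => mul_left_cancel₀ h2 ?_⟩
  rw [two_mul_quad hQ, hc, mul_left_comm, two_mul_quad hQ]

lemma isSymplecticForm_polar {Q : (ι → F) → F} (hQ : IsNondegenerateQuadraticForm Q)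
    (h2 : (2 : F) = 0) : IsSymplecticForm (QuadraticMap.polar Q) := by
  refine ⟨hQ.polar_bilinear, fun v w => ?_, fun v => ?_, hQ.nondegenerate⟩
  · rw [QuadraticMap.polar_comm]
    have : QuadraticMap.polar Q w v + QuadraticMap.polar Q w v = 0 := by
      rw [← two_mul, h2, zero_mul]
    exact eq_neg_of_add_eq_zero_left this
  · rw [← two_mul_quad hQ, h2, zero_mul]

/-- An invertible alternating matrix has even size. -/
theorem even_card_of_alternating {A : Matrix ι ι F} (hs : ∀ i j, A i j = - A j i)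
    (hd : ∀ i, A i i = 0) (hu : IsUnit A) : Even (Fintype.card ι) := by
  classical
  by_contra hodd
  rw [Nat.not_even_iff_odd] at hodd
  let e := Fintype.equivFin ι
  let U : Matrix ι ι (MvPolynomial (ι × ι) ℤ) :=
    Matrix.of fun i j => if e i < e j then MvPolynomial.X (i, j) else 0
  have hgen : (U - Uᵀ).det = 0 := by
    have h1 : (U - Uᵀ).det = - (U - Uᵀ).det := by
      conv_lhs => rw [← Matrix.det_transpose]
      rw [Matrix.transpose_sub, Matrix.transpose_transpose, ← neg_sub U Uᵀ, Matrix.det_neg,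
        hodd.neg_one_pow]
      simp
    have h2 : (2 : MvPolynomial (ι × ι) ℤ) * (U - Uᵀ).det = 0 := by
      rw [two_mul]; nth_rewrite 1 [h1]; exact neg_add_cancel _
    exact (mul_eq_zero.mp h2).resolve_left two_ne_zero
  have h0 := congrArg (MvPolynomial.eval₂Hom (Int.castRingHom F) (fun p => A p.1 p.2)) hgen
  rw [RingHom.map_det, map_zero] at h0
  have hA : (MvPolynomial.eval₂Hom (Int.castRingHom F) (fun p => A p.1 p.2)).mapMatrix (U - Uᵀ)
      = A := by
    ext i j
    simp only [RingHom.mapMatrix_apply, Matrix.map_apply, Matrix.sub_apply, Matrix.transpose_apply,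
      U, Matrix.of_apply, map_sub]
    rcases lt_trichotomy (e i) (e j) with h | h | h
    · simp [h, not_lt.mpr h.le]
    · have : i = j := e.injective h
      subst this; simp [hd]
    · simp [h, not_lt.mpr h.le, ← hs i j]
  rw [hA] at h0
  exact ((Matrix.isUnit_iff_isUnit_det A).mp hu).ne_zero h0

lemma even_card_of_symplectic {f : (ι → F) → (ι → F) → F} (h : IsSymplecticForm f) :
    Even (Fintype.card ι) :=
  even_card_of_alternating (A := gramMatrix f) (fun _ _ => h.skew _ _) (fun _ => h.alternating _)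
    (isUnit_gram (isSesq_of_bilinear h.bilinear) h.nondegenerate)

lemma isSymplecticForm_formOfGram {G : Matrix ι ι F} (hu : IsUnit G)
    (hs : ∀ i j, G i j = - G j i) (hd : ∀ i, G i i = 0) :
    IsSymplecticForm (formOfGram (RingEquiv.refl F) G) := by
  classical
  have hb := isSesq_formOfGram (RingEquiv.refl F) G
  have hb' : IsBilinearForm (formOfGram (RingEquiv.refl F) G) :=
    ⟨hb.add_left, hb.smul_left, hb.add_right, hb.smul_right⟩
  have halt : ∀ v, formOfGram (RingEquiv.refl F) G v v = 0 := by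
    intro v
    simp only [formOfGram, RingEquiv.refl_apply, ← Fintype.sum_prod_type']
    refine Finset.sum_involution (fun p _ => (p.2, p.1)) ?_ ?_ ?_ ?_
    · intro p _; rw [hs p.1 p.2]; ring
    · intro p _ hp h
      have : p.1 = p.2 := (congrArg Prod.fst h).symm
      rw [this, hd] at hp
      simp at hp
    · simp
    · simp
  refine ⟨hb', fun v w => ?_, halt, nondegenerate_formOfGram hu⟩
  have := halt (v + w)
  rw [hb.add_left, hb.add_right, hb.add_right, halt v, halt w, zero_add, add_zero] at this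
  exact eq_neg_of_add_eq_zero_left this

lemma isUnitaryForm_formOfGram {σ : F ≃+* F} (hσ : σ ≠ RingEquiv.refl F)
    (hinv : ∀ a, σ (σ a) = a) {G : Matrix ι ι F} (hu : IsUnit G)
    (hh : ∀ i j, σ (G j i) = G i j) : IsUnitaryForm σ (formOfGram σ G) := by
  have hb := isSesq_formOfGram σ G
  refine ⟨hσ, hinv, hb.add_left, hb.smul_left, fun v w => ?_, nondegenerate_formOfGram hu⟩
  simp only [formOfGram, map_sum, map_mul, hinv, hh]
  rw [Finset.sum_comm]
  exact Finset.sum_congr rfl fun a _ => Finset.sum_congr rfl fun b _ => by ring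

/-- The quadratic form of a symmetric Gram matrix. -/
lemma isQuadForm_formOfGram (h2 : (2 : F) ≠ 0) {G : Matrix ι ι F} (hu : IsUnit G)
    (hs : ∀ i j, G i j = G j i) :
    IsNondegenerateQuadraticForm (fun v => formOfGram (RingEquiv.refl F) G v v) := by
  have hb := isSesq_formOfGram (RingEquiv.refl F) G
  have hsym : ∀ v w, formOfGram (RingEquiv.refl F) G v w = formOfGram (RingEquiv.refl F) G w v := by
    intro v w
    simp only [formOfGram, RingEquiv.refl_apply]
    rw [Finset.sum_comm]
    exact Finset.sum_congr rfl fun a _ => Finset.sum_congr rfl fun b _ => by rw [hs b a]; ring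
  have hp : QuadraticMap.polar (fun v => formOfGram (RingEquiv.refl F) G v v)
      = formOfGram (RingEquiv.refl F) ((2 : F) • G) := by
    funext v w
    simp only [QuadraticMap.polar, hb.add_left, hb.add_right, hsym w v]
    simp only [formOfGram_eq, Matrix.smul_mulVec, dotProduct_smul, smul_eq_mul]
    ring
  refine ⟨fun c v => ?_, ?_, ?_⟩
  · show formOfGram (RingEquiv.refl F) G (c • v) (c • v) = _
    rw [hb.smul_left, hb.smul_right]; simp; ring
  · rw [hp]
    have hb2 := isSesq_formOfGram (RingEquiv.refl F) ((2 : F) • G)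
    exact ⟨hb2.add_left, hb2.smul_left, hb2.add_right, hb2.smul_right⟩
  · rw [hp]
    refine nondegenerate_formOfGram ?_
    have := hu.smul (Units.mk0 (2 : F) h2)
    simpa [Units.smul_def] using this

end Cfsg.Agent.Aschbacher
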