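/-
Adjoints with respect to a non-degenerate hermitian, symmetric or alternating form, and orthogonal
complements.
-/
import Cfsg.Agent.Aschbacher.Forms

set_option autoImplicit false
set_option linter.unusedSectionVars false

namespace Cfsg.Agent.Aschbacher

open scoped MatrixGroups Matrix
open Cfsg.Geo

variable {ι : Type} [Fintype ι] [DecidableEq ι] {F : Type*} [Field F]

/-- A non-degenerate reflexive form: sesquilinear for the involution σ and ε-hermitian. -/
structure FormSpace (σ : F ≃+* F) (ε : F) (f : (ι → F) → (ι → F) → F) : Prop where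
  sesq : IsSesq σ f
  invol : ∀ a, σ (σ a) = a
  nondeg : IsNondegenerateForm f
  herm : ∀ u v, f v u = ε * σ (f u v)

/-- The adjoint of a matrix with respect to the form with Gram matrix `gramMatrix f`. -/
noncomputable def adj (σ : F ≃+* F) (f : (ι → F) → (ι → F) → F) (X : Matrix ι ι F) :
    Matrix ι ι F :=
  ((gramMatrix f)⁻¹ * Xᵀ * gramMatrix f).map σ

/-- A subalgebra closed under adjoints. -/
def AdjClosed (σ : F ≃+* F) (f : (ι → F) → (ι → F) → F) (A : Subalgebra F (Matrix ι ι F)) : Prop :=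
  ∀ X ∈ A, adj σ f X ∈ A

namespace FormSpace

variable {σ : F ≃+* F} {ε : F} {f : (ι → F) → (ι → F) → F}

lemma refl (h : FormSpace σ ε f) {u v : ι → F} (huv : f u v = 0) : f v u = 0 := by
  rw [h.herm, huv, map_zero, mul_zero]

lemma zero_left (h : FormSpace σ ε f) (v : ι → F) : f 0 v = 0 := by
  have := h.sesq.smul_left 0 0 v
  simpa using this

lemma zero_right (h : FormSpace σ ε f) (v : ι → F) : f v 0 = 0 := by
  have := h.sesq.smul_right 0 v 0
  simpa using this

lemma ext_right (h : FormSpace σ ε f) {v w : ι → F} (hvw : ∀ u, f u v = f u w) : v = w := by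
  by_contra hne
  have hne' : v - w ≠ 0 := sub_ne_zero.mpr hne
  obtain ⟨⟨x, hx⟩, -⟩ := h.nondeg _ hne'
  apply hx
  have h1 := h.sesq.add_right x (v - w) w
  rw [sub_add_cancel, hvw x] at h1
  linear_combination -h1

lemma ext_matrix (h : FormSpace σ ε f) {X Y : Matrix ι ι F}
    (hXY : ∀ u v, f u (X *ᵥ v) = f u (Y *ᵥ v)) : X = Y :=
  Matrix.toLin'.injective (LinearMap.ext fun v => by
    rw [Matrix.toLin'_apply, Matrix.toLin'_apply]
    exact h.ext_right fun u => hXY u v)

/-- The defining property of the adjoint. -/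
theorem adj_spec (h : FormSpace σ ε f) (X : Matrix ι ι F) (u v : ι → F) :
    f (X *ᵥ u) v = f u (adj σ f X *ᵥ v) := by
  have hG : IsUnit (gramMatrix f).det :=
    (Matrix.isUnit_iff_isUnit_det _).mp (isUnit_gram h.sesq h.nondeg)
  rw [h.sesq.eq_formOfGram, h.sesq.eq_formOfGram u, formOfGram_eq, formOfGram_eq]
  have e : (σ ∘ (adj σ f X *ᵥ v) : ι → F)
      = ((gramMatrix f)⁻¹ * Xᵀ * gramMatrix f) *ᵥ (σ ∘ v) := by
    funext i
    have hm : (adj σ f X).map σ = (gramMatrix f)⁻¹ * Xᵀ * gramMatrix f := by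
      rw [adj, Matrix.map_map]
      ext a b
      simp [Matrix.map_apply, h.invol]
    rw [← hm]
    exact σ.toRingHom.map_mulVec (adj σ f X) v i
  rw [e, Matrix.mulVec_mulVec, ← mul_assoc, ← mul_assoc, Matrix.mul_nonsing_inv _ hG, one_mul,
    ← Matrix.mulVec_mulVec, Matrix.dotProduct_mulVec u Xᵀ, Matrix.vecMul_transpose]

theorem adj_unique (h : FormSpace σ ε f) {X Y : Matrix ι ι F}
    (hY : ∀ u v, f (X *ᵥ u) v = f u (Y *ᵥ v)) : adj σ f X = Y :=
  h.ext_matrix fun u v => by rw [← h.adj_spec, hY]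

lemma adj_one (h : FormSpace σ ε f) : adj σ f (1 : Matrix ι ι F) = 1 :=
  h.adj_unique fun u v => by simp

lemma adj_zero (h : FormSpace σ ε f) : adj σ f (0 : Matrix ι ι F) = 0 :=
  h.adj_unique fun u v => by simp [h.zero_left, h.zero_right]

lemma adj_add (h : FormSpace σ ε f) (X Y : Matrix ι ι F) :
    adj σ f (X + Y) = adj σ f X + adj σ f Y :=
  h.adj_unique fun u v => by
    rw [Matrix.add_mulVec, h.sesq.add_left, h.adj_spec, h.adj_spec, Matrix.add_mulVec,
      h.sesq.add_right]

lemma adj_smul (h : FormSpace σ ε f) (c : F) (X : Matrix ι ι F) :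
    adj σ f (c • X) = σ c • adj σ f X :=
  h.adj_unique fun u v => by
    rw [Matrix.smul_mulVec, h.sesq.smul_left, h.adj_spec, Matrix.smul_mulVec, h.sesq.smul_right,
      h.invol]

lemma adj_mul (h : FormSpace σ ε f) (X Y : Matrix ι ι F) :
    adj σ f (X * Y) = adj σ f Y * adj σ f X :=
  h.adj_unique fun u v => by
    rw [← Matrix.mulVec_mulVec, h.adj_spec, h.adj_spec, Matrix.mulVec_mulVec]

lemma adj_sub (h : FormSpace σ ε f) (X Y : Matrix ι ι F) :
    adj σ f (X - Y) = adj σ f X - adj σ f Y := by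
  rw [eq_sub_iff_add_eq, ← h.adj_add, sub_add_cancel]

lemma adj_pow (h : FormSpace σ ε f) (X : Matrix ι ι F) (k : ℕ) :
    adj σ f (X ^ k) = adj σ f X ^ k := by
  induction k with
  | zero => simp [h.adj_one]
  | succ k ih => rw [pow_succ, h.adj_mul, ih, ← pow_succ']

lemma eps_mul (h : FormSpace σ ε f) [Nonempty ι] : ε * σ ε = 1 := by
  obtain ⟨i⟩ := (inferInstance : Nonempty ι)
  obtain ⟨-, x, hx⟩ := h.nondeg (Pi.single i 1) (fun h => one_ne_zero (α := F) (by
    simpa using congrFun h i))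
  have h1 := h.herm (Pi.single i 1) x
  have h2 := h.herm x (Pi.single i 1)
  rw [h1, map_mul, h.invol, ← mul_assoc] at h2
  exact mul_right_cancel₀ hx (h2.symm.trans (one_mul _).symm)

lemma adj_adj (h : FormSpace σ ε f) (X : Matrix ι ι F) : adj σ f (adj σ f X) = X := by
  rcases isEmpty_or_nonempty ι with hι | hι
  · exact Subsingleton.elim _ _
  refine h.adj_unique fun u v => ?_
  rw [h.herm v (adj σ f X *ᵥ u), ← h.adj_spec, h.herm u (X *ᵥ v), map_mul, h.invol, ← mul_assoc,
    h.eps_mul, one_mul]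

lemma adj_injective (h : FormSpace σ ε f) : Function.Injective (adj σ f) := fun X Y hXY => by
  rw [← h.adj_adj X, hXY, h.adj_adj]

/-- The adjoint of a similarity is a multiple of its inverse. -/
lemma adj_val (h : FormSpace σ ε f) {g : GL ι F} {c : Fˣ}
    (hg : ∀ u v, f ((g : Matrix ι ι F) *ᵥ u) ((g : Matrix ι ι F) *ᵥ v) = (c : F) * f u v) :
    adj σ f (g : Matrix ι ι F) = σ (c : F) • ((g⁻¹ : GL ι F) : Matrix ι ι F) := by
  refine h.adj_unique fun u v => ?_
  rw [Matrix.smul_mulVec, h.sesq.smul_right, h.invol, ← hg, Matrix.mulVec_mulVec v (g : Matrix ι ι F),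
    ← Units.val_mul, mul_inv_cancel, Units.val_one, Matrix.one_mulVec]

/-- Conjugation by a similarity commutes with the adjoint. -/
lemma adj_cj (h : FormSpace σ ε f) {g : GL ι F} (hg : g ∈ similarityGroup f)
    (X : Matrix ι ι F) : adj σ f (cj g X) = cj g (adj σ f X) := by
  obtain ⟨c, hc⟩ := hg
  refine h.adj_unique fun u v => ?_
  have hgi : ∀ w : ι → F, (g : Matrix ι ι F) *ᵥ (((g⁻¹ : GL ι F) : Matrix ι ι F) *ᵥ w) = w := by
    intro w
    rw [Matrix.mulVec_mulVec, ← Units.val_mul, mul_inv_cancel, Units.val_one, Matrix.one_mulVec]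
  calc f (cj g X *ᵥ u) v
      = f ((g : Matrix ι ι F) *ᵥ (X *ᵥ (((g⁻¹ : GL ι F) : Matrix ι ι F) *ᵥ u)))
          ((g : Matrix ι ι F) *ᵥ (((g⁻¹ : GL ι F) : Matrix ι ι F) *ᵥ v)) := by
        rw [hgi v, cj_apply, ← Matrix.mulVec_mulVec, ← Matrix.mulVec_mulVec]
    _ = (c : F) * f (((g⁻¹ : GL ι F) : Matrix ι ι F) *ᵥ u)
          (adj σ f X *ᵥ (((g⁻¹ : GL ι F) : Matrix ι ι F) *ᵥ v)) := by rw [hc, h.adj_spec]
    _ = f u (cj g (adj σ f X) *ᵥ v) := by
        rw [← hc, hgi u, cj_apply, ← Matrix.mulVec_mulVec, ← Matrix.mulVec_mulVec]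

lemma scalars_le_similarity (h : FormSpace σ ε f) : scalars ι F ≤ similarityGroup f := by
  intro g hg
  obtain ⟨c, hc⟩ := (mem_scalars_iff g).mp hg
  refine ⟨Units.mk0 ((c : F) * σ (c : F)) (mul_ne_zero c.ne_zero (by simp [c.ne_zero])),
    fun u v => ?_⟩
  rw [hc, Matrix.smul_mulVec, Matrix.smul_mulVec, Matrix.one_mulVec, Matrix.one_mulVec,
    h.sesq.smul_left, h.sesq.smul_right, Units.val_mk0, mul_assoc]

end FormSpace

lemma le_similarityGroup_of_fixes {f : (ι → F) → (ι → F) → F} {H : Subgroup (GL ι F)}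
    (hH : FixesForm (matrixSet H) f) : H ≤ similarityGroup f :=
  fun g hg => ⟨1, fun u v => by rw [Units.val_one, one_mul]; exact hH _ (mem_matrixSet hg) u v⟩

namespace FormSpace

variable {σ : F ≃+* F} {ε : F} {f : (ι → F) → (ι → F) → F}

lemma sup_scalars_le_similarity (h : FormSpace σ ε f) {H : Subgroup (GL ι F)}
    (hH : FixesForm (matrixSet H) f) : H ⊔ scalars ι F ≤ similarityGroup f :=
  sup_le (le_similarityGroup_of_fixes hH) h.scalars_le_similarity

/-- The envelope of a group of similarities is closed under adjoints. -/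
theorem adjClosed_env (h : FormSpace σ ε f) {N : Subgroup (GL ι F)}
    (hN : N ≤ similarityGroup f) : AdjClosed σ f (env N) := by
  intro X hX
  have hX' : X ∈ Submodule.span F (matrixSet N) := by rw [← env_toSubmodule]; exact hX
  clear hX
  induction hX' using Submodule.span_induction with
  | mem X hX =>
    obtain ⟨g, hg, rfl⟩ := hX
    obtain ⟨c, hc⟩ := hN hg
    rw [h.adj_val hc]
    exact (env N).smul_mem (val_mem_env (N.inv_mem hg)) _
  | zero => rw [h.adj_zero]; exact (env N).zero_mem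
  | add a b ha hb iha ihb =>
    rw [h.adj_add]
    exact (env N).add_mem iha ihb
  | smul c a ha iha =>
    rw [h.adj_smul]
    exact (env N).smul_mem iha _

theorem adjClosed_centre (h : FormSpace σ ε f) {A : Subalgebra F (Matrix ι ι F)}
    (hA : AdjClosed σ f A) : AdjClosed σ f (centre A) := by
  intro X hX
  rw [mem_centre] at hX ⊢
  refine ⟨hA X hX.1, fun Y hY => h.adj_injective ?_⟩
  rw [h.adj_mul, h.adj_mul, h.adj_adj]
  exact (hX.2 _ (hA Y hY)).symm

end FormSpace

/-! ### Orthogonal complements -/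

/-- The orthogonal complement. -/
def fperp {σ : F ≃+* F} {ε : F} {f : (ι → F) → (ι → F) → F} (h : FormSpace σ ε f)
    (W : Submodule F (ι → F)) : Submodule F (ι → F) where
  carrier := {v | ∀ w ∈ W, f v w = 0}
  add_mem' {a b} ha hb w hw := by rw [h.sesq.add_left, ha w hw, hb w hw, add_zero]
  zero_mem' w _ := h.zero_left w
  smul_mem' c v hv w hw := by rw [h.sesq.smul_left, hv w hw, mul_zero]

namespace FormSpace

variable {σ : F ≃+* F} {ε : F} {f : (ι → F) → (ι → F) → F}

lemma mem_fperp (h : FormSpace σ ε f) {W : Submodule F (ι → F)} {v : ι → F} :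
    v ∈ fperp h W ↔ ∀ w ∈ W, f v w = 0 := Iff.rfl

lemma fperp_invariant (h : FormSpace σ ε f) {H : Subgroup (GL ι F)}
    (hH : FixesForm (matrixSet H) f) {W : Submodule F (ι → F)}
    (hW : ∀ g ∈ H, ∀ w ∈ W, (g : Matrix ι ι F) *ᵥ w ∈ W) :
    ∀ g ∈ H, ∀ v ∈ fperp h W, (g : Matrix ι ι F) *ᵥ v ∈ fperp h W := by
  intro g hg v hv w hw
  have e : (g : Matrix ι ι F) *ᵥ (((g⁻¹ : GL ι F) : Matrix ι ι F) *ᵥ w) = w := by
    rw [Matrix.mulVec_mulVec, ← Units.val_mul, mul_inv_cancel, Units.val_one, Matrix.one_mulVec]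
  rw [← e, hH _ (mem_matrixSet hg)]
  exact hv _ (hW _ (H.inv_mem hg) w hw)

lemma isNondegenerateOn_iff_disjoint (h : FormSpace σ ε f) {W : Submodule F (ι → F)} :
    IsNondegenerateOn f W ↔ W ⊓ fperp h W = ⊥ := by
  constructor
  · intro hW
    rw [Submodule.eq_bot_iff]
    intro v hv
    by_contra hv0
    obtain ⟨-, x, hx, hvx⟩ := hW v hv.1 hv0
    exact hvx (hv.2 x hx)
  · intro hW w hw hw0
    have : w ∉ fperp h W := fun hp => hw0 (by
      have h2 : w ∈ W ⊓ fperp h W := ⟨hw, hp⟩
      rwa [hW, Submodule.mem_bot] at h2)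
    rw [h.mem_fperp] at this
    push Not at this
    obtain ⟨x, hx, hwx⟩ := this
    exact ⟨⟨x, hx, fun h0 => hwx (h.refl h0)⟩, x, hx, hwx⟩

lemma le_finrank_fperp (h : FormSpace σ ε f) (W : Submodule F (ι → F)) :
    Fintype.card ι ≤ Module.finrank F W + Module.finrank F (fperp h W) := by
  classical
  let b := Module.finBasis F W
  let L : (ι → F) →ₗ[F] (Fin (Module.finrank F W) → F) :=
    { toFun := fun v j => f v (b j : ι → F)
      map_add' := fun u v => funext fun j => h.sesq.add_left _ _ _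
      map_smul' := fun c v => funext fun j => h.sesq.smul_left _ _ _ }
  have hker : LinearMap.ker L ≤ fperp h W := by
    intro v hv w hw
    have hv' : ∀ j, f v (b j : ι → F) = 0 := fun j => congrFun hv j
    let R : (ι → F) →+ F := AddMonoidHom.mk' (fun u => f v u) fun a c => h.sesq.add_right v a c
    have hw' : w = ∑ j, (b.repr ⟨w, hw⟩ j) • (b j : ι → F) := by
      have h1 := congrArg Subtype.val (b.sum_repr ⟨w, hw⟩)
      push_cast at h1
      exact h1.symm
    show R w = 0
    rw [hw', map_sum]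
    refine Finset.sum_eq_zero fun j _ => ?_
    show f v (_ • _) = 0
    rw [h.sesq.smul_right, hv', mul_zero]
  have h1 := LinearMap.finrank_range_add_finrank_ker L
  have h2 := Submodule.finrank_mono hker
  have h3 : Module.finrank F (LinearMap.range L) ≤ Module.finrank F W :=
    (Submodule.finrank_le _).trans_eq (Module.finrank_fin_fun F)
  rw [Module.finrank_pi] at h1
  omega

lemma isCompl_fperp (h : FormSpace σ ε f) {W : Submodule F (ι → F)} (hW : IsNondegenerateOn f W) :
    IsCompl W (fperp h W) := by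
  have hd : W ⊓ fperp h W = ⊥ := h.isNondegenerateOn_iff_disjoint.mp hW
  refine ⟨disjoint_iff.mpr hd, codisjoint_iff.mpr (Submodule.eq_top_of_finrank_eq ?_)⟩
  have h1 := Submodule.finrank_sup_add_finrank_inf_eq W (fperp h W)
  rw [hd, finrank_bot, add_zero] at h1
  have h2 := h.le_finrank_fperp W
  have h3 := Submodule.finrank_le (W ⊔ fperp h W)
  rw [Module.finrank_pi] at h3 ⊢
  omega

lemma finrank_fperp (h : FormSpace σ ε f) {W : Submodule F (ι → F)}
    (hW : IsNondegenerateOn f W) :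
    Module.finrank F W + Module.finrank F (fperp h W) = Fintype.card ι := by
  rw [Submodule.finrank_add_eq_of_isCompl (h.isCompl_fperp hW), Module.finrank_pi]

lemma isNondegenerateOn_fperp (h : FormSpace σ ε f) {W : Submodule F (ι → F)}
    (hW : IsNondegenerateOn f W) : IsNondegenerateOn f (fperp h W) := by
  rw [h.isNondegenerateOn_iff_disjoint, Submodule.eq_bot_iff]
  intro v hv
  refine h.ext_right fun u => ?_
  rw [h.zero_right]
  have hu : u ∈ W ⊔ fperp h W := (h.isCompl_fperp hW).sup_eq_top ▸ Submodule.mem_top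
  obtain ⟨a, ha, c, hc, rfl⟩ := Submodule.mem_sup.mp hu
  rw [h.sesq.add_left, h.refl (hv.1 a ha), h.refl (hv.2 c hc), add_zero]

end FormSpace

end Cfsg.Agent.Aschbacher
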