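/-
Decompositions into planes over very small fields: the stabiliser preserves an alternating form up
to scalars.
-/
import Cfsg.Agent.Aschbacher.Basic
import Cfsg.Agent.H95.BlockCount

set_option autoImplicit false
set_option maxHeartbeats 1000000
set_option linter.unusedSectionVars false

namespace Cfsg.Agent.Aschbacher

open scoped MatrixGroups Matrix
open Cfsg.Geo
open Cfsg.Agent.H95 (blockBasis crd crd_add crd_smul crd_sum crd_basis blockBasis_repr_ne
  blockBasis_mem)

variable {ι : Type} [Fintype ι] [DecidableEq ι] {F : Type*} [Field F]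
variable {t : ℕ} {D : Fin t → Submodule F (ι → F)} (hD : IsMDecomposition 2 D)

/-- The sum of the coordinate determinants of the planes. -/
noncomputable def blockAlt (u v : ι → F) : F :=
  ∑ i : Fin t, (crd hD u ⟨i, 0⟩ * crd hD v ⟨i, 1⟩ - crd hD u ⟨i, 1⟩ * crd hD v ⟨i, 0⟩)

lemma isSymplecticForm_blockAlt : IsSymplecticForm (blockAlt hD) := by
  refine ⟨⟨?_, ?_, ?_, ?_⟩, ?_, ?_, ?_⟩
  · intro x y v
    simp only [blockAlt, crd_add, ← Finset.sum_add_distrib]
    exact Finset.sum_congr rfl fun i _ => by ring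
  · intro c x v
    simp only [blockAlt, crd_smul, Finset.mul_sum]
    exact Finset.sum_congr rfl fun i _ => by ring
  · intro v x y
    simp only [blockAlt, crd_add, ← Finset.sum_add_distrib]
    exact Finset.sum_congr rfl fun i _ => by ring
  · intro c v x
    simp only [blockAlt, crd_smul, Finset.mul_sum]
    exact Finset.sum_congr rfl fun i _ => by ring
  · intro v w
    simp only [blockAlt, ← Finset.sum_neg_distrib]
    exact Finset.sum_congr rfl fun i _ => by ring
  · intro v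
    simp only [blockAlt, mul_comm (crd hD v ⟨_, 1⟩), sub_self, Finset.sum_const_zero]
  · intro v hv
    obtain ⟨⟨i, j⟩, hp⟩ : ∃ p, crd hD v p ≠ 0 := by
      by_contra h; push Not at h
      exact hv ((blockBasis D hD).repr.map_eq_zero_iff.mp (Finsupp.ext h))
    have hval : ∀ k : Fin 2, blockAlt hD (blockBasis D hD ⟨i, k⟩) v
        = if k = 0 then crd hD v ⟨i, 1⟩ else - crd hD v ⟨i, 0⟩ := by
      intro k
      rw [blockAlt, Finset.sum_eq_single i]
      · fin_cases k <;> simp [crd_basis]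
      · intro l _ hl
        simp [crd_basis, Ne.symm hl]
      · simp
    have hskew : ∀ u, blockAlt hD v u = - blockAlt hD u v := fun u => by
      simp only [blockAlt, ← Finset.sum_neg_distrib]
      exact Finset.sum_congr rfl fun i _ => by ring
    have hex : ∃ k : Fin 2, blockAlt hD (blockBasis D hD ⟨i, k⟩) v ≠ 0 := by
      fin_cases j
      · exact ⟨1, by rw [hval]; simpa using hp⟩
      · exact ⟨0, by rw [hval]; simpa using hp⟩
    obtain ⟨k, hk⟩ := hex
    exact ⟨⟨_, hk⟩, ⟨blockBasis D hD ⟨i, k⟩, by rw [hskew]; exact neg_ne_zero.mpr hk⟩⟩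

/-- The matrices by which an element of the stabiliser maps plane `i` to plane `σ i`. -/
noncomputable def blockMat (g : GL ι F) (σ : Equiv.Perm (Fin t)) (i : Fin t) : Matrix (Fin 2) (Fin 2) F :=
  fun j k => crd hD ((g : Matrix ι ι F) *ᵥ blockBasis D hD ⟨i, k⟩) ⟨σ i, j⟩

lemma crd_mulVec {g : GL ι F} {σ : Equiv.Perm (Fin t)}
    (hσ : ∀ i, ∀ x ∈ D i, (g : Matrix ι ι F) *ᵥ x ∈ D (σ i)) (u : ι → F) (i : Fin t) (j : Fin 2) :
    crd hD ((g : Matrix ι ι F) *ᵥ u) ⟨σ i, j⟩ = ∑ k, blockMat hD g σ i j k * crd hD u ⟨i, k⟩ := by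
  conv_lhs => rw [← (blockBasis D hD).sum_repr u]
  rw [Matrix.mulVec_sum, crd_sum, Fintype.sum_sigma, Finset.sum_eq_single i]
  · exact Finset.sum_congr rfl fun k _ => by rw [Matrix.mulVec_smul, crd_smul, mul_comm]; rfl
  · intro l _ hl
    refine Finset.sum_eq_zero fun k _ => ?_
    rw [Matrix.mulVec_smul, crd_smul]
    rw [show crd hD ((g : Matrix ι ι F) *ᵥ blockBasis D hD ⟨l, k⟩) ⟨σ i, j⟩ = 0 from
      blockBasis_repr_ne hD (hσ l _ (blockBasis_mem hD ⟨l, k⟩)) ⟨σ i, j⟩ (σ.injective.ne (Ne.symm hl)),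
      mul_zero]
  · simp

lemma blockMat_det_ne_zero {g : GL ι F} {σ : Equiv.Perm (Fin t)}
    (hσ : ∀ i, ∀ x ∈ D i, (g : Matrix ι ι F) *ᵥ x ∈ D (σ i)) (i : Fin t) :
    (blockMat hD g σ i).det ≠ 0 := by
  intro h
  obtain ⟨w, hw0, hw⟩ := Matrix.exists_mulVec_eq_zero_iff.mpr h
  set x : ι → F := ∑ k, w k • blockBasis D hD ⟨i, k⟩ with hx
  have hc : ∀ k, crd hD x ⟨i, k⟩ = w k := fun k => by
    rw [hx, crd_sum]
    simp [crd_smul, crd_basis]
  have hgx : (g : Matrix ι ι F) *ᵥ x = 0 := by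
    refine H95.eq_zero_of_crd hD (hσ i x ?_) fun j => ?_
    · exact (D i).sum_mem fun k _ => (D i).smul_mem _ (blockBasis_mem hD ⟨i, k⟩)
    · rw [crd_mulVec hD hσ]
      simp only [hc]
      exact congrFun hw j
  have hx0 : x = 0 := by
    rw [← H95.inv_mulVec_mulVec g x, hgx, Matrix.mulVec_zero]
  exact hw0 (funext fun k => by rw [← hc k, hx0]; simp [crd])

lemma blockAlt_mulVec {g : GL ι F} {σ : Equiv.Perm (Fin t)}
    (hσ : ∀ i, ∀ x ∈ D i, (g : Matrix ι ι F) *ᵥ x ∈ D (σ i)) (c : F)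
    (hc : ∀ i, (blockMat hD g σ i).det = c) (u v : ι → F) :
    blockAlt hD ((g : Matrix ι ι F) *ᵥ u) ((g : Matrix ι ι F) *ᵥ v) = c * blockAlt hD u v := by
  rw [blockAlt, ← Equiv.sum_comp σ, blockAlt, Finset.mul_sum]
  refine Finset.sum_congr rfl fun i _ => ?_
  simp only [crd_mulVec hD hσ, Fin.sum_univ_two]
  have := hc i
  rw [Matrix.det_fin_two] at this
  linear_combination (crd hD u ⟨i, 0⟩ * crd hD v ⟨i, 1⟩ - crd hD u ⟨i, 1⟩ * crd hD v ⟨i, 0⟩) * this

include hD in
/-- Over the field with two elements. -/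
theorem blocks_two [Fintype F] (hq : Fintype.card F = 2) :
    ∃ f : (ι → F) → (ι → F) → F, IsSymplecticForm f ∧
      decompositionStabilizer D ≤ similarityGroup f := by
  refine ⟨blockAlt hD, isSymplecticForm_blockAlt hD, fun g hg => ⟨1, fun u v => ?_⟩⟩
  obtain ⟨σ, hσ⟩ := H95.mem_decompositionStabilizer_iff hg
  rw [Units.val_one]
  refine blockAlt_mulVec hD hσ 1 (fun i => ?_) u v
  have := FiniteField.pow_card_sub_one_eq_one _ (blockMat_det_ne_zero hD hσ i)
  simpa [hq] using this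

end Cfsg.Agent.Aschbacher

namespace Cfsg.Agent.Aschbacher

open scoped MatrixGroups Matrix
open Cfsg.Geo
open Cfsg.Agent.H95 (blockBasis crd blockBasis_repr_ne blockBasis_mem)

variable {ι : Type} [Fintype ι] [DecidableEq ι] {F : Type*} [Field F]

/-- Two planes: the determinant is the product of the two plane determinants. -/
lemma det_two_planes {D : Fin 2 → Submodule F (ι → F)} (hD : IsMDecomposition 2 D) {g : GL ι F}
    {σ : Equiv.Perm (Fin 2)} (hσ : ∀ i, ∀ x ∈ D i, (g : Matrix ι ι F) *ᵥ x ∈ D (σ i)) :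
    (g : Matrix ι ι F).det = (blockMat hD g σ 0).det * (blockMat hD g σ 1).det := by
  classical
  let e : Fin 4 ≃ (Σ _ : Fin 2, Fin 2) :=
    { toFun := ![⟨0, 0⟩, ⟨0, 1⟩, ⟨1, 0⟩, ⟨1, 1⟩]
      invFun := fun p => ![![0, 1], ![2, 3]] p.1 p.2
      left_inv := fun x => by fin_cases x <;> rfl
      right_inv := fun p => by obtain ⟨a, b⟩ := p; fin_cases a <;> fin_cases b <;> rfl }
  let b := (blockBasis D hD).reindex e.symm
  have hM : ∀ x y : Fin 4, LinearMap.toMatrix b b (Matrix.toLin' (g : Matrix ι ι F)) x y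
      = crd hD ((g : Matrix ι ι F) *ᵥ blockBasis D hD (e y)) (e x) := fun x y => by
    simp [LinearMap.toMatrix_apply, b, crd]
  rw [← LinearMap.det_toLin' (g : Matrix ι ι F), ← LinearMap.det_toMatrix b]
  have hzero : ∀ (i : Fin 2) (j k : Fin 2), crd hD ((g : Matrix ι ι F) *ᵥ blockBasis D hD ⟨i, k⟩)
      ⟨σ (i + 1), j⟩ = 0 := fun i j k =>
    blockBasis_repr_ne hD (hσ i _ (blockBasis_mem hD ⟨i, k⟩)) _
      (σ.injective.ne (by fin_cases i <;> decide))
  set A := blockMat hD g σ 0 with hA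
  set B := blockMat hD g σ 1 with hB
  have hperm : ((σ 0 = 0 ∧ σ 1 = 1) ∨ (σ 0 = 1 ∧ σ 1 = 0)) := by
    have h01 : σ 0 ≠ σ 1 := σ.injective.ne (by decide)
    generalize σ 0 = a at h01 ⊢
    generalize σ 1 = c at h01 ⊢
    fin_cases a <;> fin_cases c <;> simp_all
  rcases hperm with ⟨h0, h1⟩ | ⟨h0, h1⟩
  · have hMeq : LinearMap.toMatrix b b (Matrix.toLin' (g : Matrix ι ι F)) =
        !![A 0 0, A 0 1, 0, 0; A 1 0, A 1 1, 0, 0; 0, 0, B 0 0, B 0 1; 0, 0, B 1 0, B 1 1] := by
      have z0 := hzero 0; have z1 := hzero 1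
      simp only [show (1 : Fin 2) + 1 = 0 from rfl, show (0 : Fin 2) + 1 = 1 from rfl, h0, h1] at z0 z1
      ext x y
      rw [hM]
      fin_cases x <;> fin_cases y <;> simp [e, hA, hB, blockMat, h0, h1, z0, z1]
    rw [hMeq]
    simp [Matrix.det_succ_row_zero, Fin.sum_univ_succ, Fin.succAbove]
    ring
  · have hMeq : LinearMap.toMatrix b b (Matrix.toLin' (g : Matrix ι ι F)) =
        !![0, 0, B 0 0, B 0 1; 0, 0, B 1 0, B 1 1; A 0 0, A 0 1, 0, 0; A 1 0, A 1 1, 0, 0] := by
      have z0 := hzero 0; have z1 := hzero 1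
      simp only [show (1 : Fin 2) + 1 = 0 from rfl, show (0 : Fin 2) + 1 = 1 from rfl, h0, h1] at z0 z1
      ext x y
      rw [hM]
      fin_cases x <;> fin_cases y <;> simp [e, hA, hB, blockMat, h0, h1, z0, z1]
    rw [hMeq]
    simp [Matrix.det_succ_row_zero, Fin.sum_univ_succ, Fin.succAbove]
    ring

/-- Two planes over the field with three elements, inside the special linear group. -/
theorem planes_three [Fintype F] (hq : Fintype.card F = 3) {D : Fin 2 → Submodule F (ι → F)}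
    (hD : IsMDecomposition 2 D) :
    ∃ f : (ι → F) → (ι → F) → F, IsSymplecticForm f ∧
      decompositionStabilizer D ⊓ specialLinear ι F ≤ similarityGroup f := by
  refine ⟨blockAlt hD, isSymplecticForm_blockAlt hD, fun g hg => ?_⟩
  obtain ⟨hgD, hgS⟩ := Subgroup.mem_inf.mp hg
  obtain ⟨σ, hσ⟩ := H95.mem_decompositionStabilizer_iff hgD
  have hd : (g : Matrix ι ι F).det = 1 := by
    rw [specialLinear, MonoidHom.mem_ker] at hgS
    simpa using congrArg Units.val hgS
  rw [det_two_planes hD hσ] at hd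
  have h1 := blockMat_det_ne_zero hD hσ 1
  have hsq : (blockMat hD g σ 1).det * (blockMat hD g σ 1).det = 1 := by
    have := FiniteField.pow_card_sub_one_eq_one _ h1
    simpa [hq, sq] using this
  have h01 : (blockMat hD g σ 0).det = (blockMat hD g σ 1).det :=
    mul_right_cancel₀ h1 (hd.trans hsq.symm)
  refine ⟨Units.mk0 _ h1, fun u v => blockAlt_mulVec hD hσ _ (fun i => ?_) u v⟩
  fin_cases i
  · exact h01
  · rfl

end Cfsg.Agent.Aschbacher
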