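/-
Systems of matrix units in the matrix algebra, Skolem-Noether, and subalgebras isomorphic to a
full matrix algebra.
-/
import Cfsg.Agent.Aschbacher.Basic

set_option autoImplicit false

namespace Cfsg.Agent.Aschbacher

open scoped MatrixGroups Matrix Kronecker
open Cfsg.Geo

variable {ι : Type} [Fintype ι] [DecidableEq ι] {F : Type*} [Field F]

/-- A system of matrix units indexed by `κ`. -/
structure MatUnits {κ : Type} [Fintype κ] [DecidableEq κ] (E : κ → κ → Matrix ι ι F) : Prop where
  mul : ∀ a b c d, E a b * E c d = if b = c then E a d else 0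
  sum_eq : ∑ a, E a a = 1

lemma matUnits_single (κ : Type) [Fintype κ] [DecidableEq κ] :
    MatUnits (fun a b : κ => (Matrix.single a b 1 : Matrix κ κ F)) := by
  refine ⟨fun a b c d => ?_, ?_⟩
  · split_ifs with h
    · subst h; simp
    · simp [h]
  · ext i j
    rw [Matrix.sum_apply]
    simp only [Matrix.single_apply, Matrix.one_apply]
    by_cases h : i = j
    · subst h; simp
    · rw [if_neg h]
      exact Finset.sum_eq_zero fun a _ => if_neg fun ha => h (ha.1.symm.trans ha.2)

lemma MatUnits.map {κ : Type} [Fintype κ] [DecidableEq κ] {ι' : Type} [Fintype ι'] [DecidableEq ι']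
    {E : κ → κ → Matrix ι ι F} (h : MatUnits E)
    (f : Matrix ι ι F →+* Matrix ι' ι' F) : MatUnits (fun a b => f (E a b)) :=
  ⟨fun a b c d => by rw [← map_mul, h.mul]; split_ifs <;> simp, by rw [← map_sum, h.sum_eq, map_one]⟩

/-- Matrix units of an algebra map out of a full matrix algebra. -/
lemma matUnits_of_hom {κ : Type} [Fintype κ] [DecidableEq κ] {R : Type*} [Semiring R] [Algebra F R]
    (f : Matrix κ κ F →ₐ[F] R) (g : R →+* Matrix ι ι F) :
    MatUnits (fun a b => g (f (Matrix.single a b 1))) :=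
  (matUnits_single (F := F) κ).map (g.comp f.toRingHom)

/-- Normal form of a system of matrix units: in a suitable basis it is `single a b ⊗ 1`. -/
theorem MatUnits.exists_normal_form [Nonempty ι] {κ : Type} [Fintype κ] [DecidableEq κ]
    {E : κ → κ → Matrix ι ι F} (h : MatUnits E) :
    ∃ (b : ℕ) (e : ι ≃ κ × Fin b) (P : GL ι F), 0 < b ∧
      ∀ x y, E x y = cj P (Matrix.reindex e.symm e.symm
        ((Matrix.single x y (1 : F)) ⊗ₖ (1 : Matrix (Fin b) (Fin b) F))) := by
  classical
  have hne : Nonempty κ := by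
    by_contra hc
    rw [not_nonempty_iff] at hc
    have := h.sum_eq
    rw [Finset.univ_eq_empty, Finset.sum_empty] at this
    exact zero_ne_one this
  obtain ⟨x₀⟩ := hne
  let W : Submodule F (ι → F) := LinearMap.range (Matrix.toLin' (E x₀ x₀))
  let w := Module.finBasis F W
  set b := Module.finrank F W
  let v : κ × Fin b → (ι → F) := fun p => E p.1 x₀ *ᵥ (w p.2 : ι → F)
  have hfix : ∀ u : W, E x₀ x₀ *ᵥ (u : ι → F) = u := by
    rintro ⟨_, u, rfl⟩
    simp [Matrix.mulVec_mulVec, h.mul]
  have hEv : ∀ x y p, E x y *ᵥ v p = if y = p.1 then v (x, p.2) else 0 := by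
    intro x y p
    simp only [v, Matrix.mulVec_mulVec, h.mul]
    split_ifs <;> simp
  have hli : LinearIndependent F v := by
    rw [Fintype.linearIndependent_iff]
    intro c hc p
    have h1 := congrArg (fun z => E x₀ p.1 *ᵥ z) hc
    simp only [Matrix.mulVec_sum, Matrix.mulVec_smul, hEv, Matrix.mulVec_zero,
      Fintype.sum_prod_type] at h1
    rw [Finset.sum_eq_single p.1 (fun a _ ha => Finset.sum_eq_zero fun k _ => by simp [Ne.symm ha])
      (fun h => absurd (Finset.mem_univ _) h)] at h1
    simp only [if_true, v, hfix] at h1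
    have h2 : ∑ k, c (p.1, k) • w k = 0 := by
      apply Subtype.ext
      push_cast
      exact h1
    exact Fintype.linearIndependent_iff.mp w.linearIndependent _ h2 p.2
  have hsp : ⊤ ≤ Submodule.span F (Set.range v) := by
    intro u _
    have hu : u = ∑ x, E x x₀ *ᵥ (E x₀ x *ᵥ u) := by
      simp [Matrix.mulVec_mulVec, h.mul, ← Matrix.sum_mulVec, h.sum_eq]
    rw [hu]
    refine Submodule.sum_mem _ fun x _ => ?_
    have hm : E x₀ x *ᵥ u ∈ W := ⟨E x₀ x *ᵥ u, by simp [Matrix.mulVec_mulVec, h.mul]⟩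
    have hr : E x x₀ *ᵥ (E x₀ x *ᵥ u) = ∑ k, w.repr ⟨_, hm⟩ k • v (x, k) := by
      conv_lhs => rw [show E x₀ x *ᵥ u = ((⟨_, hm⟩ : W) : ι → F) from rfl, ← w.sum_repr ⟨_, hm⟩]
      push_cast
      simp only [Matrix.mulVec_sum, Matrix.mulVec_smul, v]
    rw [hr]
    exact Submodule.sum_mem _ fun k _ =>
      Submodule.smul_mem _ _ (Submodule.subset_span ⟨_, rfl⟩)
  let B := Module.Basis.mk hli hsp
  let e : ι ≃ κ × Fin b := (Pi.basisFun F ι).indexEquiv B
  let P₀ : Matrix ι ι F := Matrix.of fun i j => v (e j) i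
  have hP : IsUnit P₀ := Matrix.linearIndependent_cols_iff_isUnit.mp (hli.comp e e.injective)
  refine ⟨b, e, hP.unit, ?_, fun x y => ?_⟩
  · by_contra hb
    have : IsEmpty (κ × Fin b) := by
      rw [Nat.eq_zero_of_not_pos hb]; infer_instance
    exact (e.isEmpty : IsEmpty ι).false (Classical.arbitrary ι)
  set M : Matrix ι ι F := Matrix.reindex e.symm e.symm
    ((Matrix.single x y (1 : F)) ⊗ₖ (1 : Matrix (Fin b) (Fin b) F)) with hM
  have key : E x y * P₀ = P₀ * M := by
    ext i j
    have h1 : (E x y * P₀) i j = (E x y *ᵥ v (e j)) i := rfl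
    rw [h1, hEv, Matrix.mul_apply,
      ← Equiv.sum_comp e.symm fun k => P₀ i k * M k j]
    simp only [hM, Matrix.reindex_apply, Matrix.submatrix_apply, Equiv.symm_symm,
      Equiv.apply_symm_apply, Matrix.kroneckerMap_apply, P₀, Matrix.of_apply,
      Matrix.single_apply, Matrix.one_apply]
    by_cases hy : y = (e j).1
    · rw [if_pos hy, Finset.sum_eq_single (x, (e j).2)]
      · simp [hy]
      · intro p _ hp
        obtain ⟨p1, p2⟩ := p
        by_cases h1 : x = p1
        · subst h1
          have h2 : p2 ≠ (e j).2 := fun h => hp (by rw [h])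
          simp [h2]
        · simp [h1]
      · simp
    · rw [if_neg hy]
      simp [hy]
  rw [cj_apply, IsUnit.unit_spec, ← key, mul_assoc]
  have : P₀ * ((hP.unit⁻¹ : GL ι F) : Matrix ι ι F) = 1 := hP.mul_val_inv
  rw [this, mul_one]

/-- With as many indices as the dimension, matrix units are conjugate to the standard ones. -/
theorem MatUnits.exists_conj [Nonempty ι] {κ : Type} [Fintype κ] [DecidableEq κ]
    {E : κ → κ → Matrix ι ι F} (h : MatUnits E) (hcard : Fintype.card κ = Fintype.card ι) :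
    ∃ (e : ι ≃ κ) (P : GL ι F), ∀ x y, E x y = cj P (Matrix.single (e.symm x) (e.symm y) 1) := by
  obtain ⟨b, e, P, hb, hP⟩ := h.exists_normal_form
  have hb1 : b = 1 := by
    have := Fintype.card_congr e
    rw [Fintype.card_prod, Fintype.card_fin, ← hcard] at this
    have hk : 0 < Fintype.card κ := by rw [hcard]; exact Fintype.card_pos
    exact (Nat.eq_of_mul_eq_mul_left hk ((mul_one _).trans this)).symm
  subst hb1
  refine ⟨e.trans (Equiv.prodUnique κ (Fin 1)), P, fun x y => ?_⟩
  rw [hP]
  congr 1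
  ext i j
  have hh : ∀ z : κ, ∀ k : ι, ((e.trans (Equiv.prodUnique κ (Fin 1))).symm z = k) ↔ (z = (e k).1) := by
    intro z k
    rw [Equiv.symm_apply_eq]
    rfl
  have h1 : (1 : Matrix (Fin 1) (Fin 1) F) (e i).2 (e j).2 = 1 := by
    rw [Subsingleton.elim (e i).2 (e j).2, Matrix.one_apply_eq]
  show Matrix.single x y (1 : F) (e i).1 (e j).1 * (1 : Matrix (Fin 1) (Fin 1) F) (e i).2 (e j).2 = _
  rw [h1, mul_one, Matrix.single_apply, Matrix.single_apply]
  simp only [hh]

lemma linearMap_ext_single {M : Type*} [AddCommMonoid M] [Module F M]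
    {f g : Matrix ι ι F →ₗ[F] M}
    (h : ∀ a b, f (Matrix.single a b 1) = g (Matrix.single a b 1)) : f = g := by
  refine LinearMap.ext fun X => ?_
  induction X using Matrix.induction_on' with
  | h_zero => simp
  | h_add p q hp hq => simp [hp, hq]
  | h_std_basis i j x =>
    rw [show Matrix.single i j x = x • Matrix.single i j (1 : F) by
      rw [Matrix.smul_single, smul_eq_mul, mul_one], map_smul, map_smul, h]

/-- The algebra endomorphisms of a full matrix algebra are inner. -/
theorem skolem_noether [Nonempty ι] (f : Matrix ι ι F →ₐ[F] Matrix ι ι F) :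
    ∃ u : GL ι F, ∀ X, f X = cj u X := by
  obtain ⟨e, P, hP⟩ := ((matUnits_single (F := F) ι).map f.toRingHom).exists_conj rfl
  -- fold the permutation into the conjugating matrix
  have hM : IsUnit ((Equiv.toPEquiv e).toMatrix : Matrix ι ι F) := by
    refine ⟨⟨(Equiv.toPEquiv e).toMatrix, (Equiv.toPEquiv e.symm).toMatrix, ?_, ?_⟩, rfl⟩ <;>
      rw [← PEquiv.toMatrix_trans, ← Equiv.toPEquiv_trans] <;> simp
  refine ⟨P * hM.unit, fun X => ?_⟩
  refine LinearMap.congr_fun (linearMap_ext_single (f := f.toLinearMap)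
    (g := (cj (P * hM.unit)).toLinearMap) fun a b => ?_) X
  show f (Matrix.single a b 1) = cj (P * hM.unit) (Matrix.single a b 1)
  rw [cj_mul, show f (Matrix.single a b 1) = f.toRingHom (Matrix.single a b 1) from rfl, hP a b]
  congr 1
  rw [cj_apply, eq_comm]
  have hinv : ((hM.unit⁻¹ : GL ι F) : Matrix ι ι F) = (Equiv.toPEquiv e.symm).toMatrix := by
    apply Units.inv_eq_of_mul_eq_one_right
    rw [IsUnit.unit_spec, ← PEquiv.toMatrix_trans, ← Equiv.toPEquiv_trans]
    simp
  rw [hinv, IsUnit.unit_spec, PEquiv.toMatrix_toPEquiv_mul, PEquiv.mul_toMatrix_toPEquiv]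
  ext i j
  simp only [Matrix.submatrix_apply, id_eq, Matrix.single_apply, Equiv.symm_symm,
    Equiv.symm_apply_eq]

end Cfsg.Agent.Aschbacher
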