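/-
Tensor-induced structure: pairwise commuting copies of M_m(F) generating the matrix algebra and
permuted by a group give a tensor power decomposition stabilised by that group.
-/
import Cfsg.Agent.Aschbacher.MatrixUnits

set_option autoImplicit false

namespace Cfsg.Agent.Aschbacher

open scoped MatrixGroups Matrix
open Cfsg.Geo

variable {ι : Type} [Fintype ι] [DecidableEq ι] {F : Type*} [Field F]

section prodFn

variable {R : Type*} [Ring R]

/-- The ordered product of a finite family. -/
def prodFn {t : ℕ} (v : Fin t → R) : R := (List.ofFn v).prod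

lemma prodFn_succ {t : ℕ} (v : Fin (t + 1) → R) : prodFn v = v 0 * prodFn (v ∘ Fin.succ) := by
  simp [prodFn, List.ofFn_succ, Function.comp_def]

lemma commute_prodFn {t : ℕ} {x : R} {v : Fin t → R} (h : ∀ i, Commute x (v i)) :
    Commute x (prodFn v) :=
  Commute.list_prod_right _ _ fun y hy => by
    obtain ⟨i, rfl⟩ := List.mem_ofFn.mp hy
    exact h i

lemma prodFn_mul : ∀ {t : ℕ} (v w : Fin t → R), (∀ i j, i ≠ j → Commute (v i) (w j)) →
    prodFn (fun i => v i * w i) = prodFn v * prodFn w := by
  intro t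
  induction t with
  | zero => intro v w _; simp [prodFn]
  | succ t ih =>
    intro v w h
    rw [prodFn_succ v, prodFn_succ w, prodFn_succ (fun i => v i * w i)]
    have h' := ih (v ∘ Fin.succ) (w ∘ Fin.succ)
      (fun i j hij => h _ _ fun e => hij (Fin.succ_injective _ e))
    rw [show ((fun i => v i * w i) ∘ Fin.succ) = fun i => (v ∘ Fin.succ) i * (w ∘ Fin.succ) i
      from rfl, h']
    have hc : Commute (w 0) (prodFn (v ∘ Fin.succ)) :=
      commute_prodFn fun i => (h i.succ 0 (Fin.succ_ne_zero i)).symm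
    simp only [mul_assoc]
    rw [← mul_assoc (w 0), hc.eq, mul_assoc]

lemma prodFn_one (t : ℕ) : prodFn (fun _ : Fin t => (1 : R)) = 1 := by
  simp [prodFn]

lemma prodFn_single : ∀ {t : ℕ} (v : Fin t → R) (i : Fin t),
    (∀ j, j ≠ i → v j = 1) → prodFn v = v i := by
  intro t
  induction t with
  | zero => intro v i; exact i.elim0
  | succ t ih =>
    intro v i h
    rw [prodFn_succ]
    cases i using Fin.cases with
    | zero =>
      rw [show v ∘ Fin.succ = fun _ => 1 from funext fun j => h _ (Fin.succ_ne_zero j),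
        prodFn_one, mul_one]
    | succ i =>
      rw [h 0 (Fin.succ_ne_zero i).symm, one_mul]
      exact ih (v ∘ Fin.succ) i fun j hj => h _ fun e => hj (Fin.succ_injective _ e)

lemma prodFn_sum {α : Type*} [Fintype α] [DecidableEq α] : ∀ {t : ℕ} (g : Fin t → α → R),
    prodFn (fun i => ∑ k, g i k) = ∑ x : Fin t → α, prodFn (fun i => g i (x i)) := by
  intro t
  induction t with
  | zero => intro g; simp [prodFn]
  | succ t ih =>
    intro g
    rw [prodFn_succ, show ((fun i => ∑ k, g i k) ∘ Fin.succ) = fun i => ∑ k, g i.succ k from rfl,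
      ih (fun i => g i.succ), Finset.sum_mul_sum, ← (Fin.consEquiv fun _ => α).sum_comp,
      Fintype.sum_prod_type]
    refine Finset.sum_congr rfl fun a _ => Finset.sum_congr rfl fun x _ => ?_
    rw [prodFn_succ]
    simp [Fin.consEquiv, Function.comp_def]

variable [Algebra F R]

lemma prodFn_smul : ∀ {t : ℕ} (c : Fin t → F) (v : Fin t → R),
    prodFn (fun i => c i • v i) = (∏ i, c i) • prodFn v := by
  intro t
  induction t with
  | zero => intro c v; simp [prodFn]
  | succ t ih =>
    intro c v
    rw [prodFn_succ v, prodFn_succ (fun i => c i • v i), Fin.prod_univ_succ,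
      show ((fun i => c i • v i) ∘ Fin.succ) = fun i => c i.succ • (v ∘ Fin.succ) i from rfl, ih,
      smul_mul_smul_comm]

end prodFn

/-- The tensor product of a family of square matrices, indexed by functions. -/
def pureMat {m t : ℕ} (X : Fin t → Matrix (Fin m) (Fin m) F) :
    Matrix (Fin t → Fin m) (Fin t → Fin m) F :=
  Matrix.of fun x y => ∏ i, X i (x i) (y i)

lemma pureMat_mul {m t : ℕ} (X Y : Fin t → Matrix (Fin m) (Fin m) F) :
    pureMat X * pureMat Y = pureMat (fun i => X i * Y i) := by
  ext x y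
  simp only [pureMat, Matrix.mul_apply, Matrix.of_apply, ← Finset.prod_mul_distrib]
  exact (Fintype.prod_sum fun i j => X i (x i) j * Y i j (y i)).symm

lemma pureMat_one {m t : ℕ} :
    pureMat (fun _ : Fin t => (1 : Matrix (Fin m) (Fin m) F)) = 1 := by
  ext x y
  by_cases h : x = y
  · subst h; simp [pureMat]
  · obtain ⟨i, hi⟩ := Function.ne_iff.mp h
    rw [Matrix.one_apply_ne h]
    exact Finset.prod_eq_zero (Finset.mem_univ i) (Matrix.one_apply_ne hi)

/-- The tensor product of invertible matrices, as an invertible matrix. -/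
def pureGL {m t : ℕ} (u : Fin t → GL (Fin m) F) : GL (Fin t → Fin m) F :=
  ⟨pureMat fun i => (u i : Matrix (Fin m) (Fin m) F),
    pureMat fun i => ((u i)⁻¹ : GL (Fin m) F).val,
    by rw [pureMat_mul]; simp [pureMat_one],
    by rw [pureMat_mul]; simp [pureMat_one]⟩

/-- The matrix permuting the tensor factors. -/
def factorPerm {m t : ℕ} (σ : Equiv.Perm (Fin t)) : Matrix (Fin t → Fin m) (Fin t → Fin m) F :=
  Matrix.of fun x y => if y = x ∘ σ then 1 else 0

lemma factorPerm_mul {m t : ℕ} (σ : Equiv.Perm (Fin t))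
    (Z : Matrix (Fin t → Fin m) (Fin t → Fin m) F) :
    factorPerm σ * Z = Matrix.of fun x y => Z (x ∘ σ) y := by
  ext x y
  simp [factorPerm, Matrix.mul_apply]

lemma factorPerm_mul_factorPerm {m t : ℕ} (σ : Equiv.Perm (Fin t)) :
    (factorPerm σ : Matrix (Fin t → Fin m) (Fin t → Fin m) F) * factorPerm σ.symm = 1 := by
  rw [factorPerm_mul]
  ext x y
  simp [factorPerm, Function.comp_assoc, Matrix.one_apply, eq_comm]

/-- The factor permutation as an invertible matrix. -/
def factorPermGL {m t : ℕ} (σ : Equiv.Perm (Fin t)) : GL (Fin t → Fin m) F :=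
  ⟨factorPerm σ, factorPerm σ.symm, factorPerm_mul_factorPerm σ, by
    simpa using factorPerm_mul_factorPerm (m := m) (F := F) σ.symm⟩

lemma factorPerm_conj {m t : ℕ} (σ : Equiv.Perm (Fin t))
    (X : Fin t → Matrix (Fin m) (Fin m) F) :
    factorPerm σ * pureMat X = pureMat (fun j => X (σ.symm j)) * factorPerm σ := by
  rw [factorPerm_mul]
  ext x y
  have hkey : ∀ k : Fin t → Fin m, (y = k ∘ σ) ↔ (k = y ∘ σ.symm) := by
    intro k; constructor
    · rintro rfl; simp [Function.comp_assoc]
    · rintro rfl; simp [Function.comp_assoc]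
  simp only [Matrix.of_apply, Matrix.mul_apply, factorPerm, hkey, mul_ite, mul_one, mul_zero,
    Finset.sum_ite_eq', Finset.mem_univ, if_true, pureMat, Function.comp_apply]
  rw [← Equiv.prod_comp σ (fun j => X (σ.symm j) (x j) (y (σ.symm j)))]
  simp

/-- Pairwise commuting subalgebras isomorphic to `M_m(F)` generating the matrix algebra: the
dimension is `m ^ t` and whatever permutes them stabilises the tensor power decomposition. -/
theorem exists_tensorPower [Nonempty ι] {m t : ℕ} (hm : 0 < m) (ht : 0 < t)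
    (A : Fin t → Subalgebra F (Matrix ι ι F))
    (f : ∀ i, Matrix (Fin m) (Fin m) F ≃ₐ[F] A i)
    (hcomm : ∀ i j, i ≠ j → ∀ X ∈ A i, ∀ Y ∈ A j, X * Y = Y * X)
    (hgen : ⨆ i, A i = ⊤) :
    Fintype.card ι = m ^ t ∧ ∃ (e : ι ≃ (Fin t → Fin m)) (P : GL ι F),
      (∀ (g : GL ι F) (σ : Equiv.Perm (Fin t)), (∀ i, ∀ X ∈ A i, cj g X ∈ A (σ i)) →
        g ∈ tensorWreathSubgroup m t e P) ∧
      ∀ i Y, Y ∈ A i ↔ ∃ X, Y = ((Matrix.reindexAlgEquiv F F e.symm).trans (cj P))
        (pureMat (Function.update (fun _ => 1) i X)) := by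
  classical
  haveI : Nonempty (Fin m) := ⟨⟨0, hm⟩⟩
  haveI : Nonempty (Fin t) := ⟨⟨0, ht⟩⟩
  let π : Fin t → (Matrix (Fin m) (Fin m) F →ₐ[F] Matrix ι ι F) :=
    fun i => (A i).val.comp (f i).toAlgHom
  have hπmem : ∀ i X, π i X ∈ A i := fun i X => (f i X).2
  have hπc : ∀ i j, i ≠ j → ∀ X Y, Commute (π i X) (π j Y) :=
    fun i j h X Y => hcomm i j h _ (hπmem i X) _ (hπmem j Y)
  let Φ : (Fin t → Matrix (Fin m) (Fin m) F) → Matrix ι ι F := fun X => prodFn fun i => π i (X i)
  have hΦmul : ∀ X Y, Φ X * Φ Y = Φ (fun i => X i * Y i) := fun X Y => by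
    simp only [Φ]
    rw [← prodFn_mul _ _ fun i j h => hπc i j h _ _]
    simp
  let E : (Fin t → Fin m) → (Fin t → Fin m) → Matrix ι ι F :=
    fun x y => Φ fun i => Matrix.single (x i) (y i) 1
  have hΦE : ∀ X, Φ X = ∑ x, ∑ y, pureMat X x y • E x y := by
    intro X
    have hX : ∀ i, π i (X i) =
        ∑ k : Fin m × Fin m, X i k.1 k.2 • π i (Matrix.single k.1 k.2 1) := by
      intro i
      conv_lhs => rw [Matrix.matrix_eq_sum_single (X i)]
      rw [Fintype.sum_prod_type, map_sum]
      refine Finset.sum_congr rfl fun a _ => ?_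
      rw [map_sum]
      refine Finset.sum_congr rfl fun b _ => ?_
      rw [← map_smul, Matrix.smul_single, smul_eq_mul, mul_one]
    simp only [Φ, hX]
    rw [prodFn_sum, ← (Equiv.arrowProdEquivProdArrow (Fin t) (fun _ => Fin m)
      (fun _ => Fin m)).symm.sum_comp, Fintype.sum_prod_type]
    refine Finset.sum_congr rfl fun x _ => Finset.sum_congr rfl fun y _ => ?_
    rw [prodFn_smul]
    rfl
  have hU : MatUnits E := by
    constructor
    · intro a b c d
      simp only [E, hΦmul]
      split_ifs with h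
      · subst h
        congr 1; funext i; simp
      · obtain ⟨i, hi⟩ := Function.ne_iff.mp h
        rw [hΦE]
        refine Finset.sum_eq_zero fun x _ => Finset.sum_eq_zero fun y _ => ?_
        rw [show pureMat (fun i => Matrix.single (a i) (b i) (1 : F) *
          Matrix.single (c i) (d i) 1) x y = 0 from
          Finset.prod_eq_zero (Finset.mem_univ i) (by simp [hi]), zero_smul]
    · have h1 : Φ (fun _ => 1) = 1 := by simp [Φ, prodFn_one]
      rw [← h1, hΦE, pureMat_one]
      simp [Matrix.one_apply, Finset.sum_ite_eq]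
  -- the span of the matrix units is everything
  have hsingle : ∀ i X, Φ (Function.update (fun _ => 1) i X) = π i X := by
    intro i X
    simp only [Φ]
    rw [prodFn_single _ i (fun j hj => by simp [Function.update_of_ne hj]),
      Function.update_self]
  obtain ⟨b, e₀, P₀, hb, hP₀⟩ := hU.exists_normal_form
  have hcardι : Fintype.card ι = m ^ t * b := by
    have := Fintype.card_congr e₀
    simpa [Fintype.card_prod] using this
  let S : Subalgebra F (Matrix ι ι F) :=
    (Submodule.span F (Set.range fun p : (Fin t → Fin m) × (Fin t → Fin m) => E p.1 p.2)).toSubalgebra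
      (by
        rw [← hU.sum_eq]
        exact Submodule.sum_mem _ fun a _ => Submodule.subset_span ⟨(a, a), rfl⟩)
      (fun x y hx hy => by
        induction hx using Submodule.span_induction with
        | mem x hx =>
          induction hy using Submodule.span_induction with
          | mem y hy =>
            obtain ⟨p, rfl⟩ := hx; obtain ⟨r, rfl⟩ := hy
            rw [hU.mul]
            split_ifs
            · exact Submodule.subset_span ⟨(p.1, r.2), rfl⟩
            · exact Submodule.zero_mem _
          | zero => simp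
          | add a b _ _ ha hb => rw [mul_add]; exact Submodule.add_mem _ ha hb
          | smul c a _ ha => rw [mul_smul_comm]; exact Submodule.smul_mem _ c ha
        | zero => simp
        | add a b _ _ ha hb => rw [add_mul]; exact Submodule.add_mem _ ha hb
        | smul c a _ ha => rw [smul_mul_assoc]; exact Submodule.smul_mem _ c ha)
  have hS : S = ⊤ := by
    rw [eq_top_iff, ← hgen]
    refine iSup_le fun i X hX => ?_
    have : X = π i ((f i).symm ⟨X, hX⟩) := by simp [π]
    rw [this, ← hsingle, hΦE]
    exact S.sum_mem fun x _ => S.sum_mem fun y _ =>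
      S.smul_mem (Submodule.subset_span ⟨(x, y), rfl⟩) _
  have hcard : Fintype.card ι = m ^ t := by
    have hsp : Submodule.span F (Set.range fun p : (Fin t → Fin m) × (Fin t → Fin m) => E p.1 p.2)
        = ⊤ := by
      have h2 : Subalgebra.toSubmodule S = ⊤ := by rw [hS, Algebra.top_toSubmodule]
      exact h2
    have h := finrank_range_le_card (R := F)
      (fun p : (Fin t → Fin m) × (Fin t → Fin m) => E p.1 p.2)
    rw [Set.finrank, hsp, finrank_top, Module.finrank_matrix, Module.finrank_self, mul_one] at h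
    simp only [Fintype.card_prod, Fintype.card_fun, Fintype.card_fin] at h
    rw [hcardι] at h
    have hmt : 0 < m ^ t := Nat.pow_pos hm
    have h' : m ^ t * m ^ t * (b * b) ≤ m ^ t * m ^ t * 1 := by
      calc m ^ t * m ^ t * (b * b) = m ^ t * b * (m ^ t * b) := by ring
        _ ≤ _ := by rw [mul_one]; exact h
    have hb2 : b * b ≤ 1 := Nat.le_of_mul_le_mul_left h' (Nat.mul_pos hmt hmt)
    have : b = 1 := by nlinarith
    rw [hcardι, this, mul_one]
  refine ⟨hcard, ?_⟩
  obtain ⟨e, P, hP⟩ := hU.exists_conj (by simp [hcard])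
  let ρ : Matrix (Fin t → Fin m) (Fin t → Fin m) F ≃ₐ[F] Matrix ι ι F :=
    (Matrix.reindexAlgEquiv F F e.symm).trans (cj P)
  have hρE : ∀ x y, ρ (Matrix.single x y 1) = E x y := by
    intro x y
    rw [hP]
    show cj P _ = cj P _
    congr 1
    ext i j
    show Matrix.single x y (1 : F) (e i) (e j) = _
    simp only [Matrix.single_apply, Equiv.symm_apply_eq]
  have hρΦ : ∀ X, ρ (pureMat X) = Φ X := by
    intro X
    rw [hΦE]
    conv_lhs => rw [Matrix.matrix_eq_sum_single (pureMat X)]
    rw [map_sum]
    refine Finset.sum_congr rfl fun x _ => ?_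
    rw [map_sum]
    refine Finset.sum_congr rfl fun y _ => ?_
    rw [← hρE, ← map_smul, Matrix.smul_single, smul_eq_mul, mul_one]
  refine ⟨e, P, fun g σ hσ => ?_, fun i Y => ⟨fun hY => ⟨(f i).symm ⟨Y, hY⟩, ?_⟩, ?_⟩⟩
  case refine_2 =>
    show Y = ρ _
    rw [hρΦ, hsingle]; simp [π]
  case refine_3 =>
    rintro ⟨X, rfl⟩
    show ρ _ ∈ A i
    rw [hρΦ, hsingle]; exact hπmem i X
  -- the inner automorphism on each factor
  have hu : ∀ i, ∃ u : GL (Fin m) F, ∀ X, cj g (π i X) = π (σ i) (cj u X) := by
    intro i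
    let ψ : Matrix (Fin m) (Fin m) F →ₐ[F] Matrix (Fin m) (Fin m) F :=
      (f (σ i)).symm.toAlgHom.comp (((cj g).toAlgHom.comp (π i)).codRestrict (A (σ i))
        fun X => hσ i _ (hπmem i X))
    obtain ⟨u, hu⟩ := skolem_noether ψ
    refine ⟨u, fun X => ?_⟩
    rw [← hu]
    simp [ψ, π]
    rfl
  choose u hu using hu
  set T := tensorWreathSubgroup m t e P
  let emb : GL (Fin t → Fin m) F → GL ι F := fun k => P * glReindex e.symm k * P⁻¹
  have hemb : ∀ k, (IsPureTensor m t k ∨ IsFactorPermutation m t k) → emb k ∈ T := fun k hk =>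
    ⟨glReindex e.symm k, ⟨k, Subgroup.subset_closure hk, rfl⟩, rfl⟩
  have hembv : ∀ k, (emb k : Matrix ι ι F) =
      ρ (k : Matrix (Fin t → Fin m) (Fin t → Fin m) F) := fun k => by
    simp only [emb, Units.val_mul]; rfl
  set w := emb (pureGL fun j => u (σ.symm j)) * emb (factorPermGL σ)
  have hwT : w ∈ T := T.mul_mem (hemb _ (Or.inl ⟨fun j => u (σ.symm j), fun x y => rfl⟩))
    (hemb _ (Or.inr ⟨σ, fun x y => rfl⟩))
  have hw : ∀ i X, cj w (π i X) = π (σ i) (cj (u i) X) := by
    intro i X
    suffices h : (w : Matrix ι ι F) * π i X = π (σ i) (cj (u i) X) * (w : Matrix ι ι F) by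
      rw [cj_apply, h, mul_assoc, ← Units.val_mul, mul_inv_cancel, Units.val_one, mul_one]
    rw [← hsingle, ← hsingle, ← hρΦ, ← hρΦ, Units.val_mul, hembv, hembv]
    simp only [← map_mul]
    congr 1
    show pureMat _ * factorPerm σ * pureMat _ = pureMat _ * (pureMat _ * factorPerm σ)
    rw [mul_assoc, factorPerm_conj, ← mul_assoc, ← mul_assoc, pureMat_mul, pureMat_mul]
    congr 2
    funext j
    by_cases hj : σ.symm j = i
    · have hj' : j = σ i := by rw [← hj]; simp
      subst hj'
      simp [cj_apply, mul_assoc]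
    · have hj' : j ≠ σ i := fun h => hj (by simp [h])
      simp [Function.update_of_ne hj, Function.update_of_ne hj']
  set z := w⁻¹ * g with hz
  have hzc : ∀ i, A i ≤ Subalgebra.centralizer F {(z : Matrix ι ι F)} := by
    intro i X hX
    rw [Subalgebra.mem_centralizer_iff]
    rintro _ rfl
    have h1 : X = π i ((f i).symm ⟨X, hX⟩) := by simp [π]
    rw [← cj_eq_self_iff, h1, hz, cj_mul, hu, ← hw, cj_inv_apply]
  have hzall : ∀ X : Matrix ι ι F, (z : Matrix ι ι F) * X = X * (z : Matrix ι ι F) := by
    intro X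
    have h : (⨆ i, A i) ≤ Subalgebra.centralizer F {(z : Matrix ι ι F)} := iSup_le hzc
    rw [hgen] at h
    exact Subalgebra.mem_centralizer_iff F |>.mp (h (Algebra.mem_top (x := X))) _ rfl
  obtain ⟨c, hc⟩ := Matrix.mem_range_scalar_of_commute_single
    (M := (z : Matrix ι ι F)) (fun i j _ => (hzall _).symm)
  have hc0 : c ≠ 0 := by
    intro h
    have := z.ne_zero
    rw [← hc, h, map_zero] at this
    exact this rfl
  let i₀ : Fin t := ⟨0, ht⟩
  have hzT : z ∈ T := by
    let k := pureGL (F := F) (Function.update (fun _ : Fin t => (1 : GL (Fin m) F)) i₀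
      (Units.map (algebraMap F (Matrix (Fin m) (Fin m) F)).toMonoidHom (Units.mk0 c hc0)))
    have : z = emb k := by
      apply Units.ext
      rw [hembv, show (k : Matrix (Fin t → Fin m) (Fin t → Fin m) F) = pureMat
        (Function.update (fun _ => 1) i₀ (algebraMap F (Matrix (Fin m) (Fin m) F) c)) by
          show pureMat _ = pureMat _
          congr 1; funext j
          by_cases hj : j = i₀
          · subst hj; simp
          · simp [Function.update_of_ne hj], hρΦ, hsingle, AlgHom.commutes, ← hc]
      rfl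
    rw [this]
    exact hemb _ (Or.inl ⟨_, fun x y => rfl⟩)
  have : g = w * z := by rw [hz, mul_inv_cancel_left]
  rw [this]
  exact T.mul_mem hwT hzT

end Cfsg.Agent.Aschbacher
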