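/-
No geometric subgroup contains the special linear group.
-/
import Cfsg.Agent.Aschbacher.Forms
import Cfsg.Agent.Aschbacher.Wreath
import Cfsg.Agent.H95.SubspaceStab

set_option autoImplicit false
set_option maxHeartbeats 1000000
set_option linter.unusedSectionVars false
set_option linter.style.haveILetI false

namespace Cfsg.Agent.Aschbacher

open scoped MatrixGroups Matrix Kronecker
open Cfsg.Geo
open Cfsg.Agent.H95 (tv tvMat tv_mulVec tv_mem_specialLinear exists_covec)

variable {ι : Type} [Fintype ι] [DecidableEq ι] {F : Type*} [Field F]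

lemma maximal_eq_inf {H M : Subgroup (GL ι F)} (hH : IsMaximalIn (specialLinear ι F) H)
    (hle : H ≤ M) (hM : ¬ specialLinear ι F ≤ M) : H = M ⊓ specialLinear ι F := by
  rcases hH.2 (M ⊓ specialLinear ι F) (le_inf hle hH.1.le) inf_le_right with h | h
  · exact h.symm
  · exact absurd (inf_eq_right.mp h) hM

/-- A vector outside a proper subspace spanned by few vectors. -/
lemma exists_notMem_span_range {k : ℕ} (v : Fin k → ι → F) (hk : k < Fintype.card ι) :
    ∃ w, w ∉ Submodule.span F (Set.range v) := by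
  by_contra hc
  push Not at hc
  have h1 : Submodule.span F (Set.range v) = ⊤ := Submodule.eq_top_iff'.mpr hc
  have h2 : Module.finrank F (Submodule.span F (Set.range v)) ≤ k :=
    (finrank_range_le_card v).trans_eq (Fintype.card_fin k)
  rw [h1, finrank_top, Module.finrank_pi] at h2
  omega

/-- A nonzero covector killing two given vectors. -/
lemma exists_covec_pair (h3 : 3 ≤ Fintype.card ι) (a b : ι → F) :
    ∃ φ v : ι → F, φ ⬝ᵥ v = 1 ∧ φ ⬝ᵥ a = 0 ∧ φ ⬝ᵥ b = 0 := by
  obtain ⟨v, hv⟩ := exists_notMem_span_range ![a, b] (by omega)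
  obtain ⟨φ, h1, h0⟩ := exists_covec _ hv
  exact ⟨φ, v, h1, h0 a (Submodule.subset_span ⟨0, rfl⟩), h0 b (Submodule.subset_span ⟨1, rfl⟩)⟩

lemma subspaceStabilizer_proper {W : Submodule F (ι → F)} (h1 : W ≠ ⊥) (h2 : W ≠ ⊤) :
    ¬ specialLinear ι F ≤ subspaceStabilizer W := by
  intro hc
  obtain ⟨w, hw, hw0⟩ := Submodule.exists_mem_ne_zero_of_ne_bot h1
  obtain ⟨v, hv⟩ : ∃ v, v ∉ W := by
    by_contra h; push Not at h; exact h2 (Submodule.eq_top_iff'.mpr h)
  have hwv : w ∉ Submodule.span F {v} := fun h => by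
    obtain ⟨c, hc⟩ := Submodule.mem_span_singleton.mp h
    have hc0 : c ≠ 0 := fun h0 => hw0 (by rw [← hc, h0, zero_smul])
    exact hv (by rw [show v = c⁻¹ • w by rw [← hc, smul_smul, inv_mul_cancel₀ hc0, one_smul]]; exact W.smul_mem _ hw)
  obtain ⟨φ, hφw, hφ⟩ := exists_covec _ hwv
  have hφv : φ ⬝ᵥ v = 0 := hφ v (Submodule.mem_span_singleton_self v)
  have := (H95.mem_subspaceStabilizer.mp (hc (tv_mem_specialLinear v φ hφv)) w).mp hw
  rw [tv_mulVec, hφw, one_smul] at this
  exact hv (by simpa using W.sub_mem this hw)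

lemma decompositionStabilizer_proper {t m : ℕ} {D : Fin t → Submodule F (ι → F)}
    (hD : IsMDecomposition m D) : ¬ specialLinear ι F ≤ decompositionStabilizer D := by
  intro hc
  have hbot : ∀ i, D i ≠ ⊥ := fun i h => by
    have := hD.finrank_eq i
    rw [h, finrank_bot] at this
    exact absurd this.symm hD.pos.ne'
  let i : Fin t := ⟨0, by have := hD.two_le; omega⟩
  let j : Fin t := ⟨1, by have := hD.two_le; omega⟩
  have hij : i ≠ j := by simp [i, j]
  obtain ⟨v, hv, hv0⟩ := Submodule.exists_mem_ne_zero_of_ne_bot (hbot i)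
  obtain ⟨w, hw, hw0⟩ := Submodule.exists_mem_ne_zero_of_ne_bot (hbot j)
  have hdis : ∀ {a b : Fin t} {x : ι → F}, a ≠ b → x ∈ D a → x ∈ D b → x = 0 :=
    fun hab ha hb => Submodule.disjoint_def.mp (hD.indep.pairwiseDisjoint hab) _ ha hb
  have hvw : v ∉ Submodule.span F {w} := fun h => by
    obtain ⟨c, hc⟩ := Submodule.mem_span_singleton.mp h
    exact hv0 (hdis hij hv (hc ▸ (D j).smul_mem c hw))
  obtain ⟨φ, hφv, hφ⟩ := exists_covec _ hvw
  have hφw : φ ⬝ᵥ w = 0 := hφ w (Submodule.mem_span_singleton_self w)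
  obtain ⟨σ, hσ⟩ := hc (tv_mem_specialLinear w φ hφw)
  have hmem : v + w ∈ D (σ i) := by
    rw [← hσ i]
    exact ⟨v, hv, by rw [Matrix.toLin'_apply, tv_mulVec, hφv, one_smul]⟩
  by_cases hi : σ i = i
  · rw [hi] at hmem
    exact hw0 (hdis hij (by simpa using (D i).sub_mem hmem hv) hw)
  by_cases hj : σ i = j
  · rw [hj] at hmem
    exact hv0 (hdis hij hv (by simpa using (D j).sub_mem hmem hw))
  have hsup : v + w ∈ ⨆ (k) (_ : k ≠ σ i), D k := by
    refine Submodule.add_mem _ ?_ ?_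
    · exact Submodule.mem_iSup_of_mem i (Submodule.mem_iSup_of_mem (Ne.symm hi) hv)
    · exact Submodule.mem_iSup_of_mem j (Submodule.mem_iSup_of_mem (Ne.symm hj) hw)
  have h0 := Submodule.disjoint_def.mp (hD.indep (σ i)) _ hmem hsup
  refine hv0 (hdis hij hv ?_)
  rw [eq_neg_of_add_eq_zero_left h0]
  exact (D j).neg_mem hw

/-- A matrix moving every vector inside its line is scalar. -/
lemma exists_scalar_of_forall_smul {k : Matrix ι ι F}
    (h : ∀ a : ι → F, ∃ c : F, k *ᵥ a = c • a) : ∃ c : F, k = c • (1 : Matrix ι ι F) := by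
  rcases isEmpty_or_nonempty ι with hι | ⟨⟨i₀⟩⟩
  · exact ⟨0, Matrix.ext fun i => isEmptyElim i⟩
  choose c hc using h
  refine ⟨c (Pi.single i₀ 1), Matrix.ext fun i j => ?_⟩
  have key : ∀ i j, k i j = if i = j then c (Pi.single j 1) else 0 := by
    intro i j
    have := congrFun (hc (Pi.single j 1)) i
    simpa [Pi.single_apply] using this
  rw [key, Matrix.smul_apply, Matrix.one_apply]
  by_cases hij : i = j
  · subst hij
    rw [if_pos rfl, if_pos rfl, smul_eq_mul, mul_one]
    by_cases hi : i = i₀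
    · rw [hi]
    have e := hc (Pi.single i 1 + Pi.single i₀ 1)
    rw [Matrix.mulVec_add] at e
    have e1 := congrFun e i
    have e2 := congrFun e i₀
    simp [key, hi, Ne.symm hi] at e1 e2
    exact e1.trans e2.symm
  · simp [hij]

lemma subalgebraNormalizer_proper (h3 : 3 ≤ Fintype.card ι) {r : ℕ}
    {K : Subalgebra F (Matrix ι ι F)} (hK : IsFieldSubalgebra r K) (hr : 2 ≤ r) :
    ¬ specialLinear ι F ≤ subalgebraNormalizer K := by
  intro hc
  haveI : Nonempty ι := Fintype.card_pos_iff.mp (by omega)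
  obtain ⟨k, hk, hks⟩ : ∃ k ∈ K, ¬ ∃ c : F, k = c • (1 : Matrix ι ι F) := by
    by_contra h
    push Not at h
    have hle : Subalgebra.toSubmodule K ≤ F ∙ (1 : Matrix ι ι F) := fun X hX => by
      obtain ⟨c, rfl⟩ := h X hX
      exact Submodule.smul_mem _ _ (Submodule.mem_span_singleton_self _)
    have h1 := Submodule.finrank_mono hle
    rw [finrank_span_singleton (one_ne_zero (α := Matrix ι ι F)),
      Subalgebra.finrank_toSubmodule, hK.finrank_eq] at h1
    omega
  obtain ⟨a, ha⟩ : ∃ a, ∀ c : F, k *ᵥ a ≠ c • a := by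
    by_contra h
    push Not at h
    exact hks (exists_scalar_of_forall_smul h)
  have ha0 : a ≠ 0 := fun h => ha 0 (by simp [h])
  obtain ⟨φ, v, hφv, hφa, -⟩ := exists_covec_pair h3 a a
  set T := tv a φ hφa with hT
  have hTK : cj T k ∈ K := cj_mem_of_mem_normalizer (hc (tv_mem_specialLinear a φ hφa)) hk
  have hzero : cj T k - k = 0 := by
    by_contra hne
    obtain ⟨Y, -, hY⟩ := hK.inv _ (K.sub_mem hTK hk) hne
    obtain ⟨w, hw⟩ := exists_notMem_span_range ![a, k *ᵥ a] (by omega)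
    have hrange : ∀ x, (cj T k - k) *ᵥ ((T : Matrix ι ι F) *ᵥ x) ∈
        Submodule.span F (Set.range ![a, k *ᵥ a]) := by
      intro x
      rw [Matrix.sub_mulVec, Matrix.mulVec_mulVec _ (cj T k), ← mul_eq_cj_mul,
        ← Matrix.mulVec_mulVec, tv_mulVec, tv_mulVec, Matrix.mulVec_add, Matrix.mulVec_smul,
        add_sub_add_left_eq_sub]
      exact Submodule.sub_mem _ (Submodule.smul_mem _ _ (Submodule.subset_span ⟨0, rfl⟩))
        (Submodule.smul_mem _ _ (Submodule.subset_span ⟨1, rfl⟩))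
    have := hrange (((T⁻¹ : GL ι F) : Matrix ι ι F) *ᵥ (Y *ᵥ w))
    rw [Matrix.mulVec_mulVec _ (T : Matrix ι ι F), ← Units.val_mul, mul_inv_cancel, Units.val_one,
      Matrix.one_mulVec, Matrix.mulVec_mulVec, hY, Matrix.one_mulVec] at this
    exact hw this
  have hcomm := (cj_eq_self_iff T k).mp (sub_eq_zero.mp hzero)
  have h2 := congrArg (· *ᵥ v) hcomm
  simp only [← Matrix.mulVec_mulVec, tv_mulVec, hT] at h2
  rw [Matrix.mulVec_add, Matrix.mulVec_smul, hφv, one_smul] at h2
  exact ha _ (add_left_cancel h2).symm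

instance specialLinear_normal : (specialLinear ι F).Normal := MonoidHom.normal_ker _

lemma conj_mem_specialLinear (P : GL ι F) {x : GL ι F} (hx : x ∈ specialLinear ι F) :
    MulAut.conj P x ∈ specialLinear ι F := by
  simpa using specialLinear_normal.conj_mem x hx P

lemma subfieldSubgroup_proper (h2 : 2 ≤ Fintype.card ι) {F₀ : Subfield F} (hF : F₀ ≠ ⊤)
    (P : GL ι F) : ¬ specialLinear ι F ≤ subfieldSubgroup F₀ P := by
  intro hc
  obtain ⟨i, j, hij⟩ := Fintype.exists_pair_of_one_lt_card h2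
  obtain ⟨α, hα⟩ : ∃ α, α ∉ F₀ := by
    by_contra h; push Not at h
    exact hF (eq_top_iff.mpr fun x _ => h x)
  have h0 : (Pi.single j α : ι → F) ⬝ᵥ Pi.single i 1 = 0 := by simp [hij]
  have hT := hc (conj_mem_specialLinear P (tv_mem_specialLinear _ _ h0))
  obtain ⟨g, hg, hgT⟩ := hT
  have hgeq : g = tv _ _ h0 := (MulAut.conj P).injective hgT
  subst hgeq
  obtain ⟨_, ⟨M, rfl⟩, z, hz, hMz⟩ := Subgroup.mem_sup_of_normal_right.mp hg
  obtain ⟨c, hc⟩ := (mem_scalars_iff z).mp hz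
  have hentry : ∀ a b, tvMat (Pi.single i (1 : F)) (Pi.single j α) a b
      = (c : F) * F₀.subtype ((M : Matrix ι ι F₀) a b) := by
    intro a b
    have := congrFun (congrFun (congrArg (fun g : GL ι F => (g : Matrix ι ι F)) hMz) a) b
    simp only [Units.val_mul, hc] at this
    rw [H95.tv_val] at this
    rw [← this]
    simp
  have hii := hentry i i
  have hij' := hentry i j
  simp [tvMat, Matrix.vecMulVec_apply, hij] at hii hij'
  refine hα ?_
  have hα' : α = ((M : Matrix ι ι F₀) i i : F)⁻¹ * ((M : Matrix ι ι F₀) i j : F) := by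
    have hne : ((M : Matrix ι ι F₀) i i : F) ≠ 0 := fun h => by rw [h, mul_zero] at hii; exact one_ne_zero hii
    rw [eq_inv_mul_iff_mul_eq₀ hne, hij', ← mul_assoc, mul_comm _ (c : F), ← hii, one_mul]
  rw [hα']
  exact F₀.mul_mem (F₀.inv_mem (SetLike.coe_mem _)) (SetLike.coe_mem _)

/-- The special linear group normalises no nonscalar finite group of order prime to the
characteristic. -/
lemma subgroupNormalizer_proper (h3 : 3 ≤ Fintype.card ι) {r : ℕ} {R : Subgroup (GL ι F)}
    (hR : IsPGroup r R) (hp : (r : F) ≠ 0) (hns : ¬ R ≤ scalars ι F) :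
    ¬ specialLinear ι F ≤ subgroupNormalizer R := by
  intro hc
  have hconj : ∀ g ∈ specialLinear ι F, ∀ x ∈ R, g * x * g⁻¹ ∈ R := fun g hg x hx =>
    (Subgroup.mem_normalizer_iff.mp (hc hg) x).mp hx
  -- no transvection lies in R
  have notv : ∀ (a φ : ι → F) (h : φ ⬝ᵥ a = 0), tv a φ h ∈ R → a = 0 ∨ φ = 0 := by
    intro a φ h hm
    obtain ⟨k, hk⟩ := hR ⟨_, hm⟩
    have hpow : ∀ n : ℕ, ∀ x, ((tv a φ h ^ n : GL ι F) : Matrix ι ι F) *ᵥ x
        = x + ((n : F) * (φ ⬝ᵥ x)) • a := by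
      intro n
      induction n with
      | zero => simp
      | succ n ih =>
        intro x
        rw [pow_succ', Units.val_mul, ← Matrix.mulVec_mulVec, ih, tv_mulVec, dotProduct_add,
          dotProduct_smul, h, smul_zero, add_zero, Nat.cast_succ, add_mul, one_mul, add_smul,
          add_assoc]
    have hk' : tv a φ h ^ r ^ k = 1 := by simpa using congrArg Subtype.val hk
    by_contra hne
    push Not at hne
    obtain ⟨i, hi⟩ := Function.ne_iff.mp hne.1
    obtain ⟨j, hj⟩ := Function.ne_iff.mp hne.2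
    have := congrFun (hpow (r ^ k) (Pi.single j 1)) i
    rw [hk'] at this
    simp only [Units.val_one, Matrix.one_mulVec, Pi.add_apply, Pi.smul_apply, dotProduct_single,
      mul_one, smul_eq_mul] at this
    have h0 : ((r ^ k : ℕ) : F) * φ j * a i = 0 := by linear_combination -this
    simp only [Nat.cast_pow, mul_eq_zero] at h0
    rcases h0 with (h0 | h0) | h0
    · exact hp (eq_zero_of_pow_eq_zero h0)
    · exact hj h0
    · exact hi h0
  obtain ⟨x, hx, hxs⟩ := SetLike.not_le_iff_exists.mp hns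
  obtain ⟨a, ha⟩ : ∃ a, ∀ c : F, ((x : GL ι F) : Matrix ι ι F) *ᵥ a ≠ c • a := by
    by_contra h
    push Not at h
    obtain ⟨c, hc⟩ := exists_scalar_of_forall_smul h
    have hc0 : c ≠ 0 := fun h0 => by
      have hu := x.isUnit
      rw [hc, h0, zero_smul] at hu
      haveI : Nonempty ι := Fintype.card_pos_iff.mp (by omega)
      exact not_isUnit_zero hu
    exact hxs ((mem_scalars_iff x).mpr ⟨Units.mk0 c hc0, hc⟩)
  obtain ⟨φ, v, hφv, hφa, -⟩ := exists_covec_pair h3 a a
  set y := x * (tv a φ hφa * x⁻¹ * (tv a φ hφa)⁻¹) with hy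
  have hyR : y ∈ R := R.mul_mem hx (hconj _ (tv_mem_specialLinear a φ hφa) _ (R.inv_mem hx))
  have hinv : ∀ u, (x : Matrix ι ι F) *ᵥ (((x⁻¹ : GL ι F) : Matrix ι ι F) *ᵥ u) = u := fun u => by
    rw [Matrix.mulVec_mulVec, ← Units.val_mul, mul_inv_cancel, Units.val_one, Matrix.one_mulVec]
  -- y fixes a nonzero vector and is not the identity
  let ψ : ι → F := φ ᵥ* ((x⁻¹ : GL ι F) : Matrix ι ι F)
  have hy_apply : ∀ u, (y : Matrix ι ι F) *ᵥ ((tv a φ hφa : Matrix ι ι F) *ᵥ u)
      = u + (ψ ⬝ᵥ u) • ((x : Matrix ι ι F) *ᵥ a) := by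
    intro u
    rw [Matrix.mulVec_mulVec, ← Units.val_mul, hy]
    rw [show x * (tv a φ hφa * x⁻¹ * (tv a φ hφa)⁻¹) * tv a φ hφa = x * tv a φ hφa * x⁻¹ by group]
    rw [Units.val_mul, Units.val_mul, ← Matrix.mulVec_mulVec, ← Matrix.mulVec_mulVec, tv_mulVec,
      Matrix.mulVec_add, Matrix.mulVec_smul, hinv, ← Matrix.dotProduct_mulVec]
  have hy1 : y ≠ 1 := by
    intro h
    have := hy_apply v
    rw [h, Units.val_one, Matrix.one_mulVec, tv_mulVec, hφv, one_smul] at this
    have h' : (ψ ⬝ᵥ v) • ((x : Matrix ι ι F) *ᵥ a) = a := (add_left_cancel this).symm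
    rcases eq_or_ne (ψ ⬝ᵥ v) 0 with h0 | h0
    · rw [h0, zero_smul] at h'
      exact ha 0 (by simp [← h'])
    · exact ha _ (show _ = (ψ ⬝ᵥ v)⁻¹ • a by
        conv_rhs => rw [← h', smul_smul, inv_mul_cancel₀ h0, one_smul])
  obtain ⟨b, hb0, hφb, hψb⟩ : ∃ b : ι → F, b ≠ 0 ∧ φ ⬝ᵥ b = 0 ∧ ψ ⬝ᵥ b = 0 := by
    let L : (ι → F) →ₗ[F] (Fin 2 → F) :=
      LinearMap.pi ![(dotProductBilin F F φ), (dotProductBilin F F ψ)]
    obtain ⟨b, hb, hb0⟩ := Submodule.exists_mem_ne_zero_of_ne_bot (p := LinearMap.ker L) (by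
      intro h
      have := LinearMap.finrank_le_finrank_of_injective (LinearMap.ker_eq_bot.mp h)
      simp at this
      omega)
    refine ⟨b, hb0, ?_, ?_⟩
    · simpa [L] using congrFun (LinearMap.mem_ker.mp hb) 0
    · simpa [L] using congrFun (LinearMap.mem_ker.mp hb) 1
  have hyb : (y : Matrix ι ι F) *ᵥ b = b := by
    have := hy_apply b
    rwa [hψb, zero_smul, add_zero, tv_mulVec, hφb, zero_smul, add_zero] at this
  have hybi : ((y⁻¹ : GL ι F) : Matrix ι ι F) *ᵥ b = b := by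
    conv_lhs => rw [← hyb]
    rw [Matrix.mulVec_mulVec, ← Units.val_mul, inv_mul_cancel, Units.val_one, Matrix.one_mulVec]
  -- a transvection centred at b
  by_cases hline : ∀ u, ∃ c : F, ((y⁻¹ : GL ι F) : Matrix ι ι F) *ᵥ u = u + c • b
  · choose c hc using hline
    let χ : ι → F := fun j => c (Pi.single j 1)
    obtain ⟨i, hi⟩ := Function.ne_iff.mp hb0
    have hmat : ((y⁻¹ : GL ι F) : Matrix ι ι F) = tvMat b χ := by
      ext i j
      have := congrFun (hc (Pi.single j 1)) i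
      simpa [tvMat, Matrix.one_apply, Pi.single_apply, Matrix.vecMulVec_apply, mul_comm] using this
    have hχb : χ ⬝ᵥ b = 0 := by
      have := congrFun hybi i
      rw [hmat, H95.tvMat_mulVec] at this
      simp only [Pi.add_apply, Pi.smul_apply, smul_eq_mul, add_eq_left, mul_eq_zero] at this
      exact this.resolve_right hi
    have heq : y⁻¹ = tv b χ hχb := Units.ext hmat
    rcases notv b χ hχb (heq ▸ R.inv_mem hyR) with h | h
    · exact hb0 h
    · refine hy1 (inv_eq_one.mp ?_)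
      rw [heq]
      refine Units.ext ?_
      rw [H95.tv_val, tvMat, h]
      simp
  · push Not at hline
    obtain ⟨u, hu⟩ := hline
    have hw : ((y⁻¹ : GL ι F) : Matrix ι ι F) *ᵥ u - u ∉ Submodule.span F {b} := fun h => by
      obtain ⟨c, hc⟩ := Submodule.mem_span_singleton.mp h
      exact hu c (by rw [hc]; abel)
    obtain ⟨η, hη1, hη⟩ := exists_covec _ hw
    have hηb : η ⬝ᵥ b = 0 := hη b (Submodule.mem_span_singleton_self b)
    let η' : ι → F := η ᵥ* ((y⁻¹ : GL ι F) : Matrix ι ι F) - η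
    have hη'b : η' ⬝ᵥ b = 0 := by
      simp only [η', sub_dotProduct, ← Matrix.dotProduct_mulVec, hybi, sub_self]
    have hz : tv b η' hη'b ∈ R := by
      have hmem : y * (tv b η hηb * y⁻¹ * (tv b η hηb)⁻¹) ∈ R :=
        R.mul_mem hyR (hconj _ (tv_mem_specialLinear b η hηb) _ (R.inv_mem hyR))
      convert hmem using 1
      rw [← mul_assoc, eq_mul_inv_iff_mul_eq, ← mul_assoc]
      refine Units.ext (H95.mat_ext fun z => ?_)
      simp only [Units.val_mul, ← Matrix.mulVec_mulVec, tv_mulVec, Matrix.mulVec_add,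
        Matrix.mulVec_smul, hyb]
      rw [show (y : Matrix ι ι F) *ᵥ (((y⁻¹ : GL ι F) : Matrix ι ι F) *ᵥ z) = z by
        rw [Matrix.mulVec_mulVec, ← Units.val_mul, mul_inv_cancel, Units.val_one, Matrix.one_mulVec]]
      simp only [η', sub_dotProduct, ← Matrix.dotProduct_mulVec, hybi, hηb, sub_smul]
      abel
    rcases notv b η' hη'b hz with h | h
    · exact hb0 h
    · have hd : η' ⬝ᵥ u = 1 := by
        simp only [η', sub_dotProduct, ← Matrix.dotProduct_mulVec, ← dotProduct_sub, hη1]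
      rw [h, zero_dotProduct] at hd
      exact zero_ne_one hd

lemma similarityGroup_proper (h3 : 3 ≤ Fintype.card ι) {σ : F ≃+* F}
    {f : (ι → F) → (ι → F) → F} (hs : IsSesq σ f) (hn : IsNondegenerateForm f) :
    ¬ specialLinear ι F ≤ similarityGroup f := by
  intro hc
  haveI : Nonempty ι := Fintype.card_pos_iff.mp (by omega)
  obtain ⟨a, ha⟩ := exists_ne (0 : ι → F)
  obtain ⟨⟨u, hu⟩, -⟩ := hn a ha
  obtain ⟨φ, v, hφv, hφa, hφu⟩ := exists_covec_pair h3 a u
  obtain ⟨c, hcf⟩ := hc (tv_mem_specialLinear a φ hφa)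
  have h1 := hcf u a
  have hc1 : (c : F) = 1 := by
    rw [tv_mulVec, tv_mulVec, hφu, hφa, zero_smul, add_zero, add_zero] at h1
    exact mul_right_cancel₀ hu (h1.symm.trans (one_mul _).symm)
  have h2 := hcf u v
  rw [tv_mulVec, tv_mulVec, hφu, hφv, zero_smul, add_zero, one_smul, hs.add_right, hc1, one_mul,
    add_eq_left] at h2
  exact hu h2

lemma quadSimilarityGroup_le (Q : (ι → F) → F) :
    quadSimilarityGroup Q ≤ similarityGroup (QuadraticMap.polar Q) := by
  rintro g ⟨c, hc⟩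
  refine ⟨c, fun u v => ?_⟩
  simp only [QuadraticMap.polar, ← Matrix.mulVec_add, hc]
  ring

lemma quadSimilarityGroup_proper (h3 : 3 ≤ Fintype.card ι) {Q : (ι → F) → F}
    (hQ : IsNondegenerateQuadraticForm Q) : ¬ specialLinear ι F ≤ quadSimilarityGroup Q :=
  fun h => similarityGroup_proper h3 (isSesq_of_bilinear hQ.polar_bilinear) hQ.nondegenerate
    (h.trans (quadSimilarityGroup_le Q))

lemma glReindex_mem_specialLinear {κ : Type} [Fintype κ] [DecidableEq κ] (e : κ ≃ ι) {g : GL κ F}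
    (hg : g ∈ specialLinear κ F) : glReindex e g ∈ specialLinear ι F := by
  rw [specialLinear, MonoidHom.mem_ker] at hg ⊢
  refine Units.ext ?_
  rw [← hg, Matrix.GeneralLinearGroup.val_det_apply, Matrix.GeneralLinearGroup.val_det_apply]
  exact Matrix.det_reindexAlgEquiv F F e _

lemma tensorProductSubgroup_proper {n₁ n₂ : ℕ} (e : ι ≃ Fin n₁ × Fin n₂) (P : GL ι F)
    (h1 : 2 ≤ n₁) (h2 : 2 ≤ n₂) : ¬ specialLinear ι F ≤ tensorProductSubgroup n₁ n₂ e P := by
  intro hc
  let i : Fin n₁ := ⟨0, by omega⟩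
  let j : Fin n₁ := ⟨1, by omega⟩
  let k : Fin n₂ := ⟨0, by omega⟩
  let l : Fin n₂ := ⟨1, by omega⟩
  have hij : i ≠ j := by simp [i, j]
  have hkl : k ≠ l := by simp [k, l]
  have h0 : (Pi.single (j, l) 1 : Fin n₁ × Fin n₂ → F) ⬝ᵥ Pi.single (i, k) 1 = 0 := by simp [hij]
  obtain ⟨g, hg, hgT⟩ := hc (conj_mem_specialLinear P
    (glReindex_mem_specialLinear e.symm (tv_mem_specialLinear _ _ h0)))
  obtain ⟨g', hg', rfl⟩ := hg
  have hgeq : g' = tv _ _ h0 := (glReindex e.symm).injective ((MulAut.conj P).injective hgT)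
  subst hgeq
  obtain ⟨A, B, hAB⟩ := hg'
  have hii := congrFun (congrFun hAB (i, k)) (i, k)
  have hjl := congrFun (congrFun hAB (i, k)) (j, l)
  have hjk := congrFun (congrFun hAB (i, k)) (j, k)
  simp [H95.tv_val, tvMat, Matrix.vecMulVec_apply, hij, hkl] at hii hjl hjk
  rcases hjk with h | h
  · rw [h, zero_mul] at hjl; exact one_ne_zero hjl
  · rw [h, mul_zero] at hii; exact one_ne_zero hii

lemma factorPerm_mul_perm {m t : ℕ} (σ τ : Equiv.Perm (Fin t)) :
    (factorPerm σ : Matrix (Fin t → Fin m) (Fin t → Fin m) F) * factorPerm τ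
      = factorPerm (σ * τ) := by
  rw [factorPerm_mul]
  ext x y
  simp only [factorPerm, Function.comp_assoc, Equiv.Perm.coe_mul, Matrix.of_apply]
  congr 1

lemma factorPerm_one {m t : ℕ} :
    (factorPerm 1 : Matrix (Fin t → Fin m) (Fin t → Fin m) F) = 1 := by
  ext x y
  simp [factorPerm, Matrix.one_apply, eq_comm]

/-- Elements of the standard tensor wreath group. -/
lemma exists_pure_perm [Finite F] {m t : ℕ} {g : GL (Fin t → Fin m) F}
    (hg : g ∈ tensorWreathStandard m t F) :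
    ∃ (X : Fin t → Matrix (Fin m) (Fin m) F) (σ : Equiv.Perm (Fin t)),
      (g : Matrix (Fin t → Fin m) (Fin t → Fin m) F) = pureMat X * factorPerm σ := by
  haveI : Finite (GL (Fin t → Fin m) F) := inferInstance
  rw [tensorWreathStandard, ← Subgroup.mem_toSubmonoid, Subgroup.closure_toSubmonoid_of_finite] at hg
  induction hg using Submonoid.closure_induction with
  | mem g hg =>
    rcases hg with ⟨gs, hgs⟩ | ⟨σ, hσ⟩
    · exact ⟨fun i => (gs i : Matrix (Fin m) (Fin m) F), 1, by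
        rw [factorPerm_one, mul_one]; exact Matrix.ext hgs⟩
    · exact ⟨fun _ => 1, σ, by rw [pureMat_one, one_mul]; exact Matrix.ext hσ⟩
  | one => exact ⟨fun _ => 1, 1, by rw [pureMat_one, factorPerm_one, mul_one, Units.val_one]⟩
  | mul a b _ _ ha hb =>
    obtain ⟨X, σ, hX⟩ := ha
    obtain ⟨Y, τ, hY⟩ := hb
    refine ⟨fun i => X i * Y (σ.symm i), σ * τ, ?_⟩
    rw [Units.val_mul, hX, hY, ← factorPerm_mul_perm, ← pureMat_mul]
    simp only [mul_assoc]
    rw [← mul_assoc (factorPerm σ), factorPerm_conj]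
    simp only [mul_assoc]

lemma tensorWreathSubgroup_proper [Finite F] {m t : ℕ} (e : ι ≃ (Fin t → Fin m)) (P : GL ι F)
    (hm : 3 ≤ m) (ht : 2 ≤ t) : ¬ specialLinear ι F ≤ tensorWreathSubgroup m t e P := by
  intro hc
  let a : Fin m := ⟨0, by omega⟩
  let b : Fin m := ⟨1, by omega⟩
  have hab : a ≠ b := by simp [a, b]
  let p : Fin t → Fin m := fun _ => a
  let q : Fin t → Fin m := fun _ => b
  have hpq : p ≠ q := fun h => hab (congrFun h ⟨0, by omega⟩)
  have h0 : (Pi.single q 1 : (Fin t → Fin m) → F) ⬝ᵥ Pi.single p 1 = 0 := by simp [hpq]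
  obtain ⟨g, hg, hgT⟩ := hc (conj_mem_specialLinear P
    (glReindex_mem_specialLinear e.symm (tv_mem_specialLinear _ _ h0)))
  obtain ⟨g', hg', rfl⟩ := hg
  have hgeq : g' = tv _ _ h0 := (glReindex e.symm).injective ((MulAut.conj P).injective hgT)
  subst hgeq
  obtain ⟨X, σ, hX⟩ := exists_pure_perm hg'
  have hentry : ∀ x y, tvMat (Pi.single p (1 : F)) (Pi.single q 1) x y
      = ∏ i, X i (x i) (y (σ.symm i)) := by
    intro x y
    rw [← H95.tv_val _ _ h0, hX]
    have hkey : ∀ k : Fin t → Fin m, (y = k ∘ σ) ↔ (k = y ∘ σ.symm) := by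
      intro k; constructor
      · rintro rfl; simp [Function.comp_assoc]
      · rintro rfl; simp [Function.comp_assoc]
    simp [Matrix.mul_apply, factorPerm, hkey, pureMat]
  have h1 : ∏ i, X i a a = 1 := by
    rw [← hentry p p]; simp [tvMat, Matrix.vecMulVec_apply, hpq]
  have h2 : ∏ i, X i a b = 1 := by
    rw [← hentry p q]; simp [tvMat, Matrix.vecMulVec_apply, hpq]
  -- the mixed entry vanishes
  let i₀ : Fin t := σ.symm ⟨0, by omega⟩
  let s : Fin t → Fin m := Function.update (fun _ => a) i₀ b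
  have hps : p ≠ s := fun h => hab (by simpa [p, s] using congrFun h i₀)
  have hqs : q ≠ s := fun h => by
    obtain ⟨i₁, hi₁⟩ : ∃ i₁ : Fin t, i₁ ≠ i₀ :=
      Fintype.exists_ne_of_one_lt_card (by simp; omega) i₀
    exact hab (by simpa [q, s, hi₁] using (congrFun h i₁).symm)
  have h3 : ∏ i, X i a (s (σ.symm i)) = 0 := by
    rw [← hentry p s]; simp [tvMat, Matrix.vecMulVec_apply, hps, Pi.single_eq_of_ne hqs.symm]
  obtain ⟨i, -, hi⟩ := Finset.prod_eq_zero_iff.mp h3
  by_cases h : σ.symm i = i₀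
  · rw [show s (σ.symm i) = b by simp [s, h]] at hi
    exact zero_ne_one ((Finset.prod_eq_zero (Finset.mem_univ i) hi).symm.trans h2)
  · rw [show s (σ.symm i) = a by simp [s, h]] at hi
    exact zero_ne_one ((Finset.prod_eq_zero (Finset.mem_univ i) hi).symm.trans h1)

end Cfsg.Agent.Aschbacher
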