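/-
Ω of an odd-characteristic quadratic space lies in no geometric member.
-/
import Cfsg.Agent.Aschbacher.Proper
import Cfsg.Agent.H96.OmegaBridge
import Cfsg.Agent.H96.DecompRefine
import Cfsg.Agent.H98.OrthMax.NondegWrap
import Cfsg.Agent.Orthogonal.Simple
import Cfsg.Agent.Orthogonal.StdForms

set_option autoImplicit false
set_option linter.unusedSectionVars false
set_option linter.style.haveILetI false
set_option maxHeartbeats 1000000

namespace Cfsg.Agent.Aschbacher

open scoped MatrixGroups Matrix commutatorElement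
open Cfsg.Geo Module
open QuadraticMap (polar polar_comm)
open Cfsg.Agent.Orthogonal

variable {ι : Type} [Fintype ι] [DecidableEq ι] {F : Type*} [Field F] [Finite F]
  {Q : QuadraticForm F (ι → F)}

lemma om_sie_mem_omega (hQ : Nondeg Q) (hn : 5 ≤ finrank F (ι → F)) {u w : ι → F}
    (hu : Q u = 0) (hw : polar Q u w = 0) : H96.om Q (sie u w hu hw) ∈ omegaGL ⇑Q :=
  (H96.mem_omegaGL_iff Q _).2 ⟨_, H98.OrthMax.sie_mem_commutator hQ hn hu hw, rfl⟩

lemma om_mem_omega_of_sieGroup (hQ : Nondeg Q) (hn : 5 ≤ finrank F (ι → F)) {g : O Q}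
    (hg : g ∈ sieGroup Q) : H96.om Q g ∈ omegaGL ⇑Q :=
  (H96.mem_omegaGL_iff Q _).2 ⟨g, sieGroup_eq_commutator hQ hn ▸ hg, rfl⟩

lemma exists_perp_singular (hQ : Nondeg Q) (hn : 4 ≤ finrank F (ι → F)) (h2 : (2 : F) ≠ 0)
    {a : ι → F} (ha : Q a ≠ 0) : ∃ u : ι → F, u ≠ 0 ∧ Q u = 0 ∧ polar Q u a = 0 := by
  have ha0 : a ≠ 0 := fun h => ha (by rw [h, QuadraticMap.map_zero])
  have hA : Nondeg (restr Q (Submodule.span F {a})) := fun x hx => by
    obtain ⟨c, hc⟩ := Submodule.mem_span_singleton.1 x.2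
    have h := hx ⟨a, Submodule.mem_span_singleton_self a⟩
    rw [polar_restr, ← hc, polar_smul_left', polar_self'] at h
    have hc0 : c = 0 := (mul_eq_zero.1 h).resolve_right (mul_ne_zero h2 ha)
    exact Subtype.ext (by rw [← hc, hc0, zero_smul]; rfl)
  have hr := hQ.finrank_perp_singleton ha0
  obtain ⟨u, hu0, hu⟩ := (hQ.nondeg_perp hA).exists_singular (by omega)
  rw [restr_apply] at hu
  refine ⟨u, fun h => hu0 (Subtype.ext h), hu, ?_⟩
  rw [polar_comm]
  exact (mem_perp_span_singleton Q).1 u.2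

/-- Ω is irreducible. -/
theorem omega_not_le_subspace (hQ : Nondeg Q) (hn : 5 ≤ finrank F (ι → F)) (h2 : (2 : F) ≠ 0)
    {W : Submodule F (ι → F)} (h0 : W ≠ ⊥) (h1 : W ≠ ⊤) :
    ¬ omegaGL ⇑Q ≤ subspaceStabilizer W := by
  intro hc
  have hinv : ∀ g ∈ sieGroup Q, ∀ v ∈ W, (g : (ι → F) ≃ₗ[F] (ι → F)) v ∈ W := fun g hg v hv =>
    ((H96.mem_subspaceStabilizer_om Q W g).1 (hc (om_mem_omega_of_sieGroup hQ hn hg)) v).1 hv
  obtain ⟨u, huW, hu0, hu⟩ : ∃ u ∈ W, u ≠ 0 ∧ Q u = 0 := by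
    obtain ⟨a, ha, ha0⟩ := (Submodule.ne_bot_iff W).1 h0
    by_cases hQa : Q a = 0
    · exact ⟨a, ha, ha0, hQa⟩
    obtain ⟨u, hu0, hu, hua⟩ := exists_perp_singular hQ (by omega) h2 hQa
    refine ⟨u, ?_, hu0, hu⟩
    have h := W.sub_mem (hinv _ (sie_mem hu hua) a ha) ha
    rw [sie_app, hua, mul_zero, sub_zero, zero_smul, sub_zero, add_sub_cancel_left, polar_self'] at h
    exact (Submodule.smul_mem_iff _ (mul_ne_zero h2 hQa)).1 h
  refine h1 (span_singular hQ (by omega) W fun x hx => ?_)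
  by_cases hx0 : x = 0
  · rw [hx0]; exact W.zero_mem
  obtain ⟨g, hg, s, hs, hgu⟩ := exists_sie_point hQ (by omega) hu0 hx0 hu hx
  have := hinv g hg u huW
  rw [hgu] at this
  exact (Submodule.smul_mem_iff _ hs).1 this

/-- Only scalars commute with Ω. -/
theorem scalar_of_commute_omega (hQ : Nondeg Q) (hn : 5 ≤ finrank F (ι → F)) {M : Matrix ι ι F}
    (hM : ∀ g ∈ omegaGL ⇑Q, M * (g : Matrix ι ι F) = (g : Matrix ι ι F) * M) :
    ∃ c : F, M = c • (1 : Matrix ι ι F) := by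
  have hcomm : ∀ g ∈ sieGroup Q, ∀ v, M *ᵥ ((g : (ι → F) ≃ₗ[F] (ι → F)) v) =
      (g : (ι → F) ≃ₗ[F] (ι → F)) (M *ᵥ v) := fun g hg v => by
    rw [← H96.om_mulVec, ← H96.om_mulVec, Matrix.mulVec_mulVec, Matrix.mulVec_mulVec,
      hM _ (om_mem_omega_of_sieGroup hQ hn hg)]
  have heig : ∀ u, u ≠ 0 → Q u = 0 → ∃ c : F, M *ᵥ u = c • u := by
    intro u hu0 hu
    set x := M *ᵥ u
    have hfix : ∀ w (hw : polar Q u w = 0),
        (polar Q w x - Q w * polar Q u x) • u - polar Q u x • w = 0 := fun w hw => by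
      have h := hcomm _ (sie_mem hu hw) u
      rw [sie_fix hu hw, sie_app] at h
      rw [add_sub_assoc] at h
      exact left_eq_add.1 h
    have hux : polar Q u x = 0 := by
      by_contra hne
      have hle : perp Q (Submodule.span F {u}) ≤ Submodule.span F {u} := fun w hw => by
        have h := hfix w ((mem_perp_span_singleton Q).1 hw)
        rw [sub_eq_zero] at h
        exact (Submodule.smul_mem_iff _ hne).1 (h ▸ Submodule.smul_mem _ _ (Submodule.mem_span_singleton_self u))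
      have := Submodule.finrank_mono hle
      rw [finrank_span_singleton hu0] at this
      have h1 := hQ.finrank_perp_singleton hu0
      omega
    have : x ∈ perp Q (perp Q (Submodule.span F {u})) := fun w hw => by
      have h := hfix w ((mem_perp_span_singleton Q).1 hw)
      rw [hux, mul_zero, sub_zero, zero_smul, sub_zero, smul_eq_zero] at h
      exact h.resolve_right hu0
    rw [hQ.perp_perp, Submodule.mem_span_singleton] at this
    obtain ⟨c, hc⟩ := this
    exact ⟨c, hc.symm⟩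
  obtain ⟨u₀, hu₀, hQu₀⟩ := hQ.exists_singular (by omega)
  obtain ⟨c, hc⟩ := heig u₀ hu₀ hQu₀
  have htop : LinearMap.ker (Matrix.toLin' (M - c • (1 : Matrix ι ι F))) = ⊤ := by
    refine span_singular hQ (by omega) _ fun x hx => ?_
    rw [LinearMap.mem_ker, Matrix.toLin'_apply, Matrix.sub_mulVec, Matrix.smul_mulVec,
      Matrix.one_mulVec, sub_eq_zero]
    by_cases hx0 : x = 0
    · rw [hx0, Matrix.mulVec_zero, smul_zero]
    obtain ⟨g, hg, s, hs, hgu⟩ := exists_sie_point hQ (by omega) hu₀ hx0 hQu₀ hx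
    have h := hcomm g hg u₀
    rw [hgu, hc, map_smul, hgu, Matrix.mulVec_smul, smul_comm] at h
    exact smul_right_injective _ hs h
  refine ⟨c, sub_eq_zero.1 ?_⟩
  exact Matrix.toLin'.map_eq_zero_iff.1 (LinearMap.ker_eq_top.1 htop)

/-- Ω is perfect. -/
lemma omega_perfect (hQ : Nondeg Q) (hn : 5 ≤ finrank F (ι → F)) :
    ⁅omegaGL ⇑Q, omegaGL ⇑Q⁆ = omegaGL ⇑Q := by
  have h : omegaGL ⇑Q = (commutator (O Q)).map (H96.om Q) := by
    ext g; rw [H96.mem_omegaGL_iff, Subgroup.mem_map]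
  rw [h, ← Subgroup.map_commutator, commutator_commutator hQ hn]

/-- Ω is not a subfield group. -/
theorem omega_not_le_subfield (hQ : Nondeg Q) (hn : 5 ≤ finrank F (ι → F)) {F₀ : Subfield F}
    (hF : F₀ ≠ ⊤) (P : GL ι F) : ¬ omegaGL ⇑Q ≤ subfieldSubgroup F₀ P := by
  intro hc
  set R := (Matrix.GeneralLinearGroup.map (n := ι) (F₀.subtype : F₀ →+* F)).range
  have hder : omegaGL ⇑Q ≤ R.map (MulAut.conj P).toMonoidHom := by
    rw [← omega_perfect hQ hn]
    refine (Subgroup.commutator_mono hc hc).trans ?_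
    rw [subfieldSubgroup, ← Subgroup.map_commutator]
    refine Subgroup.map_mono (Subgroup.commutator_le.2 fun a ha b hb => ?_)
    obtain ⟨a₁, ha₁, z, hz, rfl⟩ := Subgroup.mem_sup_of_normal_right.1 ha
    obtain ⟨b₁, hb₁, z', hz', rfl⟩ := Subgroup.mem_sup_of_normal_right.1 hb
    have hcen : ∀ z ∈ scalars ι F, ∀ x : GL ι F, z * x = x * z := fun z hz x => by
      obtain ⟨c, hcz⟩ := (mem_scalars_iff z).1 hz
      exact Units.ext (by simp [hcz])
    rw [show ⁅a₁ * z, b₁ * z'⁆ = ⁅a₁, b₁⁆ by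
      simp only [commutatorElement_def, mul_inv_rev]
      rw [show a₁ * z * (b₁ * z') = a₁ * b₁ * (z * z') by
          rw [mul_assoc, ← mul_assoc z b₁, hcen z hz b₁, mul_assoc b₁, ← mul_assoc a₁],
        show a₁ * b₁ * (z * z') * (z⁻¹ * a₁⁻¹) * (z'⁻¹ * b₁⁻¹)
          = a₁ * b₁ * (z * z' * z⁻¹) * a₁⁻¹ * z'⁻¹ * b₁⁻¹ by group,
        show z * z' * z⁻¹ = z' by rw [hcen z hz z', mul_inv_cancel_right],
        mul_assoc (a₁ * b₁) z', hcen z' hz' a₁⁻¹]
      group]
    exact (R.commutator_le_self) (Subgroup.commutator_mem_commutator ha₁ hb₁)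
  obtain ⟨u, hu0, hu⟩ := hQ.exists_singular (by omega)
  obtain ⟨f, hf, huf⟩ := hQ.exists_partner hu0 hu
  obtain ⟨w, hw0, hw⟩ := (hQ.nondeg_hyperbolic_perp hu hf huf).exists_singular
    (by have := hQ.finrank_hyperbolic_perp hu hf huf; omega)
  rw [restr_apply] at hw
  have huw := ((mem_perp_span_pair Q).1 w.2).1
  have hfw := ((mem_perp_span_pair Q).1 w.2).2
  have hua : ∀ a : F, polar Q u (a • (w : ι → F)) = 0 := fun a => by
    rw [polar_smul_right', huw, mul_zero]
  -- the matrices of a root group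
  let L : F → Matrix ι ι F := fun a =>
    ((P⁻¹ * H96.om Q (sie u (a • (w : ι → F)) hu (hua a)) * P : GL ι F) : Matrix ι ι F)
  have hL : ∀ a i j, L a i j ∈ F₀ := fun a i j => by
    obtain ⟨x, ⟨y, rfl⟩, hxy⟩ := hder (om_sie_mem_omega hQ hn hu (hua a))
    simp only [L, ← hxy]
    simp [mul_assoc]
  have hlin : ∀ a, L a - 1 = a • (L 1 - 1) := fun a => by
    have key : ∀ a, (H96.om Q (sie u (a • (w : ι → F)) hu (hua a)) : Matrix ι ι F) - 1
        = a • ((H96.om Q (sie u ((1 : F) • (w : ι → F)) hu (hua 1)) : Matrix ι ι F) - 1) := fun a => by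
      refine Matrix.ext_iff_mulVec.2 fun x => ?_
      simp only [Matrix.sub_mulVec, Matrix.smul_mulVec, Matrix.one_mulVec, H96.om_mulVec, sie_app,
        polar_smul_left', qmap_smul, hw, mul_zero, zero_mul, sub_zero, one_smul]
      module
    simp only [L, Units.val_mul]
    calc _ = ((P⁻¹ : GL ι F) : Matrix ι ι F) *
          ((H96.om Q (sie u (a • (w : ι → F)) hu (hua a)) : Matrix ι ι F) - 1) * (P : Matrix ι ι F) := by
          rw [mul_sub, sub_mul, mul_one, Units.inv_mul]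
      _ = _ := by
          rw [key, mul_smul_comm, smul_mul_assoc, mul_sub, sub_mul, mul_one, Units.inv_mul]
  obtain ⟨i, j, hij⟩ : ∃ i j, (L 1 - 1) i j ≠ 0 := by
    by_contra h
    push Not at h
    have h1 : L 1 = 1 := sub_eq_zero.1 (Matrix.ext h)
    have h2 : H96.om Q (sie u ((1 : F) • (w : ι → F)) hu (hua 1)) = 1 := by
      have : (P⁻¹ * H96.om Q (sie u ((1 : F) • (w : ι → F)) hu (hua 1)) * P : GL ι F) = 1 :=
        Units.ext (by rw [Units.val_one]; exact h1)
      have := congrArg (fun g => P * g * P⁻¹) this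
      simpa [mul_assoc] using this
    have h3 := congrArg (fun g : GL ι F => (g : Matrix ι ι F) *ᵥ f) h2
    simp only [H96.om_mulVec, Units.val_one, Matrix.one_mulVec, sie_app, one_smul, huf,
      polar_comm (⇑Q) (w : ι → F) f, hfw, hw, zero_mul, sub_zero, zero_smul, add_zero] at h3
    exact hw0 (Subtype.ext (by simpa using h3))
  refine hF (eq_top_iff.2 fun a _ => ?_)
  have hmem : ∀ b, (L b - 1) i j ∈ F₀ := fun b => by
    rw [Matrix.sub_apply]
    refine F₀.sub_mem (hL b i j) ?_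
    rw [Matrix.one_apply]
    split_ifs
    exacts [F₀.one_mem, F₀.zero_mem]
  have := F₀.mul_mem (hmem a) (F₀.inv_mem (hmem 1))
  rwa [hlin a, Matrix.smul_apply, smul_eq_mul, mul_assoc, mul_inv_cancel₀ hij, mul_one] at this

/-- Ω normalises no extension field. -/
theorem omega_not_le_fieldNormalizer (hQ : Nondeg Q) (hn : 5 ≤ finrank F (ι → F)) {r : ℕ}
    {K : Subalgebra F (Matrix ι ι F)} (hK : IsFieldSubalgebra r K) (hr : 2 ≤ r) :
    ¬ omegaGL ⇑Q ≤ subalgebraNormalizer K := by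
  intro hc
  haveI : Nonempty ι := Fintype.card_pos_iff.1 (by rw [finrank_fintype_fun_eq_card] at hn; omega)
  have hfield : IsField K :=
    { exists_pair_ne := ⟨0, 1, fun h => zero_ne_one
        (congrArg Subtype.val h : (0 : Matrix ι ι F) = 1)⟩
      mul_comm := fun a b => Subtype.ext (hK.comm _ a.2 _ b.2)
      mul_inv_cancel := fun {a} ha => by
        obtain ⟨y, hy, h⟩ := hK.inv a.1 a.2 (fun h => ha (Subtype.ext h))
        exact ⟨⟨y, hy⟩, Subtype.ext h⟩ }
  letI : Field K := hfield.toField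
  haveI : Finite (Matrix ι ι F) := inferInstanceAs (Finite (ι → ι → F))
  haveI : Finite K := Subtype.finite
  haveI : FiniteDimensional F K := Module.finite_of_finrank_pos (by rw [hK.finrank_eq]; omega)
  have hcj : ∀ g ∈ omegaGL ⇑Q, ∀ x ∈ K, cj g x ∈ K := fun g hg x hx =>
    cj_mem_of_mem_normalizer (hc hg) hx
  -- two ring endomorphisms of a finite field commute
  obtain ⟨θ, hθ⟩ := IsCyclic.exists_generator (α := Kˣ)
  have hcom : ∀ g ∈ omegaGL ⇑Q, ∀ h ∈ omegaGL ⇑Q, ∀ x ∈ K, cj g (cj h x) = cj h (cj g x) := by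
    intro g hg h hh x hx
    have hpow : ∀ g ∈ omegaGL ⇑Q, ∃ n : ℤ, cj g ((θ : K) : Matrix ι ι F) =
        (((θ ^ n : Kˣ) : K) : Matrix ι ι F) := fun g hg => by
      have hne : (⟨_, hcj g hg _ (θ : K).2⟩ : K) ≠ 0 := fun h0 => θ.ne_zero (Subtype.ext (by
        have h0' : cj g ((θ : K) : Matrix ι ι F) = 0 := congrArg Subtype.val h0
        exact (cj g).map_eq_zero_iff.1 h0'))
      obtain ⟨n, hn⟩ := Subgroup.mem_zpowers_iff.1 (hθ (Units.mk0 _ hne))
      exact ⟨n, by rw [hn]; rfl⟩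
    let φ : ∀ g ∈ omegaGL ⇑Q, K →* K := fun g hg =>
      { toFun := fun y => ⟨cj g y, hcj g hg _ y.2⟩
        map_one' := Subtype.ext (map_one (cj g))
        map_mul' := fun y z => Subtype.ext (map_mul (cj g) _ _) }
    obtain ⟨a, ha⟩ := hpow g hg
    obtain ⟨b, hb⟩ := hpow h hh
    have hga : Units.map (φ g hg) θ = θ ^ a := Units.ext (Subtype.ext ha)
    have hhb : Units.map (φ h hh) θ = θ ^ b := Units.ext (Subtype.ext hb)
    by_cases hx0 : x = 0
    · simp [hx0]
    obtain ⟨k, hk⟩ := Subgroup.mem_zpowers_iff.1 (hθ (Units.mk0 (⟨x, hx⟩ : K)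
      fun h => hx0 (congrArg Subtype.val h)))
    have h1 : Units.map (φ g hg) (Units.map (φ h hh) (θ ^ k))
        = Units.map (φ h hh) (Units.map (φ g hg) (θ ^ k)) := by
      simp only [map_zpow, hga, hhb, ← zpow_mul]
      congr 1; ring
    rw [hk] at h1
    exact congrArg (fun u : Kˣ => ((u : K) : Matrix ι ι F)) h1
  obtain ⟨x, hx, hxs⟩ : ∃ x ∈ K, ¬ ∃ c : F, x = c • (1 : Matrix ι ι F) := by
    by_contra h
    push Not at h
    have hle : Subalgebra.toSubmodule K ≤ F ∙ (1 : Matrix ι ι F) := fun X hX => by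
      obtain ⟨c, rfl⟩ := h X hX
      exact Submodule.smul_mem _ _ (Submodule.mem_span_singleton_self _)
    have h1 := Submodule.finrank_mono hle
    rw [finrank_span_singleton (one_ne_zero (α := Matrix ι ι F)),
      Subalgebra.finrank_toSubmodule, hK.finrank_eq] at h1
    omega
  refine hxs (scalar_of_commute_omega hQ hn fun g hg => ?_)
  suffices h : cj g x = x from ((cj_eq_self_iff g x).1 h).symm
  rw [← omega_perfect hQ hn, Subgroup.commutator_def] at hg
  induction hg using Subgroup.closure_induction with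
  | mem g hg =>
    obtain ⟨a, ha, b, hb, rfl⟩ := hg
    rw [commutatorElement_def, cj_mul, cj_mul, cj_mul,
      hcom b hb a⁻¹ (inv_mem ha) _ (hcj _ (inv_mem hb) x hx), ← cj_mul, ← cj_mul, ← cj_mul]
    simp [cj_apply]
  | one => simp [cj_apply]
  | mul a b _ _ ha hb => rw [cj_mul, hb, ha]
  | inv a _ ha =>
    nth_rw 1 [← ha]
    rw [← cj_mul]
    simp [cj_apply]

/-- Ω does not permute the members of an orthogonal decomposition. -/
theorem omega_not_le_decomp (hQ : Nondeg Q) (hn : 5 ≤ finrank F (ι → F)) (h2 : (2 : F) ≠ 0)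
    {t k : ℕ} {D : Fin t → Submodule F (ι → F)} (hD : IsOrthogonalMDecomposition (⇑Q) k D)
    (hk : (k = 1 ∧ 4 ≤ t) ∨ 3 ≤ k) : ¬ omegaGL ⇑Q ≤ decompositionStabilizer D := by
  intro hc
  have ht := hD.decomp.decomp.two_le
  have hrd : ∀ i, Nondeg (restr Q (D i)) := fun i =>
    H98.OrthMax.nondeg_restr_of_nondegenerateOn (hD.decomp.nondegenerate i)
  obtain ⟨i₀⟩ : Nonempty (Fin t) := ⟨⟨0, by omega⟩⟩
  obtain ⟨x₀, hx₀, hc0⟩ : ∃ x ∈ D i₀, Q x ≠ 0 := by
    haveI : Nontrivial (D i₀) := Module.finrank_pos_iff.1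
      (by rw [hD.decomp.decomp.finrank_eq]; exact hD.decomp.decomp.pos : 0 < finrank F (D i₀))
    obtain ⟨v, hv⟩ := exists_ne (0 : D i₀)
    obtain ⟨x, hx⟩ := exists_anisotropic (hrd i₀) hv
    exact ⟨x, x.2, hx⟩
  set c := Q x₀
  have hval : ∀ i, ∃ x ∈ D i, Q x = c := fun i => by
    obtain ⟨e, he⟩ := hD.isometric i₀ i
    exact ⟨e ⟨x₀, hx₀⟩, (e _).2, he _⟩
  choose x hxD hxc using hval
  have horth : ∀ i j, i ≠ j → ∀ u ∈ D i, ∀ v ∈ D j, polar Q u v = 0 := fun i j hij =>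
    hD.decomp.orthogonal i j hij
  obtain ⟨b, p, y, hp, hpy, hpc, hy⟩ : ∃ (b : Fin t) (p y : ι → F), p ∈ D b ∧ Q p = Q y ∧
      Q p ≠ 0 ∧ ∀ i, y ∉ D i := by
    rcases hk with ⟨-, ht4⟩ | hk3
    · let j : Fin 4 → Fin t := fun i => ⟨i, by omega⟩
      have hj : ∀ {i i' : Fin 4}, i ≠ i' → polar Q (x (j i)) (x (j i')) = 0 := fun hne =>
        horth _ _ (fun h => hne (Fin.ext (by simpa [j] using congrArg Fin.val h))) _ (hxD _) _ (hxD _)
      refine ⟨j 0, (2 : F) • x (j 0), x (j 0) + x (j 1) + x (j 2) + x (j 3),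
        Submodule.smul_mem _ _ (hxD _), ?_, ?_, fun i => ?_⟩
      · simp only [map_add_polar, qmap_smul, hxc, QuadraticMap.polar_add_left,
          hj (i := 0) (i' := 1) (by decide), hj (i := 0) (i' := 2) (by decide),
          hj (i := 0) (i' := 3) (by decide), hj (i := 1) (i' := 2) (by decide),
          hj (i := 1) (i' := 3) (by decide), hj (i := 2) (i' := 3) (by decide)]
        ring
      · rw [qmap_smul, hxc]; exact mul_ne_zero (pow_ne_zero 2 h2) hc0
      · refine H96.not_mem_pieces horth (a := j 0) (b := j 1) (by simp [j]) (hxD _) (hxD _) ?_ ?_ i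
        · simp only [QuadraticMap.polar_add_left, polar_self', hxc, hj (i := 1) (i' := 0) (by decide),
            hj (i := 2) (i' := 0) (by decide), hj (i := 3) (i' := 0) (by decide), add_zero]
          exact mul_ne_zero h2 hc0
        · simp only [QuadraticMap.polar_add_left, polar_self', hxc, hj (i := 0) (i' := 1) (by decide),
            hj (i := 2) (i' := 1) (by decide), hj (i := 3) (i' := 1) (by decide), add_zero, zero_add]
          exact mul_ne_zero h2 hc0
    · let a : Fin t := ⟨0, by omega⟩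
      let b : Fin t := ⟨1, by omega⟩
      have hab : a ≠ b := by simp [a, b]
      obtain ⟨z, hz0, hz⟩ := (hrd a).exists_singular (by rw [hD.decomp.decomp.finrank_eq]; omega)
      rw [restr_apply] at hz
      obtain ⟨w, hw⟩ := (hrd a).exists_polar_ne hz0
      rw [polar_restr] at hw
      refine ⟨b, x b, (z : ι → F) + x b, hxD _, ?_, by rw [hxc]; exact hc0, fun i => ?_⟩
      · rw [map_add_polar, hz, horth a b hab _ z.2 _ (hxD b), zero_add, add_zero]
      · refine H96.not_mem_pieces horth hab w.2 (hxD b) ?_ ?_ i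
        · rw [QuadraticMap.polar_add_left, horth b a hab.symm _ (hxD b) _ w.2, add_zero]
          exact hw
        · rw [QuadraticMap.polar_add_left, horth a b hab _ z.2 _ (hxD b), zero_add, polar_self', hxc]
          exact mul_ne_zero h2 hc0
  obtain ⟨g, hg, hgp⟩ := H96.exists_omega_map hQ hn hpy hpc
  obtain ⟨σ, hσ⟩ := hc ((H96.mem_omegaGL_iff Q _).2 ⟨g, hg, rfl⟩)
  refine hy (σ b) ?_
  rw [← hσ b, H96.om_toLin']
  exact ⟨p, hp, hgp⟩

/-- In dimension nine Ω is larger than a tensor wreath group. -/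
theorem omega_not_le_wreath_nine {G : Type*} [Field G] [Fintype G] (hodd : Odd (Fintype.card G))
    (hcard : 2 * Nat.card (Cfsg.POmega G (Cfsg.quadFormOdd 4 G)) = Fintype.card G ^ (4 ^ 2) *
      ∏ i ∈ Finset.range 4, (Fintype.card G ^ (2 * (i + 1)) - 1))
    (e : (Unit ⊕ (Fin 4 ⊕ Fin 4)) ≃ (Fin 2 → Fin 3)) (P : GL (Unit ⊕ (Fin 4 ⊕ Fin 4)) G) :
    ¬ omegaGL (Cfsg.quadFormOdd 4 G) ≤ tensorWreathSubgroup 3 2 e P := by
  intro hc
  set q := Fintype.card G with hq
  have h1 : Nat.card (Cfsg.POmega G (Cfsg.quadFormOdd 4 G))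
      ≤ Nat.card (omegaGL (Cfsg.quadFormOdd 4 G)) := by
    rw [omegaGL, Nat.card_congr ((Cfsg.Omega G (Cfsg.quadFormOdd 4 G)).equivMapOfInjective _
      (Subgroup.subtype_injective _)).toEquiv.symm]
    exact Nat.card_le_card_of_surjective _ (QuotientGroup.mk'_surjective _)
  have h2 : Nat.card (tensorWreathSubgroup 3 2 e P) ≤ (q ^ 9) ^ 2 * 2 := by
    have hs : Nat.card (tensorWreathSubgroup 3 2 e P) = Nat.card (tensorWreathStandard 3 2 G) := by
      rw [tensorWreathSubgroup, Subgroup.map_map,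
        Nat.card_congr ((tensorWreathStandard 3 2 G).equivMapOfInjective _ ?_).toEquiv.symm]
      exact (MulAut.conj P).injective.comp (glReindex e.symm).injective
    rw [hs]
    choose X σ hX using fun g : tensorWreathStandard 3 2 G => exists_pure_perm g.2
    have hinj : Function.Injective (fun g => (X g, σ g)) := fun g g' h => by
      simp only [Prod.mk.injEq] at h
      exact Subtype.ext (Units.ext (by rw [hX g, hX g', h.1, h.2]))
    refine (Nat.card_le_card_of_injective _ hinj).trans_eq ?_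
    rw [Nat.card_prod, Nat.card_fun, Nat.card_perm, Nat.card_eq_fintype_card (α := Fin 2),
      Fintype.card_fin, show Nat.card (Matrix (Fin 3) (Fin 3) G) = q ^ 9 by
        rw [Matrix, Nat.card_fun, Nat.card_fun, Nat.card_eq_fintype_card, Nat.card_eq_fintype_card,
          Fintype.card_fin, ← hq, ← pow_mul]]
    rfl
  have h3 := h1.trans ((Subgroup.card_le_of_le hc).trans h2)
  have hq3 : 3 ≤ q := by
    have := Fintype.one_lt_card (α := G)
    obtain ⟨j, hj⟩ := hodd
    omega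
  have e2 : 8 ≤ q ^ (2 * (0 + 1)) - 1 := by
    have : 3 ^ 2 ≤ q ^ 2 := Nat.pow_le_pow_left hq3 2
    simp only [zero_add, mul_one]; omega
  have e4 : q ^ 2 ≤ q ^ (2 * (1 + 1)) - 1 := by
    have h9 : 9 ≤ q ^ 2 := by nlinarith
    rw [show 2 * (1 + 1) = 2 + 2 from rfl, pow_add]
    have : q ^ 2 * 2 ≤ q ^ 2 * q ^ 2 := Nat.mul_le_mul_left _ (by omega)
    omega
  have e6 : 1 ≤ q ^ (2 * (2 + 1)) - 1 := by
    have : 3 ^ 6 ≤ q ^ 6 := Nat.pow_le_pow_left hq3 6
    norm_num at this ⊢; omega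
  have e8 : 1 ≤ q ^ (2 * (3 + 1)) - 1 := by
    have : 3 ^ 8 ≤ q ^ 8 := Nat.pow_le_pow_left hq3 8
    norm_num at this ⊢; omega
  rw [Finset.prod_range_succ, Finset.prod_range_succ, Finset.prod_range_succ,
    Finset.prod_range_one] at hcard
  have hlow : q ^ 16 * (8 * q ^ 2 * 1 * 1) ≤ q ^ (4 ^ 2) * ((q ^ (2 * (0 + 1)) - 1) *
      (q ^ (2 * (1 + 1)) - 1) * (q ^ (2 * (2 + 1)) - 1) * (q ^ (2 * (3 + 1)) - 1)) :=
    Nat.mul_le_mul_left _ (Nat.mul_le_mul (Nat.mul_le_mul (Nat.mul_le_mul e2 e4) e6) e8)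
  have h18 : 0 < q ^ 18 := pow_pos (by omega) 18
  have : q ^ 16 * (8 * q ^ 2 * 1 * 1) = 8 * q ^ 18 := by ring
  have : (q ^ 9) ^ 2 * 2 = 2 * q ^ 18 := by ring
  omega

end Cfsg.Agent.Aschbacher
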