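/-
Congruence of Gram matrices over finite fields: hermitian matrices, symmetric matrices of odd size,
and the finite groups of small similitude groups that are solvable.
-/
import Cfsg.Agent.Aschbacher.Forms
import Cfsg.Agent.H58.HermCongr
import Cfsg.Agent.Unitary.Field
import Cfsg.Agent.Orthogonal.StdForms

set_option autoImplicit false
set_option linter.unusedSectionVars false

namespace Cfsg.Agent.Aschbacher

open scoped MatrixGroups Matrix
open Cfsg.Geo

variable {F : Type*} [Field F]

/-- A hermitian matrix up to a scalar is similar to the identity. -/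
theorem exists_gtr_eq_one [Fintype F] {q n : ℕ} (hF : Fintype.card F = q ^ 2)
    {G : Matrix (Fin n) (Fin n) F} (hu : IsUnit G) {c : F}
    (hG : Gᵀ = c • G.map (Unitary.frob hF)) (hc : c * Unitary.frob hF c = 1) :
    ∃ (B : GL (Fin n) F) (ν : F), ν ≠ 0 ∧
      gtr (Unitary.frob hF) G (B : Matrix (Fin n) (Fin n) F) = ν • 1 := by
  classical
  set σ := Unitary.frob hF with hσ
  have hinv : ∀ x, σ (σ x) = x := fun x => Unitary.pow_q_q hF x
  have hne : ∃ x, σ x ≠ x := by
    by_contra hall
    push Not at hall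
    have h1 := Finset.card_le_card (s := (Finset.univ : Finset F))
      (t := (Polynomial.X ^ q - Polynomial.X : Polynomial F).roots.toFinset) fun x _ => by
        rw [Multiset.mem_toFinset, Polynomial.mem_roots
          (FiniteField.X_pow_card_sub_X_ne_zero F (Unitary.two_le_q hF))]
        have := hall x
        simp only [hσ, Unitary.frob_apply] at this
        simp [Polynomial.IsRoot, this]
    have h2 := h1.trans ((Multiset.toFinset_card_le _).trans ((Polynomial.card_roots' _).trans
      (FiniteField.X_pow_card_sub_X_natDegree_eq F (Unitary.two_le_q hF)).le))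
    rw [Finset.card_univ, hF] at h2
    have := Unitary.two_le_q hF
    nlinarith
  obtain ⟨δ, hδ, hδc⟩ : ∃ δ : F, δ ≠ 0 ∧ σ δ = c * δ := by
    by_contra hall
    push Not at hall
    have h1 : ∀ y, y + σ c * σ y = 0 := fun y => by
      by_contra h9
      refine hall _ h9 ?_
      rw [map_add, map_mul, hinv, hinv]
      linear_combination (-(σ y)) * hc
    obtain ⟨y, hy⟩ := hne
    have h2 := h1 1
    rw [map_one, mul_one] at h2
    have h3 := h1 y
    rw [show σ c = -1 from eq_neg_of_add_eq_zero_right h2, neg_one_mul, ← sub_eq_add_neg,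
      sub_eq_zero] at h3
    exact hy h3.symm
  have hu' : IsUnit (δ • G) := by
    have := hu.smul (Units.mk0 δ hδ)
    simpa [Units.smul_def] using this
  have hH : (((hu'.unit : GL (Fin n) F) : Matrix (Fin n) (Fin n) F).map σ)ᵀ = hu'.unit := by
    show ((δ • G).map σ)ᵀ = δ • G
    ext i j
    have e1 : G i j = c * σ (G j i) := congrFun (congrFun hG j) i
    simp only [Matrix.transpose_apply, Matrix.map_apply, Matrix.smul_apply, smul_eq_mul, map_mul,
      hδc]
    rw [e1]; ring
  obtain ⟨B, hB⟩ := H58.HermCongr.exists_congr_one hinv hne (fun a ha => by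
    obtain ⟨x, hx⟩ := Unitary.exists_norm_eq hF (show a ^ q = a from ha)
    exact ⟨x, hx⟩) hu'.unit hH
  have hB' : δ • G = (B : Matrix (Fin n) (Fin n) F) * ((B : Matrix (Fin n) (Fin n) F).map σ)ᵀ := hB
  let C : GL (Fin n) F := ⟨((B⁻¹ : GL (Fin n) F) : Matrix (Fin n) (Fin n) F)ᵀ,
    (B : Matrix (Fin n) (Fin n) F)ᵀ,
    by rw [← Matrix.transpose_mul, ← Units.val_mul, mul_inv_cancel, Units.val_one, Matrix.transpose_one],
    by rw [← Matrix.transpose_mul, ← Units.val_mul, inv_mul_cancel, Units.val_one, Matrix.transpose_one]⟩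
  refine ⟨C, δ⁻¹, inv_ne_zero hδ, ?_⟩
  have h1 : gtr σ (δ • G) (C : Matrix (Fin n) (Fin n) F) = 1 := by
    rw [hB', gtr, show (C : Matrix (Fin n) (Fin n) F)ᵀ = ((B⁻¹ : GL (Fin n) F) : Matrix (Fin n) (Fin n) F)
      from Matrix.transpose_transpose _, ← mul_assoc, ← Units.val_mul, inv_mul_cancel, Units.val_one,
      one_mul, show (C : Matrix (Fin n) (Fin n) F).map σ
        = (((B⁻¹ : GL (Fin n) F) : Matrix (Fin n) (Fin n) F).map σ)ᵀ from (Matrix.transpose_map ..),
      ← Matrix.transpose_mul, ← Matrix.map_mul, ← Units.val_mul, inv_mul_cancel, Units.val_one,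
      Matrix.map_one σ (map_zero σ) (map_one σ), Matrix.transpose_one]
  rw [gtr_smul] at h1
  rw [← h1, smul_smul, inv_mul_cancel₀ hδ, one_smul]

/-- The quadratic form of a matrix. -/
def matQuad {n : ℕ} (G : Matrix (Fin n) (Fin n) F) : QuadraticForm F (Fin n → F) :=
  G.toQuadraticForm'

lemma matQuad_apply {n : ℕ} (G : Matrix (Fin n) (Fin n) F) (v : Fin n → F) :
    matQuad G v = v ⬝ᵥ (G *ᵥ v) := by
  simp [matQuad, Matrix.toQuadraticForm', Matrix.toLinearMap₂'_apply']

lemma polar_matQuad {n : ℕ} {G : Matrix (Fin n) (Fin n) F} (hs : Gᵀ = G) (u v : Fin n → F) :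
    QuadraticMap.polar (matQuad G) u v = 2 * (u ⬝ᵥ (G *ᵥ v)) := by
  have e : v ⬝ᵥ (G *ᵥ u) = u ⬝ᵥ (G *ᵥ v) := by
    conv_lhs => rw [← hs, Matrix.mulVec_transpose, ← dotProduct_comm]
    rw [Matrix.dotProduct_mulVec]
  simp only [QuadraticMap.polar, matQuad_apply, Matrix.mulVec_add, add_dotProduct, dotProduct_add, e]
  ring

/-- Non-degenerate symmetric matrices of the same odd size are similar. -/
theorem symmetric_similar [Fintype F] (h2 : (2 : F) ≠ 0) {n : ℕ} (hodd : Odd n)
    {G G' : Matrix (Fin n) (Fin n) F} (hu : IsUnit G) (hs : Gᵀ = G) (hu' : IsUnit G')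
    (hs' : G'ᵀ = G') :
    ∃ (B : GL (Fin n) F) (ν : F), ν ≠ 0 ∧
      gtr (RingEquiv.refl F) G (B : Matrix (Fin n) (Fin n) F) = ν • G' := by
  classical
  have hnd : ∀ {G : Matrix (Fin n) (Fin n) F}, IsUnit G → Gᵀ = G →
      Orthogonal.Nondeg (matQuad G) := by
    intro G hu hs x hx
    refine Matrix.mulVec_injective_iff_isUnit.mpr hu (?_ : G *ᵥ x = G *ᵥ 0)
    rw [Matrix.mulVec_zero]
    funext i
    have h1 := hx (Pi.single i 1)
    rw [polar_matQuad hs, mul_eq_zero, or_iff_right h2] at h1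
    have e : x ⬝ᵥ (G *ᵥ Pi.single i 1) = (G *ᵥ x) i := by
      rw [Matrix.dotProduct_mulVec, ← hs, Matrix.vecMul_transpose, dotProduct_single, mul_one, hs]
    rw [e] at h1
    exact h1
  obtain ⟨m, hm⟩ := hodd
  obtain ⟨-, α, E, hα, hE⟩ := (hnd hu hs).classify_odd (m := m) (by rw [Module.finrank_pi]; simpa using hm)
  obtain ⟨-, α', E', hα', hE'⟩ := (hnd hu' hs').classify_odd (m := m) (by rw [Module.finrank_pi]; simpa using hm)
  let L : (Fin n → F) ≃ₗ[F] (Fin n → F) := E'.symm.trans E
  let M : Matrix (Fin n) (Fin n) F := LinearMap.toMatrix' L.toLinearMap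
  have hMv : ∀ v, M *ᵥ v = L v := fun v => by
    rw [← Matrix.toLin'_apply]
    exact LinearMap.congr_fun (Matrix.toLin'_toMatrix' _) v
  let B : GL (Fin n) F := ⟨M, LinearMap.toMatrix' L.symm.toLinearMap,
    by rw [← LinearMap.toMatrix'_comp]; simp [LinearMap.toMatrix'_id],
    by rw [← LinearMap.toMatrix'_comp]; simp [LinearMap.toMatrix'_id]⟩
  refine ⟨B, α / α', div_ne_zero hα hα', ?_⟩
  have hq : ∀ v, matQuad G (M *ᵥ v) = (α / α') * matQuad G' v := by
    intro v
    obtain ⟨w, rfl⟩ := E'.surjective v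
    rw [hMv, show L (E' w) = E w by simp [L], hE, hE']
    field_simp
  have hmap : (M.map (RingEquiv.refl F)) = M := Matrix.map_id _
  have hp : ∀ u v, (M *ᵥ u) ⬝ᵥ (G *ᵥ (M *ᵥ v)) = (α / α') * (u ⬝ᵥ (G' *ᵥ v)) := by
    intro u v
    refine mul_left_cancel₀ h2 ?_
    rw [← polar_matQuad hs, mul_left_comm, ← polar_matQuad hs']
    simp only [QuadraticMap.polar, ← Matrix.mulVec_add, hq]
    ring
  show gtr _ G M = _
  rw [gtr, hmap]
  ext i j
  have h3 := hp (Pi.single i 1) (Pi.single j 1)
  rw [Matrix.mulVec_mulVec, Matrix.dotProduct_mulVec, ← Matrix.vecMul_transpose,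
    Matrix.vecMul_vecMul, ← Matrix.dotProduct_mulVec] at h3
  rw [Matrix.smul_apply, smul_eq_mul]
  simpa [Matrix.mulVec_single_one, mul_assoc] using h3

/-- A perfect subgroup of a solvable finite group of two-prime order is trivial. -/
theorem perfect_hom_trivial {K M : Type*} [Group K] [Group M]
    (hK : commutator K = ⊤) {S : Subgroup M} (hsol : Group.IsSolvable S)
    (φ : K →* M) (hφ : φ.range ≤ S) (x : K) : φ x = 1 := by
  let ψ : K →* S := φ.codRestrict S fun y => hφ ⟨y, rfl⟩
  obtain ⟨n, hn⟩ := (inferInstance : Group.IsSolvable S).solvable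
  have key : ∀ j, ψ.range ≤ derivedSeries S j := by
    intro j
    induction j with
    | zero => simp
    | succ j ih =>
      rw [derivedSeries_succ]
      refine le_trans ?_ (Subgroup.commutator_mono ih ih)
      rw [MonoidHom.range_eq_map, ← Subgroup.map_commutator, ← commutator_def, hK]
  have h1 := key n
  rw [hn] at h1
  have : ψ x = 1 := Subgroup.mem_bot.mp (h1 ⟨x, rfl⟩)
  exact congrArg Subtype.val this

end Cfsg.Agent.Aschbacher
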