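/-
Field subalgebras of the matrix algebra: the degree divides the dimension, and the subfields of
prime degree are normalised by whatever normalises the field.
-/
import Cfsg.Agent.Aschbacher.Basic

set_option autoImplicit false

namespace Cfsg.Agent.Aschbacher

open scoped MatrixGroups Matrix
open Cfsg.Geo

variable {ι : Type} [Fintype ι] [DecidableEq ι] {F : Type*} [Field F]

lemma isField_of_isFieldSubalgebra [Nonempty ι] {d : ℕ} {K : Subalgebra F (Matrix ι ι F)}
    (hK : IsFieldSubalgebra d K) : IsField K where
  exists_pair_ne := ⟨0, 1, zero_ne_one⟩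
  mul_comm x y := Subtype.ext (hK.comm x x.2 y y.2)
  mul_inv_cancel := by
    intro x hx
    obtain ⟨y, hy, hxy⟩ := hK.inv x x.2 fun h => hx (Subtype.ext h)
    exact ⟨⟨y, hy⟩, Subtype.ext hxy⟩

/-- The degree of a field subalgebra divides the dimension. -/
theorem isFieldSubalgebra_dvd [Nonempty ι] {d : ℕ} {K : Subalgebra F (Matrix ι ι F)}
    (hK : IsFieldSubalgebra d K) : d ∣ Fintype.card ι := by
  letI := (isField_of_isFieldSubalgebra hK).toField
  let φ : K →+* Module.End F (ι → F) :=
    ((Matrix.toLinAlgEquiv' : Matrix ι ι F ≃ₐ[F] _).toAlgHom.comp K.val).toRingHom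
  letI : Module K (ι → F) := Module.compHom (ι → F) φ
  haveI hst : IsScalarTower F K (ι → F) := ⟨fun c k v => by
    show φ (c • k) v = c • φ k v
    simp [φ]⟩
  refine ⟨Module.finrank K (ι → F), ?_⟩
  rw [← hK.finrank_eq]
  exact ((@Module.finrank_mul_finrank F K (ι → F) _ _ _ _ _ _ hst _ _).trans (Module.finrank_pi F)).symm

/-- The elements of `K` fixed by the `r`-th power of the Frobenius of `F`. -/
def fieldPart (q r : ℕ) (K : Subalgebra F (Matrix ι ι F)) : Set (Matrix ι ι F) :=
  {x | x ∈ K ∧ x ^ (q ^ r) = x}

/-- A field subalgebra of degree at least two contains the field subalgebra of any prime degree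
dividing its degree, cut out by a power of the Frobenius map. -/
theorem exists_prime_subfield [Fintype F] [Nonempty ι] {d r : ℕ} {K : Subalgebra F (Matrix ι ι F)}
    (hK : IsFieldSubalgebra d K) (hr : r ∣ d) (hd : 0 < d) :
    ∃ L : Subalgebra F (Matrix ι ι F), IsFieldSubalgebra r L ∧ L ≤ K ∧
      (L : Set (Matrix ι ι F)) = fieldPart (Fintype.card F) r K := by
  classical
  letI := (isField_of_isFieldSubalgebra hK).toField
  haveI : Finite K := Module.finite_of_finite F
  haveI : Fintype K := Fintype.ofFinite K
  obtain ⟨p, hp⟩ := CharP.exists F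
  haveI : Fact p.Prime := ⟨(CharP.char_is_prime_or_zero F p).resolve_right (CharP.char_ne_zero_of_finite F p)⟩
  haveI : CharP K p := charP_of_injective_algebraMap (algebraMap F K).injective p
  set q := Fintype.card F with hq
  obtain ⟨k, -, hk⟩ := FiniteField.card F p
  have hfrob : ∀ x y : K, (x + y) ^ (q ^ r) = x ^ (q ^ r) + y ^ (q ^ r) := fun x y => by
    rw [hq, hk, ← pow_mul, add_pow_char_pow]
  have hbase : ∀ c : F, c ^ (q ^ r) = c := fun c => by
    rw [hq, FiniteField.pow_card_pow]
  have hr0 : 0 < r := Nat.pos_of_dvd_of_pos hr hd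
  have hq1 : 1 < q := Fintype.one_lt_card
  have hne : q ^ r ≠ 0 := (Nat.pow_pos (by omega)).ne'
  let L' : Subalgebra F K :=
    { carrier := {x | x ^ (q ^ r) = x}
      mul_mem' := fun {x y} hx hy => by
        show (x * y) ^ (q ^ r) = x * y
        rw [mul_pow]; exact congrArg₂ (· * ·) hx hy
      one_mem' := one_pow _
      add_mem' := fun {x y} hx hy => by
        show (x + y) ^ (q ^ r) = x + y
        rw [hfrob]; exact congrArg₂ (· + ·) hx hy
      zero_mem' := zero_pow hne
      algebraMap_mem' := fun c => by
        show (algebraMap F K c) ^ (q ^ r) = algebraMap F K c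
        rw [← map_pow, hbase] }
  refine ⟨L'.map K.val, ⟨?_, ?_, ?_⟩, ?_, ?_⟩
  · rintro _ ⟨x, -, rfl⟩ _ ⟨y, -, rfl⟩
    exact hK.comm x x.2 y y.2
  · rintro _ ⟨x, hx, rfl⟩ hx0
    refine ⟨K.val x⁻¹, ⟨x⁻¹, ?_, rfl⟩, ?_⟩
    · show (x⁻¹) ^ (q ^ r) = x⁻¹
      rw [inv_pow]; exact congrArg _ hx
    · show K.val x * K.val x⁻¹ = 1
      have hx' : x ≠ 0 := fun h => hx0 (by subst h; exact map_zero K.val)
      rw [← map_mul, mul_inv_cancel₀ hx', map_one]
  · have e1 : Module.finrank F (L'.map K.val) = Module.finrank F L' :=
      ((Subalgebra.equivMapOfInjective L' K.val Subtype.val_injective).toLinearEquiv.finrank_eq).symm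
    rw [e1]
    have hcardK : Fintype.card K = q ^ d := by
      rw [hq, Module.card_eq_pow_finrank (K := F) (V := K), hK.finrank_eq]
    -- count the fixed points
    have hcard : Nat.card L' = q ^ r := by
      have hdvd : q ^ r - 1 ∣ q ^ d - 1 := by
        obtain ⟨c, rfl⟩ := hr
        rw [pow_mul]
        exact Nat.sub_one_dvd_pow_sub_one _ c
      have hunits : Nat.card {u : Kˣ // u ^ (q ^ r - 1) = 1} = q ^ r - 1 := by
        have hc : Nat.card Kˣ = q ^ d - 1 := by
          rw [Nat.card_units, Nat.card_eq_fintype_card, hcardK]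
        have := IsCyclic.card_powMonoidHom_ker (G := Kˣ) (d := q ^ r - 1)
        rw [hc, Nat.gcd_eq_right hdvd] at this
        exact this
      have e : L' ≃ Option {u : Kˣ // u ^ (q ^ r - 1) = 1} :=
        { toFun := fun x => if h : (x : K) = 0 then none else
            some ⟨Units.mk0 x h, Units.ext (by
              have hx : (x : K) ^ (q ^ r) = x := x.2
              rw [show q ^ r = (q ^ r - 1) + 1 by omega, pow_succ] at hx
              simpa using mul_right_cancel₀ h (hx.trans (one_mul _).symm))⟩
          invFun := fun o => match o with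
            | none => ⟨0, L'.zero_mem⟩
            | some u => ⟨(u.1 : Kˣ), by
                show ((u.1 : Kˣ) : K) ^ (q ^ r) = _
                have hm : q ^ r = (q ^ r - 1) + 1 := by omega
                have h2 := congrArg (fun v : Kˣ => (v : K)) u.2
                simp only [Units.val_pow_eq_pow_val, Units.val_one] at h2
                calc ((u.1 : Kˣ) : K) ^ (q ^ r) = ((u.1 : Kˣ) : K) ^ (q ^ r - 1 + 1) := by rw [← hm]
                  _ = _ := by rw [pow_succ, h2, one_mul]⟩
          left_inv := fun x => by
            by_cases h : (x : K) = 0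
            · simp [h]; exact Subtype.ext h.symm
            · simp [h]
          right_inv := fun o => by
            match o with
            | none => simp
            | some u => simp }
      rw [Nat.card_congr e, Finite.card_option, hunits]
      omega
    have h2 : q ^ Module.finrank F L' = q ^ r := by
      rw [← hcard, hq, Module.natCard_eq_pow_finrank (K := F) (V := L'), Nat.card_eq_fintype_card]
    exact Nat.pow_right_injective hq1 h2
  · rintro _ ⟨x, -, rfl⟩
    exact x.2
  · ext x
    simp only [SetLike.mem_coe, Subalgebra.mem_map, fieldPart, Set.mem_setOf_eq]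
    constructor
    · rintro ⟨y, hy, rfl⟩
      exact ⟨y.2, congrArg Subtype.val (show y ^ (q ^ r) = y from hy)⟩
    · rintro ⟨hxK, hx⟩
      exact ⟨⟨x, hxK⟩, Subtype.ext hx, rfl⟩

/-- The normaliser of a field subalgebra normalises its prime-degree subfields. -/
lemma normalizer_le_of_fieldPart {q r : ℕ} {K L : Subalgebra F (Matrix ι ι F)}
    (hL : (L : Set (Matrix ι ι F)) = fieldPart q r K) :
    subalgebraNormalizer K ≤ subalgebraNormalizer L := by
  refine le_subalgebraNormalizer fun g hg X hX => ?_
  have h : X ∈ fieldPart q r K := hL ▸ hX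
  have : cj g X ∈ fieldPart q r K := ⟨cj_mem_of_mem_normalizer hg h.1, by rw [← map_pow, h.2]⟩
  rw [← hL] at this
  exact this

end Cfsg.Agent.Aschbacher
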