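/-
Clifford theory in algebra form: a subalgebra of the matrix algebra normalised by an irreducible
group has a non-trivial central idempotent, or its centre is a field bigger than the scalars,
or it is a full matrix algebra over F.
-/
import Cfsg.Agent.Aschbacher.Basic

set_option autoImplicit false

namespace Cfsg.Agent.Aschbacher

open scoped MatrixGroups Matrix
open Cfsg.Geo

variable {ι : Type} [Fintype ι] [DecidableEq ι] {F : Type*} [Field F]

/-- A subalgebra normalised by an irreducible group is semisimple. -/
theorem isSemisimpleRing_of_normalised [Nonempty ι] {H : Subgroup (GL ι F)}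
    (hH : ActsIrreducibly (matrixSet H)) (A : Subalgebra F (Matrix ι ι F))
    (hA : H ≤ subalgebraNormalizer A) : IsSemisimpleRing A := by
  haveI : IsArtinianRing A := IsArtinianRing.of_finite F A
  rw [IsArtinianRing.isSemisimpleRing_iff_jacobson]
  set J : Ideal A := Ring.jacobson A with hJ
  have hJn : IsNilpotent J := by
    have h := IsArtinianRing.isNilpotent_jacobson_bot (R := A)
    rw [Ring.jacobson_eq_sInf_isMaximal] at hJ
    simpa [hJ, Ideal.jacobson] using h
  obtain ⟨k, hk⟩ := hJn
  let S : Set (Matrix ι ι F) := (fun a : A => (a : Matrix ι ι F)) '' (J : Set A)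
  have hS : ∀ g ∈ H, ∀ s ∈ S, cj g s ∈ S := by
    rintro g hg _ ⟨a, ha, rfl⟩
    let φ : A →+* A :=
      { toFun := fun b => ⟨cj g (b : Matrix ι ι F), cj_mem_of_mem_normalizer (hA hg) b.2⟩
        map_one' := Subtype.ext (by simp)
        map_mul' := fun b c => Subtype.ext (by simp)
        map_zero' := Subtype.ext (by simp)
        map_add' := fun b c => Subtype.ext (by simp) }
    have hφ : Function.Bijective φ := by
      constructor
      · intro b c h
        exact Subtype.ext ((cj g).injective (congrArg Subtype.val h))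
      · intro b
        refine ⟨⟨cj g⁻¹ (b : Matrix ι ι F),
          cj_mem_of_mem_normalizer (hA (H.inv_mem hg)) b.2⟩, Subtype.ext ?_⟩
        show cj g (cj g⁻¹ (b : Matrix ι ι F)) = b
        rw [← cj_mul, mul_inv_cancel]
        simp [cj_apply]
    haveI : RingHomSurjective φ := ⟨hφ.2⟩
    let f : A →ₛₗ[φ] A :=
      { toFun := φ
        map_add' := φ.map_add
        map_smul' := fun r x => by simp [smul_eq_mul] }
    refine ⟨φ a, ?_, rfl⟩
    have : f a ∈ Submodule.map f (Module.jacobson A A) := ⟨a, ha, rfl⟩
    rw [Module.map_jacobson_of_bijective hφ] at this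
    exact this
  have hnil : ∀ l : List (Matrix ι ι F), l.length = k → (∀ x ∈ l, x ∈ S) → l.prod = 0 := by
    have key : ∀ l : List (Matrix ι ι F), (∀ x ∈ l, x ∈ S) →
        ∃ b : A, b ∈ J ^ l.length ∧ (b : Matrix ι ι F) = l.prod := by
      intro l
      induction l with
      | nil => exact fun _ => ⟨1, by rw [List.length_nil, Submodule.pow_zero, Ideal.one_eq_top]; exact Submodule.mem_top, rfl⟩
      | cons x l ih =>
        intro h
        obtain ⟨a, ha, rfl⟩ := h x (by simp)
        obtain ⟨b, hb, hbl⟩ := ih fun y hy => h y (by simp [hy])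
        refine ⟨a * b, ?_, by simp [hbl]⟩
        haveI : J.IsTwoSided := by rw [hJ]; infer_instance
        rw [List.length_cons, Ideal.IsTwoSided.pow_succ]
        exact Ideal.mul_mem_mul ha hb
    intro l hl hlS
    obtain ⟨b, hb, hbl⟩ := key l hlS
    rw [hl, hk, Submodule.zero_eq_bot, Submodule.mem_bot] at hb
    rw [← hbl, hb]
    rfl
  have hzero := eq_zero_of_nilpotent_invariant hH S hS k hnil
  rw [Submodule.eq_bot_iff]
  intro a ha
  exact Subtype.ext (hzero _ ⟨a, ha, rfl⟩)

/-- The trichotomy for a subalgebra normalised by an irreducible group. -/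
theorem trichotomy [Finite F] [Nonempty ι] {H : Subgroup (GL ι F)}
    (hH : ActsIrreducibly (matrixSet H)) (A : Subalgebra F (Matrix ι ι F))
    (hA : H ≤ subalgebraNormalizer A) :
    (∃ e ∈ centre A, e * e = e ∧ e ≠ 0 ∧ e ≠ 1) ∨
    (∃ d : ℕ, 2 ≤ d ∧ IsFieldSubalgebra d (centre A)) ∨
    (∃ a : ℕ, 1 ≤ a ∧ Nonempty (Matrix (Fin a) (Fin a) F ≃ₐ[F] A)) := by
  haveI := isSemisimpleRing_of_normalised hH A hA
  obtain ⟨n, D, d, hD, hDA, hfin, hd, ⟨e⟩⟩ :=
    IsSemisimpleRing.exists_algEquiv_pi_matrix_divisionRing_finite F A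
  haveI : ∀ i, Finite (D i) := fun i => Module.finite_of_finite F
  have hcomm : ∀ i (a b : D i), a * b = b * a := fun i a b => by
    letI := (littleWedderburn (D i)).toCommRing
    exact mul_comm a b
  haveI : Nontrivial A := inferInstance
  rcases n with _ | n
  · exfalso
    have : (1 : A) = 0 := e.injective (funext fun i => Fin.elim0 i)
    exact one_ne_zero this
  rcases n with _ | n
  swap
  · -- at least two simple factors: a non-trivial central idempotent
    left
    let y : Π i, Matrix (Fin (d i)) (Fin (d i)) (D i) := Pi.single 0 1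
    have hy2 : y * y = y := by
      funext i
      by_cases h : i = 0
      · subst h; simp [y]
      · simp [y, h]
    refine ⟨(e.symm y : A), ?_, ?_, ?_, ?_⟩
    · rw [mem_centre]
      refine ⟨(e.symm y).2, fun Y hY => ?_⟩
      have hc : e ⟨Y, hY⟩ * y = y * e ⟨Y, hY⟩ := by
        funext i
        by_cases h : i = 0
        · subst h; simp [y]
        · simp [y, h]
      exact congrArg Subtype.val (show (⟨Y, hY⟩ : A) * e.symm y = e.symm y * ⟨Y, hY⟩ from
        e.injective (by simpa using hc))
    · have : e.symm y * e.symm y = e.symm y := by rw [← map_mul, hy2]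
      exact congrArg Subtype.val this
    · intro h
      have h0 : e.symm y = 0 := Subtype.ext h
      have := congrFun (congrArg e h0) 0
      simp [y] at this
    · intro h
      have h0 : e.symm y = 1 := Subtype.ext h
      have := congrFun (congrArg e h0) 1
      simp [y] at this
  · -- one simple factor
    let E : A ≃ₐ[F] Matrix (Fin (d 0)) (Fin (d 0)) (D 0) :=
      e.trans (AlgEquiv.ofBijective
        (Pi.evalAlgHom F (fun i => Matrix (Fin (d i)) (Fin (d i)) (D i)) 0)
        ⟨fun x y h => funext fun i => by rw [Fin.fin_one_eq_zero i]; exact h,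
          fun M => ⟨Pi.single 0 M, by simp⟩⟩)
    by_cases hdim : Module.finrank F (D 0) = 1
    · right; right
      refine ⟨d 0, Nat.one_le_iff_ne_zero.mpr (hd 0).out, ⟨?_⟩⟩
      have hbij : Function.Bijective (Algebra.ofId F (D 0)) := by
        refine ⟨(algebraMap F (D 0)).injective, fun x => ?_⟩
        obtain ⟨c, hc⟩ := (finrank_eq_one_iff_of_nonzero' (1 : D 0) one_ne_zero).mp hdim x
        exact ⟨c, by rw [← hc, Algebra.smul_def, mul_one]; rfl⟩
      exact (AlgEquiv.ofBijective _ hbij).mapMatrix.trans E.symm
    · right; left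
      refine ⟨Module.finrank F (D 0), ?_, ?_⟩
      · have := Module.finrank_pos (R := F) (M := D 0); omega
      -- the centre is the copy of D 0
      let φ : D 0 →ₐ[F] Matrix ι ι F :=
        A.val.comp (E.symm.toAlgHom.comp (Matrix.scalarAlgHom (Fin (d 0)) F))
      have hinj : Function.Injective φ := φ.toRingHom.injective
      have hrange : centre A = φ.range := by
        apply le_antisymm
        · intro X hX
          rw [mem_centre] at hX
          have hc : E ⟨X, hX.1⟩ ∈ Set.center (Matrix (Fin (d 0)) (Fin (d 0)) (D 0)) := by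
            rw [Semigroup.mem_center_iff]
            intro M
            have := hX.2 _ (E.symm M).2
            have h2 : E.symm M * ⟨X, hX.1⟩ = ⟨X, hX.1⟩ * E.symm M := Subtype.ext this
            simpa using congrArg E h2
          rw [Matrix.center_eq_scalar_image] at hc
          obtain ⟨c, -, hc⟩ := hc
          refine ⟨c, ?_⟩
          have h3 : E.symm (Matrix.scalar _ c) = ⟨X, hX.1⟩ := by rw [hc]; simp
          exact congrArg Subtype.val h3
        · rintro _ ⟨c, rfl⟩
          rw [mem_centre]
          refine ⟨(E.symm (Matrix.scalar _ c)).2, fun Y hY => ?_⟩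
          have hc : E ⟨Y, hY⟩ * Matrix.scalar _ c = Matrix.scalar _ c * E ⟨Y, hY⟩ :=
            ((Matrix.scalar_commute c (fun r => hcomm 0 c r) _).eq).symm
          exact congrArg Subtype.val (show (⟨Y, hY⟩ : A) * E.symm (Matrix.scalar _ c) =
            E.symm (Matrix.scalar _ c) * ⟨Y, hY⟩ from E.injective (by simpa using hc))
      rw [hrange]
      refine ⟨?_, ?_, ?_⟩
      · rintro _ ⟨a, rfl⟩ _ ⟨b, rfl⟩
        show φ a * φ b = φ b * φ a
        rw [← map_mul, ← map_mul, hcomm 0 a b]
      · rintro _ ⟨a, rfl⟩ ha
        have ha' : a ≠ 0 := fun h => ha (by simp [h])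
        refine ⟨φ a⁻¹, ⟨a⁻¹, rfl⟩, ?_⟩
        show φ a * φ a⁻¹ = 1
        rw [← map_mul, mul_inv_cancel₀ ha', map_one]
      · exact (AlgEquiv.ofInjective φ hinj).toLinearEquiv.finrank_eq.symm

end Cfsg.Agent.Aschbacher
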