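/-
Imprimitivity from central idempotents of a normalised subalgebra, and prime-degree subfields.
-/
import Cfsg.Agent.Aschbacher.Trichotomy

set_option autoImplicit false

namespace Cfsg.Agent.Aschbacher

open scoped MatrixGroups Matrix
open Cfsg.Geo

variable {ι : Type} [Fintype ι] [DecidableEq ι] {F : Type*} [Field F]

/-- A complete system of orthogonal idempotents permuted transitively by `H`. -/
structure IdemFamily (H : Subgroup (GL ι F)) {t : ℕ} (e : Fin t → Matrix ι ι F) : Prop where
  two_le : 2 ≤ t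
  idem : ∀ i, e i * e i = e i
  ne_zero : ∀ i, e i ≠ 0
  ortho : ∀ i j, i ≠ j → e i * e j = 0
  sum_eq : ∑ i, e i = 1
  perm : ∀ g ∈ H, ∃ σ : Equiv.Perm (Fin t), ∀ i, cj g (e i) = e (σ i)
  trans : ∀ i j, ∃ g ∈ H, cj g (e i) = e j

/-- The system of primitive central idempotents of `A`, permuted transitively by `H`. -/
structure IdemSystem (H : Subgroup (GL ι F)) (A : Subalgebra F (Matrix ι ι F)) {t : ℕ}
    (e : Fin t → Matrix ι ι F) : Prop extends IdemFamily H e where
  mem : ∀ i, e i ∈ centre A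
  primitive : ∀ i, ∀ f ∈ centre A, f * f = f → f * e i = 0 ∨ f * e i = e i

lemma rank_cj (g : GL ι F) (X : Matrix ι ι F) : (cj g X).rank = X.rank := by
  rw [cj_apply, Matrix.rank_mul_eq_left_of_isUnit_det _ _
      ((Matrix.isUnit_iff_isUnit_det _).mp (g⁻¹).isUnit),
    Matrix.rank_mul_eq_right_of_isUnit_det _ _
      ((Matrix.isUnit_iff_isUnit_det _).mp g.isUnit)]

lemma eq_of_idem_le {e f : Matrix ι ι F} (hc : f * e = e * f) (he : e * e = e) (hf : f * f = f)
    (hr : (e * f).rank = e.rank) : e * f = e := by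
  have hle : LinearMap.range (Matrix.toLin' (e * f)) ≤ LinearMap.range (Matrix.toLin' e) := by
    rw [Matrix.toLin'_mul]
    exact LinearMap.range_comp_le_range _ _
  have heq : LinearMap.range (Matrix.toLin' (e * f)) = LinearMap.range (Matrix.toLin' e) :=
    Submodule.eq_of_le_of_finrank_eq hle hr
  refine Matrix.toLin'.injective (LinearMap.ext fun v => ?_)
  obtain ⟨w, hw⟩ : Matrix.toLin' e v ∈ LinearMap.range (Matrix.toLin' (e * f)) :=
    heq ▸ ⟨v, rfl⟩
  simp only [Matrix.toLin'_apply] at hw ⊢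
  have key : e * f * e = e * f := by rw [mul_assoc, hc, ← mul_assoc, he]
  have key2 : e * f * (e * f) = e * f := by rw [← mul_assoc, key, mul_assoc, hf]
  conv_lhs => rw [← key, ← Matrix.mulVec_mulVec, ← hw, Matrix.mulVec_mulVec, key2]
  exact hw

/-- A non-trivial central idempotent yields a system of imprimitivity. -/
theorem exists_idemSystem [Finite F] {H : Subgroup (GL ι F)}
    (hH : ActsIrreducibly (matrixSet H)) (A : Subalgebra F (Matrix ι ι F))
    (hA : H ≤ subalgebraNormalizer A)
    (he : ∃ e ∈ centre A, e * e = e ∧ e ≠ 0 ∧ e ≠ 1) :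
    ∃ (t : ℕ) (e : Fin t → Matrix ι ι F), IdemSystem H A e := by
  classical
  haveI : Finite (Matrix ι ι F) := inferInstanceAs (Finite (ι → ι → F))
  haveI : Fintype F := Fintype.ofFinite F
  let I : Finset (Matrix ι ι F) := Finset.univ.filter fun e => e ∈ centre A ∧ e * e = e ∧ e ≠ 0
  obtain ⟨e₀, he₀, he₀i, he₀0, he₀1⟩ := he
  obtain ⟨e, heI, hmin⟩ := I.exists_min_image (fun e => e.rank) ⟨e₀, by simp [I, he₀, he₀i, he₀0]⟩
  simp only [I, Finset.mem_filter, Finset.mem_univ, true_and] at heI hmin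
  obtain ⟨heC, hei, he0⟩ := heI
  have hcomm : ∀ {x y : Matrix ι ι F}, x ∈ centre A → y ∈ centre A → x * y = y * x :=
    fun hx hy => (mem_centre.mp hy).2 _ (mem_centre.mp hx).1
  -- the orbit
  let O : Finset (Matrix ι ι F) := Finset.univ.filter fun f => ∃ g ∈ H, cj g e = f
  have hOmem : ∀ f, f ∈ O ↔ ∃ g ∈ H, cj g e = f := fun f => by simp [O]
  have hOprop : ∀ f ∈ O, f ∈ centre A ∧ f * f = f ∧ f ≠ 0 ∧ f.rank = e.rank := by
    intro f hf
    obtain ⟨g, hg, rfl⟩ := (hOmem f).mp hf
    exact ⟨cj_mem_centre (hA hg) heC, by rw [← map_mul, hei],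
      fun h => he0 ((cj g).injective (h.trans (map_zero _).symm)), rank_cj g e⟩
  have hortho : ∀ f ∈ O, ∀ f' ∈ O, f ≠ f' → f * f' = 0 := by
    intro f hf f' hf' hne
    obtain ⟨h1, h2, -, h4⟩ := hOprop f hf
    obtain ⟨h1', h2', -, h4'⟩ := hOprop f' hf'
    by_contra h0
    have hc := hcomm h1' h1
    have hff : f * f' * (f * f') = f * f' := by
      calc f * f' * (f * f') = f * (f' * f) * f' := by simp only [mul_assoc]
        _ = f * (f * f') * f' := by rw [hc]
        _ = (f * f) * (f' * f') := by simp only [mul_assoc]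
        _ = f * f' := by rw [h2, h2']
    have hmn := hmin (f * f') ⟨(centre A).mul_mem h1 h1', hff, h0⟩
    have e1 : f * f' = f := eq_of_idem_le hc h2 h2'
      (le_antisymm (Matrix.rank_mul_le_left _ _) (by omega))
    have e2 : f' * f = f' := eq_of_idem_le hc.symm h2' h2
      (le_antisymm (Matrix.rank_mul_le_left _ _) (by rw [hc]; omega))
    exact hne (e1 ▸ (e2 ▸ hc).symm)
  set s : Matrix ι ι F := ∑ f ∈ O, f with hs
  have hsinv : ∀ g ∈ H, cj g s = s := by
    intro g hg
    rw [hs, map_sum]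
    refine Finset.sum_bij (fun f _ => cj g f) ?_ (fun f _ f' _ h => (cj g).injective h) ?_
      (fun f _ => rfl)
    · intro f hf
      obtain ⟨g', hg', rfl⟩ := (hOmem f).mp hf
      exact (hOmem _).mpr ⟨g * g', H.mul_mem hg hg', cj_mul g g' e⟩
    · intro f hf
      obtain ⟨g', hg', rfl⟩ := (hOmem f).mp hf
      refine ⟨cj (g⁻¹ * g') e, (hOmem _).mpr ⟨_, H.mul_mem (H.inv_mem hg) hg', rfl⟩, ?_⟩
      rw [← cj_mul, mul_inv_cancel_left]
  have hsi : s * s = s := by
    rw [hs, Finset.sum_mul]
    refine Finset.sum_congr rfl fun f hf => ?_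
    rw [Finset.mul_sum, Finset.sum_eq_single f (fun f' hf' hne => hortho f hf f' hf' hne.symm)
      (fun h => absurd hf h), (hOprop f hf).2.1]
  have heO : e ∈ O := (hOmem e).mpr ⟨1, H.one_mem, by simp [cj_apply]⟩
  have hs1 : s = 1 := by
    have hW := eq_bot_or_eq_top hH (LinearMap.range (Matrix.toLin' s)) (by
      rintro g hg _ ⟨v, rfl⟩
      refine ⟨(g : Matrix ι ι F) *ᵥ v, ?_⟩
      simp only [Matrix.toLin'_apply, Matrix.mulVec_mulVec]
      rw [(cj_eq_self_iff g s).mp (hsinv g hg)])
    rcases hW with h | h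
    · exfalso
      have hs0 : s = 0 := by
        rw [LinearMap.range_eq_bot] at h
        exact Matrix.toLin'.injective (h.trans (map_zero _).symm)
      have : s * e = e := by
        rw [hs, Finset.sum_mul, Finset.sum_eq_single e (fun f hf hne => hortho f hf e heO hne)
          (fun h => absurd heO h), hei]
      rw [hs0, zero_mul] at this
      exact he0 this.symm
    · refine Matrix.toLin'.injective (LinearMap.ext fun v => ?_)
      obtain ⟨w, hw⟩ : v ∈ LinearMap.range (Matrix.toLin' s) := h ▸ Submodule.mem_top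
      rw [← hw]
      simp [Matrix.mulVec_mulVec, hsi]
  have ht : 2 ≤ O.card := by
    by_contra h
    have h1 : O = {e} := Finset.eq_singleton_iff_unique_mem.mpr
      ⟨heO, fun f hf => Finset.card_le_one.mp (by omega) f hf e heO⟩
    rw [hs, h1, Finset.sum_singleton] at hs1
    -- then every idempotent has full rank
    have hmn := hmin e₀ ⟨he₀, he₀i, he₀0⟩
    subst hs1
    have : e₀ = 1 := by
      have h3 := eq_of_idem_le (e := (1 : Matrix ι ι F)) (f := e₀) (by simp) (by simp) he₀i
        (le_antisymm (Matrix.rank_mul_le_left _ _) (by rw [one_mul]; exact hmn))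
      simpa using h3
    exact he₀1 this
  let ee := O.equivFin.symm
  refine ⟨O.card, fun i => (ee i : Matrix ι ι F), ⟨⟨ht,
    fun i => (hOprop _ (ee i).2).2.1, fun i => (hOprop _ (ee i).2).2.2.1, ?_, ?_, ?_, ?_⟩,
    fun i => (hOprop _ (ee i).2).1, ?_⟩⟩
  · intro i j hij
    exact hortho _ (ee i).2 _ (ee j).2 fun h => hij (ee.injective (Subtype.ext h))
  · rw [Equiv.sum_comp ee (fun x : O => (x : Matrix ι ι F)),
      Finset.sum_coe_sort O (fun x => x), ← hs1]
  · intro g hg
    let f : Fin O.card → Fin O.card := fun i => ee.symm ⟨cj g (ee i : Matrix ι ι F), by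
      obtain ⟨g', hg', h⟩ := (hOmem _).mp (ee i).2
      exact (hOmem _).mpr ⟨g * g', H.mul_mem hg hg', by rw [cj_mul, h]⟩⟩
    have hf : Function.Injective f := fun i j h => by
      have h2 : cj g (ee i : Matrix ι ι F) = cj g (ee j : Matrix ι ι F) :=
        congrArg Subtype.val (ee.symm.injective h)
      exact ee.injective (Subtype.ext ((cj g).injective h2))
    exact ⟨Equiv.ofBijective f (Finite.injective_iff_bijective.mp hf), fun i => by simp [f]⟩
  · intro i j
    obtain ⟨g, hg, h⟩ := (hOmem _).mp (ee i).2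
    obtain ⟨g', hg', h'⟩ := (hOmem _).mp (ee j).2
    refine ⟨g' * g⁻¹, H.mul_mem hg' (H.inv_mem hg), ?_⟩
    rw [← h, ← cj_mul, inv_mul_cancel_right, h']
  · intro i f hf hff
    obtain ⟨h1, h2, -, h4⟩ := hOprop _ (ee i).2
    have hc := hcomm hf h1
    refine or_iff_not_imp_left.mpr fun h0 => ?_
    have hpp : f * (ee i : Matrix ι ι F) * (f * (ee i : Matrix ι ι F)) = f * (ee i : Matrix ι ι F) := by
      calc f * (ee i : Matrix ι ι F) * (f * (ee i : Matrix ι ι F))
          = f * ((ee i : Matrix ι ι F) * f) * (ee i : Matrix ι ι F) := by simp only [mul_assoc]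
        _ = (f * f) * ((ee i : Matrix ι ι F) * (ee i : Matrix ι ι F)) := by
            rw [← hc]; simp only [mul_assoc]
        _ = f * (ee i : Matrix ι ι F) := by rw [hff, h2]
    have hmn := hmin (f * (ee i : Matrix ι ι F)) ⟨(centre A).mul_mem hf h1, hpp, h0⟩
    rw [hc]
    exact eq_of_idem_le hc h2 hff (le_antisymm (Matrix.rank_mul_le_left _ _) (by rw [← hc]; omega))

/-- The subspaces cut out by the idempotents. -/
def idemSpace {t : ℕ} (e : Fin t → Matrix ι ι F) (i : Fin t) : Submodule F (ι → F) :=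
  LinearMap.range (Matrix.toLin' (e i))

namespace IdemFamily

variable {H : Subgroup (GL ι F)} {t : ℕ} {e : Fin t → Matrix ι ι F}

lemma mem_space (h : IdemFamily H e) {i : Fin t} {v : ι → F} :
    v ∈ idemSpace e i ↔ e i *ᵥ v = v := by
  constructor
  · rintro ⟨w, rfl⟩
    simp [Matrix.mulVec_mulVec, h.idem i]
  · intro hv
    exact ⟨v, by simpa using hv⟩

lemma map_space (h : IdemFamily H e) {g : GL ι F} {i j : Fin t} (hg : cj g (e i) = e j) :
    (idemSpace e i).map (Matrix.toLin' (g : Matrix ι ι F)) = idemSpace e j := by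
  have hgi : (g : Matrix ι ι F) * e i = e j * (g : Matrix ι ι F) := by rw [mul_eq_cj_mul, hg]
  apply le_antisymm
  · rintro _ ⟨_, ⟨w, rfl⟩, rfl⟩
    refine ⟨(g : Matrix ι ι F) *ᵥ w, ?_⟩
    simp [Matrix.mulVec_mulVec, hgi]
  · rintro _ ⟨w, rfl⟩
    refine ⟨e i *ᵥ (((g⁻¹ : GL ι F) : Matrix ι ι F) *ᵥ w), ⟨_, rfl⟩, ?_⟩
    simp [Matrix.mulVec_mulVec, ← hg, cj_apply, mul_assoc]

/-- The decomposition attached to a system of idempotents. -/
theorem isMDecomposition (h : IdemFamily H e) :
    ∃ m, IsMDecomposition m (idemSpace e) ∧ H ≤ decompositionStabilizer (idemSpace e) ∧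
      t * m = Fintype.card ι := by
  classical
  have i₀ : Fin t := ⟨0, by have := h.two_le; omega⟩
  have hrank : ∀ i, Module.finrank F (idemSpace e i) = (e i₀).rank := by
    intro i
    obtain ⟨g, -, hg⟩ := h.trans i₀ i
    show (e i).rank = (e i₀).rank
    rw [← hg, rank_cj]
  have htop : iSup (idemSpace e) = ⊤ := by
    rw [eq_top_iff]
    intro v _
    have : v = ∑ i, e i *ᵥ v := by rw [← Matrix.sum_mulVec, h.sum_eq, Matrix.one_mulVec]
    rw [this]
    exact Submodule.sum_mem _ fun i _ => Submodule.mem_iSup_of_mem i ⟨v, rfl⟩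
  have hindep : iSupIndep (idemSpace e) := by
    intro i
    rw [Submodule.disjoint_def]
    intro v hv hv'
    have hle : (⨆ (j) (_ : j ≠ i), idemSpace e j) ≤ LinearMap.ker (Matrix.toLin' (e i)) := by
      refine iSup₂_le fun j hj => ?_
      rintro _ ⟨w, rfl⟩
      simp [Matrix.mulVec_mulVec, h.ortho i j (Ne.symm hj)]
    have := hle hv'
    rw [LinearMap.mem_ker, Matrix.toLin'_apply, h.mem_space.mp hv] at this
    exact this
  have hpos : 0 < (e i₀).rank := by
    refine Nat.pos_of_ne_zero fun h0 => h.ne_zero i₀ ?_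
    have : LinearMap.range (Matrix.toLin' (e i₀)) = ⊥ := Submodule.finrank_eq_zero.mp h0
    rw [LinearMap.range_eq_bot] at this
    exact Matrix.toLin'.injective (this.trans (map_zero _).symm)
  have hint : DirectSum.IsInternal (idemSpace e) :=
    DirectSum.isInternal_submodule_of_iSupIndep_of_iSup_eq_top hindep htop
  refine ⟨(e i₀).rank, ⟨h.two_le, hpos, hrank, hindep, htop⟩, ?_, ?_⟩
  · intro g hg
    obtain ⟨σ, hσ⟩ := h.perm g hg
    exact ⟨σ, fun i => h.map_space (hσ i)⟩
  · let b := fun i => Module.finBasis F (idemSpace e i)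
    have := Module.finrank_eq_card_basis (hint.collectedBasis b)
    simp only [Module.finrank_pi, Fintype.card_sigma, Fintype.card_fin, hrank, Finset.sum_const,
      Finset.card_univ, smul_eq_mul] at this
    omega

end IdemFamily

end Cfsg.Agent.Aschbacher
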