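/-
Reducible and imprimitive subgroups of an isometry group.
-/
import Cfsg.Agent.Aschbacher.Adjoint
import Cfsg.Agent.Aschbacher.Imprimitive

set_option autoImplicit false
set_option linter.unusedSectionVars false

namespace Cfsg.Agent.Aschbacher

open scoped MatrixGroups Matrix
open Cfsg.Geo

variable {ι : Type} [Fintype ι] [DecidableEq ι] {F : Type*} [Field F]
variable {σ : F ≃+* F} {ε : F} {f : (ι → F) → (ι → F) → F}

lemma le_subspaceStabilizer {H : Subgroup (GL ι F)} {W : Submodule F (ι → F)}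
    (hW : ∀ g ∈ H, ∀ w ∈ W, (g : Matrix ι ι F) *ᵥ w ∈ W) : H ≤ subspaceStabilizer W := by
  intro g hg v
  refine ⟨hW g hg v, fun hv => ?_⟩
  have h1 := hW g⁻¹ (H.inv_mem hg) _ hv
  have e : ((g⁻¹ : GL ι F) : Matrix ι ι F) *ᵥ ((g : Matrix ι ι F) *ᵥ v) = v := by
    rw [Matrix.mulVec_mulVec, ← Units.val_mul, inv_mul_cancel, Units.val_one, Matrix.one_mulVec]
  exact e ▸ h1

lemma map_eq_self_of_invariant {H : Subgroup (GL ι F)} {W : Submodule F (ι → F)}
    (hW : ∀ g ∈ H, ∀ w ∈ W, (g : Matrix ι ι F) *ᵥ w ∈ W) {g : GL ι F} (hg : g ∈ H) :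
    W.map (Matrix.toLin' (g : Matrix ι ι F)) = W := by
  refine le_antisymm ?_ fun w hw => ?_
  · rintro _ ⟨w, hw, rfl⟩
    rw [Matrix.toLin'_apply]
    exact hW g hg w hw
  · refine ⟨((g⁻¹ : GL ι F) : Matrix ι ι F) *ᵥ w, hW _ (H.inv_mem hg) w hw, ?_⟩
    rw [Matrix.toLin'_apply, Matrix.mulVec_mulVec, ← Units.val_mul, mul_inv_cancel, Units.val_one,
      Matrix.one_mulVec]

/-- A reducible group of isometries fixes a totally singular subspace, a small non-degenerate
subspace, or an orthogonal decomposition into two halves. -/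
theorem FormSpace.reducible_cases (h : FormSpace σ ε f) {H : Subgroup (GL ι F)}
    (hH : FixesForm (matrixSet H) f) (hred : ¬ ActsIrreducibly (matrixSet H)) :
    (∃ W : Submodule F (ι → F), W ≠ ⊥ ∧ IsTotallySingularFor f W ∧ H ≤ subspaceStabilizer W) ∨
    (∃ W : Submodule F (ι → F), W ≠ ⊥ ∧ IsNondegenerateOn f W ∧
      2 * Module.finrank F W < Fintype.card ι ∧ H ≤ subspaceStabilizer W) ∨
    (∃ (k : ℕ) (D : Fin 2 → Submodule F (ι → F)), 2 * k = Fintype.card ι ∧
      IsNondegenerateMDecomposition f k D ∧ H ≤ decompositionStabilizer D) := by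
  simp only [ActsIrreducibly, not_forall, not_or] at hred
  obtain ⟨W, hW, h1, h2⟩ := hred
  have hWi : ∀ g ∈ H, ∀ v ∈ W, (g : Matrix ι ι F) *ᵥ v ∈ W := fun g hg v hv => by
    simpa using hW _ (mem_matrixSet hg) (Submodule.mem_map_of_mem hv)
  by_cases hrad : W ⊓ fperp h W = ⊥
  swap
  · refine Or.inl ⟨W ⊓ fperp h W, hrad, fun u hu v hv => hu.2 v hv.1,
      le_subspaceStabilizer fun g hg v hv => ⟨hWi g hg v hv.1, h.fperp_invariant hH hWi g hg v hv.2⟩⟩
  right
  have hnd := h.isNondegenerateOn_iff_disjoint.mpr hrad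
  have hsum := h.finrank_fperp hnd
  have hWp := h.fperp_invariant hH hWi
  have hp0 : fperp h W ≠ ⊥ := fun h0 => h2 (by
    have := (h.isCompl_fperp hnd).sup_eq_top
    rwa [h0, sup_bot_eq] at this)
  rcases lt_trichotomy (2 * Module.finrank F W) (Fintype.card ι) with hlt | heq | hgt
  · exact Or.inl ⟨W, h1, hnd, hlt, le_subspaceStabilizer hWi⟩
  · right
    refine ⟨Module.finrank F W, ![W, fperp h W], heq, ⟨⟨le_rfl, ?_, ?_, ?_, ?_⟩, ?_, ?_⟩, ?_⟩
    · exact Nat.pos_of_ne_zero fun h0 => h1 (Submodule.finrank_eq_zero.mp h0)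
    · intro i
      fin_cases i
      · rfl
      · show Module.finrank F (fperp h W) = _
        omega
    · rw [iSupIndep_pair (i := (0 : Fin 2)) (j := 1) (by decide) (fun k => by fin_cases k <;> simp)]
      exact (h.isCompl_fperp hnd).disjoint
    · rw [eq_top_iff, ← (h.isCompl_fperp hnd).sup_eq_top]
      exact sup_le (le_iSup ![W, fperp h W] 0) (le_iSup ![W, fperp h W] 1)
    · intro i
      fin_cases i
      · exact hnd
      · exact h.isNondegenerateOn_fperp hnd
    · intro i j hij
      fin_cases i <;> fin_cases j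
      · exact absurd rfl hij
      · exact fun u hu v hv => h.refl (hv u hu)
      · exact fun u hu v hv => hu v hv
      · exact absurd rfl hij
    · intro g hg
      refine ⟨1, fun i => ?_⟩
      fin_cases i
      · exact map_eq_self_of_invariant hWi hg
      · exact map_eq_self_of_invariant hWp hg
  · refine Or.inl ⟨fperp h W, hp0, h.isNondegenerateOn_fperp hnd, by omega, le_subspaceStabilizer hWp⟩

/-- An idempotent family of self-adjoint idempotents gives an orthogonal decomposition with
pairwise isometric members. -/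
theorem IdemFamily.nondegenerate (h : FormSpace σ ε f) {H : Subgroup (GL ι F)} {t : ℕ} {e : Fin t → Matrix ι ι F}
    (he : IdemFamily H e) (hadj : ∀ i, adj σ f (e i) = e i) :
    ∃ m, IsNondegenerateMDecomposition f m (idemSpace e) ∧ t * m = Fintype.card ι ∧
      H ≤ decompositionStabilizer (idemSpace e) ∧
      ∀ i j, ∃ g ∈ H, (idemSpace e i).map (Matrix.toLin' (g : Matrix ι ι F)) = idemSpace e j := by
  obtain ⟨m, hm, hle, hcard⟩ := he.isMDecomposition
  refine ⟨m, ⟨hm, fun i => ?_, fun i j hij u hu v hv => ?_⟩, hcard, hle, fun i j => ?_⟩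
  · intro w hw hw0
    have hew := he.mem_space.mp hw
    obtain ⟨⟨x, hx⟩, ⟨y, hy⟩⟩ := h.nondeg w hw0
    refine ⟨⟨e i *ᵥ x, ⟨x, rfl⟩, ?_⟩, ⟨e i *ᵥ y, ⟨y, rfl⟩, ?_⟩⟩
    · rwa [h.adj_spec, hadj, hew]
    · intro h0
      apply hy
      rw [← hew, h.adj_spec, hadj, h0]
  · rw [← he.mem_space.mp hu, ← he.mem_space.mp hv, h.adj_spec, hadj, Matrix.mulVec_mulVec,
      he.ortho i j hij, Matrix.zero_mulVec, h.zero_right]
  · obtain ⟨g, hg, hgij⟩ := he.trans i j
    exact ⟨g, hg, he.map_space hgij⟩

lemma cj_eq_of_scalar {z : GL ι F} (hz : z ∈ scalars ι F) (g : GL ι F) (X : Matrix ι ι F) :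
    cj (g * z) X = cj g X := by
  rw [cj_mul]
  congr 1
  rw [cj_eq_self_iff]
  obtain ⟨c, hc⟩ := (mem_scalars_iff z).mp hz
  simp [hc]

/-- An idempotent family for `H ⊔ scalars` is one for `H`. -/
lemma IdemFamily.of_sup_scalars {H : Subgroup (GL ι F)} {t : ℕ} {e : Fin t → Matrix ι ι F}
    (he : IdemFamily (H ⊔ scalars ι F) e) : IdemFamily H e := by
  refine ⟨he.two_le, he.idem, he.ne_zero, he.ortho, he.sum_eq,
    fun g hg => he.perm g (Subgroup.mem_sup_left hg), fun i j => ?_⟩
  obtain ⟨g, hg, hgij⟩ := he.trans i j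
  obtain ⟨a, ha, z, hz, rfl⟩ := Subgroup.mem_sup_of_normal_right.mp hg
  exact ⟨a, ha, by rw [← hgij, cj_eq_of_scalar hz]⟩

/-- The imprimitive case for a group of isometries. -/
theorem FormSpace.imprimitive_cases (h : FormSpace σ ε f) {H : Subgroup (GL ι F)}
    (hH : FixesForm (matrixSet H) f) {A : Subalgebra F (Matrix ι ι F)} (hA : AdjClosed σ f A)
    {t : ℕ} {e : Fin t → Matrix ι ι F} (he₀ : IdemSystem (H ⊔ scalars ι F) A e) :
    (∃ (t' m : ℕ) (D : Fin t' → Submodule F (ι → F)), IsNondegenerateMDecomposition f m D ∧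
      t' * m = Fintype.card ι ∧ H ≤ decompositionStabilizer D ∧
      ∀ i j, ∃ g ∈ H, (D i).map (Matrix.toLin' (g : Matrix ι ι F)) = D j) ∨
    (∃ (k : ℕ) (D : Fin 2 → Submodule F (ι → F)), 2 * k = Fintype.card ι ∧ IsMDecomposition k D ∧
      (∀ i, IsTotallySingularFor f (D i)) ∧ H ≤ decompositionStabilizer D) := by
  classical
  have he := he₀.toIdemFamily.of_sup_scalars
  have hAc := h.adjClosed_centre hA
  have hadj : ∀ i, ∃ S : Finset (Fin t), adj σ f (e i) = ∑ j ∈ S, e j ∧
      ∀ j, j ∈ S ↔ adj σ f (e i) * e j = e j := by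
    intro i
    have hc := hAc _ (he₀.mem i)
    have hi : adj σ f (e i) * adj σ f (e i) = adj σ f (e i) := by
      rw [← h.adj_mul, he.idem]
    refine ⟨Finset.univ.filter fun j => adj σ f (e i) * e j = e j, ?_, fun j => by simp⟩
    conv_lhs => rw [← mul_one (adj σ f (e i)), ← he.sum_eq, Finset.mul_sum]
    rw [Finset.sum_filter]
    refine Finset.sum_congr rfl fun j _ => ?_
    rcases he₀.primitive j _ hc hi with h0 | h1
    · rw [h0, if_neg (fun h2 => he.ne_zero j h2.symm)]
    · rw [h1, if_pos rfl]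
  choose S hS hSm using hadj
  have hne : ∀ i, (S i).Nonempty := fun i => by
    rw [Finset.nonempty_iff_ne_empty]
    intro h0
    refine he.ne_zero i (h.adj_injective ?_)
    rw [hS, h0, Finset.sum_empty, h.adj_zero]
  choose π hπ using hne
  have hdisj : ∀ i j k, i ≠ j → k ∈ S i → k ∉ S j := by
    intro i j k hij hi hj
    rw [hSm] at hi hj
    apply he.ne_zero k
    calc e k = adj σ f (e i) * (adj σ f (e j) * e k) := by rw [hj, hi]
      _ = 0 := by rw [← mul_assoc, ← h.adj_mul, he.ortho j i (Ne.symm hij), h.adj_zero, zero_mul]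
  have hπinj : Function.Injective π := fun i j hij => by
    by_contra hne'
    exact hdisj i j _ hne' (hπ i) (hij ▸ hπ j)
  have hπsurj := Finite.surjective_of_injective hπinj
  have hπeq : ∀ i, adj σ f (e i) = e (π i) := by
    intro i
    have : S i = {π i} := by
      refine Finset.eq_singleton_iff_unique_mem.mpr ⟨hπ i, fun k hk => ?_⟩
      obtain ⟨j, rfl⟩ := hπsurj k
      by_contra hne'
      exact hdisj i j _ (fun hij => hne' (by rw [hij])) hk (hπ j)
    rw [hS, this, Finset.sum_singleton]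
  have heinj : Function.Injective e := fun i j hij => by
    by_contra hne'
    have := he.ortho i j hne'
    rw [hij, he.idem] at this
    exact he.ne_zero j this
  have hπinv : ∀ i, π (π i) = i := fun i => heinj (by rw [← hπeq, ← hπeq, h.adj_adj])
  have hcomm : ∀ g ∈ H, ∀ i, cj g (e (π i)) = adj σ f (cj g (e i)) := fun g hg i => by
    rw [h.adj_cj (le_similarityGroup_of_fixes hH hg), hπeq]
  by_cases hfix : ∃ i, π i = i
  · obtain ⟨i₀, hi₀⟩ := hfix
    left
    have hall : ∀ i, adj σ f (e i) = e i := by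
      intro i
      obtain ⟨g, hg, hgi⟩ := he.trans i₀ i
      rw [← hgi, ← hcomm g hg, hi₀]
    obtain ⟨m, hm⟩ := he.nondegenerate h hall
    exact ⟨t, m, _, hm⟩
  push Not at hfix
  by_cases ht : t = 2
  · right
    subst ht
    obtain ⟨m, hm, hle, hcard⟩ := he.isMDecomposition
    refine ⟨m, _, by omega, hm, fun i u hu v hv => ?_, hle⟩
    have hne' := hfix i
    rw [← he.mem_space.mp hu, ← he.mem_space.mp hv, h.adj_spec, hπeq, Matrix.mulVec_mulVec,
      he.ortho (π i) i hne', Matrix.zero_mulVec, h.zero_right]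
  left
  -- merge the pairs
  let E : Fin t → Matrix ι ι F := fun i => e i + e (π i)
  have hEmul : ∀ i j, E i * E j = if j = i ∨ j = π i then E i else 0 := by
    intro i j
    have key : ∀ a b, e a * e b = if a = b then e a else 0 := fun a b => by
      split_ifs with hab
      · subst hab; exact he.idem a
      · exact he.ortho a b hab
    simp only [E, add_mul, mul_add, key]
    by_cases h1 : j = i
    · subst h1
      simp [hfix j, (hfix j).symm]
    · by_cases h2 : j = π i
      · subst h2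
        simp [hπinv, hfix i, (hfix i).symm, add_comm]
      · have h3 : π j ≠ i := fun h4 => h2 (by rw [← h4, hπinv])
        have h4 : π j ≠ π i := fun h5 => h1 (hπinj h5)
        simp [Ne.symm h1, Ne.symm h2, Ne.symm h3, Ne.symm h4, h1, h2]
  have hEne : ∀ i, E i ≠ 0 := fun i hi => by
    apply he.ne_zero i
    have h1 := congrArg (fun X => e i * X) hi
    simpa [E, mul_add, he.idem, he.ortho i (π i) (Ne.symm (hfix i))] using h1
  let O : Finset (Matrix ι ι F) := Finset.univ.image E
  let ee := O.equivFin.symm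
  let e' : Fin O.card → Matrix ι ι F := fun k => (ee k : Matrix ι ι F)
  have hmemO : ∀ k, ∃ i, e' k = E i := fun k => by
    obtain ⟨i, -, hi⟩ := Finset.mem_image.mp (ee k).2
    exact ⟨i, hi.symm⟩
  have hEpi : ∀ i, E (π i) = E i := fun i => by simp [E, hπinv, add_comm]
  have hgE : ∀ g ∈ H, ∀ (p : Equiv.Perm (Fin t)), (∀ i, cj g (e i) = e (p i)) →
      ∀ i, cj g (E i) = E (p i) := fun g hg p hp i => by
    have : p (π i) = π (p i) := heinj (by rw [← hp, hcomm g hg, hp, hπeq])
    simp [E, map_add, hp, this]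
  have h3 : 3 ≤ t := by have := he.two_le; omega
  have hcardO : 2 ≤ O.card := by
    let i₀ : Fin t := ⟨0, by omega⟩
    obtain ⟨j, hj⟩ : ∃ j, j ∉ ({i₀, π i₀} : Finset (Fin t)) := by
      by_contra hc
      push Not at hc
      have h1 : (Finset.univ : Finset (Fin t)).card ≤ ({i₀, π i₀} : Finset (Fin t)).card :=
        Finset.card_le_card fun x _ => hc x
      rw [Finset.card_univ, Fintype.card_fin] at h1
      have h2 : ({i₀, π i₀} : Finset (Fin t)).card ≤ 2 := Finset.card_le_two
      omega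
    refine Finset.one_lt_card.mpr ⟨E i₀, Finset.mem_image_of_mem _ (Finset.mem_univ _), E j,
      Finset.mem_image_of_mem _ (Finset.mem_univ _), fun hEE => ?_⟩
    have h1 := hEmul i₀ j
    simp only [Finset.mem_insert, Finset.mem_singleton] at hj
    rw [if_neg hj, ← hEE, hEmul, if_pos (Or.inl rfl)] at h1
    exact hEne i₀ h1
  have hfam : IdemFamily H e' := by
    refine ⟨hcardO, fun k => ?_, fun k => ?_, fun k l hkl => ?_, ?_, fun g hg => ?_, fun k l => ?_⟩
    · obtain ⟨i, hi⟩ := hmemO k
      rw [hi, hEmul, if_pos (Or.inl rfl)]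
    · obtain ⟨i, hi⟩ := hmemO k
      rw [hi]; exact hEne i
    · obtain ⟨i, hi⟩ := hmemO k
      obtain ⟨j, hj⟩ := hmemO l
      rw [hi, hj, hEmul, if_neg]
      intro hij
      apply hkl
      refine ee.injective (Subtype.ext ?_)
      show e' k = e' l
      rcases hij with rfl | rfl
      · rw [hi, hj]
      · rw [hi, hj, hEpi]
    · set s : Matrix ι ι F := ∑ k, e' k with hsdef
      have hes : ∀ i, s * e i = e i := by
        intro i
        have hEi : E i ∈ O := Finset.mem_image_of_mem _ (Finset.mem_univ _)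
        rw [hsdef, Finset.sum_mul, Finset.sum_eq_single (ee.symm ⟨E i, hEi⟩)]
        · show (ee (ee.symm ⟨E i, hEi⟩) : Matrix ι ι F) * e i = e i
          rw [Equiv.apply_symm_apply]
          simp [E, add_mul, he.idem, he.ortho (π i) i (hfix i)]
        · intro k _ hk
          obtain ⟨j, hj⟩ := hmemO k
          have hji : j ≠ i ∧ j ≠ π i := by
            constructor <;> (rintro rfl; apply hk; rw [Equiv.eq_symm_apply]; apply Subtype.ext)
            · exact hj
            · exact hj.trans (hEpi i)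
          have h5 : π j ≠ i := fun h4 => hji.2 (by rw [← h4, hπinv])
          rw [hj]
          simp [E, add_mul, he.ortho j i hji.1, he.ortho (π j) i h5]
        · simp
      calc s = s * ∑ i, e i := by rw [he.sum_eq, mul_one]
        _ = 1 := by rw [Finset.mul_sum, Finset.sum_congr rfl (fun i _ => hes i), he.sum_eq]
    · obtain ⟨p, hp⟩ := he.perm g hg
      have hmem : ∀ k, cj g (e' k) ∈ O := fun k => by
        obtain ⟨i, hi⟩ := hmemO k
        rw [hi, hgE g hg p hp]
        exact Finset.mem_image_of_mem _ (Finset.mem_univ _)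
      let φ : Fin O.card → Fin O.card := fun k => ee.symm ⟨cj g (e' k), hmem k⟩
      have hφ : Function.Injective φ := fun a b hab => by
        have h2 : cj g (e' a) = cj g (e' b) := congrArg Subtype.val (ee.symm.injective hab)
        exact ee.injective (Subtype.ext ((cj g).injective h2))
      exact ⟨Equiv.ofBijective φ (Finite.injective_iff_bijective.mp hφ), fun k => by simp [φ, e']⟩
    · obtain ⟨i, hi⟩ := hmemO k
      obtain ⟨j, hj⟩ := hmemO l
      obtain ⟨g, hg, hgij⟩ := he.trans i j
      obtain ⟨p, hp⟩ := he.perm g hg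
      have hpij : p i = j := heinj (by rw [← hp, hgij])
      exact ⟨g, hg, by rw [hi, hj, hgE g hg p hp, hpij]⟩
  have hsa : ∀ k, adj σ f (e' k) = e' k := fun k => by
    obtain ⟨i, hi⟩ := hmemO k
    simp [hi, E, h.adj_add, hπeq, hπinv, add_comm]
  obtain ⟨m, hm⟩ := hfam.nondegenerate h hsa
  exact ⟨_, m, _, hm⟩

end Cfsg.Agent.Aschbacher
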