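/-
Tensor decompositions: the normaliser of a proper subalgebra isomorphic to a full matrix algebra
lies in a tensor product subgroup.
-/
import Cfsg.Agent.Aschbacher.MatrixUnits

set_option autoImplicit false

namespace Cfsg.Agent.Aschbacher

open scoped MatrixGroups Matrix Kronecker
open Cfsg.Geo

variable {ι : Type} [Fintype ι] [DecidableEq ι] {F : Type*} [Field F]

/-- `X ↦ X ⊗ 1`, transported along `e` and `P`. -/
noncomputable def leftFactor {a b : ℕ} (e : ι ≃ Fin a × Fin b) (P : GL ι F) :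
    Matrix (Fin a) (Fin a) F →ₐ[F] Matrix ι ι F :=
  (cj P).toAlgHom.comp ((Matrix.reindexAlgEquiv F F e.symm).toAlgHom.comp
    { toFun := fun X => X ⊗ₖ (1 : Matrix (Fin b) (Fin b) F)
      map_one' := Matrix.one_kronecker_one
      map_mul' := fun X Y => by rw [← Matrix.mul_kronecker_mul, mul_one]
      map_zero' := Matrix.zero_kronecker _
      map_add' := fun X Y => Matrix.add_kronecker _ _ _
      commutes' := fun c => by
        ext i j
        simp [Matrix.algebraMap_matrix_apply, Prod.ext_iff, Matrix.one_apply]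
        split_ifs <;> simp_all })

lemma leftFactor_apply {a b : ℕ} (e : ι ≃ Fin a × Fin b) (P : GL ι F)
    (X : Matrix (Fin a) (Fin a) F) :
    leftFactor e P X = cj P (Matrix.reindex e.symm e.symm (X ⊗ₖ (1 : Matrix (Fin b) (Fin b) F))) :=
  rfl

/-- A matrix commuting with all `X ⊗ 1` is `1 ⊗ V`. -/
lemma eq_one_kronecker_of_commute {a b : ℕ} (ha : 0 < a)
    (M : Matrix (Fin a × Fin b) (Fin a × Fin b) F)
    (h : ∀ x y, M * (Matrix.single x y (1 : F) ⊗ₖ (1 : Matrix (Fin b) (Fin b) F))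
      = (Matrix.single x y (1 : F) ⊗ₖ (1 : Matrix (Fin b) (Fin b) F)) * M) :
    M = (1 : Matrix (Fin a) (Fin a) F) ⊗ₖ
      Matrix.of (fun k l => M (⟨0, ha⟩, k) (⟨0, ha⟩, l)) := by
  have e1 : ∀ x y i k j l, (if y = j then M (i, k) (x, l) else 0)
      = (if x = i then M (y, k) (j, l) else 0) := by
    intro x y i k j l
    have := congrFun (congrFun (h x y) (i, k)) (j, l)
    simpa [Matrix.mul_apply, Fintype.sum_prod_type, Matrix.single_apply, Matrix.one_apply,
      ite_and, mul_ite, Finset.sum_ite_eq, Finset.sum_ite_eq'] using this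
  ext ⟨i, k⟩ ⟨j, l⟩
  rw [Matrix.kroneckerMap_apply, Matrix.of_apply]
  by_cases hij : i = j
  · subst hij
    rw [Matrix.one_apply_eq, one_mul]
    have := e1 i ⟨0, ha⟩ i k ⟨0, ha⟩ l
    simpa using this
  · rw [Matrix.one_apply_ne hij, zero_mul]
    have := e1 j j i k j l
    simpa [Ne.symm hij] using this

/-- The normaliser of a subalgebra isomorphic to `M_a(F)` stabilises a tensor decomposition. -/
theorem exists_tensorProduct [Nonempty ι] {a : ℕ} (ha : 0 < a)
    (A : Subalgebra F (Matrix ι ι F)) (f : Matrix (Fin a) (Fin a) F ≃ₐ[F] A) :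
    ∃ (b : ℕ) (e : ι ≃ Fin a × Fin b) (P : GL ι F), 0 < b ∧ A = (leftFactor e P).range ∧
      subalgebraNormalizer A ≤ tensorProductSubgroup a b e P := by
  haveI : Nonempty (Fin a) := ⟨⟨0, ha⟩⟩
  obtain ⟨b, e, P, hb, hP⟩ :=
    (matUnits_of_hom f.toAlgHom (A.val.toRingHom)).exists_normal_form
  have hψ : A.val.comp f.toAlgHom = leftFactor e P := AlgHom.toLinearMap_injective
    (linearMap_ext_single fun x y => (hP x y).trans (leftFactor_apply e P _).symm)
  have hA : A = (leftFactor e P).range := by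
    rw [← hψ]
    refine le_antisymm (fun X hX => ⟨f.symm ⟨X, hX⟩, by simp⟩) ?_
    rintro _ ⟨X, rfl⟩
    exact (f X).2
  refine ⟨b, e, P, hb, hA, fun g hg => ?_⟩
  have hval : ∀ X, (f X : Matrix ι ι F) = leftFactor e P X := fun X => AlgHom.congr_fun hψ X
  let ψ : Matrix (Fin a) (Fin a) F →ₐ[F] Matrix (Fin a) (Fin a) F :=
    f.symm.toAlgHom.comp
      (((cj g).toAlgHom.comp (A.val.comp f.toAlgHom)).codRestrict A
        fun X => cj_mem_of_mem_normalizer hg (f X).2)
  obtain ⟨u, hu⟩ := skolem_noether ψ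
  have hgu : ∀ X, cj g (leftFactor e P X) = leftFactor e P (cj u X) := by
    intro X
    rw [← hu, ← hval, ← hval]
    simp [ψ]
    rfl
  -- the left part of g
  set T := tensorProductSubgroup a b e P
  let kr : GL (Fin a) F → GL (Fin b) F → GL (Fin a × Fin b) F := fun x y =>
    ⟨(x : Matrix (Fin a) (Fin a) F) ⊗ₖ (y : Matrix (Fin b) (Fin b) F),
      ((x⁻¹ : GL (Fin a) F) : Matrix (Fin a) (Fin a) F) ⊗ₖ
        ((y⁻¹ : GL (Fin b) F) : Matrix (Fin b) (Fin b) F),
      by rw [← Matrix.mul_kronecker_mul]; simp [Matrix.one_kronecker_one],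
      by rw [← Matrix.mul_kronecker_mul]; simp [Matrix.one_kronecker_one]⟩
  let emb : GL (Fin a × Fin b) F → GL ι F := fun k => P * glReindex e.symm k * P⁻¹
  have hemb : ∀ x y, emb (kr x y) ∈ T := by
    intro x y
    exact ⟨glReindex e.symm (kr x y), ⟨kr x y, ⟨x, y, rfl⟩, rfl⟩, rfl⟩
  have hembv : ∀ k, (emb k : Matrix ι ι F) =
      cj P (Matrix.reindex e.symm e.symm (k : Matrix (Fin a × Fin b) (Fin a × Fin b) F)) := by
    intro k
    simp only [emb, cj_apply, Units.val_mul]
    rfl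
  set w := emb (kr u 1) with hw
  have hwX : ∀ X, cj w (leftFactor e P X) = leftFactor e P (cj u X) := by
    intro X
    have hwv : (w : Matrix ι ι F) = leftFactor e P (u : Matrix (Fin a) (Fin a) F) := by
      rw [hw, hembv, leftFactor_apply]; simp [kr]
    have hwi : ((w⁻¹ : GL ι F) : Matrix ι ι F)
        = leftFactor e P ((u⁻¹ : GL (Fin a) F) : Matrix (Fin a) (Fin a) F) := by
      apply Units.inv_eq_of_mul_eq_one_right
      rw [hwv, ← map_mul, ← Units.val_mul, mul_inv_cancel, Units.val_one, map_one]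
    rw [cj_apply, hwv, hwi, ← map_mul, ← map_mul, cj_apply]
  -- the rest centralises
  set z := w⁻¹ * g with hz
  have hzX : ∀ X, cj z (leftFactor e P X) = leftFactor e P X := by
    intro X
    rw [hz, cj_mul, hgu, ← hwX, cj_inv_apply]
  let M : Matrix (Fin a × Fin b) (Fin a × Fin b) F :=
    Matrix.reindex e e (cj P⁻¹ (z : Matrix ι ι F))
  have hMz : cj P (Matrix.reindex e.symm e.symm M) = (z : Matrix ι ι F) := by
    have : Matrix.reindex e.symm e.symm M = cj P⁻¹ (z : Matrix ι ι F) := by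
      ext i j; simp [M]
    rw [this, ← cj_mul, mul_inv_cancel]
    simp [cj_apply]
  let ρ : Matrix (Fin a × Fin b) (Fin a × Fin b) F ≃ₐ[F] Matrix ι ι F :=
    (Matrix.reindexAlgEquiv F F e.symm).trans (cj P)
  have hMc := eq_one_kronecker_of_commute ha M (fun x y => by
    apply ρ.injective
    rw [map_mul, map_mul, show ρ M = (z : Matrix ι ι F) from hMz,
      show ρ (Matrix.single x y (1 : F) ⊗ₖ (1 : Matrix (Fin b) (Fin b) F))
        = leftFactor e P (Matrix.single x y 1) from rfl]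
    exact (cj_eq_self_iff z _).mp (hzX _))
  set V := Matrix.of (fun k l => M (⟨0, ha⟩, k) (⟨0, ha⟩, l))
  have hV : IsUnit V := by
    have hz' : IsUnit M := by
      have h1 : IsUnit (ρ M) := by
        rw [show ρ M = (z : Matrix ι ι F) from hMz]; exact z.isUnit
      simpa using h1.map ρ.symm
    rw [Matrix.isUnit_iff_isUnit_det, hMc, Matrix.det_kronecker] at hz'
    rw [Matrix.isUnit_iff_isUnit_det]
    simp only [Matrix.det_one, one_pow, one_mul, Fintype.card_fin] at hz'
    exact (isUnit_pow_iff ha.ne').mp hz'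
  have hzT : z = emb (kr 1 hV.unit) := by
    apply Units.ext
    rw [hembv, ← hMz]
    congr 2
  have : g = w * z := by rw [hz, mul_inv_cancel_left]
  rw [this, hzT]
  exact T.mul_mem (hemb u 1) (hemb 1 hV.unit)

/-- Exchanging the two factors does not change the tensor product subgroup. -/
lemma tensorProductSubgroup_swap {a b : ℕ} (e : ι ≃ Fin a × Fin b) (P : GL ι F) :
    tensorProductSubgroup a b e P ≤ tensorProductSubgroup b a (e.trans (Equiv.prodComm _ _)) P := by
  rintro _ ⟨_, ⟨k, ⟨x, y, hk⟩, rfl⟩, rfl⟩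
  refine ⟨glReindex (e.trans (Equiv.prodComm _ _)).symm (glReindex (Equiv.prodComm _ _) k), ?_, ?_⟩
  · refine ⟨glReindex (Equiv.prodComm _ _) k, ⟨y, x, ?_⟩, rfl⟩
    ext ⟨i, j⟩ ⟨i', j'⟩
    show (k : Matrix (Fin a × Fin b) (Fin a × Fin b) F) (j, i) (j', i') = _
    rw [hk, Matrix.kroneckerMap_apply, Matrix.kroneckerMap_apply, mul_comm]
  · congr 1

end Cfsg.Agent.Aschbacher
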