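/-
Forms in new coordinates, Gram matrices of hermitian forms, Kronecker products of Gram matrices.
-/
import Cfsg.Agent.Aschbacher.FormedGeometry
import Cfsg.Agent.Aschbacher.Tensor

set_option autoImplicit false
set_option linter.unusedSectionVars false

namespace Cfsg.Agent.Aschbacher

open scoped MatrixGroups Matrix Kronecker
open Cfsg.Geo

variable {ι : Type} [Fintype ι] [DecidableEq ι] {F : Type*} [Field F]
variable {κ : Type} [Fintype κ] [DecidableEq κ]

/-- The change of coordinates of invertible matrices attached to `e` and `P`. -/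
def coordEquiv (e : ι ≃ κ) (P : GL ι F) : GL κ F ≃* GL ι F :=
  (glReindex e.symm).trans (MulAut.conj P)

/-- The change of coordinates of matrices attached to `e` and `P`. -/
def coordAlg (e : ι ≃ κ) (P : GL ι F) : Matrix κ κ F ≃ₐ[F] Matrix ι ι F :=
  (Matrix.reindexAlgEquiv F F e.symm).trans (cj P)

/-- A form written in the coordinates attached to `e` and `P`. -/
def coordForm (e : ι ≃ κ) (P : GL ι F) (f : (ι → F) → (ι → F) → F) : (κ → F) → (κ → F) → F :=
  fun x y => f ((P : Matrix ι ι F) *ᵥ (x ∘ e)) ((P : Matrix ι ι F) *ᵥ (y ∘ e))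

lemma coordEquiv_val (e : ι ≃ κ) (P : GL ι F) (g : GL κ F) :
    ((coordEquiv e P g : GL ι F) : Matrix ι ι F) = coordAlg e P (g : Matrix κ κ F) := rfl

lemma coordAlg_apply (e : ι ≃ κ) (P : GL ι F) (M : Matrix κ κ F) :
    coordAlg e P M = cj P (Matrix.reindex e.symm e.symm M) := rfl

lemma coordAlg_mulVec (e : ι ≃ κ) (P : GL ι F) (M : Matrix κ κ F) (x : κ → F) :
    coordAlg e P M *ᵥ ((P : Matrix ι ι F) *ᵥ (x ∘ e)) = (P : Matrix ι ι F) *ᵥ ((M *ᵥ x) ∘ e) := by
  rw [coordAlg_apply, cj_apply, Matrix.mulVec_mulVec, mul_assoc, ← Units.val_mul, inv_mul_cancel,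
    Units.val_one, mul_one, ← Matrix.mulVec_mulVec]
  congr 1
  funext i
  simp only [Matrix.reindex_apply, Equiv.symm_symm, Matrix.mulVec, dotProduct,
    Matrix.submatrix_apply, Function.comp_apply]
  exact Equiv.sum_comp e fun k => M (e i) k * x k

lemma exists_coord (e : ι ≃ κ) (P : GL ι F) (v : ι → F) :
    ∃ x : κ → F, v = (P : Matrix ι ι F) *ᵥ (x ∘ e) := by
  refine ⟨(((P⁻¹ : GL ι F) : Matrix ι ι F) *ᵥ v) ∘ e.symm, ?_⟩
  rw [Function.comp_assoc, Equiv.symm_comp_self, Function.comp_id, Matrix.mulVec_mulVec,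
    ← Units.val_mul, mul_inv_cancel, Units.val_one, Matrix.one_mulVec]

lemma coord_injective (e : ι ≃ κ) (P : GL ι F) {x y : κ → F}
    (h : (P : Matrix ι ι F) *ᵥ (x ∘ e) = (P : Matrix ι ι F) *ᵥ (y ∘ e)) : x = y := by
  have h1 := Matrix.mulVec_injective_iff_isUnit.mpr P.isUnit h
  funext k
  simpa using congrFun h1 (e.symm k)

lemma coordEquiv_mem_iff (e : ι ≃ κ) (P : GL ι F) (H : Subgroup (GL ι F)) (g : GL κ F) :
    g ∈ H.comap (coordEquiv e P).toMonoidHom ↔ coordEquiv e P g ∈ H := Iff.rfl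

lemma map_comap_coord (e : ι ≃ κ) (P : GL ι F) (H : Subgroup (GL ι F)) :
    (H.comap (coordEquiv e P).toMonoidHom).map (coordEquiv e P).toMonoidHom = H :=
  Subgroup.map_comap_eq_self_of_surjective (coordEquiv e P).surjective H

lemma FixesForm.coord (e : ι ≃ κ) (P : GL ι F) {f : (ι → F) → (ι → F) → F}
    {H : Subgroup (GL ι F)} (hH : FixesForm (matrixSet H) f) :
    FixesForm (matrixSet (H.comap (coordEquiv e P).toMonoidHom)) (coordForm e P f) := by
  rintro _ ⟨g, hg, rfl⟩ u v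
  show f _ _ = f _ _
  rw [← coordAlg_mulVec e P, ← coordAlg_mulVec e P]
  exact hH _ (mem_matrixSet hg) _ _

lemma similarityGroup_coord (e : ι ≃ κ) (P : GL ι F) {f : (ι → F) → (ι → F) → F} {g : GL κ F}
    (hg : coordEquiv e P g ∈ similarityGroup f) : g ∈ similarityGroup (coordForm e P f) := by
  obtain ⟨c, hc⟩ := hg
  refine ⟨c, fun u v => ?_⟩
  show f _ _ = _ * f _ _
  rw [← coordAlg_mulVec e P, ← coordAlg_mulVec e P]
  exact hc _ _

lemma actsIrreducibly_coord (e : ι ≃ κ) (P : GL ι F) {H : Subgroup (GL ι F)}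
    (hH : ActsIrreducibly (matrixSet H)) :
    ActsIrreducibly (matrixSet (H.comap (coordEquiv e P).toMonoidHom)) := by
  intro W hW
  let T : (κ → F) →ₗ[F] (ι → F) :=
    (Matrix.toLin' (P : Matrix ι ι F)).comp (LinearMap.funLeft F F e)
  have hT : ∀ x, T x = (P : Matrix ι ι F) *ᵥ (x ∘ e) := fun x => rfl
  rcases eq_bot_or_eq_top hH (W.map T) (by
    rintro g hg _ ⟨x, hx, rfl⟩
    obtain ⟨g', rfl⟩ := (coordEquiv e P).surjective g
    refine ⟨(g' : Matrix κ κ F) *ᵥ x, ?_, ?_⟩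
    · have := hW _ (mem_matrixSet (show g' ∈ H.comap (coordEquiv e P).toMonoidHom from hg))
        (Submodule.mem_map_of_mem hx)
      rwa [Matrix.toLin'_apply] at this
    · rw [hT, hT, coordEquiv_val, coordAlg_mulVec]) with h | h
  · left
    rw [Submodule.eq_bot_iff]
    intro x hx
    have : T x ∈ W.map T := Submodule.mem_map_of_mem hx
    rw [h, Submodule.mem_bot, hT] at this
    exact coord_injective e P (this.trans (by simp))
  · right
    rw [eq_top_iff]
    intro x _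
    obtain ⟨y, hy, hyx⟩ : T x ∈ W.map T := h ▸ Submodule.mem_top
    rw [← coord_injective e P hyx]
    exact hy

variable {σ : F ≃+* F} {ε : F} {f : (ι → F) → (ι → F) → F}

theorem FormSpace.coord (h : FormSpace σ ε f) (e : ι ≃ κ) (P : GL ι F) :
    FormSpace σ ε (coordForm e P f) := by
  have hadd : ∀ x y : κ → F, (P : Matrix ι ι F) *ᵥ ((x + y) ∘ e)
      = (P : Matrix ι ι F) *ᵥ (x ∘ e) + (P : Matrix ι ι F) *ᵥ (y ∘ e) := fun x y => by
    rw [← Matrix.mulVec_add]; rfl
  have hsmul : ∀ (c : F) (x : κ → F), (P : Matrix ι ι F) *ᵥ ((c • x) ∘ e)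
      = c • ((P : Matrix ι ι F) *ᵥ (x ∘ e)) := fun c x => by
    rw [← Matrix.mulVec_smul]; rfl
  refine ⟨⟨fun x y v => ?_, fun c x v => ?_, fun v x y => ?_, fun c v x => ?_⟩, h.invol,
    fun v hv => ?_, fun u v => h.herm _ _⟩
  · simp only [coordForm, hadd, h.sesq.add_left]
  · simp only [coordForm, hsmul, h.sesq.smul_left]
  · simp only [coordForm, hadd, h.sesq.add_right]
  · simp only [coordForm, hsmul, h.sesq.smul_right]
  · obtain ⟨⟨x, hx⟩, ⟨y, hy⟩⟩ := h.nondeg _ (fun h0 : (P : Matrix ι ι F) *ᵥ (v ∘ e) = 0 =>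
      hv (coord_injective e P (h0.trans (by simp))))
    obtain ⟨x', rfl⟩ := exists_coord e P x
    obtain ⟨y', rfl⟩ := exists_coord e P y
    exact ⟨⟨x', hx⟩, ⟨y', hy⟩⟩

lemma FormSpace.adj_coord (h : FormSpace σ ε f) (e : ι ≃ κ) (P : GL ι F) (M : Matrix κ κ F) :
    adj σ f (coordAlg e P M) = coordAlg e P (adj σ (coordForm e P f) M) := by
  refine h.adj_unique fun u v => ?_
  obtain ⟨x, rfl⟩ := exists_coord e P u
  obtain ⟨y, rfl⟩ := exists_coord e P v
  rw [coordAlg_mulVec, coordAlg_mulVec]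
  exact (h.coord e P).adj_spec M x y

lemma FormSpace.gram_herm (h : FormSpace σ ε f) :
    (gramMatrix f)ᵀ = ε • (gramMatrix f).map σ := by
  ext i j
  simp only [Matrix.transpose_apply, Matrix.smul_apply, Matrix.map_apply, smul_eq_mul, gramMatrix]
  exact h.herm _ _

lemma FormSpace.adj_gram (h : FormSpace σ ε f) (X : Matrix ι ι F) :
    Xᵀ * gramMatrix f = gramMatrix f * (adj σ f X).map σ := by
  have hG : IsUnit (gramMatrix f).det :=
    (Matrix.isUnit_iff_isUnit_det _).mp (isUnit_gram h.sesq h.nondeg)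
  have hm : (adj σ f X).map σ = (gramMatrix f)⁻¹ * Xᵀ * gramMatrix f := by
    rw [adj, Matrix.map_map]
    ext a b
    simp [Matrix.map_apply, h.invol]
  rw [hm, ← mul_assoc, ← mul_assoc, Matrix.mul_nonsing_inv _ hG, one_mul]

/-- Hilbert's theorem 90 for an involutory automorphism. -/
lemma exists_hilbert90 {σ : F ≃+* F} (hσ : σ ≠ RingEquiv.refl F) (hinv : ∀ a, σ (σ a) = a) {c : F}
    (hc : c * σ c = 1) : ∃ δ : F, δ ≠ 0 ∧ σ δ = c * δ := by
  by_contra hall
  push Not at hall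
  have h1 : ∀ y, y + σ c * σ y = 0 := fun y => by
    by_contra h9
    refine hall _ h9 ?_
    rw [map_add, map_mul, hinv, hinv]
    linear_combination (-σ y) * hc
  have h2 := h1 1
  rw [map_one, mul_one] at h2
  refine hσ (RingEquiv.ext fun y => ?_)
  have h3 := h1 y
  have h4 : σ c = -1 := eq_neg_of_add_eq_zero_right h2
  rw [h4, neg_one_mul, ← sub_eq_add_neg, sub_eq_zero] at h3
  exact h3.symm

/-- Equal non-zero Kronecker products have proportional factors. -/
lemma kronecker_unique {α β : Type} [Fintype α] [Fintype β] [DecidableEq α] [DecidableEq β]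
    {A C : Matrix α α F} {B D : Matrix β β F}
    (hA : A ≠ 0) (hB : B ≠ 0) (h : A ⊗ₖ B = C ⊗ₖ D) :
    ∃ c : F, c ≠ 0 ∧ C = c • A ∧ D = c⁻¹ • B := by
  obtain ⟨i, hi⟩ : ∃ i, A i ≠ 0 := Function.ne_iff.mp hA
  obtain ⟨j, hj⟩ : ∃ j, A i j ≠ 0 := Function.ne_iff.mp hi
  obtain ⟨k, hk⟩ : ∃ k, B k ≠ 0 := Function.ne_iff.mp hB
  obtain ⟨l, hl⟩ : ∃ l, B k l ≠ 0 := Function.ne_iff.mp hk
  have e : ∀ x y u v, A x y * B u v = C x y * D u v := fun x y u v =>
    congrFun (congrFun h (x, u)) (y, v)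
  have hne : C i j * D k l ≠ 0 := by rw [← e]; exact mul_ne_zero hj hl
  have hC0 := left_ne_zero_of_mul hne
  have hD0 := right_ne_zero_of_mul hne
  refine ⟨B k l / D k l, div_ne_zero hl hD0, ?_, ?_⟩
  · ext x y
    rw [Matrix.smul_apply, smul_eq_mul, div_mul_eq_mul_div, eq_div_iff hD0, ← e, mul_comm]
  · ext u v
    rw [Matrix.smul_apply, smul_eq_mul, inv_div, div_mul_eq_mul_div, eq_div_iff hl]
    have h1 := e i j u v
    have h2 := e i j k l
    have h3 : A i j * (D u v * B k l) = A i j * (D k l * B u v) := by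
      linear_combination (D u v) * h2 - (D k l) * h1
    exact mul_left_cancel₀ hj h3

lemma kronecker_transpose {α β : Type} (A : Matrix α α F) (B : Matrix β β F) :
    (A ⊗ₖ B)ᵀ = Aᵀ ⊗ₖ Bᵀ := rfl

lemma kronecker_map {α β : Type} (τ : F ≃+* F) (A : Matrix α α F) (B : Matrix β β F) :
    (A ⊗ₖ B).map τ = A.map τ ⊗ₖ B.map τ := by
  ext x y
  simp [Matrix.kroneckerMap_apply]

lemma tensorProductSubgroup_eq {a b : ℕ} (e : ι ≃ Fin a × Fin b) (P : GL ι F) :
    tensorProductSubgroup a b e P = (kroneckerSubgroup a b F).map (coordEquiv e P).toMonoidHom := by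
  rw [tensorProductSubgroup, Subgroup.map_map]
  rfl

lemma tensorWreathSubgroup_eq {k t : ℕ} (e : ι ≃ (Fin t → Fin k)) (P : GL ι F) :
    tensorWreathSubgroup k t e P
      = (tensorWreathStandard k t F).map (coordEquiv e P).toMonoidHom := by
  rw [tensorWreathSubgroup, Subgroup.map_map]
  rfl

lemma leftFactor_eq_coord {a b : ℕ} (e : ι ≃ Fin a × Fin b) (P : GL ι F)
    (X : Matrix (Fin a) (Fin a) F) :
    leftFactor e P X = coordAlg e P (X ⊗ₖ (1 : Matrix (Fin b) (Fin b) F)) := rfl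

end Cfsg.Agent.Aschbacher
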