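/-
Quadratic forms in characteristic two polarising to an alternating form, and skew square roots of
scalars.
-/
import Cfsg.Agent.Aschbacher.FormedCoord
import Cfsg.Agent.Aschbacher.FieldSub

set_option autoImplicit false
set_option linter.unusedSectionVars false
set_option linter.style.haveILetI false

namespace Cfsg.Agent.Aschbacher

open scoped MatrixGroups Matrix Kronecker
open Cfsg.Geo

variable {ι : Type} [Fintype ι] [DecidableEq ι] {F : Type*} [Field F]
variable {f : (ι → F) → (ι → F) → F}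

/-- Additive and quadratically homogeneous functions are determined on the standard basis. -/
lemma semilinear_eq_zero {D : (ι → F) → F} (hadd : ∀ u v, D (u + v) = D u + D v)
    (hsmul : ∀ (c : F) v, D (c • v) = c ^ 2 * D v) (hb : ∀ i, D (Pi.single i 1) = 0) (v : ι → F) :
    D v = 0 := by
  have hv : v = ∑ i, v i • Pi.single i (1 : F) := by
    funext j; simp [Finset.sum_apply, Pi.single_apply]
  let Dh : (ι → F) →+ F := AddMonoidHom.mk' D hadd
  show Dh v = 0
  rw [hv, map_sum]
  refine Finset.sum_eq_zero fun i _ => ?_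
  show D (v i • Pi.single i (1 : F)) = 0
  rw [hsmul, hb, mul_zero]

lemma quad_add {Q : (ι → F) → F} (hpol : ∀ u v, QuadraticMap.polar Q u v = f u v) (u v : ι → F) :
    Q (u + v) = Q u + Q v + f u v := by
  rw [← hpol, QuadraticMap.polar]; ring

/-- An isometry of the polar form preserving the values on a basis preserves the quadratic form. -/
lemma quad_invariant {Q : (ι → F) → F} (hQ : ∀ (c : F) v, Q (c • v) = c ^ 2 * Q v)
    (hpol : ∀ u v, QuadraticMap.polar Q u v = f u v) {M : Matrix ι ι F}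
    (hM : ∀ u v, f (M *ᵥ u) (M *ᵥ v) = f u v)
    (hb : ∀ i, Q (M *ᵥ Pi.single i 1) = Q (Pi.single i 1)) (v : ι → F) : Q (M *ᵥ v) = Q v := by
  refine sub_eq_zero.mp (semilinear_eq_zero (D := fun v => Q (M *ᵥ v) - Q v) (fun u w => ?_)
    (fun c w => ?_) (fun i => by rw [hb, sub_self]) v)
  · simp only [Matrix.mulVec_add, quad_add hpol, hM]; ring
  · simp only [Matrix.mulVec_smul, hQ]; ring

/-- An alternating form in characteristic two is a polar form, with any prescribed zero diagonal. -/
theorem exists_quad_polar (h : FormSpace (RingEquiv.refl F) (-1) f) (halt : ∀ v, f v v = 0)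
    (h2 : (2 : F) = 0) :
    ∃ Q : (ι → F) → F, IsNondegenerateQuadraticForm Q ∧ (∀ u v, QuadraticMap.polar Q u v = f u v) ∧
      ∀ i, Q (Pi.single i 1) = 0 := by
  classical
  let o := Fintype.equivFin ι
  set G := gramMatrix f with hG
  let U : Matrix ι ι F := Matrix.of fun i j => if o i < o j then G i j else 0
  have hsym : ∀ i j, G j i = G i j := fun i j => by
    have h1 : G j i = (-1) * G i j := h.herm _ _
    rw [h1, neg_one_mul]
    have h3 : G i j + G i j = 0 := by rw [← two_mul, h2, zero_mul]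
    exact (eq_neg_of_add_eq_zero_left h3).symm
  have hU : U + Uᵀ = G := by
    ext i j
    rcases lt_trichotomy (o i) (o j) with hl | hl | hl
    · simp [U, hl, not_lt.mpr hl.le]
    · have hij := o.injective hl
      subst hij
      simp [U, show G i i = 0 from halt _]
    · simp [U, hl, not_lt.mpr hl.le, hsym i j]
  let Q : (ι → F) → F := fun v => v ⬝ᵥ (U *ᵥ v)
  have hf : ∀ u v, f u v = u ⬝ᵥ (G *ᵥ v) := fun u v => by
    rw [h.sesq.eq_formOfGram, formOfGram_eq]; rfl
  have hpol : ∀ u v, QuadraticMap.polar Q u v = f u v := by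
    intro u v
    have e : v ⬝ᵥ (U *ᵥ u) = u ⬝ᵥ (Uᵀ *ᵥ v) := by
      rw [Matrix.dotProduct_mulVec u Uᵀ v, Matrix.vecMul_transpose, dotProduct_comm]
    rw [hf, ← hU, Matrix.add_mulVec, dotProduct_add, ← e]
    simp only [QuadraticMap.polar, Q, Matrix.mulVec_add, add_dotProduct, dotProduct_add]
    ring
  have hb : IsBilinearForm f :=
    ⟨h.sesq.add_left, h.sesq.smul_left, h.sesq.add_right, h.sesq.smul_right⟩
  have hpe : QuadraticMap.polar Q = f := funext fun u => funext (hpol u)
  refine ⟨Q, ⟨fun c v => ?_, hpe ▸ hb, hpe ▸ h.nondeg⟩, hpol, fun i => ?_⟩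
  · simp only [Q, Matrix.mulVec_smul, smul_dotProduct, dotProduct_smul, smul_eq_mul]; ring
  · simp [Q, U]

variable {κ : Type} [Fintype κ] [DecidableEq κ]

/-- An invariant quadratic form in new coordinates gives one in the old coordinates, with its values. -/
theorem exists_quad_of_coord_strong (e : ι ≃ κ) (P : GL ι F) {H : Subgroup (GL ι F)} {Q : (κ → F) → F}
    (hb : IsBilinearForm f) (hn : IsNondegenerateForm f)
    (hQ : IsNondegenerateQuadraticForm Q)
    (hpol : ∀ u v, QuadraticMap.polar Q u v = coordForm e P f u v)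
    (hH : ∀ g : GL κ F, coordEquiv e P g ∈ H → ∀ v, Q ((g : Matrix κ κ F) *ᵥ v) = Q v) :
    ∃ Q' : (ι → F) → F, IsNondegenerateQuadraticForm Q' ∧
      (∀ u v, QuadraticMap.polar Q' u v = f u v) ∧ FixesQuadForm (matrixSet H) Q' ∧
      ∀ x : κ → F, Q' ((P : Matrix ι ι F) *ᵥ (x ∘ e)) = Q x := by
  let back : (ι → F) → (κ → F) := fun v => (((P⁻¹ : GL ι F) : Matrix ι ι F) *ᵥ v) ∘ e.symm
  have hback : ∀ x, back ((P : Matrix ι ι F) *ᵥ (x ∘ e)) = x := fun x => by
    simp only [back, Matrix.mulVec_mulVec, ← Units.val_mul, inv_mul_cancel, Units.val_one,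
      Matrix.one_mulVec, Function.comp_assoc, Equiv.self_comp_symm, Function.comp_id]
  have hadd : ∀ u v, back (u + v) = back u + back v := fun u v => by
    simp only [back, Matrix.mulVec_add]; rfl
  have hsmul : ∀ (c : F) u, back (c • u) = c • back u := fun c u => by
    simp only [back, Matrix.mulVec_smul]; rfl
  have hpol' : ∀ u v, QuadraticMap.polar (fun v => Q (back v)) u v = f u v := by
    intro u v
    obtain ⟨x, rfl⟩ := exists_coord e P u
    obtain ⟨y, rfl⟩ := exists_coord e P v
    have h1 := hpol x y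
    rw [QuadraticMap.polar] at h1
    simp only [QuadraticMap.polar, hadd, hback]
    exact h1
  have hpe : QuadraticMap.polar (fun v => Q (back v)) = f := funext fun u => funext (hpol' u)
  refine ⟨fun v => Q (back v), ⟨fun c v => ?_, hpe ▸ hb, hpe ▸ hn⟩, hpol', ?_, fun x => congrArg Q (hback x)⟩
  · rw [hsmul, hQ.smul]
  · rintro _ ⟨g, hg, rfl⟩ v
    obtain ⟨g', rfl⟩ := (coordEquiv e P).surjective g
    obtain ⟨x, rfl⟩ := exists_coord e P v
    show Q (back (((coordEquiv e P g' : GL ι F) : Matrix ι ι F) *ᵥ _)) = Q (back _)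
    rw [coordEquiv_val, coordAlg_mulVec, hback, hback, hH g' hg]

/-- An invariant quadratic form in new coordinates gives one in the old coordinates. -/
theorem exists_quad_of_coord (e : ι ≃ κ) (P : GL ι F) {H : Subgroup (GL ι F)} {Q : (κ → F) → F}
    (hb : IsBilinearForm f) (hn : IsNondegenerateForm f)
    (hQ : IsNondegenerateQuadraticForm Q)
    (hpol : ∀ u v, QuadraticMap.polar Q u v = coordForm e P f u v)
    (hH : ∀ g : GL κ F, coordEquiv e P g ∈ H → ∀ v, Q ((g : Matrix κ κ F) *ᵥ v) = Q v) :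
    ∃ Q' : (ι → F) → F, IsNondegenerateQuadraticForm Q' ∧
      (∀ u v, QuadraticMap.polar Q' u v = f u v) ∧ H ≤ quadSimilarityGroup Q' := by
  obtain ⟨Q', h1, h2, h3, -⟩ := exists_quad_of_coord_strong e P hb hn hQ hpol hH
  exact ⟨Q', h1, h2, fun g hg => ⟨1, fun v => by
    rw [Units.val_one, one_mul]; exact h3 _ ⟨g, hg, rfl⟩ v⟩⟩

/-- A skew-adjoint square root of a scalar normalised up to sign: a quadratic field which is not
self-adjoint, or two complementary totally singular halves. -/
theorem skew_sqrt_cases [Nonempty ι] {ε : F} (h : FormSpace (RingEquiv.refl F) ε f) (h2 : (2 : F) ≠ 0)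
    {H : Subgroup (GL ι F)} {X : Matrix ι ι F} {δ : F} (hδ : δ ≠ 0)
    (hX : X * X = δ • (1 : Matrix ι ι F)) (hskew : adj (RingEquiv.refl F) f X = -X)
    (hH : ∀ g ∈ H, cj g X = X ∨ cj g X = -X) :
    (∃ K : Subalgebra F (Matrix ι ι F), IsFieldSubalgebra 2 K ∧ IsAdjointClosedFor f K ∧
      ¬ IsSelfAdjointFor f K ∧ H ≤ subalgebraNormalizer K) ∨
    (∃ (k : ℕ) (D : Fin 2 → Submodule F (ι → F)), 2 * k = Fintype.card ι ∧ IsMDecomposition k D ∧
      (∀ i, IsTotallySingularFor f (D i)) ∧ H ≤ decompositionStabilizer D) := by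
  classical
  have hXns : ∀ a : F, X ≠ a • (1 : Matrix ι ι F) := by
    intro a ha
    have h1 : a • (1 : Matrix ι ι F) = -(a • (1 : Matrix ι ι F)) := by
      rw [← ha, ← hskew]
      conv_lhs => rw [ha]
      conv_rhs => rw [ha, h.adj_smul, h.adj_one, RingEquiv.refl_apply]
    have h3 : ((2 : F) * a) • (1 : Matrix ι ι F) = 0 := by
      rw [two_mul, add_smul]
      exact eq_neg_iff_add_eq_zero.mp h1
    rcases smul_eq_zero.mp h3 with h4 | h4
    · rw [(mul_eq_zero.mp h4).resolve_left h2, zero_smul] at ha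
      rw [ha, mul_zero] at hX
      exact hδ ((smul_eq_zero.mp hX.symm).resolve_right one_ne_zero)
    · exact one_ne_zero h4
  by_cases hsq : IsSquare δ
  · right
    obtain ⟨s, hs⟩ := hsq
    have hs0 : s ≠ 0 := fun h0 => hδ (by rw [hs, h0, mul_zero])
    let E : Fin 2 → Matrix ι ι F := fun i =>
      (2 : F)⁻¹ • ((1 : Matrix ι ι F) + ((if i = 0 then 1 else -1 : F) * s⁻¹) • X)
    have hsum : E 0 + E 1 = 1 := by
      simp only [E]
      rw [if_neg (by decide : (1 : Fin 2) ≠ 0)]
      match_scalars <;> field_simp <;> norm_num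
    have hsx : (s⁻¹ • X) * (s⁻¹ • X) = (1 : Matrix ι ι F) := by
      rw [smul_mul_smul_comm, hX, smul_smul, hs]
      field_simp
      rw [one_smul]
    have hidem : ∀ i, E i * E i = E i := by
      intro i
      set Y : Matrix ι ι F := ((if i = 0 then 1 else -1 : F) * s⁻¹) • X with hY
      have hYY : Y * Y = 1 := by
        rw [hY, mul_smul, smul_mul_smul_comm, hsx]
        split_ifs <;> simp
      show ((2 : F)⁻¹ • (1 + Y)) * ((2 : F)⁻¹ • (1 + Y)) = (2 : F)⁻¹ • (1 + Y)
      rw [smul_mul_smul_comm, show (1 + Y) * (1 + Y) = (2 : F) • (1 + Y) by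
        rw [add_mul, one_mul, mul_add, mul_one, hYY, two_smul]; abel, smul_smul]
      congr 1
      field_simp
    have hadj : ∀ i, adj (RingEquiv.refl F) f (E i) = 1 - E i := by
      intro i
      rw [eq_sub_iff_add_eq]
      simp only [E, h.adj_smul, h.adj_add, h.adj_one, hskew, RingEquiv.refl_apply, smul_neg,
        ← smul_add]
      rw [show ((1 : Matrix ι ι F) + -(((if i = 0 then 1 else -1 : F) * s⁻¹) • X)) +
        (1 + ((if i = 0 then 1 else -1 : F) * s⁻¹) • X) = (2 : F) • (1 : Matrix ι ι F) by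
          rw [two_smul]; abel, smul_smul, inv_mul_cancel₀ h2, one_smul]
    have hperp : E 0 * E 1 = 0 := by
      have : E 1 = 1 - E 0 := by rw [← hsum]; abel
      rw [this, mul_sub, mul_one, hidem, sub_self]
    have hperp' : E 1 * E 0 = 0 := by
      have : E 0 = 1 - E 1 := by rw [← hsum]; abel
      rw [this, mul_sub, mul_one, hidem, sub_self]
    have hrank : (E 1).rank = (E 0).rank := by
      have e1 : E 1 = adj (RingEquiv.refl F) f (E 0) := by rw [hadj, ← hsum]; abel
      have hG : IsUnit (gramMatrix f).det :=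
        (Matrix.isUnit_iff_isUnit_det _).mp (isUnit_gram h.sesq h.nondeg)
      have e2 : adj (RingEquiv.refl F) f (E 0) = (gramMatrix f)⁻¹ * (E 0)ᵀ * gramMatrix f := by
        ext a b; rfl
      rw [e1, e2, Matrix.rank_mul_eq_left_of_isUnit_det _ _ hG,
        Matrix.rank_mul_eq_right_of_isUnit_det _ _
          ((Matrix.isUnit_nonsing_inv_det_iff).mpr hG), Matrix.rank_transpose]
    have hmem : ∀ {i : Fin 2} {v : ι → F}, v ∈ idemSpace E i ↔ E i *ᵥ v = v := by
      intro i v
      refine ⟨?_, fun hv => ⟨v, by simpa using hv⟩⟩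
      rintro ⟨w, rfl⟩
      simp [Matrix.mulVec_mulVec, hidem i]
    have hrk : ∀ i, Module.finrank F (idemSpace E i) = (E 0).rank := fun i => by
      fin_cases i
      · rfl
      · exact hrank
    have hcompl : IsCompl (idemSpace E 0) (idemSpace E 1) := by
      constructor
      · rw [Submodule.disjoint_def]
        intro v hv hv'
        rw [← hmem.mp hv, ← hmem.mp hv', Matrix.mulVec_mulVec, hperp, Matrix.zero_mulVec]
      · rw [codisjoint_iff, eq_top_iff]
        intro v _
        rw [show v = E 0 *ᵥ v + E 1 *ᵥ v by rw [← Matrix.add_mulVec, hsum, Matrix.one_mulVec]]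
        exact Submodule.add_mem_sup ⟨v, rfl⟩ ⟨v, rfl⟩
    have hcard : 2 * (E 0).rank = Fintype.card ι := by
      have := Submodule.finrank_add_eq_of_isCompl hcompl
      rw [hrk, hrk, Module.finrank_pi] at this
      omega
    refine ⟨(E 0).rank, idemSpace E, hcard, ⟨le_rfl, ?_, hrk, ?_, ?_⟩, fun i u hu v hv => ?_, ?_⟩
    · have := Fintype.card_pos (α := ι); omega
    · rw [iSupIndep_pair (i := (0 : Fin 2)) (j := 1) (by decide) (fun k => by fin_cases k <;> simp)]
      exact hcompl.disjoint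
    · rw [eq_top_iff, ← hcompl.sup_eq_top]
      exact sup_le (le_iSup (idemSpace E) 0) (le_iSup (idemSpace E) 1)
    · rw [← hmem.mp hu, ← hmem.mp hv, h.adj_spec, hadj, Matrix.mulVec_mulVec, sub_mul, one_mul,
        hidem, sub_self, Matrix.zero_mulVec, h.zero_right]
    · intro g hg
      have hmap : ∀ {i j : Fin 2}, cj g (E i) = E j →
          (idemSpace E i).map (Matrix.toLin' (g : Matrix ι ι F)) = idemSpace E j := by
        intro i j hij
        have hgi : (g : Matrix ι ι F) * E i = E j * (g : Matrix ι ι F) := by rw [mul_eq_cj_mul, hij]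
        refine le_antisymm ?_ fun w hw => ?_
        · rintro _ ⟨_, ⟨w, rfl⟩, rfl⟩
          exact ⟨(g : Matrix ι ι F) *ᵥ w, by simp [Matrix.mulVec_mulVec, hgi]⟩
        · refine ⟨E i *ᵥ (((g⁻¹ : GL ι F) : Matrix ι ι F) *ᵥ w), ⟨_, rfl⟩, ?_⟩
          rw [Matrix.toLin'_apply, Matrix.mulVec_mulVec, Matrix.mulVec_mulVec, hgi, mul_assoc,
            ← Units.val_mul, mul_inv_cancel, Units.val_one, mul_one, hmem.mp hw]
      rcases hH g hg with h3 | h3
      · refine ⟨1, fun i => hmap ?_⟩
        fin_cases i <;> simp [E, map_smul, map_add, h3]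
      · refine ⟨Equiv.swap 0 1, fun i => hmap ?_⟩
        fin_cases i <;> simp [E, map_smul, map_add, h3, smul_neg, neg_smul]
  left
  let K : Subalgebra F (Matrix ι ι F) :=
    { carrier := {Y | ∃ a b : F, Y = a • (1 : Matrix ι ι F) + b • X}
      one_mem' := ⟨1, 0, by simp⟩
      zero_mem' := ⟨0, 0, by simp⟩
      add_mem' := fun {Y Z} ⟨a, b, hY⟩ ⟨c, d, hZ⟩ =>
        ⟨a + c, b + d, by rw [hY, hZ, add_smul, add_smul]; abel⟩
      mul_mem' := fun {Y Z} ⟨a, b, hY⟩ ⟨c, d, hZ⟩ => ⟨a * c + b * d * δ, a * d + b * c, by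
        rw [hY, hZ]
        simp only [add_mul, mul_add, smul_mul_smul_comm, one_mul, mul_one, hX, smul_smul, add_smul]
        abel⟩
      algebraMap_mem' := fun c => ⟨c, 0, by simp [Algebra.algebraMap_eq_smul_one]⟩ }
  have hXK : X ∈ K := ⟨0, 1, by simp⟩
  have hzero : ∀ a b : F, a • (1 : Matrix ι ι F) + b • X = 0 → a = 0 ∧ b = 0 := by
    intro a b hab
    by_cases hb : b = 0
    · rw [hb, zero_smul, add_zero] at hab
      exact ⟨(smul_eq_zero.mp hab).resolve_right one_ne_zero, hb⟩
    · exfalso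
      apply hXns (-(b⁻¹ * a))
      have h3 := congrArg (fun Y => b⁻¹ • Y) hab
      simp only [smul_add, smul_smul, inv_mul_cancel₀ hb, one_smul, smul_zero] at h3
      rw [neg_smul]
      exact eq_neg_of_add_eq_zero_right h3
  have hfr : Module.finrank F K = 2 := by
    have hli : LinearIndependent F ![(⟨1, K.one_mem⟩ : K), ⟨X, hXK⟩] := by
      rw [LinearIndependent.pair_iff]
      exact fun a b hab => hzero a b (congrArg Subtype.val hab)
    refine le_antisymm ?_ (by simpa using hli.fintype_card_le_finrank)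
    have hsp : ⊤ ≤ Submodule.span F (Set.range ![(⟨1, K.one_mem⟩ : K), ⟨X, hXK⟩]) := by
      rintro ⟨Y, a, b, rfl⟩ -
      rw [Submodule.mem_span_range_iff_exists_fun]
      exact ⟨![a, b], Subtype.ext (by simp [Fin.sum_univ_two])⟩
    have := finrank_range_le_card (R := F) ![(⟨1, K.one_mem⟩ : K), ⟨X, hXK⟩]
    rw [Set.finrank, top_le_iff.mp hsp, finrank_top, Fintype.card_fin] at this
    exact this
  refine ⟨K, ⟨?_, ?_, hfr⟩, ?_, ?_, le_subalgebraNormalizer ?_⟩
  · rintro _ ⟨a, b, rfl⟩ _ ⟨c, d, rfl⟩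
    simp only [add_mul, mul_add, smul_mul_smul_comm, one_mul, mul_one, mul_comm a c, mul_comm a d,
      mul_comm b c, mul_comm b d]
    abel
  · rintro _ ⟨a, b, rfl⟩ hne
    have hN : a * a - b * b * δ ≠ 0 := by
      intro h0
      by_cases hb : b = 0
      · apply hne
        rw [hb] at h0 ⊢
        have : a = 0 := by simpa using h0
        simp [this]
      · exact hsq ⟨a / b, by field_simp; linear_combination -h0⟩
    refine ⟨(a * a - b * b * δ)⁻¹ • (a • (1 : Matrix ι ι F) + (-b) • X),
      K.smul_mem ⟨a, -b, rfl⟩ _, ?_⟩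
    rw [mul_smul_comm, show (a • (1 : Matrix ι ι F) + b • X) * (a • (1 : Matrix ι ι F) + (-b) • X)
      = (a * a - b * b * δ) • (1 : Matrix ι ι F) by
        simp only [add_mul, mul_add, smul_mul_smul_comm, one_mul, mul_one, hX, smul_smul]
        rw [sub_smul, mul_neg, mul_neg, neg_smul, neg_mul, neg_smul, mul_comm b a]
        abel, smul_smul, inv_mul_cancel₀ hN, one_smul]
  · rintro _ ⟨a, b, rfl⟩
    refine ⟨a • (1 : Matrix ι ι F) + (-b) • X, ⟨a, -b, rfl⟩, fun u v => ?_⟩
    rw [h.adj_spec]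
    congr 2
    rw [h.adj_add, h.adj_smul, h.adj_smul, h.adj_one, hskew, RingEquiv.refl_apply,
      RingEquiv.refl_apply, smul_neg, neg_smul]
  · intro hsa
    have h3 : -X = X := by rw [← hskew]; exact h.adj_unique (hsa X hXK)
    apply hXns 0
    have h4 : (2 : F) • X = 0 := by rw [two_smul]; nth_rewrite 1 [← h3]; exact neg_add_cancel X
    rw [(smul_eq_zero.mp h4).resolve_left h2, zero_smul]
  · rintro g hg _ ⟨a, b, rfl⟩
    rw [map_add, map_smul, map_smul, map_one]
    rcases hH g hg with h3 | h3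
    · exact ⟨a, b, by rw [h3]⟩
    · exact ⟨a, -b, by rw [h3, smul_neg, neg_smul]⟩

end Cfsg.Agent.Aschbacher
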