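/-
Subfields: double centraliser for absolutely irreducible groups, normalisers of groups realisable
over a subfield, descent of spanning multiplicatively closed lattices.
-/
import Cfsg.Agent.Aschbacher.Trichotomy
import Cfsg.Agent.Aschbacher.Tensor

set_option autoImplicit false
set_option maxHeartbeats 4000000

namespace Cfsg.Agent.Aschbacher

open scoped MatrixGroups Matrix Kronecker
open Cfsg.Geo

variable {ι : Type} [Fintype ι] [DecidableEq ι] {F : Type*} [Field F]

lemma normalizes_env_self (P : Subgroup (GL ι F)) : P ≤ subalgebraNormalizer (env P) :=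
  le_subalgebraNormalizer fun _ hg _ hX =>
    cj_mem_env (fun _ hx => P.mul_mem (P.mul_mem hg hx) (P.inv_mem hg)) hX

/-- An absolutely irreducible group spans the whole matrix algebra. -/
theorem env_eq_top [Finite F] [Nonempty ι] {P : Subgroup (GL ι F)}
    (hP : ActsAbsolutelyIrreducibly (matrixSet P)) : env P = ⊤ := by
  have hcen : ∀ X ∈ centre (env P), ∃ c : F, X = c • (1 : Matrix ι ι F) := fun X hX =>
    hP.2 X fun s hs => ((mem_centre.mp hX).2 s (Algebra.subset_adjoin hs)).symm
  rcases trichotomy hP.1 (env P) (normalizes_env_self P) with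
    ⟨e, he, hee, he0, he1⟩ | ⟨d, hd, hK⟩ | ⟨a, ha, ⟨f⟩⟩
  · exfalso
    obtain ⟨c, rfl⟩ := hcen e he
    rw [smul_mul_smul_comm, one_mul] at hee
    have hcc : c * c = c := smul_left_injective F (one_ne_zero (α := Matrix ι ι F)) hee
    rcases mul_eq_zero.mp (show c * (c - 1) = 0 by rw [mul_sub, hcc, mul_one, sub_self]) with
      h | h
    · exact he0 (by rw [h, zero_smul])
    · exact he1 (by rw [sub_eq_zero.mp h, one_smul])
  · exfalso
    have hle : Subalgebra.toSubmodule (centre (env P)) ≤ F ∙ (1 : Matrix ι ι F) := fun X hX => by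
      obtain ⟨c, rfl⟩ := hcen X hX
      exact Submodule.smul_mem _ _ (Submodule.mem_span_singleton_self _)
    have h1 := Submodule.finrank_mono hle
    rw [finrank_span_singleton (one_ne_zero (α := Matrix ι ι F)),
      Subalgebra.finrank_toSubmodule, hK.finrank_eq] at h1
    omega
  · obtain ⟨b, e, Q, hb, hA, -⟩ := exists_tensorProduct (by omega) (env P) f
    have hb1 : b = 1 := by
      by_contra hne
      let k0 : Fin b := ⟨0, hb⟩
      let k1 : Fin b := ⟨1, by omega⟩
      let ρ : Matrix (Fin a × Fin b) (Fin a × Fin b) F ≃ₐ[F] Matrix ι ι F :=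
        (Matrix.reindexAlgEquiv F F e.symm).trans (cj Q)
      let N : Matrix (Fin a × Fin b) (Fin a × Fin b) F :=
        (1 : Matrix (Fin a) (Fin a) F) ⊗ₖ Matrix.single k0 k1 (1 : F)
      obtain ⟨c, hc⟩ := hP.2 (ρ N) (fun s hs => by
        obtain ⟨X, hX⟩ : s ∈ (leftFactor e Q).range := hA ▸ Algebra.subset_adjoin hs
        rw [← hX]
        show ρ N * leftFactor e Q X = leftFactor e Q X * ρ N
        rw [show (leftFactor e Q) X = ρ (X ⊗ₖ (1 : Matrix (Fin b) (Fin b) F)) from rfl,
          ← map_mul, ← map_mul, ← Matrix.mul_kronecker_mul, ← Matrix.mul_kronecker_mul,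
          one_mul, mul_one, one_mul, mul_one])
      have : N = c • 1 := ρ.injective (by rw [hc, map_smul, map_one])
      have i0 : Fin a := ⟨0, by omega⟩
      have := congrFun (congrFun this (i0, k0)) (i0, k1)
      simp [N, k0, k1] at this
    rw [← Algebra.toSubmodule_eq_top]
    refine Submodule.eq_top_of_finrank_eq ?_
    rw [Subalgebra.finrank_toSubmodule, ← f.toLinearEquiv.finrank_eq]
    have hc := Fintype.card_congr e
    simp [hb1] at hc
    simp [Module.finrank_matrix, hc]

lemma span_eq_top [Finite F] [Nonempty ι] {P : Subgroup (GL ι F)}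
    (hP : ActsAbsolutelyIrreducibly (matrixSet P)) :
    Submodule.span F (matrixSet P) = ⊤ := by
  rw [← env_toSubmodule, env_eq_top hP, Algebra.top_toSubmodule]

section frobFixed

variable [Fintype F]

/-- The subfield fixed by `x ↦ x ^ (p ^ e)`. -/
def frobFixed (p e : ℕ) [Fact p.Prime] [CharP F p] : Subfield F where
  carrier := {x | x ^ (p ^ e) = x}
  mul_mem' {x y} hx hy := by
    show (x * y) ^ (p ^ e) = x * y
    rw [mul_pow]; exact congrArg₂ (· * ·) hx hy
  one_mem' := one_pow _
  add_mem' {x y} hx hy := by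
    show (x + y) ^ (p ^ e) = x + y
    rw [add_pow_char_pow]; exact congrArg₂ (· + ·) hx hy
  zero_mem' := zero_pow (pow_ne_zero _ (Fact.out : p.Prime).ne_zero)
  neg_mem' {x} hx := by
    show (-x) ^ (p ^ e) = -x
    have h2 : (x + -x) ^ (p ^ e) = x ^ (p ^ e) + (-x) ^ (p ^ e) := add_pow_char_pow x (-x) p e
    rw [add_neg_cancel, zero_pow (pow_ne_zero _ (Fact.out : p.Prime).ne_zero),
      show x ^ (p ^ e) = x from hx] at h2
    exact (eq_neg_of_add_eq_zero_right h2.symm)
  inv_mem' x hx := by
    show (x⁻¹) ^ (p ^ e) = x⁻¹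
    rw [inv_pow]; exact congrArg _ hx

lemma mem_frobFixed {p e : ℕ} [Fact p.Prime] [CharP F p] {x : F} :
    x ∈ (frobFixed p e : Subfield F) ↔ x ^ (p ^ e) = x := Iff.rfl

lemma card_frobFixed {p e f : ℕ} [Fact p.Prime] [CharP F p] (hf : Fintype.card F = p ^ f)
    (he : e ∣ f) (he0 : 0 < e) : Nat.card (frobFixed p e : Subfield F) = p ^ e := by
  classical
  have hp : p.Prime := Fact.out
  have hp1 : 1 < p ^ e := Nat.one_lt_pow he0.ne' hp.one_lt
  obtain ⟨c, rfl⟩ := he
  have hdvd : p ^ e - 1 ∣ p ^ (e * c) - 1 := by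
    rw [pow_mul]; exact Nat.sub_one_dvd_pow_sub_one _ c
  have hm : p ^ e = (p ^ e - 1) + 1 := by omega
  have hunits : Nat.card {u : Fˣ // u ^ (p ^ e - 1) = 1} = p ^ e - 1 := by
    have hc : Nat.card Fˣ = p ^ (e * c) - 1 := by
      rw [Nat.card_units, Nat.card_eq_fintype_card, hf]
    have := IsCyclic.card_powMonoidHom_ker (G := Fˣ) (d := p ^ e - 1)
    rw [hc, Nat.gcd_eq_right hdvd] at this
    exact this
  have hiff : ∀ u : Fˣ, (u : F) ∈ (frobFixed p e : Subfield F) ↔ u ^ (p ^ e - 1) = 1 := by
    intro u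
    rw [mem_frobFixed, hm, pow_succ, ← hm]
    constructor
    · intro h
      exact Units.ext (by simpa using mul_right_cancel₀ u.ne_zero (h.trans (one_mul _).symm))
    · intro h
      rw [← Units.val_pow_eq_pow_val, h, Units.val_one, one_mul]
  have e' : (frobFixed p e : Subfield F) ≃ Option {u : Fˣ // u ^ (p ^ e - 1) = 1} :=
    { toFun := fun x => if h : (x : F) = 0 then none else some ⟨Units.mk0 x h, (hiff _).mp x.2⟩
      invFun := fun o => match o with
        | none => 0
        | some u => ⟨(u.1 : F), (hiff _).mpr u.2⟩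
      left_inv := fun x => by
        by_cases h : (x : F) = 0
        · simp [h]; exact Subtype.ext h.symm
        · simp [h]
      right_inv := fun o => by
        match o with
        | none => simp
        | some u => simp }
  rw [Nat.card_congr e', Finite.card_option, hunits]
  omega

/-- A proper subfield lies in a subfield of prime index. -/
theorem exists_prime_index_subfield (F₀ : Subfield F) (h : F₀ ≠ ⊤) :
    ∃ (F₁ : Subfield F) (r : ℕ), F₀ ≤ F₁ ∧ r.Prime ∧ Fintype.card F = Nat.card F₁ ^ r := by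
  classical
  obtain ⟨p, hp⟩ := CharP.exists F
  haveI : Fact p.Prime := ⟨(CharP.char_is_prime_or_zero F p).resolve_right
    (CharP.char_ne_zero_of_finite F p)⟩
  haveI : Fintype F₀ := Fintype.ofFinite _
  haveI : CharP F₀ p := F₀.subtype.charP F₀.subtype.injective p
  obtain ⟨k, -, hk⟩ := FiniteField.card F₀ p
  have hd : Fintype.card F = Fintype.card F₀ ^ Module.finrank F₀ F :=
    Module.card_eq_pow_finrank
  set d := Module.finrank F₀ F with hddef
  have hd1 : d ≠ 1 := by
    intro h1
    refine h (SetLike.coe_injective ?_)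
    rw [Subfield.coe_top]
    refine Set.eq_of_subset_of_ncard_le (Set.subset_univ _) ?_
    rw [Set.ncard_univ, Nat.card_eq_fintype_card, hd, h1, pow_one,
      show ((F₀ : Set F)).ncard = Fintype.card F₀ by
        rw [← Nat.card_coe_set_eq, ← Nat.card_eq_fintype_card]; rfl]
  obtain ⟨r, hr, hrd⟩ := Nat.exists_prime_and_dvd hd1
  have hd0 : 0 < d := Module.finrank_pos
  obtain ⟨c, hc⟩ := hrd
  have hk0 : 0 < (k : ℕ) := k.pos
  have hc0 : 0 < c := by
    rcases Nat.eq_zero_or_pos c with h0 | h0
    · rw [h0, mul_zero] at hc; omega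
    · exact h0
  have hf : Fintype.card F = p ^ (k * c * r) := by
    rw [hd, hk, ← pow_mul, hc]; ring_nf
  refine ⟨frobFixed p (k * c), r, ?_, hr, ?_⟩
  · intro x hx
    rw [mem_frobFixed, pow_mul]
    have : (⟨x, hx⟩ : F₀) ^ ((p ^ (k : ℕ)) ^ c) = ⟨x, hx⟩ := by
      rw [← hk, FiniteField.pow_card_pow]
    exact congrArg Subtype.val this
  · rw [card_frobFixed hf (Dvd.intro r rfl) (Nat.mul_pos hk0 hc0), hf, ← pow_mul]

end frobFixed

/-- The normaliser of an absolutely irreducible group with entries in a subfield lies in the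
corresponding subfield group. -/
theorem le_subfieldSubgroup [Fintype F] [Nonempty ι] {H P : Subgroup (GL ι F)}
    (hP : ActsAbsolutelyIrreducibly (matrixSet P)) (hn : ∀ h ∈ H, ∀ x ∈ P, h * x * h⁻¹ ∈ P)
    (F₁ : Subfield F) (B : GL ι F)
    (hB : ∀ s ∈ matrixSet P, ∀ i j,
      ((B : Matrix ι ι F) * s * ((B⁻¹ : GL ι F) : Matrix ι ι F)) i j ∈ F₁) :
    H ≤ subfieldSubgroup F₁ B⁻¹ := by
  classical
  let φ : Matrix ι ι F₁ →+* Matrix ι ι F := (F₁.subtype).mapMatrix
  have hφinj : Function.Injective φ := fun X Y h => by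
    ext i j; exact congrFun (congrFun h i) j
  let T : Set (Matrix ι ι F₁) := {Y | ∃ x ∈ P, φ Y = cj B (x : Matrix ι ι F)}
  -- φ ∘ span is everything over F
  have hlift : ∀ x ∈ P, ∃ Y ∈ T, φ Y = cj B (x : Matrix ι ι F) := fun x hx =>
    ⟨Matrix.of fun i j => ⟨cj B (x : Matrix ι ι F) i j, hB _ (mem_matrixSet hx) i j⟩,
      ⟨x, hx, rfl⟩, rfl⟩
  have hFspan : Submodule.span F (φ '' T) = ⊤ := by
    have h1 : cj B '' matrixSet P ⊆ φ '' T := by
      rintro _ ⟨_, ⟨x, hx, rfl⟩, rfl⟩
      obtain ⟨Y, hY, hYx⟩ := hlift x hx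
      exact ⟨Y, hY, hYx⟩
    rw [eq_top_iff]
    intro X _
    have hX : cj B⁻¹ X ∈ Submodule.span F (matrixSet P) := span_eq_top hP ▸ Submodule.mem_top
    have hX2 := Submodule.mem_map_of_mem (f := (cj B).toLinearMap) hX
    rw [Submodule.map_span] at hX2
    have hX3 : cj B (cj B⁻¹ X) = X := by
      rw [← cj_mul, mul_inv_cancel]; simp [cj_apply]
    exact Submodule.span_mono h1 (hX3 ▸ hX2)
  have hspan : Submodule.span F₁ T = ⊤ := by
    refine Submodule.eq_top_of_finrank_eq (le_antisymm (Submodule.finrank_le _) ?_)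
    obtain ⟨b, hbT, hbspan, hbli⟩ := exists_linearIndependent F (φ '' T)
    rw [hFspan] at hbspan
    haveI : Finite b := Set.toFinite b
    haveI : Fintype b := Fintype.ofFinite b
    have hcard : Fintype.card b = Module.finrank F (Matrix ι ι F) :=
      (Module.finrank_eq_card_basis (Module.Basis.mk hbli (by simp [hbspan]))).symm
    let s : b → Matrix ι ι F₁ := fun z => (hbT z.2).choose
    have hs : ∀ z : b, s z ∈ T ∧ φ (s z) = z := fun z => (hbT z.2).choose_spec
    have hli : LinearIndependent F₁ (fun z : b => (⟨s z, Submodule.subset_span (hs z).1⟩ :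
        Submodule.span F₁ T)) := by
      rw [Fintype.linearIndependent_iff]
      intro c hc z
      have h1 : φ (∑ z, c z • s z) = 0 := by
        have := congrArg (fun w : Submodule.span F₁ T => φ (w : Matrix ι ι F₁)) hc
        push_cast at this
        simpa using this
      have h2 : ∑ z : b, ((c z : F)) • (z : Matrix ι ι F) = 0 := by
        rw [← h1, map_sum]
        refine Finset.sum_congr rfl fun z _ => ?_
        rw [← (hs z).2]
        ext i j; rfl
      exact Subtype.ext (Fintype.linearIndependent_iff.mp hbli (fun z => (c z : F)) h2 z)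
    have := hli.fintype_card_le_finrank
    rw [hcard, Module.finrank_matrix, Module.finrank_self] at this
    rw [Module.finrank_matrix, Module.finrank_self]
    exact this
  intro g hg
  set g' : GL ι F := B * g * B⁻¹
  have hmem : ∀ g : GL ι F, g ∈ H → ∀ X : Matrix ι ι F₁, ∃ Y, φ Y = cj (B * g * B⁻¹) (φ X) := by
    intro g hg X
    have hX : X ∈ Submodule.span F₁ T := hspan ▸ Submodule.mem_top
    induction hX using Submodule.span_induction with
    | mem X hX =>
      obtain ⟨x, hx, hXx⟩ := hX
      obtain ⟨Y, -, hY⟩ := hlift _ (hn g hg x hx)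
      refine ⟨Y, ?_⟩
      rw [hY, hXx, ← cj_val, ← cj_mul, ← cj_mul, inv_mul_cancel_right]
    | zero => exact ⟨0, by simp⟩
    | add X Y _ _ hX hY =>
      obtain ⟨X', hX'⟩ := hX
      obtain ⟨Y', hY'⟩ := hY
      exact ⟨X' + Y', by simp [hX', hY']⟩
    | smul c X _ hX =>
      obtain ⟨X', hX'⟩ := hX
      refine ⟨c • X', ?_⟩
      have hsm : ∀ Z : Matrix ι ι F₁, φ (c • Z) = (c : F) • φ Z := fun Z => by ext i j; rfl
      rw [hsm, hsm, hX', map_smul]
  choose ψ hψ using hmem g hg
  let ψ' : Matrix ι ι F₁ →ₐ[F₁] Matrix ι ι F₁ :=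
    { toFun := ψ
      map_one' := hφinj (by rw [hψ, map_one, map_one])
      map_mul' := fun X Y => hφinj (by simp [hψ])
      map_zero' := hφinj (by simp [hψ])
      map_add' := fun X Y => hφinj (by simp [hψ])
      commutes' := fun c => hφinj (by
        rw [hψ]
        have : φ (algebraMap F₁ (Matrix ι ι F₁) c) = algebraMap F (Matrix ι ι F) (c : F) := by
          ext i j
          simp [φ, Matrix.algebraMap_matrix_apply]
          split_ifs <;> simp
        rw [this, AlgEquiv.commutes]) }
  obtain ⟨u, hu⟩ := skolem_noether ψ'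
  let U : GL ι F := Matrix.GeneralLinearGroup.map (F₁.subtype : F₁ →+* F) u
  have hUv : (U : Matrix ι ι F) = φ (u : Matrix ι ι F₁) := rfl
  have hUi : ((U⁻¹ : GL ι F) : Matrix ι ι F) = φ ((u⁻¹ : GL ι F₁) : Matrix ι ι F₁) := rfl
  have hcomm : ∀ X : Matrix ι ι F, cj (U⁻¹ * g') X = X := by
    intro X
    have hX : X ∈ Submodule.span F (φ '' T) := hFspan ▸ Submodule.mem_top
    induction hX using Submodule.span_induction with
    | mem X hX =>
      obtain ⟨Y, -, rfl⟩ := hX
      rw [cj_mul, ← hψ, show ψ Y = cj u Y from hu Y,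
        show φ (cj u Y) = cj U (φ Y) by rw [cj_apply, cj_apply, map_mul, map_mul, hUv, hUi],
        cj_inv_apply]
    | zero => simp
    | add X Y _ _ hX hY => rw [map_add, hX, hY]
    | smul c X _ hX => rw [map_smul, hX]
  obtain ⟨c, hc⟩ := Matrix.mem_range_scalar_of_commute_single
    (M := ((U⁻¹ * g' : GL ι F) : Matrix ι ι F))
    (fun i j _ => ((cj_eq_self_iff _ _).mp (hcomm _)).symm)
  have hc0 : c ≠ 0 := by
    intro h
    have h2 := (U⁻¹ * g').ne_zero
    rw [← hc, h, map_zero] at h2
    exact h2 rfl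
  refine ⟨g', ?_, ?_⟩
  · have : g' = U * (U⁻¹ * g') := (mul_inv_cancel_left U g').symm
    rw [this]
    refine Subgroup.mul_mem _ (Subgroup.mem_sup_left ⟨u, rfl⟩) (Subgroup.mem_sup_right ?_)
    rw [mem_scalars_iff]
    exact ⟨Units.mk0 c hc0, by rw [← hc, Units.val_mk0, Matrix.scalar_apply, ← Matrix.smul_one_eq_diagonal]⟩
  · show B⁻¹ * g' * B⁻¹⁻¹ = g
    simp [g', mul_assoc]

/-- Descent: an irreducible group whose F₀-span has an F-independent spanning set of size n²
is realisable over F₀. -/
theorem realisableOver_of_basis [Finite F] [Nonempty ι] (F₀ : Subfield F) {R : Subgroup (GL ι F)}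
    (hR : ActsIrreducibly (matrixSet R)) {κ : Type*} [Fintype κ] (b : κ → Matrix ι ι F)
    (hli : LinearIndependent F b) (hcard : Fintype.card κ = Fintype.card ι * Fintype.card ι)
    (hbR : ∀ k, b k ∈ matrixSet R)
    (hRb : ∀ s ∈ matrixSet R, s ∈ Submodule.span F₀ (Set.range b)) :
    RealisableOver F₀ (matrixSet R) := by
  classical
  have hLeq : Submodule.span F₀ (Set.range b) = Submodule.span F₀ (matrixSet R) :=
    le_antisymm (Submodule.span_mono (by rintro _ ⟨k, rfl⟩; exact hbR k))
      (Submodule.span_le.mpr hRb)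
  let A : Subalgebra F₀ (Matrix ι ι F) :=
    (Submodule.span F₀ (matrixSet R)).toSubalgebra
      (Submodule.subset_span ⟨1, R.one_mem, rfl⟩)
      (fun x y hx hy => by
        induction hx using Submodule.span_induction with
        | mem x hx =>
          induction hy using Submodule.span_induction with
          | mem y hy =>
            obtain ⟨a, ha, rfl⟩ := hx
            obtain ⟨c, hc, rfl⟩ := hy
            exact Submodule.subset_span ⟨a * c, R.mul_mem ha hc, by simp⟩
          | zero => simp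
          | add p q _ _ hp hq => rw [mul_add]; exact Submodule.add_mem _ hp hq
          | smul c p _ hp => rw [mul_smul_comm]; exact Submodule.smul_mem _ c hp
        | zero => simp
        | add p q _ _ hp hq => rw [add_mul]; exact Submodule.add_mem _ hp hq
        | smul c p _ hp => rw [smul_mul_assoc]; exact Submodule.smul_mem _ c hp)
  haveI : Finite A := inferInstance
  haveI : Module.Finite F₀ A := Module.Finite.of_finite
  have hAmem : ∀ g ∈ R, (g : Matrix ι ι F) ∈ A := fun g hg =>
    Submodule.subset_span (mem_matrixSet hg)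
  -- semisimple
  haveI : IsArtinianRing A := IsArtinianRing.of_finite F₀ A
  haveI hss : IsSemisimpleRing A := by
    rw [IsArtinianRing.isSemisimpleRing_iff_jacobson]
    set J : Ideal A := Ring.jacobson A with hJ
    haveI : J.IsTwoSided := by rw [hJ]; infer_instance
    have hJn : IsNilpotent J := by
      have h := IsArtinianRing.isNilpotent_jacobson_bot (R := A)
      rw [Ring.jacobson_eq_sInf_isMaximal] at hJ
      simpa [hJ, Ideal.jacobson] using h
    obtain ⟨k, hk⟩ := hJn
    let S : Set (Matrix ι ι F) := (fun a : A => (a : Matrix ι ι F)) '' (J : Set A)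
    have hS : ∀ g ∈ R, ∀ s ∈ S, cj g s ∈ S := by
      rintro g hg _ ⟨a, ha, rfl⟩
      refine ⟨⟨g, hAmem g hg⟩ * a * ⟨_, hAmem g⁻¹ (R.inv_mem hg)⟩,
        J.mul_mem_right _ (J.mul_mem_left _ ha), rfl⟩
    have hnil : ∀ l : List (Matrix ι ι F), l.length = k → (∀ x ∈ l, x ∈ S) → l.prod = 0 := by
      have key : ∀ l : List (Matrix ι ι F), (∀ x ∈ l, x ∈ S) →
          ∃ c : A, c ∈ J ^ l.length ∧ (c : Matrix ι ι F) = l.prod := by
        intro l
        induction l with
        | nil =>
          exact fun _ => ⟨1, by rw [List.length_nil, Submodule.pow_zero, Ideal.one_eq_top]; exact Submodule.mem_top, rfl⟩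
        | cons x l ih =>
          intro h
          obtain ⟨a, ha, rfl⟩ := h x (by simp)
          obtain ⟨c, hc, hcl⟩ := ih fun y hy => h y (by simp [hy])
          refine ⟨a * c, ?_, by simp [hcl]⟩
          rw [List.length_cons, Ideal.IsTwoSided.pow_succ]
          exact Ideal.mul_mem_mul ha hc
      intro l hl hlS
      obtain ⟨c, hc, hcl⟩ := key l hlS
      rw [hl, hk, Submodule.zero_eq_bot, Submodule.mem_bot] at hc
      rw [← hcl, hc]; rfl
    have hzero := eq_zero_of_nilpotent_invariant hR S hS k hnil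
    rw [Submodule.eq_bot_iff]
    intro a ha
    exact Subtype.ext (hzero _ ⟨a, ha, rfl⟩)
  -- centre
  have hspanF : Submodule.span F (Set.range b) = ⊤ :=
    hli.span_eq_top_of_card_eq_finrank' (by simp [hcard, Module.finrank_matrix])
  have hcentral : ∀ z : A, (∀ y : A, y * z = z * y) → ∃ c : F₀, z = algebraMap F₀ A c := by
    intro z hz
    have hzc : ∀ X : Matrix ι ι F, X * (z : Matrix ι ι F) = (z : Matrix ι ι F) * X := by
      intro X
      have hX : X ∈ Submodule.span F (Set.range b) := hspanF ▸ Submodule.mem_top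
      induction hX using Submodule.span_induction with
      | mem X hX =>
        obtain ⟨k, rfl⟩ := hX
        exact congrArg Subtype.val (hz ⟨b k, by
          obtain ⟨x, hx, hxk⟩ := hbR k
          rw [← hxk]; exact hAmem x hx⟩)
      | zero => simp
      | add p q _ _ hp hq => simp [add_mul, mul_add, hp, hq]
      | smul c p _ hp => simp [hp]
    obtain ⟨c, hc⟩ := Matrix.mem_range_scalar_of_commute_single
      (M := (z : Matrix ι ι F)) (fun i j _ => hzc _)
    have h1 : (1 : Matrix ι ι F) ∈ Submodule.span F₀ (Set.range b) :=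
      hRb _ ⟨1, R.one_mem, rfl⟩
    have h2 : (z : Matrix ι ι F) ∈ Submodule.span F₀ (Set.range b) := by
      rw [hLeq]; exact z.2
    obtain ⟨α, hα⟩ := (Submodule.mem_span_range_iff_exists_fun F₀).mp h1
    obtain ⟨β, hβ⟩ := (Submodule.mem_span_range_iff_exists_fun F₀).mp h2
    have hcF : c ∈ F₀ := by
      have hz1 : (z : Matrix ι ι F) = c • (1 : Matrix ι ι F) := by
        rw [← hc, Matrix.scalar_apply, ← Matrix.smul_one_eq_diagonal]
      have heq : ∀ k, c * (α k : F) = (β k : F) := by
        refine congrFun (Fintype.linearIndependent_iff.mp hli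
          (fun k => c * (α k : F) - (β k : F)) ?_ |> fun h => funext fun k => sub_eq_zero.mp (h k))
        simp only [sub_smul, Finset.sum_sub_distrib, mul_smul, ← Finset.smul_sum]
        rw [sub_eq_zero]
        calc c • ∑ k, (α k : F) • b k = c • (1 : Matrix ι ι F) := by rw [← hα]; rfl
          _ = _ := by rw [← hz1, ← hβ]; rfl
      obtain ⟨k, hk⟩ : ∃ k, α k ≠ 0 := by
        by_contra h
        push Not at h
        simp [h] at hα
      have hk' : (α k : F) ≠ 0 := fun h => hk (Subtype.ext h)
      rw [show c = (β k : F) * ((α k : F))⁻¹ by rw [← heq k, mul_inv_cancel_right₀ hk']]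
      exact F₀.mul_mem (β k).2 (F₀.inv_mem (α k).2)
    refine ⟨⟨c, hcF⟩, Subtype.ext ?_⟩
    rw [← hc]
    rfl
  -- structure of A
  obtain ⟨n, D, d, hD, hDA, hfin, hd, ⟨e⟩⟩ :=
    IsSemisimpleRing.exists_algEquiv_pi_matrix_divisionRing_finite F₀ A
  haveI : ∀ i, Finite (D i) := fun i => Module.finite_of_finite F₀
  rcases n with _ | n
  · exfalso
    exact one_ne_zero (α := A) (e.injective (funext fun i => Fin.elim0 i))
  rcases n with _ | n
  swap
  · exfalso
    obtain ⟨c, hc⟩ := hcentral (e.symm (Pi.single 0 1)) (fun y => e.injective (by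
      simp only [map_mul, AlgEquiv.apply_symm_apply]
      funext i
      by_cases h : i = 0
      · subst h; simp
      · simp [h]))
    have h3 := congrArg e hc
    rw [AlgEquiv.apply_symm_apply, AlgEquiv.commutes] at h3
    have h0 := congrFun h3 0
    have h1 := congrFun h3 1
    rw [Pi.single_eq_same, Pi.algebraMap_apply] at h0
    rw [Pi.single_eq_of_ne (by simp), Pi.algebraMap_apply, eq_comm, map_eq_zero] at h1
    rw [h1, map_zero] at h0
    haveI : NeZero (d 0) := hd 0
    exact one_ne_zero h0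
  let E : A ≃ₐ[F₀] Matrix (Fin (d 0)) (Fin (d 0)) (D 0) :=
    e.trans (AlgEquiv.ofBijective
      (Pi.evalAlgHom F₀ (fun i => Matrix (Fin (d i)) (Fin (d i)) (D i)) 0)
      ⟨fun x y h => funext fun i => by rw [Fin.fin_one_eq_zero i]; exact h,
        fun M => ⟨Pi.single 0 M, by simp⟩⟩)
  have hsurj : Function.Surjective (algebraMap F₀ (D 0)) := by
    intro x
    have hcomm : ∀ a, x * a = a * x := fun a => by
      letI := (littleWedderburn (D 0)).toCommRing
      exact mul_comm x a
    obtain ⟨c, hc⟩ := hcentral (E.symm (Matrix.scalar _ x)) (fun y => E.injective (by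
      simp only [map_mul, AlgEquiv.apply_symm_apply]
      exact (Matrix.scalar_commute x (fun a => hcomm a) _).eq.symm))
    have h3 := congrArg E hc
    rw [AlgEquiv.apply_symm_apply, AlgEquiv.commutes] at h3
    haveI : Nonempty (Fin (d 0)) := ⟨⟨0, Nat.pos_of_ne_zero (hd 0).out⟩⟩
    rw [Matrix.algebraMap_eq_diagonal, Matrix.scalar_apply] at h3
    exact ⟨c, (congrFun (Matrix.diagonal_injective h3) ⟨0, Nat.pos_of_ne_zero (hd 0).out⟩).symm⟩
  let E' : A ≃ₐ[F₀] Matrix (Fin (d 0)) (Fin (d 0)) F₀ :=
    E.trans (AlgEquiv.ofBijective (Algebra.ofId F₀ (D 0))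
      ⟨(algebraMap F₀ (D 0)).injective, hsurj⟩).symm.mapMatrix
  have hdim : d 0 = Fintype.card ι := by
    have h1 : Module.finrank F₀ A = Fintype.card ι * Fintype.card ι := by
      rw [← hcard]
      have hA : Subalgebra.toSubmodule A = Submodule.span F₀ (Set.range b) := by
        rw [hLeq]; rfl
      rw [← Subalgebra.finrank_toSubmodule, hA,
        finrank_span_eq_card (hli.restrict_scalars' F₀)]
    rw [E'.toLinearEquiv.finrank_eq] at h1
    simp [Module.finrank_matrix] at h1
    exact Nat.mul_self_inj.mp h1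
  haveI : Nonempty (Fin (d 0)) := ⟨⟨0, Nat.pos_of_ne_zero (hd 0).out⟩⟩
  obtain ⟨eι, Q, hQ⟩ :=
      MatUnits.exists_conj (ι := ι) (F := F) (κ := Fin (d 0))
        (E := fun x y => ((E'.symm (Matrix.single x y 1) : A) : Matrix ι ι F))
        (show MatUnits _ from
          ⟨fun a b' c d' => by
              rw [← Subalgebra.coe_mul, ← map_mul, (matUnits_single (F := F₀) (Fin (d 0))).mul]
              split_ifs <;> simp,
            by
              rw [← AddSubmonoidClass.coe_finsetSum, ← map_sum,
                (matUnits_single (F := F₀) (Fin (d 0))).sum_eq, map_one]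
              rfl⟩)
        (by simp [hdim])
  refine ⟨Q⁻¹, fun s hs i j => ?_⟩
  obtain ⟨x, hx, rfl⟩ := hs
  set a : A := ⟨_, hAmem x hx⟩
  have ha : (x : Matrix ι ι F)
      = ∑ u, ∑ v, (E' a u v : F) • ((E'.symm (Matrix.single u v 1) : A) : Matrix ι ι F) := by
    have h1 : a = E'.symm (∑ u, ∑ v, (E' a u v) • Matrix.single u v (1 : F₀)) := by
      conv_lhs => rw [← E'.symm_apply_apply a, Matrix.matrix_eq_sum_single (E' a)]
      simp [Matrix.smul_single]
    conv_lhs => rw [show (x : Matrix ι ι F) = ((a : A) : Matrix ι ι F) from rfl, h1]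
    simp only [map_sum, map_smul, AddSubmonoidClass.coe_finsetSum, SetLike.val_smul]
    rfl
  show (((Q⁻¹ : GL ι F) : Matrix ι ι F) * (x : Matrix ι ι F) * (((Q⁻¹)⁻¹ : GL ι F) : Matrix ι ι F)) i j ∈ F₀
  rw [← cj_apply, ha]
  simp only [map_sum, map_smul, hQ, cj_inv_apply, Matrix.sum_apply, Matrix.smul_apply,
    Matrix.single_apply, smul_eq_mul]
  refine F₀.sum_mem fun u _ => F₀.sum_mem fun v _ => F₀.mul_mem (E' a u v).2 ?_
  split_ifs
  · exact F₀.one_mem
  · exact F₀.zero_mem

end Cfsg.Agent.Aschbacher
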