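/-
Subfield classes for isometry groups: descent from two fixed forms, rationality of the fixed form,
and normalisation of the scalar.
-/
import Cfsg.Agent.Aschbacher.FormedCoord
import Cfsg.Agent.Aschbacher.Subfield
import Cfsg.Agent.Unitary.Field

set_option autoImplicit false
set_option linter.unusedSectionVars false
set_option linter.style.haveILetI false

namespace Cfsg.Agent.Aschbacher

open scoped MatrixGroups Matrix
open Cfsg.Geo

variable {ι : Type} [Fintype ι] [DecidableEq ι] {F : Type*} [Field F]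

/-- An automorphism acting on an absolutely irreducible group as conjugation descends the group to
its fixed field. -/
theorem descent [Finite F] [Nonempty ι] {P : Subgroup (GL ι F)}
    (hP : ActsAbsolutelyIrreducibly (matrixSet P)) (φ : F ≃+* F) {C : Matrix ι ι F} (hC : IsUnit C)
    (h : ∀ s ∈ matrixSet P, s.map φ * C = C * s) :
    RealisableOver (RingHom.eqLocusField φ.toRingHom (RingHom.id F)) (matrixSet P) := by
  classical
  set F₀ := RingHom.eqLocusField φ.toRingHom (RingHom.id F)
  obtain ⟨b, hbT, hbspan, hbli⟩ := exists_linearIndependent F (matrixSet P)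
  rw [span_eq_top hP] at hbspan
  haveI : Finite b := Set.toFinite b
  haveI : Fintype b := Fintype.ofFinite b
  have hcard : Fintype.card b = Fintype.card ι * Fintype.card ι := by
    rw [← Module.finrank_eq_card_basis (Module.Basis.mk hbli (by simp [hbspan]))]
    simp [Module.finrank_matrix]
  refine realisableOver_of_basis F₀ hP.1 (fun z : b => (z : Matrix ι ι F)) hbli hcard
    (fun z => hbT z.2) fun s hs => ?_
  have hmem : s ∈ Submodule.span F (Set.range fun z : b => (z : Matrix ι ι F)) := by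
    rw [Subtype.range_coe_subtype]
    show s ∈ Submodule.span F b
    rw [hbspan]; exact Submodule.mem_top
  obtain ⟨α, hα⟩ := (Submodule.mem_span_range_iff_exists_fun F).mp hmem
  have hφ : ∑ z : b, φ (α z) • (z : Matrix ι ι F) = s := by
    refine hC.mul_left_cancel ?_
    calc C * ∑ z : b, φ (α z) • (z : Matrix ι ι F)
        = (∑ z : b, φ (α z) • (z : Matrix ι ι F).map φ) * C := by
          rw [Finset.mul_sum, Finset.sum_mul]
          refine Finset.sum_congr rfl fun z _ => ?_
          rw [Matrix.mul_smul, Matrix.smul_mul, h _ (hbT z.2)]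
      _ = s.map φ * C := by
          congr 1
          rw [← hα]
          ext i j
          simp [Matrix.sum_apply]
      _ = C * s := h s hs
  have hfix : ∀ z, α z ∈ F₀ := fun z => by
    have h1 := Fintype.linearIndependent_iff.mp hbli (fun z => φ (α z) - α z)
      (by simp only [sub_smul, Finset.sum_sub_distrib, hφ, hα, sub_self]) z
    exact sub_eq_zero.mp h1
  rw [← hα]
  refine Submodule.sum_mem _ fun z _ => ?_
  show (⟨α z, hfix z⟩ : F₀) • (z : Matrix ι ι F) ∈ _
  exact Submodule.smul_mem _ _ (Submodule.subset_span ⟨z, rfl⟩)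

/-- A group fixing a σ-sesquilinear and a bilinear form descends to the fixed field of σ. -/
theorem descent_of_forms [Finite F] [Nonempty ι] {P : Subgroup (GL ι F)}
    (hP : ActsAbsolutelyIrreducibly (matrixSet P)) {σ : F ≃+* F}
    {f g : (ι → F) → (ι → F) → F} (hf : IsSesq σ f) (hfn : IsNondegenerateForm f)
    (hg : IsSesq (RingEquiv.refl F) g) (hgn : IsNondegenerateForm g)
    (hPf : FixesForm (matrixSet P) f) (hPg : FixesForm (matrixSet P) g) :
    RealisableOver (RingHom.eqLocusField σ.toRingHom (RingHom.id F)) (matrixSet P) := by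
  set G := gramMatrix f with hGdef
  set G' := gramMatrix g with hG'def
  have hG : IsUnit G.det := (Matrix.isUnit_iff_isUnit_det _).mp (isUnit_gram hf hfn)
  refine descent hP σ (C := G⁻¹ * G') ?_ fun s hs => ?_
  · refine IsUnit.mul ?_ (isUnit_gram hg hgn)
    rw [Matrix.isUnit_iff_isUnit_det]
    exact (Matrix.isUnit_nonsing_inv_det_iff).mpr hG
  · have h1 : sᵀ * G * s.map σ = G := (fixes_iff_gtr hf s).mp (hPf s hs)
    have h2 : sᵀ * G' * s = G' := by
      have := (fixes_iff_gtr hg s).mp (hPg s hs)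
      rwa [gtr, show s.map (RingEquiv.refl F) = s from Matrix.map_id _] at this
    have hu : IsUnit sᵀ.det := by
      rw [isUnit_iff_ne_zero]
      intro h0
      have h3 := congrArg Matrix.det h1
      rw [Matrix.det_mul, Matrix.det_mul, h0, zero_mul, zero_mul] at h3
      exact hG.ne_zero h3.symm
    have h2' : G' * s = sᵀ⁻¹ * G' := by
      conv_rhs => rw [← h2, ← mul_assoc, ← mul_assoc, Matrix.nonsing_inv_mul _ hu, one_mul]
    have h1' : G * s.map σ = sᵀ⁻¹ * G := by
      conv_rhs => rw [← h1, ← mul_assoc, ← mul_assoc, Matrix.nonsing_inv_mul _ hu, one_mul]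
    calc s.map σ * (G⁻¹ * G') = G⁻¹ * (G * s.map σ) * (G⁻¹ * G') := by
          rw [← mul_assoc G⁻¹ G, Matrix.nonsing_inv_mul _ hG, one_mul]
      _ = G⁻¹ * sᵀ⁻¹ * G' := by
          rw [h1', ← mul_assoc G⁻¹, mul_assoc (G⁻¹ * sᵀ⁻¹) G, ← mul_assoc G,
            Matrix.mul_nonsing_inv _ hG, one_mul]
      _ = G⁻¹ * G' * s := by rw [mul_assoc, ← h2', mul_assoc]

lemma eqLocusField_ne_top {σ : F ≃+* F} (hσ : σ ≠ RingEquiv.refl F) :
    RingHom.eqLocusField σ.toRingHom (RingHom.id F) ≠ ⊤ := fun h =>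
  hσ (RingEquiv.ext fun x => (show x ∈ RingHom.eqLocusField σ.toRingHom (RingHom.id F) from
    h ▸ Subfield.mem_top x))

/-- The elements of a subfield are the fixed points of its Frobenius. -/
lemma mem_subfield_iff_pow [Fintype F] (F₁ : Subfield F) (x : F) :
    x ∈ F₁ ↔ x ^ Nat.card F₁ = x := by
  classical
  haveI : Fintype F₁ := Fintype.ofFinite _
  rw [Nat.card_eq_fintype_card]
  constructor
  · intro hx
    exact congrArg Subtype.val (FiniteField.pow_card (⟨x, hx⟩ : F₁))
  · intro hx
    by_contra hx1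
    set Q := Fintype.card F₁ with hQ
    have hQ1 : 1 < Q := Fintype.one_lt_card
    let S : Finset F := insert x (Finset.univ.image ((↑) : F₁ → F))
    have hsub : S.card ≤ Q := by
      have hp : (Polynomial.X ^ Q - Polynomial.X : Polynomial F).natDegree = Q :=
        FiniteField.X_pow_card_sub_X_natDegree_eq F hQ1
      refine (Finset.card_le_card (t := (Polynomial.X ^ Q - Polynomial.X : Polynomial F).roots.toFinset)
        ?_).trans (((Multiset.toFinset_card_le _).trans (Polynomial.card_roots' _)).trans hp.le)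
      intro y hy
      rw [Multiset.mem_toFinset, Polynomial.mem_roots (FiniteField.X_pow_card_sub_X_ne_zero F hQ1)]
      have hy' : y ^ Q = y := by
        rcases Finset.mem_insert.mp hy with rfl | hy
        · exact hx
        · obtain ⟨z, -, rfl⟩ := Finset.mem_image.mp hy
          exact congrArg Subtype.val (FiniteField.pow_card z)
      simp [Polynomial.IsRoot, hy']
    have hnot : x ∉ (Finset.univ.image ((↑) : F₁ → F)) := by
      rw [Finset.mem_image]
      rintro ⟨z, -, rfl⟩
      exact hx1 z.2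
    rw [Finset.card_insert_of_notMem hnot,
      Finset.card_image_of_injective _ Subtype.val_injective, Finset.card_univ] at hsub
    omega

lemma ringEquiv_mem_subfield [Fintype F] (F₁ : Subfield F) (σ : F ≃+* F) {x : F} (hx : x ∈ F₁) :
    σ x ∈ F₁ := by
  rw [mem_subfield_iff_pow] at hx ⊢
  rw [← map_pow, hx]

variable {σ : F ≃+* F} {ε : F} {f : (ι → F) → (ι → F) → F}

/-- The form fixed by an absolutely irreducible group written over a subfield is rational up to a
scalar. -/
theorem FormSpace.exists_rational [Fintype F] [Nonempty ι] (h : FormSpace σ ε f)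
    {P : Subgroup (GL ι F)} (hP : ActsAbsolutelyIrreducibly (matrixSet P))
    (hfix : FixesForm (matrixSet P) f) (F₁ : Subfield F) (B : GL ι F)
    (hB : ∀ s ∈ matrixSet P, ∀ i j,
      ((B : Matrix ι ι F) * s * ((B⁻¹ : GL ι F) : Matrix ι ι F)) i j ∈ F₁) :
    ∃ ζ : F, ζ ≠ 0 ∧
      (∀ i j, (ζ • gtr σ (gramMatrix f) ((B⁻¹ : GL ι F) : Matrix ι ι F)) i j ∈ F₁) ∧
      IsFormRationalStructure f F₁ ζ B⁻¹ := by
  classical
  set G' := gtr σ (gramMatrix f) ((B⁻¹ : GL ι F) : Matrix ι ι F) with hG'
  set P' : Set (Matrix ι ι F) := cj B '' matrixSet P with hP'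
  have hfix' : ∀ s ∈ P', gtr σ G' s = G' := by
    rintro _ ⟨s, hs, rfl⟩
    rw [hG', ← gtr_mul, cj_apply, ← mul_assoc, ← mul_assoc, ← Units.val_mul, inv_mul_cancel,
      Units.val_one, one_mul, gtr_mul, (fixes_iff_gtr h.sesq s).mp (hfix s hs)]
  have habs : ActsAbsolutelyIrreducibly P' := by
    have hs : ∀ s : Matrix ι ι F, (B : Matrix ι ι F) * s = cj B s * (B : Matrix ι ι F) :=
      mul_eq_cj_mul B
    constructor
    · intro W hW
      rcases eq_bot_or_eq_top hP.1 (W.map (Matrix.toLin' ((B⁻¹ : GL ι F) : Matrix ι ι F))) (by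
        rintro g hg _ ⟨w, hw, rfl⟩
        refine ⟨cj B (g : Matrix ι ι F) *ᵥ w, ?_, ?_⟩
        · have := hW _ ⟨_, mem_matrixSet hg, rfl⟩ (Submodule.mem_map_of_mem hw)
          rwa [Matrix.toLin'_apply] at this
        · simp only [Matrix.toLin'_apply, Matrix.mulVec_mulVec, cj_apply]
          rw [← mul_assoc, ← mul_assoc, ← Units.val_mul, inv_mul_cancel, Units.val_one, one_mul])
        with h1 | h1
      · left
        rw [Submodule.eq_bot_iff]
        intro w hw
        have hm := Submodule.mem_map_of_mem (f := Matrix.toLin' ((B⁻¹ : GL ι F) : Matrix ι ι F)) hw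
        rw [h1, Submodule.mem_bot, Matrix.toLin'_apply] at hm
        have h2 := congrArg (fun v => (B : Matrix ι ι F) *ᵥ v) hm
        simpa [Matrix.mulVec_mulVec] using h2
      · right
        rw [eq_top_iff]
        intro w _
        have hm : ((B⁻¹ : GL ι F) : Matrix ι ι F) *ᵥ w ∈
            W.map (Matrix.toLin' ((B⁻¹ : GL ι F) : Matrix ι ι F)) := h1 ▸ Submodule.mem_top
        obtain ⟨w', hw', hww⟩ := hm
        rw [Matrix.toLin'_apply] at hww
        exact Matrix.mulVec_injective_iff_isUnit.mpr (B⁻¹).isUnit hww ▸ hw'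
    · intro M hM
      obtain ⟨c, hc⟩ := hP.2 (cj B⁻¹ M) fun s hs' => by
        have := congrArg (cj B⁻¹) (hM _ ⟨s, hs', rfl⟩)
        rw [map_mul, map_mul, cj_inv_apply] at this
        exact this
      refine ⟨c, ?_⟩
      have := congrArg (cj B) hc
      rwa [← cj_mul, mul_inv_cancel, map_smul, map_one,
        show cj (1 : GL ι F) M = M by simp [cj_apply]] at this
  have hu : IsUnit G' := by
    rw [hG', gtr]
    refine ((Matrix.isUnit_transpose _).mpr (B⁻¹).isUnit |>.mul (isUnit_gram h.sesq h.nondeg)).mul ?_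
    exact (B⁻¹).isUnit.map σ.toRingHom.mapMatrix
  obtain ⟨p, hp⟩ := CharP.exists F
  haveI : Fact p.Prime := ⟨(CharP.char_is_prime_or_zero F p).resolve_right
    (CharP.char_ne_zero_of_finite F p)⟩
  haveI : Fintype F₁ := Fintype.ofFinite _
  haveI : CharP F₁ p := F₁.subtype.charP F₁.subtype.injective p
  obtain ⟨k, -, hk⟩ := FiniteField.card F₁ p
  let τ : F →+* F := iterateFrobenius F p k
  have hτ : ∀ x, τ x = x ^ Nat.card F₁ := fun x => by
    rw [Nat.card_eq_fintype_card, hk]; exact iterateFrobenius_def p k x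
  have hstep : ∀ s ∈ P', gtr σ (G'.map τ) s = G'.map τ := by
    intro s hs
    have hsτ : s.map τ = s := by
      obtain ⟨s', hs', rfl⟩ := hs
      ext i j
      rw [Matrix.map_apply, hτ]
      exact (mem_subfield_iff_pow F₁ _).mp (hB s' hs' i j)
    have hsσ : (s.map σ).map τ = s.map σ := by
      obtain ⟨s', hs', rfl⟩ := hs
      ext i j
      rw [Matrix.map_apply, Matrix.map_apply, hτ]
      exact (mem_subfield_iff_pow F₁ _).mp (ringEquiv_mem_subfield F₁ σ (hB s' hs' i j))
    have := congrArg (fun M : Matrix ι ι F => M.map τ) (hfix' s hs)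
    simp only [gtr, Matrix.map_mul] at this
    rw [Matrix.transpose_map, hsτ, hsσ] at this
    exact this
  obtain ⟨c, hc⟩ := invariant_unique habs hu hfix' hstep
  obtain ⟨i₀, j₀, hne⟩ : ∃ i j, G' i j ≠ 0 := by
    by_contra hc'
    push Not at hc'
    have : G' = 0 := by ext i j; exact hc' i j
    rw [this] at hu
    exact not_isUnit_zero hu
  have hent : ∀ i j, τ (G' i j) = c * G' i j := fun i j => congrFun (congrFun hc i) j
  set ζ := (G' i₀ j₀)⁻¹ with hζ
  have hrat : ∀ i j, (ζ • G') i j ∈ F₁ := by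
    intro i j
    rw [mem_subfield_iff_pow, ← hτ, Matrix.smul_apply, smul_eq_mul, map_mul, hζ, map_inv₀, hent,
      hent, mul_inv, mul_mul_mul_comm, inv_mul_cancel₀, one_mul]
    intro h0
    have := hent i₀ j₀
    rw [h0, zero_mul, map_eq_zero] at this
    exact hne this
  refine ⟨ζ, inv_ne_zero hne, hrat, fun u v hu' hv' => ?_⟩
  rw [h.sesq.eq_formOfGram, formOfGram_mulVec, ← hG']
  simp only [formOfGram, Finset.mul_sum]
  refine F₁.sum_mem fun i _ => F₁.sum_mem fun j _ => ?_
  have e : ζ * (u i * G' i j * σ (v j)) = u i * (ζ • G') i j * σ (v j) := by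
    rw [Matrix.smul_apply, smul_eq_mul]; ring
  rw [e]
  exact F₁.mul_mem (F₁.mul_mem (hu' i) (hrat i j)) (ringEquiv_mem_subfield F₁ σ (hv' j))

/-- An absolutely irreducible normal subgroup realisable over a proper subfield puts the group in a
subfield class with a rational form. -/
theorem FormSpace.subfield_case [Fintype F] [Nonempty ι] (h : FormSpace σ ε f)
    {H P : Subgroup (GL ι F)} (hP : ActsAbsolutelyIrreducibly (matrixSet P))
    (hn : ∀ g ∈ H, ∀ x ∈ P, g * x * g⁻¹ ∈ P) (hfix : FixesForm (matrixSet P) f)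
    {F₀ : Subfield F} (hne : F₀ ≠ ⊤) (hreal : RealisableOver F₀ (matrixSet P)) :
    ∃ (F₁ : Subfield F) (r : ℕ) (B : GL ι F) (ζ : F), r.Prime ∧
      Fintype.card F = Nat.card F₁ ^ r ∧ ζ ≠ 0 ∧
      (∀ i j, (ζ • gtr σ (gramMatrix f) (B : Matrix ι ι F)) i j ∈ F₁) ∧
      IsFormRationalStructure f F₁ ζ B ∧ H ≤ subfieldSubgroup F₁ B ∧
      (∀ s ∈ matrixSet P, ∀ i j,
        (((B⁻¹ : GL ι F) : Matrix ι ι F) * s * (B : Matrix ι ι F)) i j ∈ F₁) := by
  obtain ⟨B, hB⟩ := hreal
  obtain ⟨F₁, r, hle, hr, hF₁⟩ := exists_prime_index_subfield F₀ hne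
  have hB' : ∀ s ∈ matrixSet P, ∀ i j,
      ((B : Matrix ι ι F) * s * ((B⁻¹ : GL ι F) : Matrix ι ι F)) i j ∈ F₁ :=
    fun s hs i j => hle (hB s hs i j)
  obtain ⟨ζ, hζ, hζ1, hζ2⟩ := h.exists_rational hP hfix F₁ B hB'
  refine ⟨F₁, r, B⁻¹, ζ, hr, hF₁, hζ, hζ1, hζ2, le_subfieldSubgroup hP hn F₁ B hB', ?_⟩
  simpa using hB'

/-- Rescaling the basis of a subfield structure. -/
lemma subfieldSubgroup_mul_scalar (F₁ : Subfield F) (B : GL ι F) {z : GL ι F}
    (hz : z ∈ scalars ι F) : subfieldSubgroup F₁ (B * z) = subfieldSubgroup F₁ B := by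
  unfold subfieldSubgroup
  congr 1
  ext g : 1
  obtain ⟨c, hc⟩ := (mem_scalars_iff z).mp hz
  have hcomm : z * g = g * z := Units.ext (by simp [hc])
  show B * z * g * (B * z)⁻¹ = B * g * B⁻¹
  rw [mul_inv_rev, mul_assoc B z g, hcomm]
  group

lemma scalar_unit (a : F) (ha : a ≠ 0) :
    ∃ z ∈ scalars ι F, (z : Matrix ι ι F) = a • (1 : Matrix ι ι F) :=
  ⟨_, ⟨Units.mk0 a ha, rfl⟩, by simp [Matrix.smul_one_eq_diagonal]⟩

lemma rational_rescale (h : FormSpace σ ε f) {F₁ : Subfield F} {ζ μ a : F} {B z : GL ι F}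
    (hz : (z : Matrix ι ι F) = a • (1 : Matrix ι ι F)) (ha : a * σ a = ζ * μ) (hμ : μ ∈ F₁)
    (hB : IsFormRationalStructure f F₁ ζ B) : IsFormRationalStructure f F₁ 1 (B * z) := by
  intro u v hu hv
  rw [one_mul, Units.val_mul, hz, Matrix.mul_smul, mul_one, Matrix.smul_mulVec, Matrix.smul_mulVec,
    h.sesq.smul_left, h.sesq.smul_right, ← mul_assoc, ha, mul_comm ζ μ, mul_assoc]
  exact F₁.mul_mem hμ (hB u v hu hv)

/-- The unitary subfield classes. -/
theorem unitary_subfield [Fintype F] [Nonempty ι] {q : ℕ} (hF : Fintype.card F = q ^ 2)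
    (h : FormSpace (Unitary.frob hF) 1 f) {H P : Subgroup (GL ι F)}
    (hP : ActsAbsolutelyIrreducibly (matrixSet P)) (hdim : 2 ≤ Fintype.card ι)
    (hn : ∀ g ∈ H, ∀ x ∈ P, g * x * g⁻¹ ∈ P) (hfix : FixesForm (matrixSet P) f)
    {F₀ : Subfield F} (hne : F₀ ≠ ⊤) (hreal : RealisableOver F₀ (matrixSet P)) :
    (∃ (F₁ : Subfield F) (r : ℕ) (B : GL ι F), r.Prime ∧ Odd r ∧
      Fintype.card F = Nat.card F₁ ^ r ∧ IsFormRationalStructure f F₁ 1 B ∧
      H ≤ subfieldSubgroup F₁ B) ∨
    (∃ (F₁ : Subfield F) (B : GL ι F), Odd q ∧ Fintype.card F = Nat.card F₁ ^ 2 ∧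
      IsFormRationalStructure f F₁ 1 B ∧ H ≤ subfieldSubgroup F₁ B) ∨
    (∃ (F₁ : Subfield F) (B : GL ι F) (ζ : F), Even (Fintype.card ι) ∧
      Fintype.card F = Nat.card F₁ ^ 2 ∧ ζ ≠ 0 ∧ ζ + ζ ^ q = 0 ∧
      IsFormRationalStructure f F₁ ζ B ∧
      (∀ u : ι → F, (∀ i, u i ∈ F₁) → f ((B : Matrix ι ι F) *ᵥ u) ((B : Matrix ι ι F) *ᵥ u) = 0) ∧
      H ≤ subfieldSubgroup F₁ B) := by
  classical
  obtain ⟨F₁, r, B, ζ, hr, hF₁, hζ, hent, hrat, hle, hPB⟩ :=
    h.subfield_case hP hn hfix hne hreal
  set σ := Unitary.frob hF with hσdef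
  have hσq : ∀ x, σ x = x ^ q := fun x => rfl
  have hinv : ∀ x, σ (σ x) = x := h.invol
  set G' := gtr σ (gramMatrix f) (B : Matrix ι ι F) with hG'
  have hherm : ∀ i j, σ (G' i j) = G' j i := by
    intro i j
    have h1 : ∀ a b, G' a b = f ((B : Matrix ι ι F) *ᵥ Pi.single a 1) ((B : Matrix ι ι F) *ᵥ Pi.single b 1) := by
      intro a b
      rw [h.sesq.eq_formOfGram, formOfGram_mulVec, ← hG']
      exact (congrFun (congrFun (gram_formOfGram σ G') a) b).symm
    rw [h1, h1, h.herm ((B : Matrix ι ι F) *ᵥ Pi.single i 1), one_mul]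
  have hu : IsUnit G' := by
    rw [hG', gtr]
    refine ((Matrix.isUnit_transpose _).mpr B.isUnit |>.mul (isUnit_gram h.sesq h.nondeg)).mul ?_
    exact B.isUnit.map σ.toRingHom.mapMatrix
  obtain ⟨i₀, j₀, hne0⟩ : ∃ i j, G' i j ≠ 0 := by
    by_contra hc'
    push Not at hc'
    have : G' = 0 := by ext i j; exact hc' i j
    rw [this] at hu
    exact not_isUnit_zero hu
  -- the multiplier ζ / σ ζ lies in the subfield
  set c := ζ / σ ζ with hc
  have hσζ : σ ζ ≠ 0 := by simp [hζ]
  have hcF : c ∈ F₁ := by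
    have h1 := F₁.div_mem (hent i₀ j₀) (ringEquiv_mem_subfield F₁ σ (hent j₀ i₀))
    simp only [Matrix.smul_apply, smul_eq_mul, map_mul, hherm] at h1
    rwa [mul_div_mul_right _ _ hne0] at h1
  have hcn : c * σ c = 1 := by
    rw [hc, map_div₀, hinv]; field_simp
  rcases hr.eq_two_or_odd' with hr2 | hodd
  swap
  · left
    -- σ moves some element of the subfield
    obtain ⟨y, hy, hyσ⟩ : ∃ y ∈ F₁, σ y ≠ y := by
      by_contra hall
      push Not at hall
      obtain ⟨p, hp⟩ := CharP.exists F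
      haveI : Fact p.Prime := ⟨(CharP.char_is_prime_or_zero F p).resolve_right
        (CharP.char_ne_zero_of_finite F p)⟩
      haveI : Fintype F₁ := Fintype.ofFinite _
      set Q := Nat.card F₁ with hQ
      have hQ1 : 1 < Q := Finite.one_lt_card
      obtain ⟨g, hg⟩ := IsCyclic.exists_ofOrder_eq_natCard (α := F₁ˣ)
      have hord : Q - 1 ∣ q - 1 := by
        rw [← Nat.card_units F₁] at *
        rw [← hg]
        refine orderOf_dvd_of_pow_eq_one (Units.ext (Subtype.ext ?_))
        have h2 := hall _ ((g : F₁)).2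
        rw [hσq] at h2
        push_cast
        exact Unitary.pow_sub_one_eq_one hF (fun h0 => g.ne_zero (Subtype.ext h0)) h2
      have h5 : q ^ 2 = Q ^ r := by rw [← hF, hF₁]
      obtain ⟨f', e, hp', hq'⟩ : ∃ (f' e : ℕ), Q = p ^ f' ∧ q = p ^ e := by
        haveI : CharP F₁ p := F₁.subtype.charP F₁.subtype.injective p
        obtain ⟨f', -, hf'⟩ := FiniteField.card F₁ p
        obtain ⟨e, -, he⟩ := (Nat.dvd_prime_pow (Fact.out : p.Prime)).mp
          (show q ∣ p ^ ((f' : ℕ) * r) by
            rw [pow_mul, ← hf', ← Nat.card_eq_fintype_card, ← hQ, ← h5]; exact dvd_pow_self q two_ne_zero)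
        exact ⟨f', e, by rw [hQ, Nat.card_eq_fintype_card, hf'], he⟩
      rw [hp', hq'] at hord h5
      have hdvd : f' ∣ e := by
        have hgcd : p ^ Nat.gcd f' e - 1 = p ^ f' - 1 := by
          rw [← Nat.pow_sub_one_gcd_pow_sub_one]; exact Nat.gcd_eq_left hord
        have h6 : Nat.gcd f' e = f' := by
          refine Nat.pow_right_injective (Fact.out : p.Prime).two_le ?_
          have a1 := Nat.one_le_pow (Nat.gcd f' e) p (Fact.out : p.Prime).pos
          have a2 := Nat.one_le_pow f' p (Fact.out : p.Prime).pos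
          simp only
          omega
        rw [← h6]; exact Nat.gcd_dvd_right _ _
      obtain ⟨s, rfl⟩ := hdvd
      rw [← pow_mul, ← pow_mul] at h5
      have h7 := Nat.pow_right_injective (Fact.out : p.Prime).two_le h5
      have hf0 : f' ≠ 0 := fun h0 => by rw [h0, pow_zero] at hp'; omega
      have h8 : s * 2 = r := Nat.eq_of_mul_eq_mul_left (Nat.pos_of_ne_zero hf0)
        (by rw [← h7]; ring)
      rw [Nat.odd_iff] at hodd
      omega
    obtain ⟨μ, hμF, hμ0, hμ⟩ : ∃ μ ∈ F₁, μ ≠ 0 ∧ σ μ = c * μ := by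
      by_contra hall
      push Not at hall
      have h1 : ∀ x ∈ F₁, x + σ c * σ x = 0 := fun x hx => by
        by_contra h9
        refine hall _ (F₁.add_mem hx (F₁.mul_mem (ringEquiv_mem_subfield F₁ σ hcF)
          (ringEquiv_mem_subfield F₁ σ hx))) h9 ?_
        rw [map_add, map_mul, hinv, hinv]
        linear_combination (-σ x) * hcn
      have h2 := h1 1 F₁.one_mem
      rw [map_one, mul_one] at h2
      have h3 := h1 y hy
      rw [show σ c = -1 from eq_neg_of_add_eq_zero_right h2, neg_one_mul, ← sub_eq_add_neg,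
        sub_eq_zero] at h3
      exact hyσ h3.symm
    have hfixed : (ζ * μ) ^ q = ζ * μ := by
      rw [← hσq, map_mul, hμ, hc]; field_simp
    obtain ⟨a, ha⟩ := Unitary.exists_norm_eq hF hfixed
    have ha0 : a ≠ 0 := fun h0 => by
      rw [h0, zero_mul] at ha
      exact mul_ne_zero hζ hμ0 ha.symm
    obtain ⟨z, hz, hzv⟩ := scalar_unit (ι := ι) a ha0
    exact ⟨F₁, r, B * z, hr, hodd, hF₁, rational_rescale h hzv ha hμF hrat,
      by rw [subfieldSubgroup_mul_scalar F₁ B hz]; exact hle⟩
  right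
  subst hr2
  have hQq : Nat.card F₁ = q := by
    have h5 : Nat.card F₁ ^ 2 = q ^ 2 := by rw [← hF₁, hF]
    exact Nat.pow_left_injective two_ne_zero h5
  have hfix₁ : ∀ x ∈ F₁, σ x = x := fun x hx => by
    rw [hσq, ← hQq]; exact (mem_subfield_iff_pow F₁ x).mp hx
  have hcc : c = 1 ∨ c = -1 := mul_self_eq_one_iff.mp (by
    nth_rewrite 2 [← hfix₁ c hcF]; exact hcn)
  have halt_case : σ ζ = -ζ → (∀ i, (ζ • G') i i = 0) →
      ∃ (F₁' : Subfield F) (B' : GL ι F) (ζ' : F), Even (Fintype.card ι) ∧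
        Fintype.card F = Nat.card F₁' ^ 2 ∧ ζ' ≠ 0 ∧ ζ' + ζ' ^ q = 0 ∧
        IsFormRationalStructure f F₁' ζ' B' ∧
        (∀ u : ι → F, (∀ i, u i ∈ F₁') → f ((B' : Matrix ι ι F) *ᵥ u) ((B' : Matrix ι ι F) *ᵥ u) = 0) ∧
        H ≤ subfieldSubgroup F₁' B' := by
    intro hneg hdiag
    have hskew : ∀ i j, (ζ • G') i j = - (ζ • G') j i := by
      intro i j
      have h1 := hfix₁ _ (hent j i)
      simp only [Matrix.smul_apply, smul_eq_mul, map_mul, hherm, hneg, neg_mul] at h1 ⊢
      linear_combination -h1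
    have huz : IsUnit (ζ • G') := by
      have := hu.smul (Units.mk0 ζ hζ)
      simpa [Units.smul_def] using this
    refine ⟨F₁, B, ζ, even_card_of_alternating hskew hdiag huz, hF₁, hζ, ?_, hrat, fun u hu' => ?_, hle⟩
    · rw [← hσq, hneg, add_neg_cancel]
    · have h1 : ζ * f ((B : Matrix ι ι F) *ᵥ u) ((B : Matrix ι ι F) *ᵥ u) = 0 := by
        rw [h.sesq.eq_formOfGram, formOfGram_mulVec, ← hG']
        have h2 := (isSymplecticForm_formOfGram huz hskew hdiag).alternating u
        have e2 : (σ ∘ u : ι → F) = u := funext fun i => hfix₁ _ (hu' i)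
        rw [formOfGram_eq] at h2 ⊢
        rw [e2]
        rwa [show ((RingEquiv.refl F) ∘ u : ι → F) = u from rfl, Matrix.smul_mulVec, dotProduct_smul,
          smul_eq_mul] at h2
      exact (mul_eq_zero.mp h1).resolve_left hζ
  rcases Nat.even_or_odd q with hev | hodd
  · right
    have h2 : (2 : F) = 0 := by
      obtain ⟨p, hp⟩ := CharP.exists F
      have hpp : p.Prime := (CharP.char_is_prime_or_zero F p).resolve_right
        (CharP.char_ne_zero_of_finite F p)
      haveI : Fact p.Prime := ⟨hpp⟩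
      obtain ⟨e, -, he⟩ := FiniteField.card F p
      have h5 : 2 ∣ p ^ (e : ℕ) := by
        rw [← he, hF]; exact dvd_pow (even_iff_two_dvd.mp hev) two_ne_zero
      have : p = 2 := ((Nat.prime_dvd_prime_iff_eq Nat.prime_two hpp).mp
        (Nat.prime_two.dvd_of_dvd_pow h5)).symm
      subst this
      exact_mod_cast CharP.cast_eq_zero F 2
    haveI : CharP F 2 := CharTwo.of_one_ne_zero_of_two_eq_zero one_ne_zero h2
    have hneg : σ ζ = -ζ := by
      rw [CharTwo.neg_eq]
      rcases hcc with h1 | h1 <;> rw [hc, div_eq_iff hσζ] at h1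
      · rw [one_mul] at h1; exact h1.symm
      · rw [neg_one_mul, CharTwo.neg_eq] at h1; exact h1.symm
    set M := ζ • G' with hM
    have hsym : ∀ i j, M j i = M i j := fun i j => by
      have h1 := hfix₁ _ (hent i j)
      simp only [hM, Matrix.smul_apply, smul_eq_mul, map_mul, hherm, hneg, CharTwo.neg_eq] at h1 ⊢
      exact h1
    have hadd : ∀ u : ι → F, u ⬝ᵥ (M *ᵥ u) = ∑ i, u i ^ 2 * M i i := by
      intro u
      simp only [dotProduct, Matrix.mulVec, Finset.mul_sum, ← Fintype.sum_prod_type']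
      rw [← Finset.sum_filter_add_sum_filter_not Finset.univ (fun p : ι × ι => p.1 ≠ p.2)]
      rw [show ∑ p ∈ Finset.univ.filter (fun p : ι × ι => p.1 ≠ p.2), u p.1 * (M p.1 p.2 * u p.2) = 0 by
        refine Finset.sum_involution (fun p _ => (p.2, p.1)) ?_ ?_ ?_ ?_
        · intro p _
          rw [hsym p.1 p.2, show u p.2 * (M p.1 p.2 * u p.1) = u p.1 * (M p.1 p.2 * u p.2) by ring,
            CharTwo.add_self_eq_zero]
        · intro p hp _ h0
          rw [Finset.mem_filter] at hp
          exact hp.2 (congrArg Prod.fst h0).symm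
        · intro p hp
          rw [Finset.mem_filter] at hp ⊢
          exact ⟨Finset.mem_univ _, hp.2.symm⟩
        · simp, zero_add]
      refine (Finset.sum_nbij' (fun j => (j, j)) Prod.fst ?_ ?_ ?_ ?_ ?_).symm
      · intro j _; simp
      · intro p _; exact Finset.mem_univ _
      · intro j _; rfl
      · intro p hp
        rw [Finset.mem_filter, not_not] at hp
        exact Prod.ext rfl hp.2
      · intro j _; ring
    -- the kernel of the semilinear functional, carried back to the original coordinates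
    let T := Matrix.toLin' (B : Matrix ι ι F)
    let K : Submodule F (ι → F) :=
      { carrier := {u | ∑ i, u i ^ 2 * M i i = 0}
        add_mem' := fun {u v} hu hv => by
          show ∑ i, (u i + v i) ^ 2 * M i i = 0
          simp only [add_pow_char, add_mul, Finset.sum_add_distrib]
          rw [show ∑ i, u i ^ 2 * M i i = 0 from hu, show ∑ i, v i ^ 2 * M i i = 0 from hv, add_zero]
        zero_mem' := by simp
        smul_mem' := fun t x hx => by
          show ∑ i, (t * x i) ^ 2 * M i i = 0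
          simp only [mul_pow, mul_assoc, ← Finset.mul_sum]
          rw [show ∑ i, x i ^ 2 * M i i = 0 from hx, mul_zero] }
    refine halt_case hneg fun i => ?_
    by_contra hi
    rcases eq_bot_or_eq_top hP.1 (K.map T) (by
      rintro s hs _ ⟨u, hu', rfl⟩
      set s' := ((B⁻¹ : GL ι F) : Matrix ι ι F) * (s : Matrix ι ι F) * (B : Matrix ι ι F) with hs'
      have hfs : s'ᵀ * M * s' = M := by
        have h1 := (fixes_iff_gtr h.sesq _).mp (hfix _ (mem_matrixSet hs))
        have hmap : s'.map σ = s' := by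
          ext a b; exact hfix₁ _ (hPB _ (mem_matrixSet hs) a b)
        have e1 : gtr σ G' s' = G' := by
          rw [hG', ← gtr_mul, hs', ← mul_assoc, ← mul_assoc, ← Units.val_mul, mul_inv_cancel,
            Units.val_one, one_mul, gtr_mul, h1]
        rw [gtr, hmap] at e1
        rw [hM, Matrix.mul_smul, Matrix.smul_mul, e1]
      refine ⟨s' *ᵥ u, ?_, ?_⟩
      · show ∑ i, (s' *ᵥ u) i ^ 2 * M i i = 0
        rw [← hadd, Matrix.mulVec_mulVec, Matrix.dotProduct_mulVec (s' *ᵥ u),
          ← Matrix.vecMul_transpose s' u, Matrix.vecMul_vecMul, ← mul_assoc, hfs,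
          ← Matrix.dotProduct_mulVec, hadd]
        exact hu'
      · simp only [T, Matrix.toLin'_apply, Matrix.mulVec_mulVec, hs']
        rw [← mul_assoc, ← mul_assoc, ← Units.val_mul, mul_inv_cancel, Units.val_one, one_mul]) with hK | hK
    · obtain ⟨k, hk⟩ : ∃ k, k ≠ i := by
        haveI : Nontrivial ι := Fintype.one_lt_card_iff_nontrivial.mp hdim
        exact exists_ne i
      obtain ⟨a, ha⟩ := (surjective_frobenius F 2) (M k k)
      obtain ⟨b, hb⟩ := (surjective_frobenius F 2) (M i i)
      rw [frobenius_def] at ha hb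
      let u : ι → F := Pi.single i a + Pi.single k b
      have hu' : u ∈ K := by
        show ∑ j, u j ^ 2 * M j j = 0
        rw [← Finset.sum_subset (Finset.subset_univ ({i, k} : Finset ι)), Finset.sum_pair hk.symm]
        · simp [u, Pi.single_eq_of_ne hk, Pi.single_eq_of_ne hk.symm, ha, hb]
          rw [mul_comm (M k k), CharTwo.add_self_eq_zero]
        · intro j _ hj
          simp only [Finset.mem_insert, Finset.mem_singleton, not_or] at hj
          simp [u, Pi.single_eq_of_ne hj.1, Pi.single_eq_of_ne hj.2]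
      have h3 := Submodule.mem_map_of_mem (f := T) hu'
      rw [hK, Submodule.mem_bot] at h3
      have h4 : u = 0 := Matrix.mulVec_injective_iff_isUnit.mpr B.isUnit
        (show (B : Matrix ι ι F) *ᵥ u = (B : Matrix ι ι F) *ᵥ 0 by
          rw [Matrix.mulVec_zero]; exact h3)
      have h5 := congrFun h4 k
      simp [u, Pi.single_eq_of_ne hk] at h5
      rw [h5, zero_pow two_ne_zero] at hb
      exact hi hb.symm
    · have h3 : (B : Matrix ι ι F) *ᵥ Pi.single i 1 ∈ K.map T := hK ▸ Submodule.mem_top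
      obtain ⟨u, hu', he⟩ := h3
      have : u = Pi.single i 1 := Matrix.mulVec_injective_iff_isUnit.mpr B.isUnit he
      subst this
      have h4 : ∑ j, (Pi.single i (1 : F) : ι → F) j ^ 2 * M j j = 0 := hu'
      simp [Pi.single_apply, ite_pow] at h4
      exact hi h4
  rcases hcc with h1 | h1 <;> rw [hc, div_eq_iff hσζ] at h1
  · left
    rw [one_mul] at h1
    obtain ⟨a, ha⟩ := Unitary.exists_norm_eq hF (show ζ ^ q = ζ by rw [← hσq, ← h1])
    have ha0 : a ≠ 0 := fun h0 => by rw [h0, zero_mul] at ha; exact hζ ha.symm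
    obtain ⟨z, hz, hzv⟩ := scalar_unit (ι := ι) a ha0
    exact ⟨F₁, B * z, hodd, hF₁, rational_rescale h hzv (by rw [mul_one]; exact ha) F₁.one_mem hrat,
      by rw [subfieldSubgroup_mul_scalar F₁ B hz]; exact hle⟩
  · right
    have hneg : σ ζ = -ζ := by linear_combination h1
    refine halt_case hneg fun i => ?_
    have h3 := hfix₁ _ (hent i i)
    simp only [Matrix.smul_apply, smul_eq_mul, map_mul, hherm, hneg, neg_mul] at h3 ⊢
    have h4 : (2 : F) * (ζ * G' i i) = 0 := by linear_combination -h3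
    refine (mul_eq_zero.mp h4).resolve_left fun h2 => ?_
    obtain ⟨p, hp⟩ := CharP.exists F
    have hpp : p.Prime := (CharP.char_is_prime_or_zero F p).resolve_right
      (CharP.char_ne_zero_of_finite F p)
    have hp2 : p = 2 := by
      have h5 : ((2 : ℕ) : F) = 0 := by exact_mod_cast h2
      exact (Nat.prime_dvd_prime_iff_eq hpp Nat.prime_two).mp ((CharP.cast_eq_zero_iff F p 2).mp h5)
    haveI : Fact p.Prime := ⟨hpp⟩
    obtain ⟨e, he0, he⟩ := FiniteField.card F p
    have : Even (q ^ 2) := by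
      rw [← hF, he, hp2]; exact Nat.even_pow.mpr ⟨even_two, e.ne_zero⟩
    exact Nat.not_even_iff_odd.mpr hodd (Nat.even_pow.mp this).1

/-- The subfield classes of a symmetric form in odd dimension with Gram matrix over the prime
field. -/
theorem orthogonal_subfield [Fintype F] [Nonempty ι]
    (h : FormSpace (RingEquiv.refl F) 1 f) (h2 : (2 : F) ≠ 0) (hodd : Odd (Fintype.card ι))
    (hprime : ∀ (F₁ : Subfield F) i j, gramMatrix f i j ∈ F₁)
    {H P : Subgroup (GL ι F)} (hP : ActsAbsolutelyIrreducibly (matrixSet P))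
    (hn : ∀ g ∈ H, ∀ x ∈ P, g * x * g⁻¹ ∈ P) (hfix : FixesForm (matrixSet P) f)
    {F₀ : Subfield F} (hne : F₀ ≠ ⊤) (hreal : RealisableOver F₀ (matrixSet P)) :
    ∃ (F₁ : Subfield F) (r : ℕ) (B : GL ι F), r.Prime ∧ Fintype.card F = Nat.card F₁ ^ r ∧
      IsFormRationalStructure f F₁ 1 B ∧ H ≤ subfieldSubgroup F₁ B := by
  classical
  obtain ⟨F₁, r, B, ζ, hr, hF₁, hζ, hent, hrat, hle, -⟩ := h.subfield_case hP hn hfix hne hreal
  haveI : Fintype F₁ := Fintype.ofFinite _
  have hcharF : ringChar F ≠ 2 := fun h0 => h2 (by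
    have := ringChar.Nat.cast_ringChar (R := F); rw [h0] at this; exact_mod_cast this)
  obtain ⟨μ, hμF, hμ0, hsq⟩ : ∃ μ ∈ F₁, μ ≠ 0 ∧ IsSquare (ζ * μ) := by
    by_cases hz : IsSquare ζ
    · exact ⟨1, F₁.one_mem, one_ne_zero, by rwa [mul_one]⟩
    rcases hr.eq_two_or_odd' with hr2 | hro
    · exfalso
      apply hz
      have hallsq : ∀ x ∈ F₁, IsSquare x := by
        intro x hx
        rcases eq_or_ne x 0 with h0 | h0
        · rw [h0]; exact IsSquare.zero
        rw [FiniteField.isSquare_iff hcharF h0, hF₁, hr2, Nat.card_eq_fintype_card]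
        have hxQ : x ^ (Fintype.card F₁ - 1) = 1 := by
          have := FiniteField.pow_card_sub_one_eq_one (⟨x, hx⟩ : F₁) (fun h => h0 (congrArg Subtype.val h))
          exact congrArg Subtype.val this
        set Q := Fintype.card F₁
        have hQodd : Q % 2 = 1 := by
          refine FiniteField.odd_card_of_char_ne_two (fun h0' => hcharF ?_)
          haveI := ringChar.charP F₁
          haveI : CharP F (ringChar F₁) :=
            charP_of_injective_ringHom F₁.subtype.injective (ringChar F₁)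
          rw [ringChar.eq F (ringChar F₁), h0']
        obtain ⟨j, hj⟩ : ∃ j, Q = 2 * j + 1 := ⟨Q / 2, by omega⟩
        have e : (Q ^ 2) / 2 = (Q - 1) * (j + 1) := by
          rw [hj, show (2 * j + 1) ^ 2 = 2 * (2 * j * (j + 1)) + 1 by ring,
            show 2 * j + 1 - 1 = 2 * j by omega]
          omega
        rw [e, pow_mul, hxQ, one_pow]
      set M := gtr (RingEquiv.refl F) (gramMatrix f) (B : Matrix ι ι F)
      have hdet : (ζ • M).det ∈ F₁ := by
        rw [Matrix.det_apply]
        exact F₁.sum_mem fun τ _ => F₁.zsmul_mem (F₁.prod_mem fun i _ => hent _ _) _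
      have hGdet : (gramMatrix f).det ∈ F₁ := by
        rw [Matrix.det_apply]
        exact F₁.sum_mem fun τ _ => F₁.zsmul_mem (F₁.prod_mem fun i _ => hprime F₁ _ _) _
      have h1 := hallsq _ hdet
      have h3 := hallsq _ hGdet
      rw [Matrix.det_smul] at h1
      have hM : M.det = (gramMatrix f).det * ((B : Matrix ι ι F).det * (B : Matrix ι ι F).det) := by
        simp only [M, gtr, Matrix.det_mul, Matrix.det_transpose,
          show (B : Matrix ι ι F).map (RingEquiv.refl F) = (B : Matrix ι ι F) from Matrix.map_id _]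
        ring
      rw [hM] at h1
      obtain ⟨k, hk⟩ := hodd
      obtain ⟨x, hx⟩ := h1
      obtain ⟨y, hy⟩ := h3
      have hy0 : y ≠ 0 := fun h0 => by
        have := ((Matrix.isUnit_iff_isUnit_det _).mp (isUnit_gram h.sesq h.nondeg)).ne_zero
        rw [hy, h0, mul_zero] at this
        exact this rfl
      have hB0 : (B : Matrix ι ι F).det ≠ 0 :=
        ((Matrix.isUnit_iff_isUnit_det _).mp B.isUnit).ne_zero
      refine ⟨x / (ζ ^ k * y * (B : Matrix ι ι F).det), ?_⟩
      rw [hk, hy] at hx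
      field_simp
      linear_combination hx
    · obtain ⟨μ, hμ⟩ := FiniteField.exists_nonsquare (F := F₁) (fun h0 => hcharF (by
        haveI := ringChar.charP F₁
        haveI : CharP F (ringChar F₁) :=
          charP_of_injective_ringHom F₁.subtype.injective (ringChar F₁)
        rw [ringChar.eq F (ringChar F₁), h0]))
      have hμ0 : μ ≠ 0 := fun h0 => hμ (h0 ▸ IsSquare.zero)
      refine ⟨μ, μ.2, fun h0 => hμ0 (Subtype.ext h0), ?_⟩
      have hμns : ¬ IsSquare (μ : F) := by
        rintro ⟨y, hy⟩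
        apply hμ
        have hy2 : y ^ Nat.card F₁ = y := by
          set Q := Nat.card F₁ with hQ
          have hy0 : y ≠ 0 := fun h0 => hμ0 (Subtype.ext (by rw [hy, h0, mul_zero]; rfl))
          have hμQ : (μ : F) ^ Q = (μ : F) := (mem_subfield_iff_pow F₁ _).mp μ.2
          have hsq1 : y ^ Q * y ^ Q = y * y := by rw [← mul_pow, ← hy, hμQ]
          rcases mul_self_eq_mul_self_iff.mp hsq1 with h4 | h4
          · exact h4
          exfalso
          have hQ0 : Odd Q := by
            rw [Nat.odd_iff, hQ, Nat.card_eq_fintype_card]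
            refine FiniteField.odd_card_of_char_ne_two (fun h0' => hcharF ?_)
            haveI := ringChar.charP F₁
            haveI : CharP F (ringChar F₁) :=
              charP_of_injective_ringHom F₁.subtype.injective (ringChar F₁)
            rw [ringChar.eq F (ringChar F₁), h0']
          have hiter : ∀ i : ℕ, y ^ Q ^ i = (-1) ^ i * y := by
            intro i
            induction i with
            | zero => simp
            | succ i ih =>
              rw [pow_succ, pow_mul, ih, mul_pow, h4, ← pow_mul, mul_comm i, pow_mul,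
                hQ0.neg_one_pow, pow_succ]
              ring
          have h5 := hiter r
          rw [← hF₁, FiniteField.pow_card, hro.neg_one_pow] at h5
          have h6 : (2 : F) * y = 0 := by linear_combination h5
          exact hy0 ((mul_eq_zero.mp h6).resolve_left h2)
        exact ⟨⟨y, (mem_subfield_iff_pow F₁ y).mpr hy2⟩, Subtype.ext hy⟩
      have hμF0 : (μ : F) ≠ 0 := fun h0 => hμ0 (Subtype.ext h0)
      rw [FiniteField.isSquare_iff hcharF (mul_ne_zero hζ hμF0), mul_pow,
        (FiniteField.pow_dichotomy hcharF hζ).resolve_left (fun h1 => hz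
          ((FiniteField.isSquare_iff hcharF hζ).mpr h1)),
        (FiniteField.pow_dichotomy hcharF hμF0).resolve_left (fun h1 => hμns
          ((FiniteField.isSquare_iff hcharF hμF0).mpr h1))]
      norm_num
  obtain ⟨a, ha⟩ := hsq
  have ha0 : a ≠ 0 := fun h0 => by
    rw [h0, mul_zero] at ha; exact mul_ne_zero hζ hμ0 ha
  obtain ⟨z, hz, hzv⟩ := scalar_unit (ι := ι) a ha0
  exact ⟨F₁, r, B * z, hr, hF₁, rational_rescale h hzv ha.symm hμF hrat,
    by rw [subfieldSubgroup_mul_scalar F₁ B hz]; exact hle⟩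

end Cfsg.Agent.Aschbacher
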