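/-
The symplectic-type case: an absolutely irreducible normal subgroup which is elementary abelian
modulo scalars and minimal.
-/
import Cfsg.Agent.Aschbacher.Subfield
import Cfsg.Agent.Aschbacher.Forms

set_option autoImplicit false
set_option maxHeartbeats 4000000

namespace Cfsg.Agent.Aschbacher

open scoped MatrixGroups Matrix
open Cfsg.Geo

variable {ι : Type} [Fintype ι] [DecidableEq ι] {F : Type*} [Field F]

lemma scalars_comm {z : GL ι F} (hz : z ∈ scalars ι F) (g : GL ι F) : z * g = g * z := by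
  obtain ⟨c, hc⟩ := (mem_scalars_iff z).mp hz
  exact Units.ext (by simp [hc])

lemma scalars_ext {z : GL ι F} (hz : z ∈ scalars ι F) :
    ∃ c : Fˣ, z = Units.map (Matrix.scalar ι : F →+* Matrix ι ι F).toMonoidHom c := by
  obtain ⟨c, hc⟩ := (mem_scalars_iff z).mp hz
  exact ⟨c, Units.ext (by simp [hc, Matrix.smul_one_eq_diagonal])⟩

/-- Powers of a product of two elements commuting up to a central element. -/
lemma mul_pow_of_comm {G : Type*} [Group G] {x y c : G} (hc : ∀ g, c * g = g * c)
    (h : y * x = c * (x * y)) :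
    ∀ k : ℕ, (x * y) ^ k = c ^ (k.choose 2) * (x ^ k * y ^ k) := by
  have hcp : ∀ (i : ℕ) g, c ^ i * g = g * c ^ i := fun i g =>
    (Commute.pow_left (hc g) i).eq
  have key : ∀ k : ℕ, y ^ k * x = c ^ k * (x * y ^ k) := by
    intro k
    induction k with
    | zero => simp
    | succ k ih =>
      calc y ^ (k + 1) * x = y ^ k * (y * x) := by rw [pow_succ, mul_assoc]
        _ = c * (y ^ k * x * y) := by
            rw [h, ← mul_assoc, ← hc, mul_assoc c, mul_assoc (y ^ k)]
        _ = c ^ (k + 1) * (x * y ^ (k + 1)) := by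
            rw [ih, pow_succ' c k, pow_succ y k]; simp only [mul_assoc]
  intro k
  induction k with
  | zero => simp
  | succ k ih =>
    have hch : (k + 1).choose 2 = k.choose 2 + k := by
      rw [Nat.choose_succ_succ', Nat.choose_one_right]; simp only [Nat.reduceAdd]; omega
    calc (x * y) ^ (k + 1) = c ^ k.choose 2 * (x ^ k * (y ^ k * x) * y) := by
          rw [pow_succ, ih]; simp only [mul_assoc]
      _ = c ^ k.choose 2 * (c ^ k * (x ^ k * (x * y ^ k) * y)) := by
          rw [key, ← mul_assoc (x ^ k), ← hcp k (x ^ k)]; simp only [mul_assoc]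
      _ = c ^ ((k + 1).choose 2) * (x ^ (k + 1) * y ^ (k + 1)) := by
          rw [hch, pow_add, pow_succ x, pow_succ y]; simp only [mul_assoc]

/-- Joint eigenvectors with distinct weights are linearly independent. -/
lemma linearIndependent_of_weights {V : Type*} [AddCommGroup V] [Module F V] {Q G : Type*}
    (T : G → (V →ₗ[F] V)) (v : Q → V) (χ : Q → G → F) (hT : ∀ q g, T g (v q) = χ q g • v q)
    (hv : ∀ q, v q ≠ 0) (hχ : Function.Injective χ) : LinearIndependent F v := by
  classical
  rw [linearIndependent_iff']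
  intro s
  induction s using Finset.induction_on with
  | empty => simp
  | @insert a s ha ih =>
    intro c hsum
    rw [Finset.sum_insert ha] at hsum
    have hzero : ∀ q ∈ s, c q = 0 := by
      intro q hq
      obtain ⟨g, hg⟩ : ∃ g, χ q g ≠ χ a g :=
        Function.ne_iff.mp fun h => ha ((hχ h) ▸ hq)
      have h1 : c a • χ a g • v a + ∑ r ∈ s, c r • χ r g • v r = 0 := by
        have := congrArg (T g) hsum
        rw [map_add, map_smul, map_sum, map_zero, hT] at this
        simpa [map_smul, hT] using this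
      have h2 : ∑ r ∈ s, (c r * (χ r g - χ a g)) • v r = 0 := by
        have h3 := congrArg (fun w => χ a g • w) hsum
        simp only [smul_add, Finset.smul_sum, smul_zero, smul_smul] at h3
        simp only [smul_smul] at h1
        rw [mul_comm (χ a g) (c a)] at h3
        have h4 := h1.trans h3.symm
        rw [add_right_inj] at h4
        simp only [mul_sub, sub_smul, Finset.sum_sub_distrib]
        rw [h4, sub_eq_zero]
        exact Finset.sum_congr rfl fun r _ => by rw [mul_comm (χ a g) (c r)]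
      rcases mul_eq_zero.mp (ih _ h2 q hq) with h | h
      · exact h
      · exact absurd (sub_eq_zero.mp h) hg
    intro q hq
    rcases Finset.mem_insert.mp hq with rfl | hq
    · rw [Finset.sum_eq_zero (fun r hr => by rw [hzero r hr, zero_smul]), add_zero] at hsum
      exact (smul_eq_zero.mp hsum).resolve_right (hv _)
    · exact hzero q hq

/-- The data produced in the symplectic-type case. -/
structure SympData (H N : Subgroup (GL ι F)) (r m z : ℕ) (R : Subgroup (GL ι F)) : Prop where
  prime : r.Prime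
  char_ne : (r : F) ≠ 0
  pos : 1 ≤ m
  card_eq : Fintype.card ι = r ^ m
  le : R ≤ N
  normal : ∀ h ∈ H, ∀ x ∈ R, h * x * h⁻¹ ∈ R
  absIrred : ActsAbsolutelyIrreducibly (matrixSet R)
  sympType : IsSymplecticTypeGroup r R
  card_center : Nat.card (Subgroup.center R) = z
  z_dvd : z ∣ Nat.card F - 1
  card_R : Nat.card R = z * r ^ (2 * m)
  scalar_pow : ∀ c : Fˣ, (Units.map (Matrix.scalar ι : F →+* Matrix ι ι F).toMonoidHom c ∈ R ↔
    c ^ z = 1)
  reps : ∃ b : Fin (r ^ (2 * m)) → GL ι F, (∀ k, b k ∈ R) ∧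
    LinearIndependent F (fun k => (b k : Matrix ι ι F)) ∧
    (∀ x ∈ R, ∃ k, x * (b k)⁻¹ ∈ scalars ι F) ∧
    (∀ k, (b k : Matrix ι ι F).trace ≠ 0 → b k ∈ scalars ι F)
  zcase : (Odd r ∧ z = r) ∨ (r = 2 ∧ z = 4 ∧ ∃ i : F, i ^ 2 = -1) ∨
    (r = 2 ∧ z = 2 ∧ ¬ ∃ i : F, i ^ 2 = -1)
  commutator_le_scalars : ⁅N, N⁆ ≤ scalars ι F

lemma comm_scalar {N : Subgroup (GL ι F)} (hab : ⁅N, N⁆ ≤ scalars ι F)
    {x y : GL ι F} (hx : x ∈ N) (hy : y ∈ N) :
    ∃ c ∈ scalars ι F, y * x = c * (x * y) := by
  refine ⟨y * x * y⁻¹ * x⁻¹, hab (Subgroup.commutator_mem_commutator hy hx), ?_⟩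
  group

theorem exists_sympData [Fintype F] [Nonempty ι] (H N : Subgroup (GL ι F))
    (hdim : 2 ≤ Fintype.card ι) (hZN : scalars ι F ≤ N) (hNH : N ≤ H)
    (hnorm : ∀ h ∈ H, ∀ x ∈ N, h * x * h⁻¹ ∈ N)
    (hmin : ∀ M : Subgroup (GL ι F), scalars ι F ≤ M → M ≤ N →
      (∀ h ∈ H, ∀ x ∈ M, h * x * h⁻¹ ∈ M) → M = scalars ι F ∨ M = N)
    (hab : ⁅N, N⁆ ≤ scalars ι F) (hN : ActsAbsolutelyIrreducibly (matrixSet N)) :
    ∃ (r m z : ℕ) (R : Subgroup (GL ι F)), SympData H N r m z R := by
  classical
  set Z := scalars ι F with hZdef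
  set sc : Fˣ →* GL ι F := Units.map (Matrix.scalar ι : F →+* Matrix ι ι F).toMonoidHom with hsc
  have hscinj : Function.Injective sc := fun a b h => by
    have h2 : Matrix.scalar ι (a : F) = Matrix.scalar ι (b : F) := congrArg Units.val h
    exact Units.ext (Matrix.scalar_inj.mp h2)
  have hscmem : ∀ c, sc c ∈ Z := fun c => ⟨c, rfl⟩
  have hcomZ : ∀ z ∈ Z, ∀ g : GL ι F, z * g = g * z := fun z hz g => scalars_comm hz g
  have hcent : ∀ x : GL ι F, (∀ y ∈ N, x * y = y * x) → x ∈ Z := by
    intro x hx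
    obtain ⟨c, hc⟩ := hN.2 (x : Matrix ι ι F) (by
      rintro _ ⟨y, hy, rfl⟩
      simpa using congrArg Units.val (hx y hy))
    have hc0 : c ≠ 0 := fun h => x.ne_zero (by rw [hc, h, zero_smul])
    exact (mem_scalars_iff x).mpr ⟨Units.mk0 c hc0, hc⟩
  -- N is not abelian
  have hnab : ¬ ∀ x ∈ N, ∀ y ∈ N, x * y = y * x := by
    intro h
    have hle : Submodule.span F (matrixSet N) ≤ F ∙ (1 : Matrix ι ι F) := by
      rw [Submodule.span_le]
      rintro _ ⟨x, hx, rfl⟩
      obtain ⟨c, hc⟩ := (mem_scalars_iff x).mp (hcent x (h x hx))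
      show (x : Matrix ι ι F) ∈ _
      rw [hc]
      exact Submodule.smul_mem _ _ (Submodule.mem_span_singleton_self _)
    rw [span_eq_top hN] at hle
    have h1 := Submodule.finrank_mono hle
    rw [finrank_top, finrank_span_singleton (one_ne_zero (α := Matrix ι ι F)),
      Module.finrank_matrix, Module.finrank_self, mul_one] at h1
    nlinarith
  obtain ⟨x₀, hx₀, hx₀Z⟩ : ∃ x ∈ N, x ∉ Z := by
    by_contra h
    push Not at h
    exact hnab fun x hx y _ => hcomZ x (h x hx) y
  -- the prime r
  have hfin : Finite (GL ι F) := inferInstance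
  obtain ⟨r, hr, hrd⟩ : ∃ r : ℕ, r.Prime ∧
      ∃ x ∈ N, x ∉ Z ∧ x ^ r ∈ Z := by
    haveI : (Z.subgroupOf N).Normal := by
      constructor
      intro a ha b
      rw [Subgroup.mem_subgroupOf] at ha ⊢
      push_cast
      rw [← hcomZ _ ha, mul_assoc, mul_inv_cancel, mul_one]
      exact ha
    let q : ↥N ⧸ Z.subgroupOf N := ↑(⟨x₀, hx₀⟩ : N)
    have hq : orderOf q ≠ 1 := by
      rw [Ne, orderOf_eq_one_iff, QuotientGroup.eq_one_iff, Subgroup.mem_subgroupOf]
      exact hx₀Z
    obtain ⟨r, hr, hrd⟩ := Nat.exists_prime_and_dvd hq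
    refine ⟨r, hr, x₀ ^ (orderOf q / r), N.pow_mem hx₀ _, fun h => ?_, ?_⟩
    · have h2 : q ^ (orderOf q / r) = 1 := by
        rw [← QuotientGroup.mk_pow, QuotientGroup.eq_one_iff, Subgroup.mem_subgroupOf]
        exact h
      have hpos : 0 < orderOf q := orderOf_pos q
      have := Nat.le_of_dvd (Nat.div_pos (Nat.le_of_dvd hpos hrd) hr.pos)
        (orderOf_dvd_of_pow_eq_one h2)
      have := Nat.div_lt_self hpos hr.one_lt
      omega
    · rw [← pow_mul, Nat.div_mul_cancel hrd]
      have h2 := pow_orderOf_eq_one q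
      rw [← QuotientGroup.mk_pow, QuotientGroup.eq_one_iff, Subgroup.mem_subgroupOf] at h2
      exact h2
  -- every element has r-th power scalar
  have hpow : ∀ x ∈ N, x ^ r ∈ Z := by
    let M : Subgroup (GL ι F) :=
      { carrier := {x | x ∈ N ∧ x ^ r ∈ Z}
        one_mem' := ⟨N.one_mem, by rw [one_pow]; exact Z.one_mem⟩
        mul_mem' := fun {x y} hx hy => by
          refine ⟨N.mul_mem hx.1 hy.1, ?_⟩
          obtain ⟨c, hc, hcxy⟩ := comm_scalar hab hx.1 hy.1
          rw [mul_pow_of_comm (hcomZ c hc) hcxy]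
          exact Z.mul_mem (Z.pow_mem hc _) (Z.mul_mem hx.2 hy.2)
        inv_mem' := fun {x} hx => ⟨N.inv_mem hx.1, by rw [inv_pow]; exact Z.inv_mem hx.2⟩ }
    have hM : M = N := by
      refine (hmin M (fun x hx => ⟨hZN hx, Z.pow_mem hx _⟩) (fun x hx => hx.1) ?_).resolve_left ?_
      · intro h hh x hx
        refine ⟨hnorm h hh x hx.1, ?_⟩
        rw [conj_pow, ← hcomZ _ hx.2, mul_assoc, mul_inv_cancel, mul_one]
        exact hx.2
      · intro hMZ
        obtain ⟨x, hxN, hxZ, hxr⟩ := hrd
        exact hxZ (hMZ ▸ (show x ∈ M from ⟨hxN, hxr⟩))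
    intro x hx
    have : x ∈ M := hM ▸ hx
    exact this.2
  -- commutator scalars are r-th roots of unity
  have hcom : ∀ x ∈ N, ∀ y ∈ N, ∃ c : Fˣ, c ^ r = 1 ∧ y * x = sc c * (x * y) := by
    intro x hx y hy
    obtain ⟨z, hz, hzxy⟩ := comm_scalar hab hx hy
    obtain ⟨c, rfl⟩ := scalars_ext hz
    refine ⟨c, ?_, hzxy⟩
    have key : ∀ k : ℕ, y * x ^ k = sc c ^ k * (x ^ k * y) := by
      intro k
      induction k with
      | zero => simp
      | succ k ih =>
        rw [pow_succ, ← mul_assoc, ih, pow_succ (sc c)]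
        simp only [mul_assoc]
        rw [hzxy, ← mul_assoc (x ^ k), ← hcomZ (sc c) (hscmem c)]
        simp only [mul_assoc]
    have h1 := key r
    rw [← hcomZ _ (hpow x hx)] at h1
    have h2 : sc c ^ r = 1 := by
      have := mul_right_cancel ((one_mul _).trans h1)
      exact this.symm
    exact hscinj (by rw [map_pow, h2, map_one])
  obtain ⟨ω, hω1, hωr⟩ : ∃ ω : Fˣ, ω ≠ 1 ∧ ω ^ r = 1 := by
    by_contra h
    push Not at h
    refine hnab fun x hx y hy => ?_
    obtain ⟨c, hcr, hc⟩ := hcom x hx y hy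
    have : c = 1 := by_contra fun hne => h c hne hcr
    rw [this, map_one, one_mul] at hc
    exact hc.symm
  have hchar : (r : F) ≠ 0 := by
    intro hr0
    obtain ⟨p, hp⟩ := CharP.exists F
    have hpp : p.Prime := (CharP.char_is_prime_or_zero F p).resolve_right
      (CharP.char_ne_zero_of_finite F p)
    haveI : Fact p.Prime := ⟨hpp⟩
    have hpr : p = r := (Nat.prime_dvd_prime_iff_eq hpp hr).mp ((CharP.cast_eq_zero_iff F p r).mp hr0)
    apply hω1
    have h2 : ((ω : F) - 1) ^ r = 0 := by
      rw [← hpr, sub_pow_char, one_pow, hpr, ← Units.val_pow_eq_pow_val, hωr, Units.val_one,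
        sub_self]
    exact Units.ext (sub_eq_zero.mp (pow_eq_zero_iff hr.ne_zero |>.mp h2))
  -- k and z
  let k : ℕ := if r = 2 then 4 else r
  have hk2 : r ∣ k.choose 2 := by
    simp only [k]
    split_ifs with h
    · subst h; decide
    · obtain ⟨j, hj⟩ := hr.odd_of_ne_two h
      rw [Nat.choose_two_right, hj]
      refine ⟨j, ?_⟩
      rw [show 2 * j + 1 - 1 = j * 2 by omega, ← mul_assoc, Nat.mul_div_cancel _ two_pos]
  have hkr : r ∣ k := by
    simp only [k]; split_ifs with h
    · subst h; norm_num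
    · exact dvd_rfl
  have hk0 : 0 < k := by simp only [k]; split_ifs <;> [norm_num; exact hr.pos]
  let R : Subgroup (GL ι F) :=
    { carrier := {x | x ∈ N ∧ x ^ k = 1}
      one_mem' := ⟨N.one_mem, one_pow _⟩
      mul_mem' := fun {x y} hx hy => by
        refine ⟨N.mul_mem hx.1 hy.1, ?_⟩
        obtain ⟨c, hcr, hcxy⟩ := hcom x hx.1 y hy.1
        rw [mul_pow_of_comm (hcomZ _ (hscmem c)) hcxy, hx.2, hy.2, one_mul, mul_one, ← map_pow]
        obtain ⟨j, hj⟩ := hk2
        rw [hj, pow_mul, hcr, one_pow, map_one]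
      inv_mem' := fun {x} hx => ⟨N.inv_mem hx.1, by rw [inv_pow, hx.2, inv_one]⟩ }
  have hRn : ∀ h ∈ H, ∀ x ∈ R, h * x * h⁻¹ ∈ R := fun h hh x hx =>
    ⟨hnorm h hh x hx.1, by rw [conj_pow, hx.2, mul_one, mul_inv_cancel]⟩
  have hscR : ∀ c, sc c ∈ R ↔ c ^ k = 1 := by
    intro c
    constructor
    · intro h
      exact hscinj (by rw [map_pow, h.2, map_one])
    · intro h
      exact ⟨hZN (hscmem c), by rw [← map_pow, h, map_one]⟩
  -- every coset meets R
  have hrep : ∀ x ∈ N, ∃ y ∈ R, x * y⁻¹ ∈ Z := by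
    have hRZ : R ⊔ Z = N := by
      refine (hmin (R ⊔ Z) le_sup_right (sup_le (fun x hx => hx.1) hZN) ?_).resolve_left ?_
      · intro h hh x hx
        obtain ⟨a, ha, b, hb, rfl⟩ := Subgroup.mem_sup_of_normal_right.mp hx
        rw [show h * (a * b) * h⁻¹ = (h * a * h⁻¹) * (h * b * h⁻¹) by group]
        exact Subgroup.mul_mem _ (Subgroup.mem_sup_left (hRn h hh a ha))
          (Subgroup.mem_sup_right ((scalars_normal).conj_mem b hb h))
      · intro hRZ
        have hR : ∀ x ∈ N, x ^ k = 1 → x ∈ Z := fun x hx hxk =>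
          hRZ ▸ Subgroup.mem_sup_left (show x ∈ R from ⟨hx, hxk⟩)
        have hpick : ∀ x, ∃ a : Fˣ, x ∈ N → x ^ r = sc a := fun x => by
          by_cases hx : x ∈ N
          · obtain ⟨a, ha⟩ := scalars_ext (hpow x hx)
            exact ⟨a, fun _ => ha⟩
          · exact ⟨1, fun h => absurd h hx⟩
        choose a ha using hpick
        have hscale : ∀ x ∈ N, (∃ d : Fˣ, (a x * (d ^ r)⁻¹) ^ (k / r) = 1) → x ∈ Z := by
          rintro x hx ⟨d, hd⟩
          have hy : x * sc d⁻¹ ∈ Z := by
            refine hR _ (N.mul_mem hx (hZN (hscmem _))) ?_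
            have hc : Commute x (sc d⁻¹) := (hcomZ _ (hscmem _) x).symm
            rw [show k = r * (k / r) from (Nat.mul_div_cancel' hkr).symm, hc.mul_pow,
              pow_mul x, ha x hx, ← map_pow, ← map_pow, ← map_mul, pow_mul, ← mul_pow, inv_pow,
              hd, map_one]
          simpa using Z.mul_mem hy (hscmem d)
        -- a x modulo r-th powers embeds N/Z
        by_cases hr2 : r = 2
        · subst hr2
          have hsq : ∀ x ∈ N, x ∉ Z → ¬ IsSquare (a x) ∧ ¬ IsSquare (-a x) := by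
            intro x hx hxZ
            constructor
            · rintro ⟨d, hd⟩
              refine hxZ (hscale x hx ⟨d, ?_⟩)
              rw [hd, sq, mul_inv_cancel, one_pow]
            · rintro ⟨d, hd⟩
              refine hxZ (hscale x hx ⟨d, ?_⟩)
              have : a x = -(d * d) := by rw [← hd, neg_neg]
              rw [this, sq d, neg_mul, mul_inv_cancel]
              norm_num [k]
          refine hnab fun x hx y hy => ?_
          by_contra hxy
          have hxZ : x ∉ Z := fun h => hxy (hcomZ x h y)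
          have hyZ : y ∉ Z := fun h => hxy (hcomZ y h x).symm
          have hxyZ : x * y ∉ Z := fun h => by
            have h2 := hcomZ (x * y) h x
            rw [mul_assoc, mul_right_inj] at h2
            exact hxy h2.symm
          obtain ⟨c, hc2, hcxy⟩ := hcom x hx y hy
          have hc : a (x * y) = c * (a x * a y) := by
            refine hscinj ?_
            rw [← ha _ (N.mul_mem hx hy), map_mul, map_mul, ← ha _ hx, ← ha _ hy,
              mul_pow_of_comm (hcomZ _ (hscmem c)) hcxy]
            simp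
          have hcc : c = 1 ∨ c = -1 := by
            have h3 : (c : F) ^ 2 = 1 := by rw [← Units.val_pow_eq_pow_val, hc2, Units.val_one]
            rcases sq_eq_one_iff.mp h3 with h4 | h4
            · exact Or.inl (Units.ext (by simpa using h4))
            · exact Or.inr (Units.ext (by simpa using h4))
          have nsq_mul : ∀ u v : Fˣ, ¬ IsSquare u → ¬ IsSquare v → IsSquare (u * v) := by
            intro u v hu hv
            obtain ⟨g, hg⟩ := IsCyclic.exists_generator (α := Fˣ)
            obtain ⟨i, rfl⟩ := Subgroup.mem_zpowers_iff.mp (hg u)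
            obtain ⟨j, rfl⟩ := Subgroup.mem_zpowers_iff.mp (hg v)
            have hi : Odd i := by
              rw [← Int.not_even_iff_odd]; rintro ⟨t, rfl⟩; exact hu ⟨g ^ t, zpow_add g t t⟩
            have hj : Odd j := by
              rw [← Int.not_even_iff_odd]; rintro ⟨t, rfl⟩; exact hv ⟨g ^ t, zpow_add g t t⟩
            obtain ⟨t, ht⟩ := hi.add_odd hj
            exact ⟨g ^ t, by rw [← zpow_add, ht, zpow_add]⟩
          have h1 := hsq x hx hxZ
          have h2 := hsq y hy hyZ
          have h3 := hsq _ (N.mul_mem hx hy) hxyZ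
          rcases hcc with h | h
          · exact h3.1 (by rw [hc, h, one_mul]; exact nsq_mul _ _ h1.1 h2.1)
          · exact h3.1 (by rw [hc, h, ← mul_assoc, neg_one_mul]; exact nsq_mul _ _ h1.2 h2.1)
        · -- r odd
          have hkr' : k = r := by simp [k, hr2]
          have hscale' : ∀ x ∈ N, (∃ d : Fˣ, a x = d ^ r) → x ∈ Z := fun x hx ⟨d, hd⟩ =>
            hscale x hx ⟨d, by rw [hd, mul_inv_cancel, one_pow]⟩
          obtain ⟨g, hg⟩ := IsCyclic.exists_generator (α := Fˣ)
          refine hnab fun x hx y hy => ?_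
          by_contra hxy
          have hxZ : x ∉ Z := fun h => hxy (hcomZ x h y)
          obtain ⟨i, hi⟩ := Subgroup.mem_zpowers_iff.mp (hg (a x))
          obtain ⟨j, hj⟩ := Subgroup.mem_zpowers_iff.mp (hg (a y))
          have hcop : IsCoprime (r : ℤ) i := by
            rw [(Nat.prime_iff_prime_int.mp hr).coprime_iff_not_dvd]
            rintro ⟨t, rfl⟩
            exact hxZ (hscale' x hx ⟨g ^ t, by
              rw [← hi, mul_comm, zpow_mul, zpow_natCast]⟩)
          obtain ⟨u, v, huv⟩ := hcop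
          -- y * x ^ (-v j) has r-th power an r-th power
          have hxv : x ^ (-(v * j)) ∈ N := N.zpow_mem hx _
          have hw : y * x ^ (-(v * j)) ∈ Z := by
            refine hscale' _ (N.mul_mem hy hxv) ⟨g ^ (u * j), ?_⟩
            obtain ⟨c, hcr, hcyx⟩ := hcom y hy _ hxv
            refine hscinj ?_
            have hrd2 : r ∣ r.choose 2 := by rw [hkr'] at hk2; exact hk2
            obtain ⟨t, ht⟩ := hrd2
            rw [← ha _ (N.mul_mem hy hxv), mul_pow_of_comm (hcomZ _ (hscmem c)) hcyx, ht,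
              pow_mul, ← map_pow sc, hcr, map_one, one_pow, one_mul, ← zpow_natCast (x ^ _),
              ← zpow_mul, mul_comm, zpow_mul, zpow_natCast, ha x hx, ha y hy, ← map_zpow,
              ← map_mul, ← hi, ← hj, ← zpow_mul, ← zpow_add, ← zpow_natCast, ← zpow_mul]
            congr 2
            linear_combination (-j) * huv
          refine hxy ?_
          have hyx : y = (y * x ^ (-(v * j))) * x ^ (v * j) := by group
          have key : Commute x ((y * x ^ (-(v * j))) * x ^ (v * j)) :=
            (hcomZ _ hw x).symm |> fun h => (Commute.mul_right h ((Commute.refl x).zpow_right _))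
          rw [← hyx] at key
          exact key
    intro x hx
    rw [← hRZ] at hx
    obtain ⟨y, hy, z, hz, rfl⟩ := Subgroup.mem_sup_of_normal_right.mp hx
    exact ⟨y, hy, by rwa [← hcomZ z hz, mul_assoc, mul_inv_cancel, mul_one]⟩
  -- R spans
  have hRirr : ActsAbsolutelyIrreducibly (matrixSet R) := by
    have hspanN : matrixSet N ⊆ Submodule.span F (matrixSet R) := by
      rintro _ ⟨x, hx, rfl⟩
      obtain ⟨y, hy, hz⟩ := hrep x hx
      obtain ⟨c, hc⟩ := (mem_scalars_iff _).mp hz
      show (x : Matrix ι ι F) ∈ _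
      have : (x : Matrix ι ι F) = ((x * y⁻¹ : GL ι F) : Matrix ι ι F) * (y : Matrix ι ι F) := by
        simp [mul_assoc]
      rw [this, hc, Matrix.smul_mul, one_mul]
      exact Submodule.smul_mem _ _ (Submodule.subset_span (mem_matrixSet hy))
    constructor
    · intro W hW
      refine hN.1 W ?_
      rintro s hs _ ⟨w, hw, rfl⟩
      have := hspanN hs
      clear hs
      induction this using Submodule.span_induction with
      | mem s hs => exact hW s hs ⟨w, hw, rfl⟩
      | zero => simp
      | add a b _ _ ha hb => rw [map_add, LinearMap.add_apply]; exact W.add_mem ha hb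
      | smul c a _ ha => rw [map_smul, LinearMap.smul_apply]; exact W.smul_mem c ha
    · intro M hM
      refine hN.2 M fun s hs => ?_
      have := hspanN hs
      clear hs
      induction this using Submodule.span_induction with
      | mem s hs => exact hM s hs
      | zero => simp
      | add a b _ _ ha hb => rw [mul_add, add_mul, ha, hb]
      | smul c a _ ha => rw [mul_smul_comm, smul_mul_assoc, ha]
  -- the quotient
  have hnormZR : (Z.subgroupOf R).Normal := by
    constructor
    intro a ha b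
    rw [Subgroup.mem_subgroupOf] at ha ⊢
    push_cast
    rw [← hcomZ _ ha, mul_assoc, mul_inv_cancel, mul_one]
    exact ha
  let Q := ↥R ⧸ Z.subgroupOf R
  haveI : Fintype Q := Fintype.ofFinite Q
  let v : Q → GL ι F := fun q => ((q.out : R) : GL ι F)
  have hvR : ∀ q, v q ∈ R := fun q => (q.out : R).2
  have hcov : ∀ x (hx : x ∈ R), x * (v (↑(⟨x, hx⟩ : R) : Q))⁻¹ ∈ Z := by
    intro x hx
    have h1 : ((↑(⟨x, hx⟩ : R) : Q).out : Q) = ↑(⟨x, hx⟩ : R) := Quotient.out_eq _
    rw [QuotientGroup.eq] at h1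
    rw [Subgroup.mem_subgroupOf] at h1
    push_cast at h1
    have h2 : x * (v (↑(⟨x, hx⟩ : R) : Q))⁻¹
        = (v (↑(⟨x, hx⟩ : R) : Q)) * ((v (↑(⟨x, hx⟩ : R) : Q))⁻¹ * x) *
          (v (↑(⟨x, hx⟩ : R) : Q))⁻¹ := by group
    rw [h2]
    exact scalars_normal.conj_mem _ h1 _
  have hχex : ∀ (q : Q) (g : GL ι F), g ∈ N →
      ∃ c : Fˣ, g * v q = sc c * (v q * g) := fun q g hg => by
    obtain ⟨c, -, hc⟩ := hcom (v q) (hvR q).1 g hg
    exact ⟨c, hc⟩
  choose χ hχ using hχex
  let χ' : Q → N → F := fun q g => (χ q g g.2 : F)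
  have hχinj : Function.Injective χ' := by
    intro q q' h
    have hcomm : v q * (v q')⁻¹ ∈ Z := by
      refine hcent _ fun g hg => ?_
      have hcc : χ q g hg = χ q' g hg := Units.ext (congrFun h ⟨g, hg⟩)
      have e1 := hχ q g hg
      have e2 := hχ q' g hg
      rw [← hcc] at e2
      have e3 : g * v q * (v q')⁻¹ * g⁻¹ = v q * (v q')⁻¹ := by
        have : g * (v q')⁻¹ * g⁻¹ = (v q')⁻¹ * (sc (χ q g hg))⁻¹ := by
          rw [← mul_inv_rev, hcomZ _ (hscmem _), show g * (v q')⁻¹ * g⁻¹ = (g * v q' * g⁻¹)⁻¹ by group,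
            e2, mul_assoc (sc _), mul_assoc (v q'), mul_inv_cancel, mul_one,
            ← hcomZ _ (hscmem _)]
        calc g * v q * (v q')⁻¹ * g⁻¹ = (g * v q * g⁻¹) * (g * (v q')⁻¹ * g⁻¹) := by group
          _ = sc (χ q g hg) * v q * ((v q')⁻¹ * (sc (χ q g hg))⁻¹) := by
              rw [this, e1]; group
          _ = v q * (v q')⁻¹ := by
              rw [hcomZ _ (hscmem _) (v q), ← hcomZ _ (Z.inv_mem (hscmem _)) (v q')⁻¹]
              group
      calc v q * (v q')⁻¹ * g = (g * v q * (v q')⁻¹ * g⁻¹) * g := by rw [e3]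
        _ = g * (v q * (v q')⁻¹) := by group
    rw [← q.out_eq, ← q'.out_eq]
    refine QuotientGroup.eq.mpr ?_
    rw [Subgroup.mem_subgroupOf]
    push_cast
    have := scalars_normal.conj_mem _ (Z.inv_mem hcomm) (v q')⁻¹
    convert this using 1
    group
    rfl
  let b : Q → Matrix ι ι F := fun q => (v q : Matrix ι ι F)
  have hli : LinearIndependent F b := by
    refine linearIndependent_of_weights (fun g : N => (cj (g : GL ι F)).toLinearMap) b χ'
      (fun q g => ?_) (fun q => (v q).ne_zero) hχinj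
    show cj (g : GL ι F) (v q : Matrix ι ι F) = _
    rw [cj_val]
    have : (g : GL ι F) * v q * (g : GL ι F)⁻¹ = sc (χ q g g.2) * v q := by
      rw [hχ q g g.2]; group
    rw [this]
    simp [χ', b, hsc, Matrix.smul_eq_diagonal_mul]
  have hspanb : Submodule.span F (Set.range b) = ⊤ := by
    rw [eq_top_iff, ← span_eq_top hRirr, Submodule.span_le]
    rintro _ ⟨x, hx, rfl⟩
    obtain ⟨c, hc⟩ := (mem_scalars_iff _).mp (hcov x hx)
    show (x : Matrix ι ι F) ∈ _
    have : (x : Matrix ι ι F) = ((x * (v (↑(⟨x, hx⟩ : R) : Q))⁻¹ : GL ι F) : Matrix ι ι F) *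
        (v (↑(⟨x, hx⟩ : R) : Q) : Matrix ι ι F) := by simp [mul_assoc]
    rw [this, hc, Matrix.smul_mul, one_mul]
    exact Submodule.smul_mem _ _ (Submodule.subset_span ⟨_, rfl⟩)
  have hQcard : Fintype.card Q = Fintype.card ι * Fintype.card ι := by
    rw [← Module.finrank_eq_card_basis (Module.Basis.mk hli (by rw [hspanb])),
      Module.finrank_matrix, Module.finrank_self, mul_one]
  haveI : Fact r.Prime := ⟨hr⟩
  have hQp : IsPGroup r Q := by
    intro q
    obtain ⟨x, rfl⟩ := QuotientGroup.mk_surjective q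
    refine ⟨1, ?_⟩
    rw [pow_one, ← QuotientGroup.mk_pow, QuotientGroup.eq_one_iff, Subgroup.mem_subgroupOf]
    push_cast
    exact hpow _ x.2.1
  obtain ⟨j, hj⟩ := IsPGroup.iff_card.mp hQp
  rw [Nat.card_eq_fintype_card, hQcard] at hj
  obtain ⟨m, -, hm⟩ := (Nat.dvd_prime_pow hr).mp ⟨Fintype.card ι, hj.symm⟩
  have hm1 : 1 ≤ m := by
    rcases Nat.eq_zero_or_pos m with h | h
    · subst h; rw [pow_zero] at hm; omega
    · exact h
  have hQ2m : Fintype.card Q = r ^ (2 * m) := by rw [hQcard, hm, ← pow_add]; ring_nf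
  -- the scalars in R
  let z : ℕ := Nat.gcd (Fintype.card F - 1) k
  have hq1 : 0 < Fintype.card F - 1 := by have := Fintype.one_lt_card (α := F); omega
  have hrdvd : r ∣ Fintype.card F - 1 := by
    have hord : orderOf ω = r := orderOf_eq_prime hωr hω1
    rw [← hord, ← Fintype.card_units]
    exact orderOf_dvd_card
  have hscalar_pow : ∀ c : Fˣ, sc c ∈ R ↔ c ^ z = 1 := by
    intro c
    rw [hscR]
    constructor
    · intro h
      rw [pow_gcd_eq_one]
      exact ⟨by rw [← Fintype.card_units]; exact pow_card_eq_one, h⟩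
    · intro h
      obtain ⟨t, ht⟩ := Nat.gcd_dvd_right (Fintype.card F - 1) k
      rw [ht, pow_mul, h, one_pow]
  have hzcard : Nat.card (Z.subgroupOf R) = z := by
    have hker := IsCyclic.card_powMonoidHom_ker (G := Fˣ) (d := z)
    rw [Nat.card_units, Nat.card_eq_fintype_card (α := F),
      Nat.gcd_eq_right (Nat.gcd_dvd_left _ k)] at hker
    refine Eq.trans (Nat.card_congr ?_) hker
    refine (Equiv.ofBijective (fun c : (powMonoidHom z : Fˣ →* Fˣ).ker =>
      (⟨⟨sc c, (hscalar_pow c).mpr c.2⟩, hscmem c⟩ : Z.subgroupOf R)) ⟨?_, ?_⟩).symm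
    · intro c d h
      exact Subtype.ext (hscinj (congrArg (fun w : Z.subgroupOf R => ((w : R) : GL ι F)) h))
    · rintro ⟨⟨x, hx⟩, hxZ⟩
      obtain ⟨c, rfl⟩ := scalars_ext (Subgroup.mem_subgroupOf.mp hxZ)
      exact ⟨⟨c, (hscalar_pow c).mp hx⟩, rfl⟩
  have hcenter : Subgroup.center R = Z.subgroupOf R := by
    ext x
    rw [Subgroup.mem_center_iff, Subgroup.mem_subgroupOf]
    constructor
    · intro hx
      obtain ⟨c, hc⟩ := hRirr.2 ((x : GL ι F) : Matrix ι ι F) (by
        rintro _ ⟨y, hy, rfl⟩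
        simpa using congrArg (fun w : R => ((w : GL ι F) : Matrix ι ι F)) (hx ⟨y, hy⟩).symm)
      have hc0 : c ≠ 0 := fun h => (x : GL ι F).ne_zero (by rw [hc, h, zero_smul])
      exact (mem_scalars_iff _).mpr ⟨Units.mk0 c hc0, hc⟩
    · exact fun hx y => Subtype.ext (hcomZ _ hx _).symm
  have hzcase : (Odd r ∧ z = r) ∨ (r = 2 ∧ z = 4 ∧ ∃ i : F, i ^ 2 = -1) ∨
      (r = 2 ∧ z = 2 ∧ ¬ ∃ i : F, i ^ 2 = -1) := by
    by_cases hr2 : r = 2
    · have hk4 : k = 4 := by simp [k, hr2]
      subst hr2
      by_cases h4 : 4 ∣ Fintype.card F - 1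
      · refine Or.inr (Or.inl ⟨rfl, by simp only [z, hk4]; exact Nat.gcd_eq_right h4, ?_⟩)
        obtain ⟨g, hg⟩ := IsCyclic.exists_generator (α := Fˣ)
        obtain ⟨t, ht⟩ := h4
        refine ⟨((g ^ t : Fˣ) : F), ?_⟩
        have hord : orderOf g = 4 * t := by
          rw [orderOf_eq_card_of_forall_mem_zpowers hg, Nat.card_units, Nat.card_eq_fintype_card, ht]
        have h1 : ((g ^ t : Fˣ) : F) ^ 2 ^ 2 = 1 := by
          rw [← Units.val_pow_eq_pow_val, ← pow_mul, show t * 2 ^ 2 = 4 * t by ring, ← hord,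
            pow_orderOf_eq_one, Units.val_one]
        rw [show (2 : ℕ) ^ 2 = 2 * 2 by norm_num, pow_mul, sq_eq_one_iff] at h1
        refine h1.resolve_left fun h => ?_
        rw [← Units.val_pow_eq_pow_val, Units.val_eq_one, ← pow_mul] at h
        have := Nat.le_of_dvd (by omega) (orderOf_dvd_of_pow_eq_one h)
        omega
      · refine Or.inr (Or.inr ⟨rfl, ?_, ?_⟩)
        · have h2 : 2 ∣ z := Nat.dvd_gcd hrdvd (by rw [hk4]; norm_num)
          have h4' : z ∣ 4 := hk4 ▸ Nat.gcd_dvd_right (Fintype.card F - 1) k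
          have hne : z ≠ 4 := fun h => h4 (by
            have hd : z ∣ Fintype.card F - 1 := Nat.gcd_dvd_left _ k
            rwa [h] at hd)
          have := Nat.le_of_dvd (by norm_num) h4'
          interval_cases z <;> omega
        · rintro ⟨i, hi⟩
          have hi0 : i ≠ 0 := fun h => by rw [h, zero_pow two_ne_zero, eq_comm, neg_eq_zero] at hi; exact one_ne_zero hi
          have hord : orderOf (Units.mk0 i hi0) = 2 ^ 2 := by
            refine orderOf_eq_prime_pow (n := 1) ?_ ?_
            · intro h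
              have := congrArg Units.val h
              simp [hi] at this
              have h2 : (2 : F) = 0 := by linear_combination -this
              exact hchar (by exact_mod_cast h2)
            · apply Units.ext
              rw [Units.val_pow_eq_pow_val, show (2 : ℕ) ^ (1 + 1) = 2 * 2 by norm_num, pow_mul]
              simp [hi]
          apply h4
          rw [← Fintype.card_units, show 4 = 2 ^ 2 by norm_num, ← hord]
          exact orderOf_dvd_card
    · have hkr' : k = r := by simp [k, hr2]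
      exact Or.inl ⟨hr.odd_of_ne_two hr2, by simp only [z, hkr']; exact Nat.gcd_eq_right hrdvd⟩
  -- the exponent
  have hRnab : ∃ a : R, ∃ b : R, a * b ≠ b * a := by
    by_contra h
    push Not at h
    refine hnab fun x hx y hy => ?_
    obtain ⟨x', hx', hxz⟩ := hrep x hx
    obtain ⟨y', hy', hyz⟩ := hrep y hy
    have hc : Commute x' y' := congrArg Subtype.val (h ⟨x', hx'⟩ ⟨y', hy'⟩)
    have hX : x = (x * x'⁻¹) * x' := by group
    have hY : y = (y * y'⁻¹) * y' := by group
    rw [hX, hY]
    have c1 : Commute (x * x'⁻¹) (y * y'⁻¹) := hcomZ _ hxz _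
    have c2 : Commute (x * x'⁻¹) y' := hcomZ _ hxz _
    have c3 : Commute (y * y'⁻¹) x' := hcomZ _ hyz _
    exact ((c1.mul_right c2).mul_left (c3.symm.mul_right hc)).eq
  have hkexp : k = r * Nat.gcd 2 r := by
    by_cases hr2 : r = 2
    · subst hr2; simp [k]
    · simp only [k, if_neg hr2]
      rw [(Nat.coprime_primes Nat.prime_two hr).mpr (Ne.symm hr2), mul_one]
  have hexp : Monoid.exponent R = r * Nat.gcd 2 r := by
    rw [← hkexp]
    have hdvd : Monoid.exponent R ∣ k :=
      Monoid.exponent_dvd_of_forall_pow_eq_one fun g => Subtype.ext g.2.2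
    obtain ⟨a, b, hab'⟩ := hRnab
    by_cases hr2 : r = 2
    · have hk4 : k = 4 := by simp [k, hr2]
      rw [hk4] at hdvd ⊢
      have hle := Nat.le_of_dvd (by norm_num) hdvd
      have h3 : ¬ (Monoid.exponent R ∣ 2) := fun h2 => hab' (mul_comm_of_exponent_two
        (by
          have h1 : Monoid.exponent R ≠ 1 := fun h1 => by
            haveI := Monoid.exp_eq_one_iff.mp h1
            exact hab' (Subsingleton.elim _ _)
          exact ((Nat.dvd_prime Nat.prime_two).mp h2).resolve_left h1) a b)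
      have hne0 : Monoid.exponent R ≠ 0 := Monoid.exponent_ne_zero_of_finite
      interval_cases h : Monoid.exponent R <;> omega
    · rw [show k = r by simp [k, hr2]] at hdvd ⊢
      refine ((Nat.dvd_prime hr).mp hdvd).resolve_left fun h1 => ?_
      haveI := Monoid.exp_eq_one_iff.mp h1
      exact hab' (Subsingleton.elim _ _)
  let eQ : Fin (r ^ (2 * m)) ≃ Q := (Fintype.equivFinOfCardEq hQ2m).symm
  refine ⟨r, m, z, R, hr, hchar, hm1, hm, fun x hx => hx.1, hRn, hRirr,
    ⟨hr, ?_, ?_, hexp⟩, by rw [hcenter, hzcard],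
    by rw [Nat.card_eq_fintype_card]; exact Nat.gcd_dvd_left _ k, ?_, hscalar_pow,
    ⟨fun i => v (eQ i), fun i => hvR _, hli.comp eQ eQ.injective, ?_, ?_⟩, hzcase, hab⟩
  · intro x
    refine ⟨if r = 2 then 2 else 1, Subtype.ext ?_⟩
    have : r ^ (if r = 2 then 2 else 1) = k := by
      by_cases h : r = 2
      · subst h; simp [k]
      · simp [k, h]
    rw [this]
    exact x.2.2
  · intro A hA hAc
    have hAZ : A ≤ Z.subgroupOf R := by
      let A' : Subgroup (GL ι F) := A.map R.subtype
      have hA'n : ∀ h ∈ H, ∀ x ∈ A', h * x * h⁻¹ ∈ A' := by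
        rintro h hh _ ⟨a, ha, rfl⟩
        let φ : R ≃* R :=
          { toFun := fun x => ⟨h * x * h⁻¹, hRn h hh x x.2⟩
            invFun := fun x => ⟨h⁻¹ * x * h⁻¹⁻¹, hRn h⁻¹ (H.inv_mem hh) x x.2⟩
            left_inv := fun x => Subtype.ext (by simp [mul_assoc])
            right_inv := fun x => Subtype.ext (by simp [mul_assoc])
            map_mul' := fun x y => Subtype.ext (by simp [mul_assoc]) }
        have hmem : φ a ∈ A := by
          have h1 : a ∈ A.comap φ.toMonoidHom := by rw [hA.fixed φ]; exact ha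
          exact h1
        exact ⟨φ a, hmem, rfl⟩
      have hle : A' ⊔ Z ≤ N := sup_le (by rintro _ ⟨a, -, rfl⟩; exact a.2.1) hZN
      rcases hmin (A' ⊔ Z) le_sup_right hle (fun h hh x hx => by
          obtain ⟨p, hp, q, hq, rfl⟩ := Subgroup.mem_sup_of_normal_right.mp hx
          rw [show h * (p * q) * h⁻¹ = (h * p * h⁻¹) * (h * q * h⁻¹) by group]
          exact Subgroup.mul_mem _ (Subgroup.mem_sup_left (hA'n h hh p hp))
            (Subgroup.mem_sup_right (scalars_normal.conj_mem q hq h))) with hZ | hNeq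
      · intro a ha
        rw [Subgroup.mem_subgroupOf]
        have h2 : (a : GL ι F) ∈ A' ⊔ Z := Subgroup.mem_sup_left ⟨a, ha, rfl⟩
        rw [hZ] at h2
        exact h2
      · exfalso
        refine hnab fun x hx y hy => ?_
        rw [← hNeq] at hx hy
        obtain ⟨p, ⟨a, ha, rfl⟩, q, hq, rfl⟩ := Subgroup.mem_sup_of_normal_right.mp hx
        obtain ⟨p', ⟨a', ha', rfl⟩, q', hq', rfl⟩ := Subgroup.mem_sup_of_normal_right.mp hy
        have hc : Commute (a : GL ι F) (a' : GL ι F) := by
          have h2 := hAc.is_comm.comm (⟨a, ha⟩ : A) ⟨a', ha'⟩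
          exact congrArg (fun w : A => (((w : R)) : GL ι F)) h2
        have c1 : Commute q (a' : GL ι F) := hcomZ _ hq _
        have c2 : Commute q q' := hcomZ _ hq _
        have c3 : Commute (a : GL ι F) q' := (hcomZ _ hq' _).symm
        exact ((hc.mul_right c3).mul_left (c1.mul_right c2)).eq
    have hAval : ∀ a : A, ∃ c : Fˣ, ((a : R) : GL ι F) = sc c :=
      fun a => scalars_ext (Subgroup.mem_subgroupOf.mp (hAZ a.2))
    choose c hc using hAval
    refine isCyclic_of_subgroup_isDomain
      ((Units.coeHom F).comp (MonoidHom.mk' c (fun a b => ?_))) ?_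
    · exact hscinj (by rw [← hc, map_mul, ← hc, ← hc]; rfl)
    · intro a b h
      exact Subtype.ext (Subtype.ext (by rw [hc a, hc b]; exact congrArg sc (Units.ext h)))
  · rw [Subgroup.card_eq_card_quotient_mul_card_subgroup (Z.subgroupOf R), hzcard,
      Nat.card_eq_fintype_card (α := Q), hQ2m, mul_comm]
  · intro x hx
    exact ⟨eQ.symm (↑(⟨x, hx⟩ : R) : Q), by
      show x * (v (eQ (eQ.symm _)))⁻¹ ∈ Z
      rw [Equiv.apply_symm_apply]; exact hcov x hx⟩
  · intro i htr
    refine hcent _ fun g hg => ?_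
    obtain ⟨c, -, hc⟩ := hcom _ (hvR (eQ i)).1 g hg
    have h1 : (Matrix.trace ((v (eQ i)) : Matrix ι ι F))
        = (c : F) * Matrix.trace ((v (eQ i)) : Matrix ι ι F) := by
      have h2 : g * v (eQ i) * g⁻¹ = sc c * v (eQ i) := by rw [hc]; group
      calc Matrix.trace ((v (eQ i)) : Matrix ι ι F)
          = Matrix.trace ((g * v (eQ i) * g⁻¹ : GL ι F) : Matrix ι ι F) := by
            rw [Units.val_mul, Units.val_mul, Matrix.trace_mul_cycle, ← Units.val_mul,
              inv_mul_cancel, Units.val_one, one_mul]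
        _ = _ := by
            rw [h2]
            simp [hsc, ← Matrix.smul_eq_diagonal_mul, Matrix.trace_smul]
    have hc1 : c = 1 := by
      have h3 := mul_right_cancel₀ htr ((one_mul _).trans h1)
      exact Units.ext h3.symm
    rw [hc1, map_one, one_mul] at hc
    exact hc.symm

end Cfsg.Agent.Aschbacher
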