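/-
From the symplectic-type data to the geometric classes.
-/
import Cfsg.Agent.Aschbacher.SympType

set_option autoImplicit false
set_option maxHeartbeats 1000000

namespace Cfsg.Agent.Aschbacher

open scoped MatrixGroups Matrix
open Cfsg.Geo

variable {ι : Type} [Fintype ι] [DecidableEq ι] {F : Type*} [Field F]
variable {H N R : Subgroup (GL ι F)} {r m z : ℕ}

namespace SympData

lemma z_eq_pow (d : SympData H N r m z R) : ∃ i, z = r ^ i := by
  rcases d.zcase with ⟨-, h⟩ | ⟨h1, h2, -⟩ | ⟨h1, h2, -⟩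
  · exact ⟨1, by rw [h, pow_one]⟩
  · exact ⟨2, by rw [h1, h2]; norm_num⟩
  · exact ⟨1, by rw [h1, h2]; norm_num⟩

lemma two_le_z (d : SympData H N r m z R) : 2 ≤ z := by
  rcases d.zcase with ⟨-, h⟩ | ⟨-, h, -⟩ | ⟨-, h, -⟩ <;> first | omega | (rw [h]; exact d.prime.two_le)

lemma natCast_z_ne_zero (d : SympData H N r m z R) : (z : F) ≠ 0 := by
  obtain ⟨i, rfl⟩ := d.z_eq_pow
  rw [Nat.cast_pow]
  exact pow_ne_zero _ d.char_ne

lemma natCast_card_ne_zero (d : SympData H N r m z R) : (Fintype.card ι : F) ≠ 0 := by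
  rw [d.card_eq, Nat.cast_pow]
  exact pow_ne_zero _ d.char_ne

lemma normalizer_le (d : SympData H N r m z R) : H ≤ subgroupNormalizer R := by
  intro h hh
  show h ∈ Subgroup.normalizer (R : Set (GL ι F))
  rw [Subgroup.mem_normalizer_iff]
  intro x
  refine ⟨fun hx => d.normal h hh x hx, fun hx => ?_⟩
  have := d.normal h⁻¹ (H.inv_mem hh) _ hx
  simpa [mul_assoc] using this

/-- A scalar-or-traceless dichotomy for the elements of R. -/
lemma trace_ne_zero (d : SympData H N r m z R) {x : GL ι F} (hx : x ∈ R)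
    (ht : (x : Matrix ι ι F).trace ≠ 0) : x ∈ scalars ι F := by
  obtain ⟨b, hbR, -, hcov, htr⟩ := d.reps
  obtain ⟨k, hk⟩ := hcov x hx
  obtain ⟨c, hc⟩ := (mem_scalars_iff _).mp hk
  have hxk : (x : Matrix ι ι F) = (c : F) • (b k : Matrix ι ι F) := by
    have : (x : Matrix ι ι F) = ((x * (b k)⁻¹ : GL ι F) : Matrix ι ι F) * (b k : Matrix ι ι F) := by
      simp [mul_assoc]
    rw [this, hc, Matrix.smul_mul, one_mul]
  have hb : b k ∈ scalars ι F := htr k fun h => ht (by rw [hxk, Matrix.trace_smul, h, smul_zero])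
  have : x = (x * (b k)⁻¹) * b k := by group
  rw [this]
  exact Subgroup.mul_mem _ hk hb

/-- An R-invariant sesquilinear Gram matrix, hermitian or skew up to a scalar. -/
theorem exists_invariant_gram [Fintype F] [Nonempty ι] (d : SympData H N r m z R) (σ : F ≃+* F)
    (hinv : ∀ a, σ (σ a) = a) (hσ : ∀ c : Fˣ, c ^ z = 1 → (c : F) * σ c = 1) :
    ∃ (G : Matrix ι ι F) (c : F), IsUnit G ∧ (∀ s ∈ matrixSet R, gtr σ G s = G) ∧
      (G.map σ)ᵀ = c • G ∧ c * σ c = 1 := by
  classical
  haveI : Fintype R := Fintype.ofFinite R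
  let avg : ι → ι → Matrix ι ι F := fun a b =>
    ∑ x : R, gtr σ (Matrix.single a b 1) ((x : GL ι F) : Matrix ι ι F)
  have havg : ∀ a b, ∀ s ∈ matrixSet R, gtr σ (avg a b) s = avg a b := by
    rintro a b _ ⟨y, hy, rfl⟩
    have hsum : gtr σ (avg a b) (y : Matrix ι ι F)
        = ∑ x : R, gtr σ (gtr σ (Matrix.single a b 1) ((x : GL ι F) : Matrix ι ι F))
            (y : Matrix ι ι F) := by
      simp only [avg, gtr, Matrix.mul_sum, Matrix.sum_mul]
    rw [hsum]
    refine Fintype.sum_bijective (fun x : R => x * ⟨y, hy⟩) (Group.mulRight_bijective _) _ _ ?_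
    intro x
    rw [← gtr_mul]
    simp
  have hne : ∃ a b, avg a b ≠ 0 := by
    by_contra h
    push Not at h
    have key : ∑ x : R, ((x : GL ι F) : Matrix ι ι F).trace
        * σ (((x : GL ι F) : Matrix ι ι F).trace) = 0 := by
      have e : ∀ x : R, ((x : GL ι F) : Matrix ι ι F).trace
          * σ (((x : GL ι F) : Matrix ι ι F).trace)
          = ∑ a, ∑ b, gtr σ (Matrix.single a b 1) ((x : GL ι F) : Matrix ι ι F) a b := by
        intro x
        rw [Matrix.trace, map_sum, Finset.sum_mul_sum]
        refine Finset.sum_congr rfl fun a _ => Finset.sum_congr rfl fun b _ => ?_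
        simp [gtr, Matrix.mul_apply, Matrix.single_apply, ite_and, Finset.sum_ite_eq,
          Finset.sum_ite_eq']
      simp only [e]
      rw [Finset.sum_comm]
      refine Finset.sum_eq_zero fun a _ => ?_
      rw [Finset.sum_comm]
      refine Finset.sum_eq_zero fun b _ => ?_
      have := congrFun (congrFun (h a b) a) b
      simpa [avg, Matrix.sum_apply] using this
    have hcen : ∀ x : R, x ∈ Subgroup.center R → (x : GL ι F) ∈ scalars ι F := by
      intro x hx
      rw [Subgroup.mem_center_iff] at hx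
      obtain ⟨c, hc⟩ := d.absIrred.2 ((x : GL ι F) : Matrix ι ι F) (by
        rintro _ ⟨y, hy, rfl⟩
        simpa using congrArg (fun w : R => ((w : GL ι F) : Matrix ι ι F)) (hx ⟨y, hy⟩).symm)
      have hc0 : c ≠ 0 := fun h => (x : GL ι F).ne_zero (by rw [hc, h, zero_smul])
      exact (mem_scalars_iff _).mpr ⟨Units.mk0 c hc0, hc⟩
    have hval : ∀ x : R, ((x : GL ι F) : Matrix ι ι F).trace
        * σ (((x : GL ι F) : Matrix ι ι F).trace)
        = if x ∈ Subgroup.center R then ((Fintype.card ι : F)) ^ 2 else 0 := by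
      intro x
      split_ifs with hx
      · obtain ⟨c, hc⟩ := scalars_ext (hcen x hx)
        have hcz : c ^ z = 1 := (d.scalar_pow c).mp (hc ▸ x.2)
        rw [hc]
        have : (((Units.map (Matrix.scalar ι : F →+* Matrix ι ι F).toMonoidHom c : GL ι F)) :
            Matrix ι ι F).trace = (Fintype.card ι : F) * (c : F) := by
          simp [Matrix.trace]
        rw [this, map_mul, map_natCast]
        linear_combination (Fintype.card ι : F) ^ 2 * hσ c hcz
      · by_contra h0
        apply hx
        have ht : ((x : GL ι F) : Matrix ι ι F).trace ≠ 0 := fun ht => h0 (by rw [ht, zero_mul])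
        rw [Subgroup.mem_center_iff]
        exact fun y => Subtype.ext (scalars_comm (d.trace_ne_zero x.2 ht) _).symm
    rw [Finset.sum_congr rfl fun x _ => hval x, Finset.sum_ite, Finset.sum_const_zero, add_zero,
      Finset.sum_const, ← Fintype.card_subtype, ← Nat.card_eq_fintype_card,
      show Nat.card {x : R // x ∈ Subgroup.center R} = z from d.card_center, nsmul_eq_mul] at key
    exact mul_ne_zero d.natCast_z_ne_zero (pow_ne_zero _ d.natCast_card_ne_zero) key
  obtain ⟨a, b, hG0⟩ := hne
  set G := avg a b with hGdef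
  have hGinv := havg a b
  have hU : IsUnit G := by
    let W : Submodule F (ι → F) :=
      { carrier := {w | G *ᵥ (σ ∘ w) = 0}
        add_mem' := fun {u v} hu hv => by
          show G *ᵥ (σ ∘ (u + v)) = 0
          rw [show (σ ∘ (u + v) : ι → F) = σ ∘ u + σ ∘ v from funext fun i => map_add σ _ _,
            Matrix.mulVec_add, hu, hv, add_zero]
        zero_mem' := by
          show G *ᵥ (σ ∘ (0 : ι → F)) = 0
          rw [show (σ ∘ (0 : ι → F) : ι → F) = 0 from funext fun i => map_zero σ,
            Matrix.mulVec_zero]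
        smul_mem' := fun c v hv => by
          show G *ᵥ (σ ∘ (c • v)) = 0
          rw [show (σ ∘ (c • v) : ι → F) = σ c • (σ ∘ v) from funext fun i => map_mul σ _ _,
            Matrix.mulVec_smul, hv, smul_zero] }
    rw [Matrix.isUnit_iff_isUnit_det, isUnit_iff_ne_zero]
    intro hdet
    rcases eq_bot_or_eq_top d.absIrred.1 W (by
      intro g hg w hw
      show G *ᵥ (σ ∘ ((g : Matrix ι ι F) *ᵥ w)) = 0
      have e : (σ ∘ ((g : Matrix ι ι F) *ᵥ w) : ι → F) = (g : Matrix ι ι F).map σ *ᵥ (σ ∘ w) :=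
        funext fun i => σ.toRingHom.map_mulVec (g : Matrix ι ι F) w i
      rw [e]
      have h1 := hGinv _ (mem_matrixSet hg)
      rw [gtr] at h1
      have hgT : IsUnit (g : Matrix ι ι F)ᵀ :=
        Matrix.isUnit_transpose (g : Matrix ι ι F) |>.mpr g.isUnit
      refine Matrix.mulVec_injective_iff_isUnit.mpr hgT ?_
      rw [Matrix.mulVec_mulVec, Matrix.mulVec_mulVec, h1, hw, Matrix.mulVec_zero]) with h | h
    · obtain ⟨w, hw0, hw⟩ := Matrix.exists_mulVec_eq_zero_iff.mpr hdet
      have hmem : (σ.symm ∘ w : ι → F) ∈ W := by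
        show G *ᵥ (σ ∘ (σ.symm ∘ w)) = 0
        rw [show (σ ∘ (σ.symm ∘ w) : ι → F) = w from funext fun i => σ.apply_symm_apply _, hw]
      rw [h, Submodule.mem_bot] at hmem
      exact hw0 (funext fun i => by simpa using congrFun hmem i)
    · refine hG0 (Matrix.toLin'.injective (LinearMap.ext fun v => ?_))
      have hv : (σ.symm ∘ v : ι → F) ∈ W := h ▸ Submodule.mem_top
      have hv' : G *ᵥ (σ ∘ (σ.symm ∘ v)) = 0 := hv
      rw [show (σ ∘ (σ.symm ∘ v) : ι → F) = v from funext fun i => σ.apply_symm_apply _] at hv'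
      simpa using hv'
  have hσσ : ∀ M : Matrix ι ι F, (M.map σ).map σ = M := fun M => by ext i j; simp [hinv]
  have hGs : ∀ s ∈ matrixSet R, gtr σ ((G.map σ)ᵀ) s = (G.map σ)ᵀ := by
    intro s hs
    have h1 := congrArg (fun M : Matrix ι ι F => (M.map σ)ᵀ) (hGinv s hs)
    simp only [gtr, Matrix.map_mul, Matrix.transpose_mul, Matrix.transpose_map, hσσ,
      Matrix.transpose_transpose] at h1
    rw [gtr, mul_assoc]
    exact h1
  obtain ⟨c, hc⟩ := invariant_unique d.absIrred hU hGinv hGs
  refine ⟨G, c, hU, hGinv, hc, ?_⟩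
  have h2 := congrArg (fun M : Matrix ι ι F => (M.map σ)ᵀ) hc
  simp only [Matrix.transpose_map, hσσ, Matrix.transpose_transpose] at h2
  have h3 : G = (σ c * c) • G := by
    rw [mul_smul, ← hc]
    conv_lhs => rw [h2]
    ext i j; simp
  have h4 : (1 - σ c * c) • G = 0 := by rw [sub_smul, one_smul, ← h3, sub_self]
  have hG : G ≠ 0 := hG0
  rcases smul_eq_zero.mp h4 with h5 | h5
  · rw [mul_comm]; exact (sub_eq_zero.mp h5).symm
  · exact absurd h5 hG

lemma fixesForm_of_gram {σ : F ≃+* F} {G : Matrix ι ι F}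
    (hG : ∀ s ∈ matrixSet R, gtr σ G s = G) : FixesForm (matrixSet R) (formOfGram σ G) :=
  fun s hs u v => by rw [formOfGram_mulVec, hG s hs]

/-- The realisation over a subfield containing the scalars of R. -/
theorem realisable [Fintype F] [Nonempty ι] (d : SympData H N r m z R) (F₀ : Subfield F)
    (hF₀ : ∀ c : Fˣ, c ^ z = 1 → (c : F) ∈ F₀) : RealisableOver F₀ (matrixSet R) := by
  obtain ⟨b, hbR, hli, hcov, -⟩ := d.reps
  refine realisableOver_of_basis F₀ d.absIrred.1 (fun k => (b k : Matrix ι ι F)) hli ?_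
    (fun k => mem_matrixSet (hbR k)) ?_
  · rw [Fintype.card_fin, d.card_eq, ← pow_add]; ring_nf
  · rintro _ ⟨x, hx, rfl⟩
    obtain ⟨k, hk⟩ := hcov x hx
    obtain ⟨c, hc⟩ := scalars_ext hk
    have hcR : c ^ z = 1 := (d.scalar_pow c).mp (hc ▸ R.mul_mem hx (R.inv_mem (hbR k)))
    have hx' : (x : Matrix ι ι F) = (⟨(c : F), hF₀ c hcR⟩ : F₀) • (b k : Matrix ι ι F) := by
      have : (x : Matrix ι ι F)
          = ((x * (b k)⁻¹ : GL ι F) : Matrix ι ι F) * (b k : Matrix ι ι F) := by simp [mul_assoc]
      rw [this, hc]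
      simp [← Matrix.smul_eq_diagonal_mul]
      rfl
    show (x : Matrix ι ι F) ∈ _
    rw [hx']
    exact Submodule.smul_mem _ _ (Submodule.subset_span ⟨k, rfl⟩)

/-- The symplectic-type case of Aschbacher's theorem, linear groups. -/
theorem classes [Fintype F] [Nonempty ι] (d : SympData H N r m z R)
    (hdim : 3 ≤ Fintype.card ι) :
    (∃ (F₁ : Subfield F) (r' : ℕ) (P : GL ι F), r'.Prime ∧
      Fintype.card F = Nat.card F₁ ^ r' ∧ H ≤ subfieldSubgroup F₁ P) ∨
    (IsLinearSymplecticTypeData r R ∧ H ≤ subgroupNormalizer R) ∨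
    (∃ f : (ι → F) → (ι → F) → F, IsSymplecticForm f ∧ H ≤ similarityGroup f) ∨
    (∃ (σ : F ≃+* F) (f : (ι → F) → (ι → F) → F), IsUnitaryForm σ f ∧ H ≤ similarityGroup f) ∨
    (∃ Q : (ι → F) → F, IsNondegenerateQuadraticForm Q ∧ Odd (Fintype.card F) ∧
      H ≤ quadSimilarityGroup Q) := by
  classical
  obtain ⟨p, hp⟩ := CharP.exists F
  haveI : Fact p.Prime := ⟨(CharP.char_is_prime_or_zero F p).resolve_right
    (CharP.char_ne_zero_of_finite F p)⟩
  have hpp : p.Prime := Fact.out
  have hrp : r ≠ p := fun h => d.char_ne (by rw [h]; exact CharP.cast_eq_zero F p)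
  obtain ⟨f, -, hf⟩ := FiniteField.card F p
  have hzf : z ∣ p ^ (f : ℕ) - 1 := by
    have := d.z_dvd; rwa [Nat.card_eq_fintype_card, hf] at this
  have hex : ∃ e, 0 < e ∧ z ∣ p ^ e - 1 := ⟨f, f.pos, hzf⟩
  set e := Nat.find hex with he
  obtain ⟨he0, hez⟩ := Nat.find_spec hex
  rw [← he] at he0 hez
  have hef : e ∣ (f : ℕ) := by
    have h1 : z ∣ p ^ Nat.gcd e f - 1 := by
      rw [← Nat.pow_sub_one_gcd_pow_sub_one]; exact Nat.dvd_gcd hez hzf
    have h2 := Nat.find_le (h := hex)
      (show 0 < Nat.gcd e f ∧ _ from ⟨Nat.gcd_pos_of_pos_left _ he0, h1⟩)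
    rw [← he] at h2
    have h3 : Nat.gcd e f ≤ e := Nat.le_of_dvd he0 (Nat.gcd_dvd_left _ _)
    have h4 : e = Nat.gcd e f := le_antisymm h2 h3
    rw [h4]; exact Nat.gcd_dvd_right _ _
  have hRn : ∀ h ∈ H, ∀ x ∈ R, h * x * h⁻¹ ∈ R := d.normal
  by_cases hlt : e ≠ (f : ℕ)
  · -- realisable over a proper subfield
    left
    let F₀ : Subfield F := frobFixed p e
    have hcard : Nat.card F₀ = p ^ e := card_frobFixed hf hef he0
    have hne : F₀ ≠ ⊤ := by
      intro h
      have : Nat.card F₀ = Fintype.card F := by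
        rw [h, ← Nat.card_eq_fintype_card]
        exact Nat.card_congr Subfield.topEquiv.toEquiv
      rw [hcard, hf] at this
      exact hlt (Nat.pow_right_injective hpp.two_le this)
    obtain ⟨B, hB⟩ := d.realisable F₀ fun c hc => by
      rw [mem_frobFixed]
      obtain ⟨t, ht⟩ := hez
      have : p ^ e = (p ^ e - 1) + 1 := by
        have := Nat.one_le_pow e p hpp.pos; omega
      rw [this, pow_succ, ht, pow_mul, ← Units.val_pow_eq_pow_val, hc, Units.val_one, one_pow,
        one_mul]
    obtain ⟨F₁, r', hle, hr', hF₁⟩ := exists_prime_index_subfield F₀ hne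
    exact ⟨F₁, r', B⁻¹, hr', hF₁, le_subfieldSubgroup d.absIrred hRn F₁ B
      fun s hs i j => hle (hB s hs i j)⟩
  push Not at hlt
  have hfield : IsMinimalFieldFor z p e F := by
    refine ⟨hpp, hp, by rw [hlt]; exact hf, hez, fun d' hd' hde hdvd => ?_⟩
    have := Nat.find_le (h := hex) (show 0 < d' ∧ _ from ⟨hd', hdvd⟩)
    omega
  rcases Nat.even_or_odd e with ⟨h, hh⟩ | hodd
  · -- the unitary case
    right; right; right; left
    have hh0 : 0 < h := by omega
    have hnot : ¬ z ∣ p ^ h - 1 := fun hd => by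
      have := Nat.find_le (h := hex) (show 0 < h ∧ _ from ⟨hh0, hd⟩)
      omega
    have hq : Fintype.card F = p ^ h * p ^ h := by rw [hf, ← hlt, hh, pow_add]
    have hzplus : z ∣ p ^ h + 1 := by
      have hprod : z ∣ (p ^ h - 1) * (p ^ h + 1) := by
        have h1 : p ^ e - 1 = (p ^ h - 1) * (p ^ h + 1) := by
          rw [hh, pow_add, mul_comm (p ^ h - 1), ← Nat.sq_sub_sq, one_pow, sq]
        rw [← h1]; exact hez
      rcases d.zcase with ⟨-, hz⟩ | ⟨hr2, hz, -⟩ | ⟨hr2, hz, -⟩
      · subst hz; exact (d.prime.dvd_mul.mp hprod).resolve_left hnot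
      · subst hz
        have hodd : p ^ h % 2 = 1 := by
          have hp2 : p ≠ 2 := fun h2 => hrp (by rw [hr2, h2])
          rw [Nat.pow_mod, (Nat.Prime.mod_two_eq_one_iff_ne_two hpp).mpr hp2, one_pow, Nat.one_mod]
        omega
      · subst hz
        exfalso
        apply hnot
        have hodd : p ^ h % 2 = 1 := by
          have hp2 : p ≠ 2 := fun h2 => hrp (by rw [hr2, h2])
          rw [Nat.pow_mod, (Nat.Prime.mod_two_eq_one_iff_ne_two hpp).mpr hp2, one_pow, Nat.one_mod]
        omega
    let σ : F ≃+* F := iterateFrobeniusEquiv F p h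
    have hσapply : ∀ x, σ x = x ^ p ^ h := iterateFrobeniusEquiv_def F p h
    have hinv : ∀ a, σ (σ a) = a := fun a => by
      rw [hσapply, hσapply, ← pow_mul, ← hq, FiniteField.pow_card]
    have hσne : σ ≠ RingEquiv.refl F := by
      intro hc
      have hall : ∀ x : F, x ∈ (frobFixed p h : Subfield F) := fun x => by
        rw [mem_frobFixed, ← hσapply, hc]; rfl
      have h1 := card_frobFixed (F := F) (p := p) (e := h) (f := (f : ℕ)) hf
        (Dvd.intro 2 (by omega)) hh0
      rw [Nat.card_congr (Equiv.subtypeUnivEquiv hall), Nat.card_eq_fintype_card, hq] at h1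
      have : 1 < p ^ h := Nat.one_lt_pow hh0.ne' hpp.one_lt
      nlinarith
    have hσz : ∀ c : Fˣ, c ^ z = 1 → (c : F) * σ c = 1 := by
      intro c hc
      obtain ⟨t, ht⟩ := hzplus
      rw [hσapply, ← pow_succ', ht, pow_mul, ← Units.val_pow_eq_pow_val, hc, Units.val_one,
        one_pow]
    obtain ⟨G, c, hU, hGinv, hGt, hc⟩ := d.exists_invariant_gram σ hinv hσz
    -- rescale to a hermitian matrix
    have hcc : σ c * c = 1 := by rw [mul_comm]; exact hc
    obtain ⟨δ, hδ0, hδ⟩ : ∃ δ : F, δ ≠ 0 ∧ σ δ * c = δ := by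
      by_contra hall
      push Not at hall
      have h1 : ∀ x, x + c * σ x = 0 := fun x => by
        by_contra h9
        refine hall (x + c * σ x) h9 ?_
        rw [map_add, map_mul, hinv]
        linear_combination x * hcc
      have h2 := h1 1
      rw [map_one, mul_one] at h2
      have hc1 : c = -1 := eq_neg_of_add_eq_zero_right h2
      exact hσne (RingEquiv.ext fun x => by
        have := h1 x
        rw [hc1, neg_one_mul, ← sub_eq_add_neg, sub_eq_zero] at this
        exact this.symm)
    refine ⟨σ, formOfGram σ (δ • G), ?_, ?_⟩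
    · refine isUnitaryForm_formOfGram hσne hinv ?_ fun i j => ?_
      · have := hU.smul (Units.mk0 δ hδ0)
        simpa [Units.smul_def] using this
      · have h1 := congrFun (congrFun hGt i) j
        simp only [Matrix.transpose_apply, Matrix.map_apply, Matrix.smul_apply, smul_eq_mul] at h1
        simp only [Matrix.smul_apply, smul_eq_mul, map_mul, h1, ← mul_assoc, hδ]
    · refine le_similarityGroup d.absIrred hRn (isSesq_formOfGram σ _) ?_
        (fixesForm_of_gram fun s hs => by rw [gtr_smul, hGinv s hs])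
      exact nondegenerate_formOfGram (by
        have := hU.smul (Units.mk0 δ hδ0)
        simpa [Units.smul_def] using this)
  · -- e = f odd
    rcases d.zcase with ⟨hr, hz⟩ | ⟨hr2, hz, -⟩ | ⟨hr2, hz, -⟩
    · refine Or.inr (Or.inl ⟨⟨d.sympType, d.absIrred, ⟨p, e, hrp, by rw [d.card_center]; exact hfield,
        Or.inl ⟨hr, hodd, by rw [d.card_center, hz], m, d.pos, ?_⟩⟩⟩, d.normalizer_le⟩)
      rw [d.card_R, hz, pow_add, pow_one]
    · have he1 : e = 1 := by
        by_contra hne
        -- 4 divides p^2 - 1 for odd p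
        have hp2 : p % 2 = 1 :=
          (Nat.Prime.mod_two_eq_one_iff_ne_two hpp).mpr fun h2 => hrp (by rw [hr2, h2])
        have h4 : z ∣ p ^ 2 - 1 := by
          rw [hz]
          obtain ⟨j, hj⟩ : ∃ j, p = 2 * j + 1 := ⟨p / 2, by omega⟩
          subst hj
          exact ⟨j * j + j, by
            have : (2 * j + 1) ^ 2 = 4 * (j * j + j) + 1 := by ring
            omega⟩
        have h5 := Nat.find_le (h := hex) (show 0 < 2 ∧ _ from ⟨two_pos, h4⟩)
        obtain ⟨j, hj⟩ := hodd
        omega
      refine Or.inr (Or.inl ⟨⟨d.sympType, d.absIrred, ⟨p, e, hrp, by rw [d.card_center]; exact hfield,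
        Or.inr (Or.inl ⟨hr2, he1, by rw [d.card_center, hz], ?_, m, ?_⟩)⟩⟩, d.normalizer_le⟩)
      · have h1 := d.card_eq
        rw [hr2] at h1
        have : 2 ≤ m := by
          by_contra hm
          have : m = 1 := by have := d.pos; omega
          subst this; omega
        rw [h1]
        calc 4 = 2 ^ 2 := by norm_num
          _ ≤ 2 ^ m := Nat.pow_le_pow_right two_pos this
      · rw [d.card_R, hz, hr2, pow_add]; norm_num
    · right; right
      have h2F : (2 : F) ≠ 0 := by
        have := d.char_ne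
        rw [hr2] at this
        exact_mod_cast this
      obtain ⟨G, c, hU, hGinv, hGt, hc⟩ := d.exists_invariant_gram (RingEquiv.refl F) (fun _ => rfl)
        (fun u hu => by
          rw [hz, sq] at hu
          exact congrArg Units.val hu)
      have hentry : ∀ i j, G j i = c * G i j := fun i j => congrFun (congrFun hGt i) j
      rcases mul_self_eq_one_iff.mp hc with h1 | h1
      · right; right
        have hpodd : Odd (Fintype.card F) := by
          rw [Nat.odd_iff]
          refine FiniteField.odd_card_of_char_ne_two fun h => h2F ?_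
          haveI := ringChar.charP F
          have h22 : ((2 : ℕ) : F) = 0 := by rw [CharP.cast_eq_zero_iff F (ringChar F), h]
          exact_mod_cast h22
        refine ⟨fun v => formOfGram (RingEquiv.refl F) G v v,
          isQuadForm_formOfGram h2F hU (fun i j => by rw [hentry j i, h1, one_mul]), hpodd, ?_⟩
        refine le_quadSimilarityGroup d.absIrred hRn
          (isQuadForm_formOfGram h2F hU (fun i j => by rw [hentry j i, h1, one_mul])) h2F ?_
        exact fun s hs v => fixesForm_of_gram hGinv s hs v v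
      · left
        have hskew : ∀ i j, G i j = - G j i := fun i j => by rw [hentry j i, h1, neg_one_mul]
        refine ⟨formOfGram (RingEquiv.refl F) G, isSymplecticForm_formOfGram hU hskew (fun i => ?_), ?_⟩
        · have h5 : (2 : F) * G i i = 0 := by linear_combination hskew i i
          exact (mul_eq_zero.mp h5).resolve_left h2F
        · exact le_similarityGroup d.absIrred hRn (isSesq_formOfGram _ _)
            (nondegenerate_formOfGram hU) (fixesForm_of_gram hGinv)

end SympData

end Cfsg.Agent.Aschbacher
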