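/-
The structure theorem: Clifford theory for a minimal normal subgroup over the scalars.
-/
import Cfsg.Agent.Aschbacher.SympClass
import Cfsg.Agent.Aschbacher.Imprimitive
import Cfsg.Agent.Aschbacher.FieldSub
import Cfsg.Agent.Aschbacher.Wreath

set_option autoImplicit false
set_option maxHeartbeats 1000000

namespace Cfsg.Agent.Aschbacher

open scoped MatrixGroups Matrix commutatorElement
open Cfsg.Geo

variable {ι : Type} [Fintype ι] [DecidableEq ι] {F : Type*} [Field F]

/-- `M` is normalised by every element of `H`. -/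
def NormalisedBy (H M : Subgroup (GL ι F)) : Prop := ∀ h ∈ H, ∀ x ∈ M, h * x * h⁻¹ ∈ M

lemma scalars_mem_subalgebra (A : Subalgebra F (Matrix ι ι F)) {z : GL ι F}
    (hz : z ∈ scalars ι F) : (z : Matrix ι ι F) ∈ A := by
  obtain ⟨c, hc⟩ := (mem_scalars_iff z).mp hz
  rw [hc]; exact A.smul_mem A.one_mem _

lemma commutator_sup_scalars (A B : Subgroup (GL ι F)) :
    ⁅A ⊔ scalars ι F, B ⊔ scalars ι F⁆ = ⁅A, B⁆ := by
  refine le_antisymm ?_ (Subgroup.commutator_mono le_sup_left le_sup_left)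
  rw [Subgroup.commutator_le]
  intro x hx y hy
  obtain ⟨a, ha, u, hu, rfl⟩ := Subgroup.mem_sup_of_normal_right.mp hx
  obtain ⟨b, hb, v, hv, rfl⟩ := Subgroup.mem_sup_of_normal_right.mp hy
  have e : ⁅a * u, b * v⁆ = ⁅a, b⁆ := by
    have h1 : u * (b * v) = b * v * u := scalars_comm hu _
    have h2 : v * a⁻¹ = a⁻¹ * v := scalars_comm hv _
    calc ⁅a * u, b * v⁆ = a * (u * (b * v)) * u⁻¹ * a⁻¹ * (b * v)⁻¹ := by
          rw [commutatorElement_def]; group
      _ = a * b * (v * a⁻¹) * v⁻¹ * b⁻¹ := by rw [h1]; group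
      _ = ⁅a, b⁆ := by rw [h2, commutatorElement_def]; group
  rw [e]
  exact Subgroup.commutator_mem_commutator ha hb

lemma env_sup_scalars (A : Subgroup (GL ι F)) : env (A ⊔ scalars ι F) = env A := by
  refine le_antisymm ?_ (env_mono le_sup_left)
  rw [env_le_iff]
  intro x hx
  obtain ⟨a, ha, u, hu, rfl⟩ := Subgroup.mem_sup_of_normal_right.mp hx
  rw [Units.val_mul]
  exact (env A).mul_mem (val_mem_env ha) (scalars_mem_subalgebra _ hu)

/-- An element commuting with a perfect group modulo scalars commutes with it. -/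
lemma commute_of_perfect {D : Subgroup (GL ι F)} (hD : ⁅D, D⁆ = D) {x : GL ι F}
    (h : ∀ a ∈ D, x * a * x⁻¹ * a⁻¹ ∈ scalars ι F) : ∀ a ∈ D, x * a = a * x := by
  let C : Subgroup (GL ι F) := Subgroup.centralizer {x}
  suffices hle : ⁅D, D⁆ ≤ C by
    intro a ha
    have := hle (hD.symm ▸ ha : a ∈ ⁅D, D⁆)
    exact (Subgroup.mem_centralizer_singleton_iff.mp this).symm
  rw [Subgroup.commutator_le]
  intro a ha b hb
  rw [Subgroup.mem_centralizer_singleton_iff]
  set u := x * a * x⁻¹ * a⁻¹ with hu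
  set v := x * b * x⁻¹ * b⁻¹ with hv
  have hua : x * a * x⁻¹ = u * a := by rw [hu]; group
  have hvb : x * b * x⁻¹ = v * b := by rw [hv]; group
  have key : x * ⁅a, b⁆ * x⁻¹ = ⁅a, b⁆ := by
    have h1 : u * (v * b) = v * b * u := scalars_comm (h a ha) _
    have h2 : v * a⁻¹ = a⁻¹ * v := scalars_comm (h b hb) _
    calc x * ⁅a, b⁆ * x⁻¹ = (x * a * x⁻¹) * (x * b * x⁻¹) * (x * a * x⁻¹)⁻¹ * (x * b * x⁻¹)⁻¹ := by
          rw [commutatorElement_def]; group
      _ = (u * a) * (v * b) * a⁻¹ * u⁻¹ * (v * b)⁻¹ := by rw [hua, hvb]; group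
      _ = u * (a * v * b * a⁻¹) * u⁻¹ * (v * b)⁻¹ := by group
      _ = (a * v * b * a⁻¹) * (v * b)⁻¹ := by
          rw [scalars_comm (h a ha) (a * v * b * a⁻¹), mul_inv_cancel_right]
      _ = ⁅a, b⁆ := by
          rw [← scalars_comm (h b hb) a, commutatorElement_def]
          rw [show v * a * b * a⁻¹ * (v * b)⁻¹ = v * (a * b * a⁻¹ * b⁻¹) * v⁻¹ by group,
            scalars_comm (h b hb), mul_inv_cancel_right]
  calc ⁅a, b⁆ * x = x * ⁅a, b⁆ * x⁻¹ * x := by rw [key]
    _ = x * ⁅a, b⁆ := by group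

lemma absIrred_of_env_eq_top [Nonempty ι] {N : Subgroup (GL ι F)} (h : env N = ⊤) :
    ActsAbsolutelyIrreducibly (matrixSet N) := by
  have hspan : ∀ X : Matrix ι ι F, X ∈ Submodule.span F (matrixSet N) := fun X => by
    rw [← env_toSubmodule, h]; exact Algebra.mem_top (R := F)
  constructor
  · intro W hW
    have hinv : ∀ X : Matrix ι ι F, ∀ w ∈ W, X *ᵥ w ∈ W := by
      intro X w hw
      have hX := hspan X
      induction hX using Submodule.span_induction with
      | mem s hs =>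
        have := hW s hs (Submodule.mem_map_of_mem hw)
        rwa [Matrix.toLin'_apply] at this
      | zero => simp
      | add a b _ _ ha hb => rw [Matrix.add_mulVec]; exact W.add_mem ha hb
      | smul c a _ ha => rw [Matrix.smul_mulVec]; exact W.smul_mem c ha
    by_cases hW0 : W = ⊥
    · exact Or.inl hW0
    right
    obtain ⟨w, hw, hw0⟩ := W.ne_bot_iff.mp hW0
    obtain ⟨j, hj⟩ := Function.ne_iff.mp hw0
    rw [Pi.zero_apply] at hj
    rw [eq_top_iff]
    intro v _
    have : v = (Matrix.of fun i k => if k = j then v i * (w j)⁻¹ else 0) *ᵥ w := by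
      funext i
      simp only [Matrix.mulVec, dotProduct, Matrix.of_apply, ite_mul, zero_mul,
        Finset.sum_ite_eq', Finset.mem_univ, if_true]
      rw [mul_assoc, inv_mul_cancel₀ hj, mul_one]
    rw [this]
    exact hinv _ w hw
  · intro M hM
    obtain ⟨c, hc⟩ := Matrix.mem_range_scalar_of_commute_single (M := M) (fun i j _ => by
      have hX := hspan (Matrix.single i j 1)
      refine Submodule.span_induction (p := fun X _ => X * M = M * X) ?_ ?_ ?_ ?_ hX
      · exact fun s hs => (hM s hs).symm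
      · simp
      · intro a b _ _ ha hb; rw [add_mul, mul_add, ha, hb]
      · intro r a _ ha; rw [smul_mul_assoc, mul_smul_comm, ha])
    exact ⟨c, by rw [← hc, Matrix.scalar_apply, Matrix.smul_one_eq_diagonal]⟩

/-- The conditions of the residual core except the one about subfields. -/
structure PreCore (H P : Subgroup (GL ι F)) : Prop where
  le : P ≤ H
  normal : ∀ h ∈ H, ∀ x ∈ P, h * x * h⁻¹ ∈ P
  perfect : ⁅P, P⁆ = P
  simple : IsSimpleGroup (P ⧸ (scalars ι F).subgroupOf P)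
  nonabelian : ¬ IsMulCommutative (P ⧸ (scalars ι F).subgroupOf P)
  centralizer_scalar : ∀ h ∈ H, (∀ x ∈ P, h * x * h⁻¹ * x⁻¹ ∈ scalars ι F) → h ∈ scalars ι F
  absIrred : ActsAbsolutelyIrreducibly (matrixSet P)

/-- The tensor-induced situation. -/
structure TensorPowerData (H : Subgroup (GL ι F)) (t m : ℕ)
    (A : Fin t → Subalgebra F (Matrix ι ι F)) : Prop where
  two_le : 2 ≤ t
  two_le_m : 2 ≤ m
  iso : ∀ i, Nonempty (Matrix (Fin m) (Fin m) F ≃ₐ[F] A i)
  comm : ∀ i j, i ≠ j → ∀ X ∈ A i, ∀ Y ∈ A j, X * Y = Y * X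
  gen : ⨆ i, A i = ⊤
  perm : ∀ g ∈ H, ∃ σ : Equiv.Perm (Fin t), ∀ i, ∀ X ∈ A i, cj g X ∈ A (σ i)
  env : ∀ i, ∃ S : Subgroup (GL ι F), S ≤ H ∧ A i = Aschbacher.env S
  perfect : ∀ i, ∃ D : Subgroup (GL ι F), D ≤ H ∧ ⁅D, D⁆ = D ∧ ¬ D ≤ scalars ι F ∧
    Aschbacher.env D ≤ A i
  trans : ∀ i j, ∃ g ∈ H, ∀ X ∈ A i, cj g X ∈ A j

lemma exists_minimal_subgroup [Finite F] (p : Subgroup (GL ι F) → Prop) (h : ∃ M, p M) :
    ∃ M, p M ∧ ∀ K, p K → K ≤ M → K = M := by
  classical
  haveI : Finite (GL ι F) := inferInstance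
  obtain ⟨M₀, hM₀⟩ := h
  have hex : ∃ k, ∃ M, p M ∧ Nat.card M = k := ⟨_, M₀, hM₀, rfl⟩
  obtain ⟨M, hM, hcard⟩ := Nat.find_spec hex
  refine ⟨M, hM, fun K hK hle => Subgroup.eq_of_le_of_card_ge hle ?_⟩
  rw [hcard]
  exact Nat.find_le ⟨K, hK, rfl⟩

/-- The structure theorem for an irreducible group containing the scalars. -/
theorem structure_theorem [Fintype F] [Nonempty ι] (H : Subgroup (GL ι F))
    (hH : ActsIrreducibly (matrixSet H)) (hZ : scalars ι F ≤ H) (hdim : 2 ≤ Fintype.card ι) :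
    ∃ N : Subgroup (GL ι F), scalars ι F ≤ N ∧ N ≤ H ∧ NormalisedBy H N ∧
      (∀ M : Subgroup (GL ι F), scalars ι F ≤ M → M ≤ N →
        (∀ h ∈ H, ∀ x ∈ M, h * x * h⁻¹ ∈ M) → M = scalars ι F ∨ M = N) ∧
      ((∃ (t : ℕ) (e : Fin t → Matrix ι ι F), IdemSystem H (env N) e) ∨
       (∃ d, 2 ≤ d ∧ IsFieldSubalgebra d (centre (env N))) ∨
       (∃ a, 1 < a ∧ a < Fintype.card ι ∧
          Nonempty (Matrix (Fin a) (Fin a) F ≃ₐ[F] env N)) ∨
       (ActsAbsolutelyIrreducibly (matrixSet N) ∧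
        ((∃ (r m z : ℕ) (R : Subgroup (GL ι F)), SympData H N r m z R) ∨
         (∃ (t m : ℕ) (A : Fin t → Subalgebra F (Matrix ι ι F)), TensorPowerData H t m A) ∨
         PreCore H ⁅N, N⁆))) := by
  classical
  set Z := scalars ι F with hZdef
  have hHne : H ≠ Z := by
    intro hEq
    obtain ⟨i₀⟩ := (inferInstance : Nonempty ι)
    let v : ι → F := Pi.single i₀ 1
    have hv : v ≠ 0 := fun h => one_ne_zero (α := F) (by
      have := congrFun h i₀; simpa [v] using this)
    rcases eq_bot_or_eq_top hH (F ∙ v) (by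
      intro g hg w hw
      rw [hEq] at hg
      obtain ⟨c, hc⟩ := (mem_scalars_iff g).mp hg
      rw [hc, Matrix.smul_mulVec, Matrix.one_mulVec]
      exact Submodule.smul_mem _ _ hw) with h | h
    · exact hv ((Submodule.span_singleton_eq_bot).mp h)
    · have := finrank_span_singleton (K := F) hv
      rw [h, finrank_top, Module.finrank_pi] at this
      omega
  obtain ⟨N, ⟨hZN, hNH, hNnorm, hNne⟩, hNmin⟩ :=
    exists_minimal_subgroup (fun M => Z ≤ M ∧ M ≤ H ∧ NormalisedBy H M ∧ M ≠ Z)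
      ⟨H, hZ, le_rfl, fun h hh x hx => H.mul_mem (H.mul_mem hh hx) (H.inv_mem hh), hHne⟩
  have hmin : ∀ M : Subgroup (GL ι F), Z ≤ M → M ≤ N →
      (∀ h ∈ H, ∀ x ∈ M, h * x * h⁻¹ ∈ M) → M = Z ∨ M = N := fun M h1 h2 h3 =>
    or_iff_not_imp_left.mpr fun hne => hNmin M ⟨h1, h2.trans hNH, h3, hne⟩ h2
  have hHA : H ≤ subalgebraNormalizer (env N) :=
    le_subalgebraNormalizer fun g hg X hX => cj_mem_env (fun x hx => hNnorm g hg x hx) hX
  refine ⟨N, hZN, hNH, hNnorm, hmin, ?_⟩
  rcases trichotomy hH (env N) hHA with he | ⟨d, hd, hK⟩ | ⟨a, ha, ⟨f⟩⟩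
  · exact Or.inl (exists_idemSystem hH (env N) hHA he)
  · exact Or.inr (Or.inl ⟨d, hd, hK⟩)
  obtain ⟨b, e, P, hb, hA, -⟩ := exists_tensorProduct (by omega) (env N) f
  have hab : a * b = Fintype.card ι := by
    have := Fintype.card_congr e; simpa using this.symm
  have ha1 : 1 < a := by
    by_contra hh
    have ha1 : a = 1 := by omega
    subst ha1
    refine hNne (le_antisymm (fun x hx => ?_) hZN)
    obtain ⟨X, hX⟩ : (x : Matrix ι ι F) ∈ (leftFactor e P).range := hA ▸ val_mem_env hx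
    have hX2 : X = algebraMap F (Matrix (Fin 1) (Fin 1) F) (X 0 0) := by
      ext i j
      rw [Subsingleton.elim i 0, Subsingleton.elim j 0]
      simp [Matrix.algebraMap_matrix_apply]
    have hxc : (x : Matrix ι ι F) = (X 0 0) • 1 := by
      rw [← hX]
      show leftFactor e P X = _
      conv_lhs => rw [hX2, AlgHom.commutes, Algebra.algebraMap_eq_smul_one]
    have hc0 : X 0 0 ≠ 0 := fun h => x.ne_zero (by rw [hxc, h, zero_smul])
    exact (mem_scalars_iff x).mpr ⟨Units.mk0 _ hc0, hxc⟩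
  rcases lt_or_eq_of_le (Nat.le_of_dvd Fintype.card_pos ⟨b, hab.symm⟩) with hlt | heq
  · exact Or.inr (Or.inr (Or.inl ⟨a, ha1, hlt, ⟨f⟩⟩))
  -- N is absolutely irreducible
  have henv : env N = ⊤ := by
    rw [← Algebra.toSubmodule_eq_top]
    refine Submodule.eq_top_of_finrank_eq ?_
    rw [Subalgebra.finrank_toSubmodule, ← f.toLinearEquiv.finrank_eq]
    simp [Module.finrank_matrix, heq]
  have hNabs := absIrred_of_env_eq_top henv
  refine Or.inr (Or.inr (Or.inr ⟨hNabs, ?_⟩))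
  by_cases hcomm : ⁅N, N⁆ ≤ Z
  · exact Or.inl (exists_sympData H N hdim hZN hNH hNnorm hmin hcomm hNabs)
  right
  set D := ⁅N, N⁆ with hD
  have hDle : D ≤ N := Subgroup.commutator_le.mpr fun x hx y hy => by
    rw [commutatorElement_def]
    exact N.mul_mem (N.mul_mem (N.mul_mem hx hy) (N.inv_mem hx)) (N.inv_mem hy)
  have hDnorm : ∀ h ∈ H, ∀ x ∈ D, h * x * h⁻¹ ∈ D := by
    intro h hh x hx
    have hle : N.map (MulAut.conj h).toMonoidHom ≤ N := by
      rintro _ ⟨y, hy, rfl⟩; exact hNnorm h hh y hy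
    have := Subgroup.commutator_mono hle hle
    rw [← Subgroup.map_commutator] at this
    exact this ⟨x, hx, rfl⟩
  have hDZ : D ⊔ Z = N := by
    refine (hmin _ le_sup_right (sup_le hDle hZN) ?_).resolve_left fun h => hcomm (h ▸ le_sup_left)
    intro h hh x hx
    obtain ⟨p, hp, q, hq, rfl⟩ := Subgroup.mem_sup_of_normal_right.mp hx
    rw [show h * (p * q) * h⁻¹ = (h * p * h⁻¹) * (h * q * h⁻¹) by group]
    exact Subgroup.mul_mem _ (Subgroup.mem_sup_left (hDnorm h hh p hp))
      (Subgroup.mem_sup_right (scalars_normal.conj_mem q hq h))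
  have hperf : ⁅D, D⁆ = D := by
    conv_rhs => rw [hD, ← hDZ, commutator_sup_scalars]
  have hDenv : env D = ⊤ := by rw [← env_sup_scalars, hDZ, henv]
  have hcent : ∀ h : GL ι F, (∀ x ∈ D, h * x = x * h) → h ∈ Z := by
    intro h hh
    obtain ⟨c, hc⟩ := (absIrred_of_env_eq_top hDenv).2 (h : Matrix ι ι F) (by
      rintro _ ⟨x, hx, rfl⟩
      simpa using congrArg Units.val (hh x hx))
    have hc0 : c ≠ 0 := fun h0 => h.ne_zero (by rw [hc, h0, zero_smul])
    exact (mem_scalars_iff h).mpr ⟨Units.mk0 c hc0, hc⟩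
  by_cases hsimple : ∀ M : Subgroup (GL ι F), Z ≤ M → M ≤ N →
      (∀ h ∈ N, ∀ x ∈ M, h * x * h⁻¹ ∈ M) → M = Z ∨ M = N
  · -- the almost simple case
    right
    haveI hnorm : ((scalars ι F).subgroupOf D).Normal := Subgroup.Normal.subgroupOf inferInstance D
    have hDnZ : ¬ D ≤ Z := hcomm
    refine ⟨hDle.trans hNH, hDnorm, hperf, ?_, ?_, fun h _ hx =>
      hcent h (commute_of_perfect hperf hx), absIrred_of_env_eq_top hDenv⟩
    · obtain ⟨x, hx, hxZ⟩ := SetLike.not_le_iff_exists.mp hDnZ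
      haveI : Nontrivial (D ⧸ (scalars ι F).subgroupOf D) := ⟨⟨↑(⟨x, hx⟩ : D), 1, fun h => hxZ (by
        rw [QuotientGroup.eq_one_iff, Subgroup.mem_subgroupOf] at h
        exact h)⟩⟩
      refine ⟨fun K hK => ?_⟩
      set π := QuotientGroup.mk' ((scalars ι F).subgroupOf D)
      let K₀ : Subgroup (GL ι F) := (K.comap π).map D.subtype
      have hK₀D : K₀ ≤ D := Subgroup.map_subtype_le _
      have hnK : ∀ h ∈ N, ∀ y ∈ K₀ ⊔ Z, h * y * h⁻¹ ∈ K₀ ⊔ Z := by
        intro h hh y hy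
        rw [← hDZ] at hh
        obtain ⟨p, hp, q, hq, rfl⟩ := Subgroup.mem_sup_of_normal_right.mp hh
        obtain ⟨k, hk, u, hu, rfl⟩ := Subgroup.mem_sup_of_normal_right.mp hy
        have e1 : p * q * (k * u) * (p * q)⁻¹ = (p * k * p⁻¹) * u := by
          calc p * q * (k * u) * (p * q)⁻¹ = p * (q * (k * u)) * q⁻¹ * p⁻¹ := by group
            _ = p * (k * u) * p⁻¹ := by rw [scalars_comm hq]; group
            _ = p * k * (u * p⁻¹) := by group
            _ = p * k * p⁻¹ * u := by rw [scalars_comm hu]; group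
        rw [e1]
        refine Subgroup.mul_mem _ (Subgroup.mem_sup_left ?_) (Subgroup.mem_sup_right hu)
        obtain ⟨k', hk', rfl⟩ := Subgroup.mem_map.mp hk
        have hmem : (⟨p, hp⟩ : D) * k' * (⟨p, hp⟩ : D)⁻¹ ∈ K.comap π := by
          rw [Subgroup.mem_comap] at hk' ⊢
          rw [map_mul, map_mul, map_inv]
          exact hK.conj_mem _ hk' _
        exact Subgroup.mem_map.mpr ⟨_, hmem, rfl⟩
      rcases hsimple (K₀ ⊔ Z) le_sup_right (sup_le (hK₀D.trans hDle) hZN) hnK with h | h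
      · left
        rw [Subgroup.eq_bot_iff_forall]
        intro y hy
        obtain ⟨y', rfl⟩ := QuotientGroup.mk'_surjective ((scalars ι F).subgroupOf D) y
        rw [QuotientGroup.mk'_apply, QuotientGroup.eq_one_iff, Subgroup.mem_subgroupOf]
        have : (y' : GL ι F) ∈ K₀ ⊔ Z := Subgroup.mem_sup_left ⟨y', hy, rfl⟩
        rwa [h] at this
      · right
        have hDK : D ≤ K₀ := by
          rw [hD, ← h, commutator_sup_scalars]
          refine Subgroup.commutator_le.mpr fun a ha b hb => ?_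
          rw [commutatorElement_def]
          exact K₀.mul_mem (K₀.mul_mem (K₀.mul_mem ha hb) (K₀.inv_mem ha)) (K₀.inv_mem hb)
        rw [Subgroup.eq_top_iff']
        intro y
        obtain ⟨y', rfl⟩ := QuotientGroup.mk'_surjective ((scalars ι F).subgroupOf D) y
        obtain ⟨k', hk', hkk⟩ := hDK y'.2
        have : k' = y' := Subtype.ext hkk
        exact this ▸ hk'
    · intro hab'
      refine hDnZ ?_
      rw [← hperf, Subgroup.commutator_le]
      intro x hx y hy
      have h1 := hab'.is_comm.comm (QuotientGroup.mk' ((scalars ι F).subgroupOf D) ⟨x, hx⟩)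
        (QuotientGroup.mk' ((scalars ι F).subgroupOf D) ⟨y, hy⟩)
      have h3 : (QuotientGroup.mk' ((scalars ι F).subgroupOf D))
          (⁅(⟨x, hx⟩ : D), (⟨y, hy⟩ : D)⁆) = 1 := by
        rw [map_commutatorElement, commutatorElement_eq_one_iff_mul_comm]
        exact h1
      rw [QuotientGroup.mk'_apply, QuotientGroup.eq_one_iff, Subgroup.mem_subgroupOf] at h3
      exact h3
  -- the tensor induced case
  left
  push Not at hsimple
  obtain ⟨M₀, hM₀1, hM₀2, hM₀3, hM₀4, hM₀5⟩ := hsimple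
  obtain ⟨S, ⟨hZS, hSN, hSnorm, hSne⟩, hSmin⟩ :=
    exists_minimal_subgroup (fun M => Z ≤ M ∧ M ≤ N ∧ (∀ h ∈ N, ∀ x ∈ M, h * x * h⁻¹ ∈ M) ∧ M ≠ Z)
      ⟨M₀, hM₀1, hM₀2, hM₀3, hM₀4⟩
  have hSneN : S ≠ N := fun h => hM₀5 (by
    subst h
    exact hSmin M₀ ⟨hM₀1, hM₀2, hM₀3, hM₀4⟩ hM₀2)
  -- the conjugates of S
  haveI : Finite (GL ι F) := inferInstance
  haveI : Fintype (GL ι F) := Fintype.ofFinite _
  let cnj : GL ι F → Subgroup (GL ι F) := fun h => S.map (MulAut.conj h).toMonoidHom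
  let O : Finset (Subgroup (GL ι F)) := (Finset.univ.filter (· ∈ H)).image cnj
  have hOmem : ∀ M, M ∈ O ↔ ∃ h ∈ H, cnj h = M := fun M => by simp [O]
  have hmemc : ∀ h x, x ∈ cnj h ↔ h⁻¹ * x * h ∈ S := by
    intro h x
    constructor
    · rintro ⟨y, hy, rfl⟩
      simpa [mul_assoc] using hy
    · intro hx
      exact ⟨_, hx, by simp [mul_assoc]⟩
  have hNinv : ∀ h ∈ H, ∀ n ∈ N, h⁻¹ * n * h ∈ N := fun h hh n hn => by
    simpa using hNnorm h⁻¹ (H.inv_mem hh) n hn
  have hOprop : ∀ M ∈ O, Z ≤ M ∧ M ≤ N ∧ (∀ h ∈ N, ∀ x ∈ M, h * x * h⁻¹ ∈ M) ∧ M ≠ Z ∧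
      ∀ K, Z ≤ K → K ≤ M → (∀ h ∈ N, ∀ x ∈ K, h * x * h⁻¹ ∈ K) → K = Z ∨ K = M := by
    intro M hM
    obtain ⟨g, hg, rfl⟩ := (hOmem M).mp hM
    have hZconj : ∀ u ∈ Z, g⁻¹ * u * g = u := fun u hu => by
      rw [mul_assoc, scalars_comm hu g, ← mul_assoc, inv_mul_cancel, one_mul]
    refine ⟨fun u hu => (hmemc g u).mpr (by rw [hZconj u hu]; exact hZS hu), ?_, ?_, ?_, ?_⟩
    · rintro _ ⟨y, hy, rfl⟩
      exact hNnorm g hg y (hSN hy)
    · intro n hn x hx
      rw [hmemc] at hx ⊢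
      have := hSnorm _ (hNinv g hg n hn) _ hx
      simpa [mul_assoc] using this
    · intro h
      refine hSne (le_antisymm (fun x hx => ?_) hZS)
      have h2 : g * x * g⁻¹ ∈ Z := h ▸ (⟨x, hx, rfl⟩ : g * x * g⁻¹ ∈ cnj g)
      have h3 := hZconj _ h2
      rw [show g⁻¹ * (g * x * g⁻¹) * g = x by group] at h3
      exact h3 ▸ h2
    · intro K hK1 hK2 hK3
      refine or_iff_not_imp_left.mpr fun hKne => le_antisymm hK2 ?_
      let K' : Subgroup (GL ι F) := K.map (MulAut.conj g⁻¹).toMonoidHom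
      have hK'mem : ∀ x, x ∈ K' ↔ g * x * g⁻¹ ∈ K := by
        intro x
        constructor
        · rintro ⟨y, hy, rfl⟩
          simpa [mul_assoc] using hy
        · intro hx
          exact ⟨_, hx, by simp [mul_assoc]⟩
      have hZg : ∀ u ∈ Z, g * u * g⁻¹ = u := fun u hu => by
        rw [← scalars_comm hu g, mul_assoc, mul_inv_cancel, mul_one]
      have hK'S : K' ≤ S := fun x hx => by
        have := (hmemc g _).mp (hK2 ((hK'mem x).mp hx))
        simpa [mul_assoc] using this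
      have hKeq : K' = S := hSmin K'
        ⟨fun u hu => (hK'mem u).mpr (by rw [hZg u hu]; exact hK1 hu), hK'S.trans hSN, fun n hn x hx => by
          rw [hK'mem] at hx ⊢
          have := hK3 _ (hNnorm g hg n hn) _ hx
          simpa [mul_assoc] using this, fun h => hKne (le_antisymm (fun x hx => by
            have h2 : g⁻¹ * x * g ∈ Z := h ▸ (hK'mem _).mpr (by simpa [mul_assoc] using hx)
            have h3 := hZg _ h2
            rw [show g * (g⁻¹ * x * g) * g⁻¹ = x by group] at h3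
            exact h3 ▸ h2) hK1)⟩ hK'S
      intro x hx
      have h4 := (hmemc g x).mp hx
      rw [← hKeq, hK'mem] at h4
      simpa [mul_assoc] using h4
  have hScnj : cnj 1 = S := by ext x; rw [hmemc]; simp
  have hSO : S ∈ O := (hOmem S).mpr ⟨1, H.one_mem, hScnj⟩
  have hOclosed : ∀ g ∈ H, ∀ M ∈ O, M.map (MulAut.conj g).toMonoidHom ∈ O := by
    intro g hg M hM
    obtain ⟨h, hh, rfl⟩ := (hOmem M).mp hM
    refine (hOmem _).mpr ⟨g * h, H.mul_mem hg hh, ?_⟩
    ext x
    simp only [cnj, Subgroup.map_map]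
    simp [mul_assoc]
  -- distinct conjugates commute modulo Z
  have hint : ∀ M ∈ O, ∀ M' ∈ O, M ≠ M' → ⁅M, M'⁆ ≤ Z := by
    intro M hM M' hM' hne
    obtain ⟨a1, a2, a3, a4, a5⟩ := hOprop M hM
    obtain ⟨b1, b2, b3, b4, b5⟩ := hOprop M' hM'
    have hinf : M ⊓ M' = Z := by
      rcases a5 (M ⊓ M') (le_inf a1 b1) inf_le_left
        (fun n hn x hx => ⟨a3 n hn x hx.1, b3 n hn x hx.2⟩) with h | h
      · exact h
      · exact absurd ((b5 M a1 (h ▸ inf_le_right) a3).resolve_left a4) hne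
    rw [← hinf, Subgroup.commutator_le]
    intro x hx y hy
    rw [commutatorElement_def]
    refine ⟨?_, ?_⟩
    · rw [show x * y * x⁻¹ * y⁻¹ = x * (y * x⁻¹ * y⁻¹) by group]
      exact M.mul_mem hx (a3 y (b2 hy) _ (M.inv_mem hx))
    · exact M'.mul_mem (b3 x (a2 hx) _ hy) (M'.inv_mem hy)
  have hsup : sSup (O : Set (Subgroup (GL ι F))) = N := by
    refine (hmin _ (le_trans hZS (le_sSup hSO)) (sSup_le fun M hM => (hOprop M hM).2.1) ?_).resolve_left ?_
    · intro g hg x hx
      have hle : (sSup (O : Set (Subgroup (GL ι F)))).map (MulAut.conj g).toMonoidHom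
          ≤ sSup (O : Set (Subgroup (GL ι F))) := by
        rw [Subgroup.map_le_iff_le_comap, sSup_le_iff]
        intro M hM
        rw [← Subgroup.map_le_iff_le_comap]
        exact le_sSup (hOclosed g hg M hM)
      exact hle ⟨x, hx, rfl⟩
    · intro h
      exact hSne (le_antisymm (h ▸ le_sSup hSO) hZS)
  have hSnab : ∀ M ∈ O, ¬ ⁅M, M⁆ ≤ Z := by
    intro M hM hMab
    obtain ⟨g, hg, rfl⟩ := (hOmem M).mp hM
    have hall : ∀ M' ∈ O, ⁅M', M'⁆ ≤ Z := by
      intro M' hM'
      obtain ⟨g', hg', rfl⟩ := (hOmem M').mp hM'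
      have e : cnj g' = (cnj g).map (MulAut.conj (g' * g⁻¹)).toMonoidHom := by
        ext x
        simp only [cnj, Subgroup.map_map]
        simp [mul_assoc]
      rw [e, ← Subgroup.map_commutator]
      rintro _ ⟨x, hx, rfl⟩
      exact scalars_normal.conj_mem x (hMab hx) _
    apply hcomm
    set π := QuotientGroup.mk' Z
    have hπ : ∀ A B : Subgroup (GL ι F), ⁅A, B⁆ ≤ Z ↔
        A.map π ≤ Subgroup.centralizer (B.map π : Set (GL ι F ⧸ Z)) := by
      intro A B
      rw [← Subgroup.commutator_eq_bot_iff_le_centralizer, ← Subgroup.map_commutator,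
        Subgroup.map_eq_bot_iff, QuotientGroup.ker_mk']
    rw [hπ, ← hsup, Subgroup.map_le_iff_le_comap, sSup_le_iff]
    intro M' hM'
    rw [← Subgroup.map_le_iff_le_comap, Subgroup.le_centralizer_iff,
      Subgroup.map_le_iff_le_comap, sSup_le_iff]
    intro M'' hM''
    rw [← Subgroup.map_le_iff_le_comap, ← hπ]
    by_cases h : M'' = M'
    · subst h; exact hall _ hM'
    · exact hint _ hM'' _ hM' h
  have hperfM : ∀ M ∈ O, ⁅M, M⁆ ⊔ Z = M ∧ ⁅⁅M, M⁆, ⁅M, M⁆⁆ = ⁅M, M⁆ := by
    intro M hM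
    obtain ⟨a1, a2, a3, a4, a5⟩ := hOprop M hM
    have hle : ⁅M, M⁆ ≤ M := Subgroup.commutator_le.mpr fun x hx y hy => by
      rw [commutatorElement_def]
      exact M.mul_mem (M.mul_mem (M.mul_mem hx hy) (M.inv_mem hx)) (M.inv_mem hy)
    have e : ⁅M, M⁆ ⊔ Z = M := by
      refine (a5 _ le_sup_right (sup_le hle a1) ?_).resolve_left
        fun h => hSnab M hM (h ▸ le_sup_left)
      intro n hn x hx
      obtain ⟨p, hp, q, hq, rfl⟩ := Subgroup.mem_sup_of_normal_right.mp hx
      rw [show n * (p * q) * n⁻¹ = (n * p * n⁻¹) * (n * q * n⁻¹) by group]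
      refine Subgroup.mul_mem _ (Subgroup.mem_sup_left ?_)
        (Subgroup.mem_sup_right (scalars_normal.conj_mem q hq n))
      have hle' : M.map (MulAut.conj n).toMonoidHom ≤ M := by
        rintro _ ⟨y, hy, rfl⟩; exact a3 n hn y hy
      have := Subgroup.commutator_mono hle' hle'
      rw [← Subgroup.map_commutator] at this
      exact this ⟨p, hp, rfl⟩
    refine ⟨e, ?_⟩
    conv_rhs => rw [← e, commutator_sup_scalars]
  have hcomMM : ∀ M ∈ O, ∀ M' ∈ O, M ≠ M' → ∀ x ∈ M, ∀ y ∈ M', x * y = y * x := by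
    intro M hM M' hM' hne x hx y hy
    rw [← (hperfM M hM).1] at hx
    obtain ⟨p, hp, q, hq, rfl⟩ := Subgroup.mem_sup_of_normal_right.mp hx
    have h1 : y * p = p * y := commute_of_perfect (hperfM M hM).2 (fun a ha => by
      have haM : a ∈ M := by rw [← (hperfM M hM).1]; exact Subgroup.mem_sup_left ha
      have := hint M' hM' M hM hne.symm (Subgroup.commutator_mem_commutator hy haM)
      rwa [commutatorElement_def] at this) p hp
    rw [mul_assoc, scalars_comm hq, ← mul_assoc, ← h1, mul_assoc]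
  -- assemble
  let t := O.card
  let ee : Fin t ≃ O := O.equivFin.symm
  let A : Fin t → Subalgebra F (Matrix ι ι F) := fun i => env (ee i : Subgroup (GL ι F))
  have hAcomm : ∀ i j, i ≠ j → ∀ X ∈ A i, ∀ Y ∈ A j, X * Y = Y * X := by
    intro i j hij X hX Y hY
    have hne : (ee i : Subgroup (GL ι F)) ≠ ee j := fun h => hij (ee.injective (Subtype.ext h))
    have h1 : A i ≤ Subalgebra.centralizer F (matrixSet (ee j : Subgroup (GL ι F))) := by
      rw [env_le_iff]
      intro x hx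
      rw [Subalgebra.mem_centralizer_iff]
      rintro _ ⟨y, hy, rfl⟩
      simpa using congrArg Units.val (hcomMM _ (ee i).2 _ (ee j).2 hne x hx y hy).symm
    have h2 : A j ≤ Subalgebra.centralizer F {X} := by
      rw [env_le_iff]
      intro y hy
      rw [Subalgebra.mem_centralizer_iff]
      rintro _ rfl
      exact ((Subalgebra.mem_centralizer_iff F).mp (h1 hX) _ (mem_matrixSet hy)).symm
    exact (Subalgebra.mem_centralizer_iff F).mp (h2 hY) X rfl
  have hgen : ⨆ i, A i = ⊤ := by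
    rw [eq_top_iff, ← henv, env_le_iff]
    let U : Subgroup (GL ι F) :=
      { carrier := {x | (x : Matrix ι ι F) ∈ ⨆ i, A i}
        one_mem' := (⨆ i, A i).one_mem
        mul_mem' := fun {a b} ha hb => by
          show ((a * b : GL ι F) : Matrix ι ι F) ∈ (⨆ i, A i : Subalgebra F (Matrix ι ι F))
          rw [Units.val_mul]; exact (⨆ i, A i).mul_mem ha hb
        inv_mem' := fun {a} ha => by
          show ((a⁻¹ : GL ι F) : Matrix ι ι F) ∈ (⨆ i, A i : Subalgebra F (Matrix ι ι F))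
          haveI : Finite (GL ι F) := inferInstance
          have hpos := orderOf_pos a
          have : a⁻¹ = a ^ (orderOf a - 1) := by
            refine inv_eq_of_mul_eq_one_right ?_
            rw [← pow_succ', Nat.sub_add_cancel hpos, pow_orderOf_eq_one]
          rw [this, Units.val_pow_eq_pow_val]
          exact (⨆ i, A i).pow_mem ha _ }
    intro x hx
    have hle : sSup (O : Set (Subgroup (GL ι F))) ≤ U := sSup_le fun M hM y hy => by
      have h : (y : Matrix ι ι F) ∈ A (ee.symm ⟨M, hM⟩) := by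
        show _ ∈ env ((ee (ee.symm ⟨M, hM⟩) : O) : Subgroup (GL ι F))
        rw [Equiv.apply_symm_apply]
        exact val_mem_env hy
      exact le_iSup A _ h
    rw [hsup] at hle
    exact hle hx
  have ht : 2 ≤ t := by
    by_contra h
    apply hSneN
    have h1 : O = {S} := Finset.eq_singleton_iff_unique_mem.mpr
      ⟨hSO, fun M hM => Finset.card_le_one.mp (show O.card ≤ 1 from Nat.le_of_lt_succ (not_le.mp h)) M hM S hSO⟩
    rw [← hsup, h1]; simp
  have hNA : ∀ i, N ≤ subalgebraNormalizer (A i) := fun i =>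
    le_subalgebraNormalizer fun g hg X hX =>
      cj_mem_env (fun x hx => (hOprop _ (ee i).2).2.2.1 g hg x hx) hX
  have hAiso : ∀ i, ∃ m, 1 ≤ m ∧ Nonempty (Matrix (Fin m) (Fin m) F ≃ₐ[F] A i) := by
    intro i
    have hscalar : ∀ X ∈ centre (A i), ∃ c : F, X = c • (1 : Matrix ι ι F) := by
      intro X hX
      have hle : (⨆ j, A j) ≤ Subalgebra.centralizer F {X} := iSup_le fun j Y hY => by
        rw [Subalgebra.mem_centralizer_iff]
        intro W hW
        rw [Set.mem_singleton_iff.mp hW]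
        by_cases hji : j = i
        · subst hji; exact ((mem_centre.mp hX).2 Y hY).symm
        · exact hAcomm i j (Ne.symm hji) X (mem_centre.mp hX).1 Y hY
      rw [hgen] at hle
      obtain ⟨c, hc⟩ := Matrix.mem_range_scalar_of_commute_single (M := X) (fun a b _ =>
        ((Subalgebra.mem_centralizer_iff F).mp (hle Algebra.mem_top) X rfl).symm)
      exact ⟨c, by rw [← hc, Matrix.scalar_apply, Matrix.smul_one_eq_diagonal]⟩
    rcases trichotomy hNabs.1 (A i) (hNA i) with ⟨e, he, hee, he0, he1⟩ | ⟨d, hd, hK⟩ | h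
    · exfalso
      obtain ⟨c, rfl⟩ := hscalar e he
      rw [smul_mul_smul_comm, one_mul] at hee
      have hcc : c * c = c := smul_left_injective F (one_ne_zero (α := Matrix ι ι F)) hee
      rcases eq_or_ne c 0 with h | h
      · exact he0 (by rw [h, zero_smul])
      · exact he1 (by rw [(mul_eq_left₀ h).mp hcc, one_smul])
    · exfalso
      have hle : Subalgebra.toSubmodule (centre (A i)) ≤ F ∙ (1 : Matrix ι ι F) := fun X hX => by
        obtain ⟨c, rfl⟩ := hscalar X hX
        exact Submodule.smul_mem _ _ (Submodule.mem_span_singleton_self _)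
      have h1 := Submodule.finrank_mono hle
      rw [finrank_span_singleton (one_ne_zero (α := Matrix ι ι F)),
        Subalgebra.finrank_toSubmodule, hK.finrank_eq] at h1
      omega
    · exact h
  choose m hm1 hm using hAiso
  have i₀ : Fin t := ⟨0, by omega⟩
  have hperm : ∀ g ∈ H, ∃ σ : Equiv.Perm (Fin t), ∀ i, ∀ X ∈ A i, cj g X ∈ A (σ i) := by
    intro g hg
    let φ : Fin t → Fin t := fun i =>
      ee.symm ⟨(ee i : Subgroup (GL ι F)).map (MulAut.conj g).toMonoidHom, hOclosed g hg _ (ee i).2⟩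
    have hφ : Function.Injective φ := fun i j h => by
      have h2 := congrArg Subtype.val (ee.symm.injective h)
      exact ee.injective (Subtype.ext (Subgroup.map_injective (MulAut.conj g).injective h2))
    refine ⟨Equiv.ofBijective φ (Finite.injective_iff_bijective.mp hφ), fun i X hX => ?_⟩
    show cj g X ∈ env ((ee (φ i) : O) : Subgroup (GL ι F))
    simp only [φ, Equiv.apply_symm_apply]
    have hle : A i ≤ (env ((ee i : Subgroup (GL ι F)).map (MulAut.conj g).toMonoidHom)).comap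
        (cj g).toAlgHom := by
      rw [env_le_iff]
      intro x hx
      show cj g (x : Matrix ι ι F) ∈ env ((ee i : Subgroup (GL ι F)).map (MulAut.conj g).toMonoidHom)
      rw [cj_val]
      exact val_mem_env ⟨x, hx, rfl⟩
    exact hle hX
  -- all the m i agree
  have hmeq : ∀ i, m i = m i₀ := by
    have hdim' : ∀ i, Module.finrank F (A i) = m i * m i := by
      intro i
      obtain ⟨f'⟩ := hm i
      rw [← f'.toLinearEquiv.finrank_eq]
      simp [Module.finrank_matrix]
    have hle : ∀ i j, m i ≤ m j := by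
      intro i j
      obtain ⟨g, hg, hgi⟩ := (hOmem _).mp (ee i).2
      obtain ⟨g', hg', hgj⟩ := (hOmem _).mp (ee j).2
      have hmap : (A i).map (cj (g' * g⁻¹)).toAlgHom ≤ A j := by
        rw [Subalgebra.map_le, env_le_iff]
        intro x hx
        show cj (g' * g⁻¹) (x : Matrix ι ι F) ∈ env _
        rw [cj_val]
        refine val_mem_env ?_
        rw [← hgj, hmemc]
        rw [← hgi, hmemc] at hx
        simpa [mul_assoc] using hx
      have h1 : Module.finrank F (A i) ≤ Module.finrank F (A j) := by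
        rw [((A i).equivMapOfInjective (cj (g' * g⁻¹)).toAlgHom (cj (g' * g⁻¹)).injective).toLinearEquiv.finrank_eq]
        exact Submodule.finrank_mono (s := Subalgebra.toSubmodule ((A i).map (cj (g' * g⁻¹)).toAlgHom)) (t := Subalgebra.toSubmodule (A j)) (Subalgebra.toSubmodule.monotone hmap)
      rw [hdim', hdim'] at h1
      exact Nat.mul_self_le_mul_self_iff.mp h1
    exact fun i => le_antisymm (hle i i₀) (hle i₀ i)
  refine ⟨t, m i₀, A, ⟨ht, ?_, fun i => by
    obtain ⟨f'⟩ := hm i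
    exact ⟨hmeq i ▸ f'⟩, hAcomm, hgen, hperm,
    fun i => ⟨_, (hOprop _ (ee i).2).2.1.trans hNH, rfl⟩, ?_, ?_⟩⟩
  rotate_left
  · intro i
    have hle : ⁅(ee i : Subgroup (GL ι F)), (ee i : Subgroup (GL ι F))⁆ ≤ (ee i : Subgroup (GL ι F)) :=
      le_sup_left.trans_eq (hperfM _ (ee i).2).1
    exact ⟨_, hle.trans ((hOprop _ (ee i).2).2.1.trans hNH), (hperfM _ (ee i).2).2,
      hSnab _ (ee i).2, env_mono hle⟩
  · intro i j
    obtain ⟨g, hg, hgi⟩ := (hOmem _).mp (ee i).2
    obtain ⟨g', hg', hgj⟩ := (hOmem _).mp (ee j).2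
    refine ⟨g' * g⁻¹, H.mul_mem hg' (H.inv_mem hg), ?_⟩
    have hle : A i ≤ (A j).comap (cj (g' * g⁻¹)).toAlgHom := by
      rw [env_le_iff]
      intro x hx
      show cj (g' * g⁻¹) (x : Matrix ι ι F) ∈ A j
      rw [cj_val]
      refine val_mem_env ?_
      rw [← hgj, hmemc]
      rw [← hgi, hmemc] at hx
      simpa [mul_assoc] using hx
    exact fun X hX => hle hX
  by_contra h
  have hm1' : m i₀ = 1 := by have := hm1 i₀; omega
  obtain ⟨f'⟩ := hm i₀
  obtain ⟨-, -, -, h4, -⟩ := hOprop _ (ee i₀).2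
  refine h4 (le_antisymm (fun x hx => ?_) (hOprop _ (ee i₀).2).1)
  have hfr : Module.finrank F (A i₀) = 1 := by
    rw [← f'.toLinearEquiv.finrank_eq]; simp [Module.finrank_matrix, hm1']
  haveI : Nontrivial (A i₀) := inferInstance
  obtain ⟨c, hc⟩ := (finrank_eq_one_iff_of_nonzero' (1 : A i₀) one_ne_zero).mp hfr
    ⟨_, val_mem_env hx⟩
  have hxc : (x : Matrix ι ι F) = c • 1 := (congrArg Subtype.val hc).symm
  have hc0 : c ≠ 0 := fun h0 => x.ne_zero (by rw [hxc, h0, zero_smul])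
  exact (mem_scalars_iff x).mpr ⟨Units.mk0 c hc0, hxc⟩

end Cfsg.Agent.Aschbacher
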