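/-
The almost simple case for isometry groups: other invariant forms and subfields.
-/
import Cfsg.Agent.Aschbacher.FormedSubfield
import Cfsg.Agent.Aschbacher.FormedQuad
import Cfsg.Agent.Aschbacher.Structure

set_option autoImplicit false
set_option linter.unusedSectionVars false
set_option maxHeartbeats 1000000

namespace Cfsg.Agent.Aschbacher

open scoped MatrixGroups Matrix
open Cfsg.Geo

variable {ι : Type} [Fintype ι] [DecidableEq ι] {F : Type*} [Field F]
variable {σ : F ≃+* F} {ε : F} {f : (ι → F) → (ι → F) → F}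

/-- A perfect subgroup of `H ⊔ scalars` lies in `H`. -/
lemma le_of_perfect {H D : Subgroup (GL ι F)} (hD : D ≤ H ⊔ scalars ι F) (hp : ⁅D, D⁆ = D) :
    D ≤ H := by
  have h1 := Subgroup.commutator_mono hD hD
  rw [hp, commutator_sup_scalars] at h1
  exact h1.trans (Subgroup.commutator_le.mpr fun x hx y hy => by
    rw [commutatorElement_def]
    exact H.mul_mem (H.mul_mem (H.mul_mem hx hy) (H.inv_mem hx)) (H.inv_mem hy))

/-- The core conditions of the residual class, or a subfield. -/
theorem residualCore_or_subfield [Fintype F] {H P : Subgroup (GL ι F)}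
    (hP : PreCore (H ⊔ scalars ι F) P) :
    IsResidualCore H P ∨ ∃ F₀ : Subfield F, F₀ ≠ ⊤ ∧ RealisableOver F₀ (matrixSet P) := by
  by_cases hsub : ∃ F₀ : Subfield F, F₀ ≠ ⊤ ∧ RealisableOver F₀ (matrixSet P)
  · exact Or.inr hsub
  push Not at hsub
  exact Or.inl ⟨le_of_perfect hP.le hP.perfect,
    fun g hg => hP.normal g (Subgroup.mem_sup_left hg), hP.perfect, hP.simple, hP.nonabelian,
    fun g hg => hP.centralizer_scalar g (Subgroup.mem_sup_left hg), hP.absIrred, hsub⟩

/-- A bilinear form fixed along with the form is a multiple of it. -/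
theorem FormSpace.bilinear_unique [Nonempty ι] (h : FormSpace (RingEquiv.refl F) ε f)
    {P : Subgroup (GL ι F)} (hP : ActsAbsolutelyIrreducibly (matrixSet P))
    (hPf : FixesForm (matrixSet P) f) {g : (ι → F) → (ι → F) → F} (hg : IsBilinearForm g)
    (hgn : IsNondegenerateForm g) (hPg : FixesForm (matrixSet P) g) :
    ∃ c : F, c ≠ 0 ∧ ∀ u v, g u v = c * f u v := by
  have hs := isSesq_of_bilinear hg
  obtain ⟨c, hc⟩ := invariant_unique hP (isUnit_gram h.sesq h.nondeg)
    (fun s hs' => (fixes_iff_gtr h.sesq s).mp (hPf s hs'))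
    (fun s hs' => (fixes_iff_gtr hs s).mp (hPg s hs'))
  refine ⟨c, fun h0 => ?_, fun u v => ?_⟩
  · have := isUnit_gram hs hgn
    rw [hc, h0, zero_smul] at this
    exact not_isUnit_zero this
  · rw [hs.eq_formOfGram, h.sesq.eq_formOfGram u, hc, formOfGram_eq, formOfGram_eq,
      Matrix.smul_mulVec, dotProduct_smul, smul_eq_mul]

/-- In odd characteristic a symplectic group fixes no quadratic form along with the form. -/
theorem FormSpace.no_quad [Nonempty ι] (h : FormSpace (RingEquiv.refl F) (-1) f) (h2 : (2 : F) ≠ 0)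
    {P : Subgroup (GL ι F)} (hP : ActsAbsolutelyIrreducibly (matrixSet P))
    (hPf : FixesForm (matrixSet P) f) {Q : (ι → F) → F} (hQ : IsNondegenerateQuadraticForm Q)
    (hPQ : FixesQuadForm (matrixSet P) Q) : False := by
  obtain ⟨c, hc, hc'⟩ := h.bilinear_unique hP hPf hQ.polar_bilinear hQ.nondegenerate
    (fixesForm_polar hPQ)
  obtain ⟨i⟩ := (inferInstance : Nonempty ι)
  obtain ⟨⟨x, hx⟩, -⟩ := h.nondeg (Pi.single i 1) fun h0 => one_ne_zero (α := F) (by
    simpa using congrFun h0 i)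
  have h1 := hc' x (Pi.single i 1)
  have h3 := hc' (Pi.single i 1) x
  rw [QuadraticMap.polar_comm, h1] at h3
  have h4 : f (Pi.single i 1) x = (-1) * f x (Pi.single i 1) := h.herm _ _
  rw [h4] at h3
  have h5 : (2 : F) * (c * f x (Pi.single i 1)) = 0 := by linear_combination h3
  exact hx ((mul_eq_zero.mp ((mul_eq_zero.mp h5).resolve_left h2)).resolve_left hc)

/-- In characteristic two a group normalising a core fixing a quadratic form preserves one. -/
theorem FormSpace.quad_of_core [Finite F] (h : FormSpace (RingEquiv.refl F) (-1) f)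
    (h2 : (2 : F) = 0) (hdim : 2 ≤ Fintype.card ι) {H P : Subgroup (GL ι F)}
    (hH : FixesForm (matrixSet H) f) (hn : ∀ g ∈ H, ∀ x ∈ P, g * x * g⁻¹ ∈ P)
    (hP : ActsAbsolutelyIrreducibly (matrixSet P)) (hPf : FixesForm (matrixSet P) f)
    {Q : (ι → F) → F} (hQ : IsNondegenerateQuadraticForm Q) (hPQ : FixesQuadForm (matrixSet P) Q) :
    ∃ Q' : (ι → F) → F, IsNondegenerateQuadraticForm Q' ∧
      (∀ u v, QuadraticMap.polar Q' u v = f u v) ∧ H ≤ quadSimilarityGroup Q' := by
  classical
  haveI : Nonempty ι := Fintype.card_pos_iff.mp (by omega)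
  haveI : CharP F 2 := CharTwo.of_one_ne_zero_of_two_eq_zero one_ne_zero h2
  obtain ⟨c, hc, hc'⟩ := h.bilinear_unique hP hPf hQ.polar_bilinear hQ.nondegenerate
    (fixesForm_polar hPQ)
  set Q' : (ι → F) → F := fun v => c⁻¹ * Q v with hQ'
  have hsm : ∀ (a : F) v, Q' (a • v) = a ^ 2 * Q' v := fun a v => by
    simp only [hQ', hQ.smul]; ring
  have hpol : ∀ u v, QuadraticMap.polar Q' u v = f u v := fun u v => by
    have h1 := hc' u v
    simp only [QuadraticMap.polar] at h1 ⊢
    simp only [hQ', ← mul_sub, h1, ← mul_assoc, inv_mul_cancel₀ hc, one_mul]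
  have hb : IsBilinearForm f :=
    ⟨h.sesq.add_left, h.sesq.smul_left, h.sesq.add_right, h.sesq.smul_right⟩
  have hpe : QuadraticMap.polar Q' = f := funext fun u => funext (hpol u)
  refine ⟨Q', ⟨hsm, hpe ▸ hb, hpe ▸ h.nondeg⟩, hpol, fun g hg => ⟨1, fun v => ?_⟩⟩
  rw [Units.val_one, one_mul]
  let W : Submodule F (ι → F) :=
    { carrier := {v | Q' ((g : Matrix ι ι F) *ᵥ v) - Q' v = 0}
      add_mem' := fun {u v} hu hv => by
        show Q' ((g : Matrix ι ι F) *ᵥ (u + v)) - Q' (u + v) = 0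
        rw [Matrix.mulVec_add, quad_add hpol, quad_add hpol, hH _ (mem_matrixSet hg)]
        have hu' : Q' ((g : Matrix ι ι F) *ᵥ u) - Q' u = 0 := hu
        have hv' : Q' ((g : Matrix ι ι F) *ᵥ v) - Q' v = 0 := hv
        linear_combination hu' + hv'
      zero_mem' := by
        show Q' _ - Q' 0 = 0
        rw [Matrix.mulVec_zero, sub_self]
      smul_mem' := fun a v hv => by
        show Q' ((g : Matrix ι ι F) *ᵥ (a • v)) - Q' (a • v) = 0
        rw [Matrix.mulVec_smul, hsm, hsm, ← mul_sub,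
          show Q' ((g : Matrix ι ι F) *ᵥ v) - Q' v = 0 from hv, mul_zero] }
  rcases eq_bot_or_eq_top hP.1 W (fun x hx u hu => by
    show Q' ((g : Matrix ι ι F) *ᵥ ((x : Matrix ι ι F) *ᵥ u)) - Q' ((x : Matrix ι ι F) *ᵥ u) = 0
    have e : (g : Matrix ι ι F) *ᵥ ((x : Matrix ι ι F) *ᵥ u)
        = ((g * x * g⁻¹ : GL ι F) : Matrix ι ι F) *ᵥ ((g : Matrix ι ι F) *ᵥ u) := by
      rw [Matrix.mulVec_mulVec, Matrix.mulVec_mulVec, ← Units.val_mul, ← Units.val_mul,
        inv_mul_cancel_right]
    rw [e, hQ']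
    simp only [hPQ _ (mem_matrixSet hx), hPQ _ (mem_matrixSet (hn g hg x hx))]
    exact hu) with hW | hW
  · exfalso
    obtain ⟨i, j, hij⟩ : ∃ i j : ι, i ≠ j := by
      haveI : Nontrivial ι := Fintype.one_lt_card_iff_nontrivial.mp (by omega)
      exact exists_pair_ne ι
    set D : (ι → F) → F := fun u => Q' ((g : Matrix ι ι F) *ᵥ u) - Q' u with hD
    have hDadd : ∀ u w, D (u + w) = D u + D w := fun u w => by
      simp only [hD, Matrix.mulVec_add, quad_add hpol, hH _ (mem_matrixSet hg)]; ring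
    have hDsm : ∀ (a : F) u, D (a • u) = a ^ 2 * D u := fun a u => by
      simp only [hD, Matrix.mulVec_smul, hsm]; ring
    obtain ⟨a, ha⟩ := (surjective_frobenius F 2) (D (Pi.single j 1))
    obtain ⟨b, hb⟩ := (surjective_frobenius F 2) (D (Pi.single i 1))
    rw [frobenius_def] at ha hb
    have hmem : a • (Pi.single i 1 : ι → F) + b • Pi.single j 1 ∈ W := by
      show D _ = 0
      rw [hDadd, hDsm, hDsm, ha, hb, mul_comm, CharTwo.add_self_eq_zero]
    rw [hW, Submodule.mem_bot] at hmem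
    have hb0 := congrFun hmem j
    simp [Pi.single_eq_of_ne hij.symm] at hb0
    have hi : (Pi.single i 1 : ι → F) ∈ W := by
      show D _ = 0
      rw [← hb, hb0, zero_pow two_ne_zero]
    rw [hW, Submodule.mem_bot] at hi
    simpa using congrFun hi i
  · have : v ∈ W := hW ▸ Submodule.mem_top
    exact sub_eq_zero.mp this

end Cfsg.Agent.Aschbacher
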