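/-
Frames of non-singular lines over a non-prime field give subfield structures; pairs of totally
singular halves in characteristic two give quadratic forms.
-/
import Cfsg.Agent.Aschbacher.FormedSubfield
import Cfsg.Agent.Aschbacher.FormedQuad
import Cfsg.Agent.Aschbacher.Structure

set_option autoImplicit false
set_option linter.unusedSectionVars false
set_option linter.style.haveILetI false
set_option maxHeartbeats 1000000

namespace Cfsg.Agent.Aschbacher

open scoped MatrixGroups Matrix
open Cfsg.Geo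

variable {ι : Type} [Fintype ι] [DecidableEq ι] {F : Type*} [Field F]
variable {f : (ι → F) → (ι → F) → F}

/-- The isometries permuting the columns of `P` up to signs. -/
def monoGroup (f : (ι → F) → (ι → F) → F) (P : GL ι F) : Subgroup (GL ι F) where
  carrier := {g | (∀ u v, f ((g : Matrix ι ι F) *ᵥ u) ((g : Matrix ι ι F) *ᵥ v) = f u v) ∧
    ∃ (π : Equiv.Perm ι) (s : ι → F), (∀ i, s i = 1 ∨ s i = -1) ∧
      (g : Matrix ι ι F) * (P : Matrix ι ι F)
        = (P : Matrix ι ι F) * Matrix.of fun a i => if a = π i then s i else 0}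
  one_mem' := ⟨fun u v => by simp, 1, fun _ => 1, fun _ => Or.inl rfl, by
    rw [Units.val_one, one_mul]
    conv_lhs => rw [← mul_one (P : Matrix ι ι F)]
    congr 1⟩
  mul_mem' {x y} hx hy := by
    obtain ⟨hx1, π, s, hs, hxP⟩ := hx
    obtain ⟨hy1, ρ, r, hr, hyP⟩ := hy
    refine ⟨fun u v => by rw [Units.val_mul, ← Matrix.mulVec_mulVec, ← Matrix.mulVec_mulVec, hx1, hy1],
      π * ρ, fun i => s (ρ i) * r i, fun i => by
        rcases hs (ρ i) with h | h <;> rcases hr i with h' | h' <;> simp [h, h'], ?_⟩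
    rw [Units.val_mul, mul_assoc, hyP, ← mul_assoc, hxP, mul_assoc]
    congr 1
    ext a i
    rw [Matrix.mul_apply]
    rw [Finset.sum_eq_single (ρ i)]
    · simp only [Matrix.of_apply, if_pos, ite_mul, zero_mul, Equiv.Perm.mul_apply]
      congr
    · intro b _ hb; simp [hb]
    · simp
  inv_mem' {x} hx := by
    obtain ⟨hx1, π, s, hs, hxP⟩ := hx
    refine ⟨fun u v => ?_, π⁻¹, fun i => s (π⁻¹ i), fun i => hs _, ?_⟩
    · have := hx1 (((x⁻¹ : GL ι F) : Matrix ι ι F) *ᵥ u) (((x⁻¹ : GL ι F) : Matrix ι ι F) *ᵥ v)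
      simp only [Matrix.mulVec_mulVec, ← Units.val_mul, mul_inv_cancel, Units.val_one,
        Matrix.one_mulVec] at this
      exact this.symm
    · set M : Matrix ι ι F := Matrix.of fun a i => if a = π i then s i else 0
      set M' : Matrix ι ι F := Matrix.of fun a i => if a = π⁻¹ i then s (π⁻¹ i) else 0
      have hMM : M * M' = 1 := by
        ext a i
        rw [Matrix.mul_apply, Finset.sum_eq_single (π⁻¹ i)]
        · rcases hs (π⁻¹ i) with h | h <;> rw [Equiv.Perm.inv_def] at h <;>
            simp [M, M', h, Matrix.one_apply, Equiv.Perm.inv_def] <;> split_ifs <;> simp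
        · intro b _ hb; simp only [M', Matrix.of_apply, if_neg hb, mul_zero]
        · simp
      calc ((x⁻¹ : GL ι F) : Matrix ι ι F) * (P : Matrix ι ι F)
          = ((x⁻¹ : GL ι F) : Matrix ι ι F) * ((P : Matrix ι ι F) * M) * M' := by
            rw [mul_assoc, mul_assoc, hMM, mul_one]
        _ = _ := by
            rw [← hxP, ← mul_assoc, ← Units.val_mul, inv_mul_cancel, Units.val_one, one_mul]

/-- An orthogonal frame permuted transitively over a non-prime field gives a subfield structure. -/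
theorem FormSpace.frame_subfield [Fintype F] [Nonempty ι]
    (h : FormSpace (RingEquiv.refl F) 1 f) (h2 : (2 : F) ≠ 0) (hodd : Odd (Fintype.card ι))
    (hprime : ∀ (F₁ : Subfield F) i j, gramMatrix f i j ∈ F₁)
    {F₀ : Subfield F} (hne : F₀ ≠ ⊤)
    {H : Subgroup (GL ι F)} (hH : FixesForm (matrixSet H) f) {t : ℕ}
    {D : Fin t → Submodule F (ι → F)} (hD : IsNondegenerateMDecomposition f 1 D)
    (ht : t = Fintype.card ι) (hle : H ≤ decompositionStabilizer D)
    (htrans : ∀ i j, ∃ g ∈ H, (D i).map (Matrix.toLin' (g : Matrix ι ι F)) = D j) :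
    ∃ (F₁ : Subfield F) (r : ℕ) (B : GL ι F), r.Prime ∧ Fintype.card F = Nat.card F₁ ^ r ∧
      IsFormRationalStructure f F₁ 1 B ∧ H ≤ subfieldSubgroup F₁ B := by
  classical
  let e : ι ≃ Fin t := (Fintype.equivFin ι).trans (finCongr ht.symm)
  have i₀ : ι := Classical.arbitrary ι
  -- a vector on the first line
  obtain ⟨v₀, hv₀, hv₀0⟩ : ∃ v ∈ D (e i₀), v ≠ 0 := by
    refine Submodule.exists_mem_ne_zero_of_ne_bot fun h0 => ?_
    have := hD.decomp.finrank_eq (e i₀)
    rw [h0, finrank_bot] at this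
    omega
  choose g hg hgD using fun i => htrans (e i₀) (e i)
  let w : ι → ι → F := fun i => (g i : Matrix ι ι F) *ᵥ v₀
  have hwD : ∀ i, w i ∈ D (e i) := fun i => by
    rw [← hgD i]
    exact ⟨v₀, hv₀, by rw [Matrix.toLin'_apply]⟩
  have hw0 : ∀ i, w i ≠ 0 := fun i h0 => hv₀0
    (Matrix.mulVec_injective_iff_isUnit.mpr (g i).isUnit (h0.trans (Matrix.mulVec_zero _).symm))
  have hline : ∀ i, ∀ u ∈ D (e i), ∃ c : F, u = c • w i := fun i u hu => by
    obtain ⟨c, hc⟩ := (finrank_eq_one_iff_of_nonzero' (⟨w i, hwD i⟩ : D (e i))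
      (fun h0 => hw0 i (congrArg Subtype.val h0))).mp (hD.decomp.finrank_eq _) ⟨u, hu⟩
    exact ⟨c, (congrArg Subtype.val hc).symm⟩
  set lam := f v₀ v₀
  have hlam : ∀ i, f (w i) (w i) = lam := fun i => hH _ (mem_matrixSet (hg i)) v₀ v₀
  have hlam0 : lam ≠ 0 := by
    intro h0
    obtain ⟨⟨x, hx, hxv⟩, -⟩ := hD.nondegenerate (e i₀) v₀ hv₀ hv₀0
    obtain ⟨c, rfl⟩ := hline i₀ x hx
    obtain ⟨c', hc'⟩ := hline i₀ v₀ hv₀
    apply hxv
    rw [hc', h.sesq.smul_left, h.sesq.smul_right, hlam, h0]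
    simp
  have horth : ∀ i j, i ≠ j → f (w i) (w j) = 0 := fun i j hij =>
    hD.orthogonal (e i) (e j) (fun hh => hij (e.injective hh)) _ (hwD i) _ (hwD j)
  let M : Matrix ι ι F := Matrix.of fun a i => w i a
  have hMv : ∀ i, M *ᵥ Pi.single i 1 = w i := fun i => by
    funext a; simp [M, Matrix.mulVec_single_one]
  have hgram : gtr (RingEquiv.refl F) (gramMatrix f) M = lam • 1 := by
    ext i j
    have h1 : f (M *ᵥ Pi.single i 1) (M *ᵥ Pi.single j 1) = gtr (RingEquiv.refl F) (gramMatrix f) M i j := by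
      rw [h.sesq.eq_formOfGram, formOfGram_mulVec]
      exact congrFun (congrFun (gram_formOfGram _ _) i) j
    rw [← h1, hMv, hMv, Matrix.smul_apply, Matrix.one_apply, smul_eq_mul]
    by_cases hij : i = j
    · subst hij; rw [if_pos rfl, mul_one, hlam]
    · rw [if_neg hij, mul_zero, horth i j hij]
  have hMu : IsUnit M := by
    rw [Matrix.isUnit_iff_isUnit_det, isUnit_iff_ne_zero]
    intro h0
    have h1 := congrArg Matrix.det hgram
    rw [gtr, Matrix.det_mul, Matrix.det_mul, Matrix.det_transpose, h0, zero_mul, zero_mul,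
      Matrix.det_smul, Matrix.det_one, mul_one] at h1
    exact pow_ne_zero _ hlam0 h1.symm
  let P : GL ι F := hMu.unit
  have hP : (P : Matrix ι ι F) = M := rfl
  set K := monoGroup f P with hK
  have hHK : H ≤ K := by
    intro x hx
    refine ⟨fun u v => hH _ (mem_matrixSet hx) u v, ?_⟩
    obtain ⟨τ, hτ⟩ := hle hx
    let π : Equiv.Perm ι := (e.trans τ).trans e.symm
    have hmem : ∀ i, (x : Matrix ι ι F) *ᵥ w i ∈ D (e (π i)) := fun i => by
      rw [show e (π i) = τ (e i) by simp [π], ← hτ (e i)]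
      exact ⟨w i, hwD i, by rw [Matrix.toLin'_apply]⟩
    choose s hs using fun i => hline (π i) _ (hmem i)
    refine ⟨π, s, fun i => ?_, ?_⟩
    · have h1 := hH _ (mem_matrixSet hx) (w i) (w i)
      rw [hs, h.sesq.smul_left, h.sesq.smul_right, hlam, hlam, RingEquiv.refl_apply, ← mul_assoc] at h1
      exact mul_self_eq_one_iff.mp (mul_right_cancel₀ hlam0 (h1.trans (one_mul _).symm))
    · ext a i
      have h1 : ((x : Matrix ι ι F) * (P : Matrix ι ι F)) a i = ((x : Matrix ι ι F) *ᵥ w i) a := by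
        rw [hP]; simp [M, Matrix.mul_apply, Matrix.mulVec, dotProduct]
      rw [h1, hs, hP]
      simp [M, Matrix.mul_apply, mul_comm]
  have hsign : ∀ i₁ : ι, ∃ r ∈ K, ((P⁻¹ : GL ι F) : Matrix ι ι F) * (r : Matrix ι ι F) * (P : Matrix ι ι F)
      = Matrix.diagonal fun i => if i = i₁ then -1 else 1 := by
    intro i₁
    set S : Matrix ι ι F := Matrix.diagonal fun i => if i = i₁ then -1 else 1
    have hSS : S * S = 1 := by
      rw [Matrix.diagonal_mul_diagonal, ← Matrix.diagonal_one]
      congr 1; funext i; split_ifs <;> simp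
    let S' : GL ι F := ⟨S, S, hSS, hSS⟩
    refine ⟨P * S' * P⁻¹, ⟨?_, 1, fun i => if i = i₁ then -1 else 1, fun i => ?_, ?_⟩, ?_⟩
    · refine (fixes_iff_gtr h.sesq _).mpr ?_
      have hG : gramMatrix f = lam • gtr (RingEquiv.refl F) 1 ((P⁻¹ : GL ι F) : Matrix ι ι F) := by
        rw [← gtr_smul, ← hgram, ← gtr_mul, ← hP, ← Units.val_mul, mul_inv_cancel, Units.val_one]
        simp [gtr]
      conv_lhs => rw [hG, gtr_smul, ← gtr_mul, ← Units.val_mul, show P⁻¹ * (P * S' * P⁻¹) = S' * P⁻¹ by group,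
        Units.val_mul, gtr_mul]
      rw [hG, show gtr (RingEquiv.refl F) 1 (S' : Matrix ι ι F) = 1 by
        show Sᵀ * 1 * S.map _ = 1
        rw [mul_one, Matrix.diagonal_transpose, Matrix.diagonal_map (map_zero _)]
        exact hSS]
    · by_cases hi : i = i₁ <;> simp [hi]
    · rw [← Units.val_mul, inv_mul_cancel_right, Units.val_mul]
      congr 1
      show S = _
      ext a i
      by_cases hai : a = i
      · subst hai; simp [S]
      · simp [S, hai]
    · rw [← Units.val_mul, ← Units.val_mul, show P⁻¹ * (P * S' * P⁻¹) * P = S' by group]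
  have hKspan : Submodule.span F (matrixSet K) = ⊤ := by
    let cjP : Matrix ι ι F → Matrix ι ι F := fun X =>
      (P : Matrix ι ι F) * X * ((P⁻¹ : GL ι F) : Matrix ι ι F)
    have hsurj : ∀ X, ∃ Y, X = cjP Y := fun X =>
      ⟨((P⁻¹ : GL ι F) : Matrix ι ι F) * X * (P : Matrix ι ι F), by
        simp only [cjP, ← mul_assoc, ← Units.val_mul, mul_inv_cancel, Units.val_one, one_mul]
        rw [mul_assoc, ← Units.val_mul, mul_inv_cancel, Units.val_one, mul_one]⟩
    have hmul : ∀ X ∈ Submodule.span F (matrixSet K), ∀ Y ∈ Submodule.span F (matrixSet K),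
        X * Y ∈ Submodule.span F (matrixSet K) := by
      intro X hX Y hY
      rw [← env_toSubmodule] at hX hY ⊢
      exact (env K).mul_mem hX hY
    have hE : ∀ i, cjP (Matrix.single i i 1) ∈ Submodule.span F (matrixSet K) := by
      intro i
      obtain ⟨r, hr, hrv⟩ := hsign i
      have h1 : (1 : Matrix ι ι F) ∈ Submodule.span F (matrixSet K) :=
        Submodule.subset_span ⟨1, one_mem _, rfl⟩
      have h3 : (r : Matrix ι ι F) = cjP (Matrix.diagonal fun j => if j = i then -1 else 1) := by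
        rw [← hrv]
        simp only [cjP, ← Units.val_mul]
        congr 1; group
      have e : cjP (Matrix.single i i 1) = (2 : F)⁻¹ • ((1 : Matrix ι ι F) - (r : Matrix ι ι F)) := by
        have h4 : (1 : Matrix ι ι F) = cjP 1 := by
          simp only [cjP, mul_one, ← Units.val_mul, mul_inv_cancel, Units.val_one]
        have h5 : Matrix.single i i (1 : F)
            = (2 : F)⁻¹ • (1 - Matrix.diagonal fun j => if j = i then -1 else 1) := by
          ext a b
          by_cases hab : a = b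
          · subst hab
            by_cases hai : a = i
            · subst hai; simp [show (1 : F) + 1 = 2 by norm_num, inv_mul_cancel₀ h2]
            · simp [hai, Matrix.single_apply, Ne.symm hai]
          · simp [hab, Matrix.single_apply]
            intro h5 h6; exact hab (h5.symm.trans h6)
        rw [h3, h4, h5]
        simp only [cjP, Matrix.mul_smul, Matrix.smul_mul, mul_sub, sub_mul]
      rw [e]
      exact Submodule.smul_mem _ _ (Submodule.sub_mem _ h1 (Submodule.subset_span (mem_matrixSet hr)))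
    have hEij : ∀ j i, cjP (Matrix.single j i 1) ∈ Submodule.span F (matrixSet K) := by
      intro j i
      obtain ⟨x, hx, hxD⟩ := htrans (e i) (e j)
      obtain ⟨-, π, s, hs, hxP⟩ := hHK hx
      have hπ : π i = j := by
        by_contra hne'
        have h1 : (x : Matrix ι ι F) *ᵥ w i ∈ D (e j) := by
          rw [← hxD]; exact ⟨w i, hwD i, by rw [Matrix.toLin'_apply]⟩
        have h5 : (x : Matrix ι ι F) *ᵥ w i = s i • w (π i) := by
          rw [← hMv i, ← hMv (π i), Matrix.mulVec_mulVec, ← hP, hxP, ← Matrix.mulVec_mulVec,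
            ← Matrix.mulVec_smul]
          congr 1
          funext a; simp [Matrix.mulVec_single_one, Pi.single_apply]
        obtain ⟨c, hc⟩ := hline j _ (h5 ▸ h1)
        have h6 := congrArg (fun u => f u (w (π i))) hc
        simp only [h.sesq.smul_left, hlam, horth j (π i) (Ne.symm hne'), mul_zero] at h6
        rcases hs i with h7 | h7 <;> rw [h7] at h6 <;> simp at h6 <;> exact hlam0 h6
      set Mx : Matrix ι ι F := Matrix.of fun a b => if a = π b then s b else 0
      have hxv : (x : Matrix ι ι F) = cjP Mx := by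
        simp only [cjP]
        rw [← hxP, mul_assoc, ← Units.val_mul, mul_inv_cancel, Units.val_one, mul_one]
      have hprod : Matrix.single j j 1 * Mx * Matrix.single i i 1 = s i • Matrix.single j i (1 : F) := by
        rw [Matrix.single_mul_mul_single, one_mul, mul_one, Matrix.smul_single, smul_eq_mul, mul_one]
        simp [Mx, hπ]
      have hcjmul : ∀ A B, cjP A * cjP B = cjP (A * B) := fun A B => by
        simp only [cjP, mul_assoc]
        rw [← mul_assoc ((P⁻¹ : GL ι F) : Matrix ι ι F) (P : Matrix ι ι F), ← Units.val_mul,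
          inv_mul_cancel, Units.val_one, one_mul]
      have h8 : s i • cjP (Matrix.single j i 1) ∈ Submodule.span F (matrixSet K) := by
        rw [show s i • cjP (Matrix.single j i 1) = cjP (Matrix.single j j 1) * cjP Mx * cjP (Matrix.single i i 1) by
          rw [hcjmul, hcjmul, hprod]; simp only [cjP, Matrix.mul_smul, Matrix.smul_mul]]
        exact hmul _ (hmul _ (hE j) _ (hxv ▸ Submodule.subset_span (mem_matrixSet (hHK hx)))) _ (hE i)
      have hs0 : s i ≠ 0 := by rcases hs i with h7 | h7 <;> simp [h7]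
      simpa [smul_smul, inv_mul_cancel₀ hs0] using Submodule.smul_mem _ (s i)⁻¹ h8
    rw [eq_top_iff]
    rintro X -
    obtain ⟨Y, rfl⟩ := hsurj X
    rw [Matrix.matrix_eq_sum_single Y]
    simp only [cjP, Finset.mul_sum, Finset.sum_mul]
    refine Submodule.sum_mem _ fun a _ => Submodule.sum_mem _ fun b _ => ?_
    have h9 := Submodule.smul_mem _ (Y a b) (hEij a b)
    rw [show Matrix.single a b (Y a b) = Y a b • Matrix.single a b (1 : F) by
      rw [Matrix.smul_single, smul_eq_mul, mul_one], Matrix.mul_smul, Matrix.smul_mul]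
    exact h9
  have habs : ActsAbsolutelyIrreducibly (matrixSet K) := by
    apply absIrred_of_env_eq_top
    rw [← Algebra.toSubmodule_eq_top, env_toSubmodule, hKspan]
  have hreal : RealisableOver F₀ (matrixSet K) := by
    refine ⟨P⁻¹, ?_⟩
    rintro _ ⟨x, ⟨-, π, s, hs, hxP⟩, rfl⟩ a b
    rw [inv_inv, mul_assoc, hxP, ← mul_assoc, ← Units.val_mul, inv_mul_cancel, Units.val_one, one_mul,
      Matrix.of_apply]
    split_ifs
    · rcases hs b with h7 | h7 <;> rw [h7]
      · exact F₀.one_mem
      · exact F₀.neg_mem F₀.one_mem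
    · exact F₀.zero_mem
  exact orthogonal_subfield h h2 hodd hprime habs
    (fun x hx y hy => K.mul_mem (K.mul_mem (hHK hx) hy) (K.inv_mem (hHK hx)))
    (by rintro _ ⟨x, hx, rfl⟩; exact hx.1) hne hreal

/-- A pair of complementary totally singular halves in characteristic two gives a quadratic form. -/
theorem FormSpace.pair_quadratic {k : ℕ} (h : FormSpace (RingEquiv.refl F) (-1) f)
    (h2 : (2 : F) = 0) {H : Subgroup (GL ι F)} (hH : FixesForm (matrixSet H) f)
    {D : Fin 2 → Submodule F (ι → F)} (hD : IsMDecomposition k D)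
    (hts : ∀ i, IsTotallySingularFor f (D i)) (hle : H ≤ decompositionStabilizer D) :
    ∃ Q : (ι → F) → F, IsNondegenerateQuadraticForm Q ∧ (∀ u v, QuadraticMap.polar Q u v = f u v) ∧
      H ≤ quadSimilarityGroup Q := by
  have hsym : ∀ u v, f u v = f v u := fun u v => by
    have h1 : f v u = (-1) * f u v := h.herm u v
    linear_combination h1 * (-1) + f u v * h2
  have hdisj : Disjoint (D 0) (D 1) := hD.indep.pairwiseDisjoint (by decide)
  have hcod : D 0 ⊔ D 1 = ⊤ := by
    rw [eq_top_iff, ← hD.iSup_eq_top]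
    exact iSup_le fun i => by fin_cases i <;> simp
  have hsplit : ∀ v, ∃ a ∈ D 0, ∃ b ∈ D 1, a + b = v := fun v =>
    Submodule.mem_sup.mp (hcod ▸ Submodule.mem_top)
  choose a ha b hb hab using hsplit
  have huniq : ∀ {v x y}, x ∈ D 0 → y ∈ D 1 → x + y = v → a v = x ∧ b v = y := by
    intro v x y hx hy hxy
    have h1 : a v - x = y - b v := by
      rw [sub_eq_sub_iff_add_eq_add, hab v, ← hxy, add_comm]
    have h3 : a v - x = 0 := Submodule.disjoint_def.mp hdisj _ ((D 0).sub_mem (ha v) hx)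
      (h1 ▸ (D 1).sub_mem hy (hb v))
    exact ⟨sub_eq_zero.mp h3, (sub_eq_zero.mp (h1.symm.trans h3)).symm⟩
  set Q : (ι → F) → F := fun v => f (a v) (b v) with hQdef
  have hadd : ∀ u v, a (u + v) = a u + a v ∧ b (u + v) = b u + b v := fun u v =>
    huniq ((D 0).add_mem (ha u) (ha v)) ((D 1).add_mem (hb u) (hb v))
      (by rw [add_add_add_comm, hab, hab])
  have hsmul : ∀ (c : F) v, a (c • v) = c • a v ∧ b (c • v) = c • b v := fun c v =>
    huniq ((D 0).smul_mem c (ha v)) ((D 1).smul_mem c (hb v)) (by rw [← smul_add, hab])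
  have hpol : ∀ u v, QuadraticMap.polar Q u v = f u v := by
    intro u v
    conv_rhs => rw [← hab u, ← hab v]
    simp only [QuadraticMap.polar, hQdef, hadd, h.sesq.add_left, h.sesq.add_right,
      hts 0 _ (ha u) _ (ha v), hts 1 _ (hb u) _ (hb v), hsym (b u) (a v)]
    ring
  have hb' : IsBilinearForm f :=
    ⟨h.sesq.add_left, h.sesq.smul_left, h.sesq.add_right, h.sesq.smul_right⟩
  have hpe : QuadraticMap.polar Q = f := funext fun u => funext (hpol u)
  refine ⟨Q, ⟨fun c v => ?_, hpe ▸ hb', hpe ▸ h.nondeg⟩, hpol, fun g hg => ⟨1, fun v => ?_⟩⟩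
  · simp only [hQdef, hsmul, h.sesq.smul_left, h.sesq.smul_right, RingEquiv.refl_apply]; ring
  obtain ⟨τ, hτ⟩ := hle hg
  have hga : (g : Matrix ι ι F) *ᵥ a v ∈ D (τ 0) := by
    rw [← hτ 0]; exact ⟨a v, ha v, by rw [Matrix.toLin'_apply]⟩
  have hgb : (g : Matrix ι ι F) *ᵥ b v ∈ D (τ 1) := by
    rw [← hτ 1]; exact ⟨b v, hb v, by rw [Matrix.toLin'_apply]⟩
  have hsum : (g : Matrix ι ι F) *ᵥ a v + (g : Matrix ι ι F) *ᵥ b v = (g : Matrix ι ι F) *ᵥ v := by
    rw [← Matrix.mulVec_add, hab]
  rw [Units.val_one, one_mul]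
  rcases (by
    have hne' : τ 0 ≠ τ 1 := fun h0 => by simpa using τ.injective h0
    revert hne'
    generalize τ 0 = x
    generalize τ 1 = y
    revert x y
    decide : (τ 0 = 0 ∧ τ 1 = 1) ∨ (τ 0 = 1 ∧ τ 1 = 0)) with ⟨e0, e1⟩ | ⟨e0, e1⟩
  · rw [e0] at hga; rw [e1] at hgb
    obtain ⟨q0, q1⟩ := huniq hga hgb hsum
    simp only [hQdef, q0, q1]
    exact hH _ (mem_matrixSet hg) _ _
  · rw [e0] at hga; rw [e1] at hgb
    obtain ⟨q0, q1⟩ := huniq hgb hga ((add_comm _ _).trans hsum)
    simp only [hQdef, q0, q1]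
    rw [hsym]
    exact hH _ (mem_matrixSet hg) _ _

end Cfsg.Agent.Aschbacher
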