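/-
The field case for a group of isometries: adjoint-closed subfields of prime degree.
-/
import Cfsg.Agent.Aschbacher.FormedGeometry
import Cfsg.Agent.Aschbacher.FieldSub

set_option autoImplicit false
set_option linter.unusedSectionVars false
set_option linter.style.haveILetI false

namespace Cfsg.Agent.Aschbacher

open scoped MatrixGroups Matrix
open Cfsg.Geo

variable {ι : Type} [Fintype ι] [DecidableEq ι] {F : Type*} [Field F]

/-- An involutory automorphism of a finite field is the identity or a half power of Frobenius. -/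
theorem involution_eq_pow {L : Type*} [Field L] [Fintype L] {p N : ℕ} [Fact p.Prime] [CharP L p]
    (hN : Fintype.card L = p ^ N) (φ : L ≃+* L) (hφ : ∀ x, φ (φ x) = x) :
    φ = RingEquiv.refl L ∨ ∃ j, 2 * j = N ∧ ∀ x, φ x = x ^ p ^ j := by
  letI : Algebra (ZMod p) L := ZMod.algebra L p
  let ψ : L ≃ₐ[ZMod p] L := AlgEquiv.ofRingEquiv (f := φ) fun c => by
    obtain ⟨m, rfl⟩ := ZMod.natCast_zmod_surjective c
    simp
  haveI : Finite L := inferInstance
  haveI : Module.Finite (ZMod p) L := Module.Finite.of_finite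
  have hd : Module.finrank (ZMod p) L = N := by
    have h := Module.card_eq_pow_finrank (K := ZMod p) (V := L)
    rw [hN, ZMod.card] at h
    exact (Nat.pow_right_injective (Fact.out : p.Prime).two_le h).symm
  obtain ⟨⟨j, hj⟩, hjψ⟩ := (FiniteField.bijective_frobeniusAlgEquivOfAlgebraic_pow (ZMod p) L).2 ψ
  set Fr := FiniteField.frobeniusAlgEquivOfAlgebraic (ZMod p) L
  have happ : ∀ x, φ x = x ^ p ^ j := by
    intro x
    have h1 : ψ x = φ x := rfl
    rw [← h1, ← hjψ]
    show (Fr ^ j) x = _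
    rw [AlgEquiv.coe_pow, FiniteField.coe_frobeniusAlgEquivOfAlgebraic_iterate, ZMod.card]
  have hsq : Fr ^ (2 * j) = 1 := by
    rw [pow_mul', show Fr ^ j = ψ from hjψ]
    exact AlgEquiv.ext fun x => hφ x
  have hdvd : N ∣ 2 * j := by
    rw [← hd, ← FiniteField.orderOf_frobeniusAlgEquivOfAlgebraic (ZMod p) L]
    exact orderOf_dvd_of_pow_eq_one hsq
  rcases Nat.eq_zero_or_pos j with h0 | h0
  · left
    exact RingEquiv.ext fun x => by rw [happ, h0, pow_zero, pow_one]; rfl
  · right
    refine ⟨j, ?_, happ⟩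
    obtain ⟨c, hc⟩ := hdvd
    rw [hd] at hj
    have : c = 1 := by
      rcases c with _ | _ | c
      · omega
      · rfl
      · exfalso
        have : N * 2 ≤ N * (c + 1 + 1) := Nat.mul_le_mul_left _ (by omega)
        omega
    rw [hc, this, mul_one]

variable {σ : F ≃+* F} {ε : F} {f : (ι → F) → (ι → F) → F}

/-- The adjoint on a commutative adjoint-closed field subalgebra, as an automorphism. -/
noncomputable def adjEquiv (h : FormSpace σ ε f) {L : Subalgebra F (Matrix ι ι F)} (hA : AdjClosed σ f L)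
    (hc : ∀ x ∈ L, ∀ y ∈ L, x * y = y * x) : L ≃+* L where
  toFun x := ⟨adj σ f (x : Matrix ι ι F), hA _ x.2⟩
  invFun x := ⟨adj σ f (x : Matrix ι ι F), hA _ x.2⟩
  left_inv x := Subtype.ext (h.adj_adj _)
  right_inv x := Subtype.ext (h.adj_adj _)
  map_mul' x y := Subtype.ext (by
    show adj σ f ((x : Matrix ι ι F) * (y : Matrix ι ι F))
      = adj σ f (x : Matrix ι ι F) * adj σ f (y : Matrix ι ι F)
    rw [hc _ x.2 _ y.2, h.adj_mul])
  map_add' x y := Subtype.ext (h.adj_add _ _)

/-- Either the adjoint fixes an adjoint-closed subfield of prime degree pointwise on the scalars'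
complement, or the degree has the parity forced by σ. -/
theorem FormSpace.field_parity [Fintype F] [Nonempty ι] (h : FormSpace σ ε f) {r : ℕ}
    {L : Subalgebra F (Matrix ι ι F)} (hL : IsFieldSubalgebra r L) (hr : r.Prime)
    (hA : AdjClosed σ f L) :
    (σ ≠ RingEquiv.refl F → Odd r) ∧
    (σ = RingEquiv.refl F → (∀ X ∈ L, adj σ f X = X) ∨ r = 2) := by
  classical
  letI := (isField_of_isFieldSubalgebra hL).toField
  haveI : Finite L := Module.finite_of_finite F
  haveI : Fintype L := Fintype.ofFinite L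
  obtain ⟨p, hp⟩ := CharP.exists F
  haveI : Fact p.Prime := ⟨(CharP.char_is_prime_or_zero F p).resolve_right
    (CharP.char_ne_zero_of_finite F p)⟩
  haveI : CharP L p := charP_of_injective_algebraMap (algebraMap F L).injective p
  obtain ⟨e, he0, he⟩ := FiniteField.card F p
  have hcard : Fintype.card L = p ^ ((e : ℕ) * r) := by
    rw [Module.card_eq_pow_finrank (K := F) (V := L), hL.finrank_eq, he, ← pow_mul]
  set φ := adjEquiv h hA hL.comm with hφdef
  have hφF : ∀ c : F, φ (algebraMap F L c) = algebraMap F L (σ c) := fun c => Subtype.ext (by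
    show adj σ f ((algebraMap F L c : L) : Matrix ι ι F) = _
    rw [Subalgebra.coe_algebraMap, Algebra.algebraMap_eq_smul_one, h.adj_smul, h.adj_one,
      Subalgebra.coe_algebraMap, Algebra.algebraMap_eq_smul_one])
  have hinv : ∀ x, φ (φ x) = x := fun x => Subtype.ext (h.adj_adj _)
  have hinj := (algebraMap F L).injective
  rcases involution_eq_pow hcard φ hinv with hid | ⟨j, hj, hjx⟩
  · refine ⟨fun hσ => absurd (RingEquiv.ext fun c => hinj ?_) hσ, fun _ => Or.inl fun X hX => ?_⟩
    · rw [← hφF, hid]; rfl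
    · have := RingEquiv.congr_fun hid ⟨X, hX⟩
      exact congrArg Subtype.val this
  have hσj : ∀ c, σ c = c ^ p ^ j := fun c => hinj (by rw [← hφF, hjx, map_pow])
  constructor
  · intro hσ
    by_contra hodd
    have hr2 : r = 2 := hr.eq_two_or_odd'.resolve_right hodd
    refine hσ (RingEquiv.ext fun c => ?_)
    have hje : j = (e : ℕ) := by rw [hr2] at hj; omega
    rw [hσj, hje, ← he, FiniteField.pow_card, RingEquiv.refl_apply]
  · intro hσ
    right
    by_contra hne
    have hodd := hr.odd_of_ne_two hne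
    letI : Algebra (ZMod p) F := ZMod.algebra F p
    have hd : Module.finrank (ZMod p) F = (e : ℕ) := by
      have h1 := Module.card_eq_pow_finrank (K := ZMod p) (V := F)
      rw [he, ZMod.card] at h1
      exact (Nat.pow_right_injective (Fact.out : p.Prime).two_le h1).symm
    have hdvd : (e : ℕ) ∣ j := by
      rw [← hd, ← FiniteField.orderOf_frobeniusAlgEquivOfAlgebraic (ZMod p) F]
      refine orderOf_dvd_of_pow_eq_one (AlgEquiv.ext fun c => ?_)
      rw [AlgEquiv.coe_pow, FiniteField.coe_frobeniusAlgEquivOfAlgebraic_iterate, ZMod.card]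
      show c ^ p ^ j = c
      rw [← hσj, hσ, RingEquiv.refl_apply]
    obtain ⟨s, rfl⟩ := hdvd
    have h2 : (e : ℕ) * (2 * s) = (e : ℕ) * r := by rw [← hj]; ring
    have := Nat.eq_of_mul_eq_mul_left e.pos h2
    rw [Nat.odd_iff] at hodd
    omega

/-- An adjoint-closed subfield of prime degree from an adjoint-closed field. -/
theorem FormSpace.exists_prime_field [Fintype F] [Nonempty ι] (h : FormSpace σ ε f) {d : ℕ}
    {K : Subalgebra F (Matrix ι ι F)} (hd : 2 ≤ d) (hK : IsFieldSubalgebra d K)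
    (hA : AdjClosed σ f K) :
    ∃ (r : ℕ) (L : Subalgebra F (Matrix ι ι F)), r.Prime ∧ r ∣ Fintype.card ι ∧ L ≤ K ∧
      IsFieldSubalgebra r L ∧ AdjClosed σ f L ∧ subalgebraNormalizer K ≤ subalgebraNormalizer L := by
  obtain ⟨r, hr, hrd⟩ := Nat.exists_prime_and_dvd (show d ≠ 1 by omega)
  obtain ⟨L, hL, hLK, hLeq⟩ := exists_prime_subfield hK hrd (by omega)
  refine ⟨r, L, hr, isFieldSubalgebra_dvd hL, hLK, hL, fun X hX => ?_, normalizer_le_of_fieldPart hLeq⟩
  have hX' : X ∈ fieldPart (Fintype.card F) r K := hLeq ▸ hX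
  have : adj σ f X ∈ fieldPart (Fintype.card F) r K := ⟨hA _ hX'.1, by rw [← h.adj_pow, hX'.2]⟩
  rw [← hLeq] at this
  exact this

lemma isAdjointClosedFor (h : FormSpace σ ε f) {L : Subalgebra F (Matrix ι ι F)}
    (hA : AdjClosed σ f L) : IsAdjointClosedFor f L :=
  fun k hk => ⟨adj σ f k, hA k hk, h.adj_spec k⟩

lemma isSelfAdjointFor_iff (h : FormSpace σ ε f) {L : Subalgebra F (Matrix ι ι F)} :
    IsSelfAdjointFor f L ↔ ∀ X ∈ L, adj σ f X = X := by
  refine ⟨fun hs X hX => h.adj_unique (hs X hX), fun hs X hX u v => ?_⟩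
  rw [h.adj_spec, hs X hX]

lemma cj_inv_form {H : Subgroup (GL ι F)} (hH : FixesForm (matrixSet H) f) {g : GL ι F}
    (hg : g ∈ H) (X : Matrix ι ι F) (v : ι → F) :
    f (X *ᵥ ((g : Matrix ι ι F) *ᵥ v)) ((g : Matrix ι ι F) *ᵥ v) = f (cj g⁻¹ X *ᵥ v) v := by
  conv_rhs => rw [← hH _ (mem_matrixSet hg)]
  rw [cj_apply, inv_inv, Matrix.mulVec_mulVec, Matrix.mulVec_mulVec, ← mul_assoc, ← mul_assoc,
    ← Units.val_mul, mul_inv_cancel, Units.val_one, one_mul]

/-- In the alternating case, a self-adjoint field normalised by an irreducible group of isometries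
gives alternating forms. -/
theorem FormSpace.field_alternating [Fintype F] [Nonempty ι]
    (h : FormSpace (RingEquiv.refl F) (-1) f) (halt : ∀ v, f v v = 0)
    {H : Subgroup (GL ι F)} (hH : FixesForm (matrixSet H) f)
    (hirr : ActsIrreducibly (matrixSet H)) {r : ℕ} {L : Subalgebra F (Matrix ι ι F)}
    (hL : IsFieldSubalgebra r L) (hHL : H ≤ subalgebraNormalizer L)
    (hs : ∀ X ∈ L, adj (RingEquiv.refl F) f X = X) :
    ∀ k ∈ L, ∀ v, f (k *ᵥ v) v = 0 := by
  classical
  have hsymm : ∀ k ∈ L, ∀ u v, f (k *ᵥ u) v = - f (k *ᵥ v) u := by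
    intro k hk u v
    rw [h.adj_spec, hs k hk, h.herm, RingEquiv.refl_apply, neg_one_mul]
  by_cases h2 : (2 : F) = 0
  swap
  · intro k hk v
    have h1 := hsymm k hk v v
    have h3 : (2 : F) * f (k *ᵥ v) v = 0 := by linear_combination h1
    exact (mul_eq_zero.mp h3).resolve_left h2
  haveI : CharP F 2 := CharTwo.of_one_ne_zero_of_two_eq_zero one_ne_zero h2
  let W : Submodule F (ι → F) :=
    { carrier := {v | ∀ k ∈ L, f (k *ᵥ v) v = 0}
      add_mem' := fun {a b} ha hb k hk => by
        rw [Matrix.mulVec_add, h.sesq.add_left, h.sesq.add_right, h.sesq.add_right, ha k hk, hb k hk,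
          hsymm k hk a b, zero_add, add_zero, neg_add_cancel]
      zero_mem' := fun k _ => by rw [Matrix.mulVec_zero, h.zero_left]
      smul_mem' := fun c v hv k hk => by
        rw [Matrix.mulVec_smul, h.sesq.smul_left, h.sesq.smul_right, hv k hk, mul_zero, mul_zero] }
  rcases eq_bot_or_eq_top hirr W (fun g hg v hv k hk => by
    rw [cj_inv_form hH hg]
    exact hv _ (cj_mem_of_mem_normalizer (hHL (H.inv_mem hg)) hk)) with hW | hW
  swap
  · intro k hk v
    exact (hW ▸ Submodule.mem_top : v ∈ W) k hk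
  exfalso
  -- the quadratic functionals are squares of linear ones
  let bL := Module.finBasisOfFinrankEq F L hL.finrank_eq
  have hone : (⟨1, L.one_mem⟩ : L) ≠ 0 := fun h0 => one_ne_zero (α := Matrix ι ι F)
    (congrArg Subtype.val h0)
  obtain ⟨i₀, hi₀⟩ : ∃ i, bL.repr ⟨1, L.one_mem⟩ i ≠ 0 := by
    by_contra hc
    push Not at hc
    exact hone (bL.repr.map_eq_zero_iff.mp (Finsupp.ext hc))
  have hroot : ∀ x : F, ∃ y, y ^ 2 = x := fun x => by
    obtain ⟨y, hy⟩ := (surjective_frobenius F 2) x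
    exact ⟨y, by rwa [frobenius_def] at hy⟩
  choose sq hsq using hroot
  have hsqinj : ∀ a b : F, a ^ 2 = b ^ 2 → a = b := fun a b hab => frobenius_inj F 2 (by
    rwa [frobenius_def, frobenius_def])
  let S : (ι → F) →ₗ[F] ({i : Fin r // i ≠ i₀} → F) :=
    { toFun := fun v i => sq (f ((bL i.1 : Matrix ι ι F) *ᵥ v) v)
      map_add' := fun u v => funext fun i => hsqinj _ _ (by
        rw [Pi.add_apply, add_pow_char, hsq, hsq, hsq, Matrix.mulVec_add, h.sesq.add_left,
          h.sesq.add_right, h.sesq.add_right, hsymm _ (bL i.1).2 u v]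
        ring)
      map_smul' := fun c v => funext fun i => hsqinj _ _ (by
        rw [Pi.smul_apply, smul_eq_mul, mul_pow, hsq, hsq, Matrix.mulVec_smul, h.sesq.smul_left,
          h.sesq.smul_right, RingEquiv.refl_apply, RingHom.id_apply]
        ring) }
  have hker : LinearMap.ker S = ⊥ := by
    rw [Submodule.eq_bot_iff]
    intro v hv
    have hv' : ∀ i, i ≠ i₀ → f ((bL i : Matrix ι ι F) *ᵥ v) v = 0 := fun i hi => by
      have h1 : sq (f ((bL i : Matrix ι ι F) *ᵥ v) v) = 0 := congrFun hv ⟨i, hi⟩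
      rw [← hsq (f ((bL i : Matrix ι ι F) *ᵥ v) v), h1, zero_pow two_ne_zero]
    let R : Matrix ι ι F →ₗ[F] F :=
      { toFun := fun X => f (X *ᵥ v) v
        map_add' := fun X Y => by rw [Matrix.add_mulVec, h.sesq.add_left]
        map_smul' := fun c X => by
          rw [Matrix.smul_mulVec, h.sesq.smul_left, RingHom.id_apply, smul_eq_mul] }
    have hsum : ∀ k : L, R (k : Matrix ι ι F) = ∑ i, bL.repr k i * R (bL i : Matrix ι ι F) := by
      intro k
      conv_lhs => rw [← bL.sum_repr k]
      rw [AddSubmonoidClass.coe_finsetSum, map_sum]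
      exact Finset.sum_congr rfl fun i _ => by rw [SetLike.val_smul, map_smul, smul_eq_mul]
    have h1 : R ((⟨1, L.one_mem⟩ : L) : Matrix ι ι F) = 0 := by
      show f ((1 : Matrix ι ι F) *ᵥ v) v = 0
      rw [Matrix.one_mulVec, halt]
    rw [hsum, Finset.sum_eq_single i₀ (fun i _ hi => by
      show _ * f ((bL i : Matrix ι ι F) *ᵥ v) v = 0
      rw [hv' i hi, mul_zero]) (by simp)] at h1
    have h0 : f ((bL i₀ : Matrix ι ι F) *ᵥ v) v = 0 := (mul_eq_zero.mp h1).resolve_left hi₀
    have hvW : v ∈ W := fun k hk => by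
      show R k = 0
      rw [show k = ((⟨k, hk⟩ : L) : Matrix ι ι F) from rfl, hsum]
      refine Finset.sum_eq_zero fun i _ => ?_
      show _ * f ((bL i : Matrix ι ι F) *ᵥ v) v = 0
      by_cases hi : i = i₀
      · rw [hi, h0, mul_zero]
      · rw [hv' i hi, mul_zero]
    rwa [hW, Submodule.mem_bot] at hvW
  have h1 := LinearMap.finrank_range_of_inj (LinearMap.ker_eq_bot.mp hker)
  have h2 := Submodule.finrank_le (LinearMap.range S)
  rw [h1, Module.finrank_pi, Module.finrank_pi, Fintype.card_subtype_compl, Fintype.card_fin,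
    Fintype.card_subtype_eq] at h2
  have := Nat.le_of_dvd Fintype.card_pos (isFieldSubalgebra_dvd hL)
  have hr0 : 0 < r := i₀.pos
  omega

/-- In characteristic two a quadratic field which is not self-adjoint gives a quadratic form. -/
theorem FormSpace.field_quadratic [Nonempty ι]
    (h : FormSpace (RingEquiv.refl F) (-1) f) (h2 : (2 : F) = 0)
    {H : Subgroup (GL ι F)} (hH : FixesForm (matrixSet H) f)
    {L : Subalgebra F (Matrix ι ι F)} (hL : IsFieldSubalgebra 2 L) (hA : AdjClosed (RingEquiv.refl F) f L)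
    (hHL : H ≤ subalgebraNormalizer L) {k₀ : Matrix ι ι F} (hk₀ : k₀ ∈ L)
    (hne : adj (RingEquiv.refl F) f k₀ ≠ k₀) :
    ∃ Q : (ι → F) → F, IsNondegenerateQuadraticForm Q ∧ (∀ u v, QuadraticMap.polar Q u v = f u v) ∧
      H ≤ quadSimilarityGroup Q := by
  classical
  haveI : CharP F 2 := CharTwo.of_one_ne_zero_of_two_eq_zero one_ne_zero h2
  set a := adj (RingEquiv.refl F) f with hadef
  have hadd : ∀ X : Matrix ι ι F, X + X = 0 := fun X => by
    rw [← two_smul F, h2, zero_smul]
  have hscal : ∀ s ∈ L, a s = s → ∃ c : F, s = c • (1 : Matrix ι ι F) := by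
    intro s hs has
    have hli : LinearIndependent F ![(⟨1, L.one_mem⟩ : L), ⟨k₀, hk₀⟩] := by
      rw [LinearIndependent.pair_iff]
      intro x y hxy
      have hxy' : x • (1 : Matrix ι ι F) + y • k₀ = 0 := congrArg Subtype.val hxy
      by_cases hy : y = 0
      · rw [hy, zero_smul, add_zero] at hxy'
        exact ⟨(smul_eq_zero.mp hxy').resolve_right one_ne_zero, hy⟩
      · exfalso
        apply hne
        have hk : k₀ = (-(y⁻¹ * x)) • (1 : Matrix ι ι F) := by
          rw [neg_smul, ← smul_smul, eq_neg_iff_add_eq_zero, add_comm]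
          have h3 := congrArg (fun X => y⁻¹ • X) hxy'
          simpa [smul_add, smul_smul, inv_mul_cancel₀ hy] using h3
        rw [hk, hadef, h.adj_smul, h.adj_one]
        rfl
    have hsp := hli.span_eq_top_of_card_eq_finrank (by simp [hL.finrank_eq])
    obtain ⟨c, hc⟩ := (Submodule.mem_span_range_iff_exists_fun F).mp
      (hsp ▸ Submodule.mem_top : (⟨s, hs⟩ : L) ∈ _)
    have hc' : c 0 • (1 : Matrix ι ι F) + c 1 • k₀ = s := by
      have := congrArg Subtype.val hc
      simpa [Fin.sum_univ_two] using this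
    by_cases h1 : c 1 = 0
    · exact ⟨c 0, by rw [← hc', h1, zero_smul, add_zero]⟩
    · exfalso
      rw [← hc', hadef, h.adj_add, h.adj_smul, h.adj_smul, h.adj_one, RingEquiv.refl_apply,
        RingEquiv.refl_apply, add_right_inj] at has
      exact hne (smul_right_injective _ h1 has)
  obtain ⟨c, hc⟩ := hscal (k₀ + a k₀) (L.add_mem hk₀ (hA _ hk₀))
    (by rw [hadef, h.adj_add, h.adj_adj, add_comm])
  have hc0 : c ≠ 0 := fun h0 => hne (by
    rw [h0, zero_smul] at hc
    have h1 : k₀ + a k₀ = k₀ + k₀ := by rw [hc, hadd]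
    exact add_left_cancel h1)
  set k := c⁻¹ • k₀ with hkdef
  have hkL : k ∈ L := L.smul_mem hk₀ _
  have hk1 : k + a k = 1 := by
    rw [hkdef, hadef, h.adj_smul, RingEquiv.refl_apply, ← smul_add, hc, smul_smul,
      inv_mul_cancel₀ hc0, one_smul]
  clear_value k
  have hak : a k = k + 1 := by
    have h3 : k + a k = k + (k + 1) := by rw [hk1, ← add_assoc, hadd, zero_add]
    exact add_left_cancel h3
  obtain ⟨N, hN⟩ := hscal (k * a k) (L.mul_mem hkL (hA _ hkL))
    (by rw [hadef, h.adj_mul, h.adj_adj])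
  have hroot : k * k + k = N • (1 : Matrix ι ι F) := by rw [← hN, hak, mul_add, mul_one]
  have hconj : ∀ g ∈ H, cj g k = k ∨ cj g k = a k := by
    intro g hg
    set x := cj g k
    have hxL : x ∈ L := cj_mem_of_mem_normalizer (hHL hg) hkL
    have hx : x * x + x = N • (1 : Matrix ι ι F) := by
      have := congrArg (cj g) hroot
      rwa [map_add, map_mul, map_smul, map_one] at this
    by_contra hc'
    push Not at hc'
    have h1 : x - k ≠ 0 := sub_ne_zero.mpr hc'.1
    obtain ⟨y, -, hy⟩ := hL.inv _ (L.sub_mem hxL hkL) h1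
    have hcm : x * k = k * x := hL.comm _ hxL _ hkL
    have hprod : (x - k) * (x + k + 1) = 0 := by
      have : (x - k) * (x + k + 1) = (x * x + x) - (k * k + k) + (x * k - k * x) := by noncomm_ring
      rw [this, hx, hroot, hcm, sub_self, sub_self, add_zero]
    have h3 : x + k + 1 = 0 := by
      have h4 : y * (x - k) = 1 := mul_eq_one_comm.mp hy
      calc x + k + 1 = y * ((x - k) * (x + k + 1)) := by rw [← mul_assoc, h4, one_mul]
        _ = 0 := by rw [hprod, mul_zero]
    apply hc'.2
    rw [hak]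
    have h5 : x + (k + 1) = (k + 1) + (k + 1) := by rw [hadd, ← add_assoc, h3]
    exact add_right_cancel h5
  let Q : (ι → F) → F := fun v => f (k *ᵥ v) v
  have hpol : ∀ u v, QuadraticMap.polar Q u v = f u v := by
    intro u v
    have h3 : f (k *ᵥ v) u = f (a k *ᵥ u) v := by
      rw [h.adj_spec, h.herm (a k *ᵥ u) v, RingEquiv.refl_apply, CharTwo.neg_eq, one_mul]
    calc QuadraticMap.polar Q u v = f (k *ᵥ u) v + f (k *ᵥ v) u := by
          simp only [QuadraticMap.polar, Q, Matrix.mulVec_add, h.sesq.add_left, h.sesq.add_right]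
          ring
      _ = f ((k + a k) *ᵥ u) v := by rw [h3, Matrix.add_mulVec, h.sesq.add_left]
      _ = f u v := by rw [hk1, Matrix.one_mulVec]
  have hb : IsBilinearForm f :=
    ⟨h.sesq.add_left, h.sesq.smul_left, h.sesq.add_right, h.sesq.smul_right⟩
  have hpe : QuadraticMap.polar Q = f := funext fun u => funext (hpol u)
  refine ⟨Q, ⟨fun x v => ?_, hpe ▸ hb, hpe ▸ h.nondeg⟩, hpol, fun g hg => ⟨1, fun v => ?_⟩⟩
  · simp only [Q, Matrix.mulVec_smul, h.sesq.smul_left, h.sesq.smul_right, RingEquiv.refl_apply]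
    ring
  · rw [Units.val_one, one_mul]
    show f (k *ᵥ ((g : Matrix ι ι F) *ᵥ v)) ((g : Matrix ι ι F) *ᵥ v) = _
    rw [cj_inv_form hH hg]
    rcases hconj g⁻¹ (H.inv_mem hg) with h3 | h3
    · rw [h3]
    · rw [h3, hadef, h.adj_spec, h.adj_adj, h.herm, RingEquiv.refl_apply, CharTwo.neg_eq, one_mul]

/-- A matrix commuting with a field subalgebra of full degree lies in it. -/
lemma mem_of_commute_full [Finite F] [Nonempty ι] {L : Subalgebra F (Matrix ι ι F)}
    (hL : IsFieldSubalgebra (Fintype.card ι) L) {X : Matrix ι ι F} (hX : ∀ k ∈ L, X * k = k * X) :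
    X ∈ L := by
  classical
  obtain ⟨i⟩ := (inferInstance : Nonempty ι)
  let v : ι → F := Pi.single i 1
  have hv : v ≠ 0 := fun h => one_ne_zero (α := F) (by simpa [v] using congrFun h i)
  let φ : L →ₗ[F] (ι → F) :=
    { toFun := fun k => (k : Matrix ι ι F) *ᵥ v
      map_add' := fun a b => by push_cast; rw [Matrix.add_mulVec]
      map_smul' := fun c a => by simp [Matrix.smul_mulVec] }
  have hinj : Function.Injective φ := by
    rw [← LinearMap.ker_eq_bot, Submodule.eq_bot_iff]
    intro k hk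
    by_contra hk0
    obtain ⟨y, -, hy⟩ := hL.inv _ k.2 (fun h => hk0 (Subtype.ext h))
    have h1 : (k : Matrix ι ι F) *ᵥ v = 0 := hk
    have h2 : (y * (k : Matrix ι ι F)) *ᵥ v = v := by rw [mul_eq_one_comm.mp hy, Matrix.one_mulVec]
    rw [← Matrix.mulVec_mulVec, h1, Matrix.mulVec_zero] at h2
    exact hv h2.symm
  have hsurj : Function.Surjective φ :=
    (LinearMap.injective_iff_surjective_of_finrank_eq_finrank (by
      rw [hL.finrank_eq, Module.finrank_pi])).mp hinj
  obtain ⟨k, hk⟩ := hsurj (X *ᵥ v)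
  suffices X = (k : Matrix ι ι F) from this ▸ k.2
  refine Matrix.toLin'.injective (LinearMap.ext fun w => ?_)
  obtain ⟨k', rfl⟩ := hsurj w
  show X *ᵥ ((k' : Matrix ι ι F) *ᵥ v) = (k : Matrix ι ι F) *ᵥ ((k' : Matrix ι ι F) *ᵥ v)
  rw [Matrix.mulVec_mulVec, hX _ k'.2, ← Matrix.mulVec_mulVec,
    show X *ᵥ v = (k : Matrix ι ι F) *ᵥ v from hk.symm, Matrix.mulVec_mulVec,
    hL.comm _ k'.2 _ k.2, ← Matrix.mulVec_mulVec]

/-- For bilinear forms the field case never has a self-adjoint field of full degree. -/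
theorem FormSpace.field_degree_ne [Fintype F] [Nonempty ι] (h : FormSpace σ ε f)
    {H N : Subgroup (GL ι F)} (hH : FixesForm (matrixSet H) f) (hN : N ≤ H ⊔ scalars ι F)
    {d r : ℕ} (hd : 2 ≤ d) (hK : IsFieldSubalgebra d (centre (env N)))
    {L : Subalgebra F (Matrix ι ι F)} (hLK : L ≤ centre (env N)) (hL : IsFieldSubalgebra r L)
    (hs : ∀ X ∈ L, adj σ f X = X) : Fintype.card ι ≠ r := by
  intro hn
  have hle : N ≤ scalars ι F := by
    intro x hx
    obtain ⟨a, ha, z, hz, rfl⟩ := Subgroup.mem_sup_of_normal_right.mp (hN hx)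
    obtain ⟨c, hc⟩ := (mem_scalars_iff z).mp hz
    have hxL : ((a * z : GL ι F) : Matrix ι ι F) ∈ L := by
      refine mem_of_commute_full (hn ▸ hL) fun k hk => ?_
      exact (mem_centre.mp (hLK hk)).2 _ (val_mem_env hx)
    have haL : (a : Matrix ι ι F) ∈ L := by
      rw [Units.val_mul, hc, Matrix.mul_smul, mul_one] at hxL
      have := L.smul_mem hxL ((c : F)⁻¹)
      rwa [smul_smul, inv_mul_cancel₀ c.ne_zero, one_smul] at this
    have hsq : (a : Matrix ι ι F) * (a : Matrix ι ι F) = 1 := by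
      have h1 := h.adj_val (g := a) (c := 1) fun u v => by
        rw [Units.val_one, one_mul]; exact hH _ (mem_matrixSet ha) u v
      rw [hs _ haL, Units.val_one, map_one, one_smul] at h1
      nth_rewrite 1 [h1]
      rw [← Units.val_mul, inv_mul_cancel, Units.val_one]
    have hfac : ((a : Matrix ι ι F) - 1) * ((a : Matrix ι ι F) + 1) = 0 := by
      rw [sub_mul, mul_add, hsq, mul_one, one_mul]; abel
    have ha1 : (a : Matrix ι ι F) = 1 ∨ (a : Matrix ι ι F) = (-1 : F) • (1 : Matrix ι ι F) := by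
      by_cases h1 : (a : Matrix ι ι F) - 1 = 0
      · exact Or.inl (sub_eq_zero.mp h1)
      · right
        obtain ⟨y, -, hy⟩ := hL.inv _ (L.sub_mem haL L.one_mem) h1
        have h2 : (a : Matrix ι ι F) + 1 = 0 := by
          calc (a : Matrix ι ι F) + 1
              = y * (((a : Matrix ι ι F) - 1) * ((a : Matrix ι ι F) + 1)) := by
                rw [← mul_assoc, mul_eq_one_comm.mp hy, one_mul]
            _ = 0 := by rw [hfac, mul_zero]
        rw [neg_one_smul]
        exact eq_neg_of_add_eq_zero_left h2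
    refine Subgroup.mul_mem _ ?_ hz
    rcases ha1 with h1 | h1
    · exact (mem_scalars_iff a).mpr ⟨1, by rw [h1, Units.val_one, one_smul]⟩
    · exact (mem_scalars_iff a).mpr ⟨-1, by rw [h1, Units.val_neg, Units.val_one]⟩
  have hbot : Subalgebra.toSubmodule (centre (env N)) ≤ F ∙ (1 : Matrix ι ι F) := by
    have henv : env N ≤ ⊥ := by
      rw [env_le_iff]
      intro x hx
      exact scalars_val_mem_bot (hle hx)
    intro X hX
    obtain ⟨c, hc⟩ := Algebra.mem_bot.mp (henv (mem_centre.mp hX).1)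
    rw [← hc, Algebra.algebraMap_eq_smul_one]
    exact Submodule.smul_mem _ _ (Submodule.mem_span_singleton_self _)
  have h1 := Submodule.finrank_mono hbot
  rw [finrank_span_singleton (one_ne_zero (α := Matrix ι ι F)), Subalgebra.finrank_toSubmodule,
    hK.finrank_eq] at h1
  omega
where
  scalars_val_mem_bot {z : GL ι F} (hz : z ∈ scalars ι F) :
      (z : Matrix ι ι F) ∈ (⊥ : Subalgebra F (Matrix ι ι F)) := by
    obtain ⟨c, hc⟩ := (mem_scalars_iff z).mp hz
    rw [hc]
    exact Subalgebra.smul_mem _ (Subalgebra.one_mem _) _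

end Cfsg.Agent.Aschbacher
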