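/-
The tensor case for a group of isometries: the form is the tensor product of forms on the factors.
-/
import Cfsg.Agent.Aschbacher.FormedCoord
import Cfsg.Agent.Aschbacher.FormedField

set_option autoImplicit false
set_option linter.unusedSectionVars false
set_option linter.style.haveILetI false
set_option maxHeartbeats 1000000

namespace Cfsg.Agent.Aschbacher

open scoped MatrixGroups Matrix Kronecker
open Cfsg.Geo

variable {ι : Type} [Fintype ι] [DecidableEq ι] {F : Type*} [Field F]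
variable {σ : F ≃+* F} {ε : F} {f : (ι → F) → (ι → F) → F}

/-- The data of a tensor decomposition compatible with the form. -/
structure TensorFormData (σ : F ≃+* F) (ε : F) (f : (ι → F) → (ι → F) → F) (H : Subgroup (GL ι F))
    (a b : ℕ) (e : ι ≃ Fin a × Fin b) (P : GL ι F) (G₁ : Matrix (Fin a) (Fin a) F)
    (G₂ : Matrix (Fin b) (Fin b) F) (c₁ c₂ : F) : Prop where
  two_le₁ : 2 ≤ a
  two_le₂ : 2 ≤ b
  card : a * b = Fintype.card ι
  gram : ∃ c : F, c ≠ 0 ∧ gramMatrix (coordForm e P f) = c • (G₁ ⊗ₖ G₂)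
  unit₁ : IsUnit G₁
  unit₂ : IsUnit G₂
  herm₁ : G₁ᵀ = c₁ • G₁.map σ
  herm₂ : G₂ᵀ = c₂ • G₂.map σ
  sign : c₁ * c₂ = ε ∨ σ ≠ RingEquiv.refl F
  le : H ≤ tensorProductSubgroup a b e P

lemma herm_norm {n : ℕ} (hn : 0 < n) (hinv : ∀ a, σ (σ a) = a) {G : Matrix (Fin n) (Fin n) F}
    (hu : IsUnit G) {c : F} (hG : Gᵀ = c • G.map σ) : c * σ c = 1 := by
  haveI : Nonempty (Fin n) := ⟨⟨0, hn⟩⟩
  have h0 : G ≠ 0 := fun h => by rw [h] at hu; exact not_isUnit_zero hu
  have h1 : G = (c * σ c) • G := by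
    have h2 := congrArg (fun M : Matrix (Fin n) (Fin n) F => (M.map σ)ᵀ) hG
    ext i j
    have e1 : G j i = c * σ (G i j) := congrFun (congrFun hG i) j
    have e2 : G i j = c * σ (G j i) := congrFun (congrFun hG j) i
    rw [Matrix.smul_apply, smul_eq_mul]
    conv_lhs => rw [e2, e1, map_mul, hinv, ← mul_assoc]
  have h2 : (1 - c * σ c) • G = 0 := by rw [sub_smul, one_smul, ← h1, sub_self]
  exact (sub_eq_zero.mp ((smul_eq_zero.mp h2).resolve_right h0)).symm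

/-- A subalgebra isomorphic to a matrix algebra and closed under adjoints splits the form. -/
theorem FormSpace.exists_tensorFormData [Nonempty ι] (h : FormSpace σ ε f)
    {H : Subgroup (GL ι F)} {a : ℕ} (ha : 2 ≤ a) (hlt : a < Fintype.card ι)
    (A : Subalgebra F (Matrix ι ι F)) (hA : AdjClosed σ f A) (hHA : H ≤ subalgebraNormalizer A)
    (φ : Matrix (Fin a) (Fin a) F ≃ₐ[F] A) :
    ∃ (b : ℕ) (e : ι ≃ Fin a × Fin b) (P : GL ι F) (G₁ : Matrix (Fin a) (Fin a) F)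
      (G₂ : Matrix (Fin b) (Fin b) F) (c₁ c₂ : F),
      TensorFormData σ ε f H a b e P G₁ G₂ c₁ c₂ ∧ c₁ * c₂ = ε := by
  obtain ⟨b, e, P, hb, hAeq, hle⟩ := exists_tensorProduct (by omega) A φ
  have hab : a * b = Fintype.card ι := by
    have := Fintype.card_congr e; simpa using this.symm
  have hb2 : 2 ≤ b := by
    by_contra hh
    have : b = 1 := by omega
    subst this; omega
  haveI : Nonempty (Fin a) := ⟨⟨0, by omega⟩⟩
  haveI : Nonempty (Fin b) := ⟨⟨0, hb⟩⟩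
  set f' := coordForm e P f with hf'
  have h' : FormSpace σ ε f' := h.coord e P
  set G := gramMatrix f' with hGdef
  have hGu : IsUnit G := isUnit_gram h'.sesq h'.nondeg
  have hGd : IsUnit G.det := (Matrix.isUnit_iff_isUnit_det _).mp hGu
  -- closure in coordinates
  have hclo : ∀ X : Matrix (Fin a) (Fin a) F, ∃ Y : Matrix (Fin a) (Fin a) F,
      G⁻¹ * (X ⊗ₖ (1 : Matrix (Fin b) (Fin b) F)) * G = Y ⊗ₖ (1 : Matrix (Fin b) (Fin b) F) := by
    intro X
    have hmem : leftFactor e P Xᵀ ∈ A := hAeq ▸ ⟨Xᵀ, rfl⟩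
    obtain ⟨Y, hY⟩ := (hAeq ▸ hA _ hmem : adj σ f (leftFactor e P Xᵀ) ∈ (leftFactor e P).range)
    rw [leftFactor_eq_coord, h.adj_coord] at hY
    have hY' : adj σ f' (Xᵀ ⊗ₖ (1 : Matrix (Fin b) (Fin b) F))
        = Y ⊗ₖ (1 : Matrix (Fin b) (Fin b) F) :=
      (coordAlg e P).injective (hY.symm.trans (leftFactor_eq_coord e P Y))
    refine ⟨Y.map σ, ?_⟩
    have h1 := h'.adj_gram (Xᵀ ⊗ₖ (1 : Matrix (Fin b) (Fin b) F))
    rw [kronecker_transpose, Matrix.transpose_transpose, Matrix.transpose_one, hY', kronecker_map,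
      Matrix.map_one σ (map_zero σ) (map_one σ)] at h1
    rw [mul_assoc, h1, ← mul_assoc, Matrix.nonsing_inv_mul _ hGd, one_mul]
  choose Z hZ using hclo
  have hinj : ∀ X Y : Matrix (Fin a) (Fin a) F,
      X ⊗ₖ (1 : Matrix (Fin b) (Fin b) F) = Y ⊗ₖ (1 : Matrix (Fin b) (Fin b) F) → X = Y := by
    intro X Y hXY
    ext i j
    have := congrFun (congrFun hXY (i, ⟨0, hb⟩)) (j, ⟨0, hb⟩)
    simpa using this
  let ψ : Matrix (Fin a) (Fin a) F →ₐ[F] Matrix (Fin a) (Fin a) F :=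
    { toFun := Z
      map_one' := hinj _ _ (by
        rw [← hZ, Matrix.one_kronecker_one, mul_one, Matrix.nonsing_inv_mul _ hGd])
      map_mul' := fun X Y => hinj _ _ (by
        rw [← hZ]
        conv_rhs => rw [← mul_one (1 : Matrix (Fin b) (Fin b) F), Matrix.mul_kronecker_mul, ← hZ, ← hZ]
        conv_lhs => rw [← mul_one (1 : Matrix (Fin b) (Fin b) F), Matrix.mul_kronecker_mul]
        simp only [mul_assoc]
        rw [← mul_assoc G G⁻¹, Matrix.mul_nonsing_inv _ hGd, one_mul])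
      map_zero' := hinj _ _ (by rw [← hZ]; simp)
      map_add' := fun X Y => hinj _ _ (by
        rw [← hZ, Matrix.add_kronecker, Matrix.add_kronecker, mul_add, add_mul, hZ, hZ])
      commutes' := fun c => hinj _ _ (by
        rw [← hZ, Algebra.algebraMap_eq_smul_one, Matrix.smul_kronecker, Matrix.one_kronecker_one,
          mul_smul_comm, smul_mul_assoc, mul_one, Matrix.nonsing_inv_mul _ hGd]) }
  obtain ⟨u, hu⟩ := skolem_noether ψ
  have hcomm : ∀ X : Matrix (Fin a) (Fin a) F,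
      G * ((u : Matrix (Fin a) (Fin a) F) ⊗ₖ (1 : Matrix (Fin b) (Fin b) F))
          * (X ⊗ₖ (1 : Matrix (Fin b) (Fin b) F))
        = (X ⊗ₖ (1 : Matrix (Fin b) (Fin b) F))
          * (G * ((u : Matrix (Fin a) (Fin a) F) ⊗ₖ (1 : Matrix (Fin b) (Fin b) F))) := by
    intro X
    have h1 : Z X * (u : Matrix (Fin a) (Fin a) F) = (u : Matrix (Fin a) (Fin a) F) * X := by
      rw [show Z X = cj u X from hu X, ← mul_eq_cj_mul]
    calc G * ((u : Matrix (Fin a) (Fin a) F) ⊗ₖ (1 : Matrix (Fin b) (Fin b) F))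
          * (X ⊗ₖ (1 : Matrix (Fin b) (Fin b) F))
        = G * ((Z X ⊗ₖ (1 : Matrix (Fin b) (Fin b) F))
          * ((u : Matrix (Fin a) (Fin a) F) ⊗ₖ (1 : Matrix (Fin b) (Fin b) F))) := by
          rw [mul_assoc, ← Matrix.mul_kronecker_mul, ← Matrix.mul_kronecker_mul, h1]
      _ = _ := by
          rw [← hZ X, ← mul_assoc, ← mul_assoc, ← mul_assoc, Matrix.mul_nonsing_inv _ hGd, one_mul,
            mul_assoc]
  set G₂ : Matrix (Fin b) (Fin b) F := Matrix.of fun k l =>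
    (G * ((u : Matrix (Fin a) (Fin a) F) ⊗ₖ (1 : Matrix (Fin b) (Fin b) F)))
      (⟨0, by omega⟩, k) (⟨0, by omega⟩, l) with hG₂
  set G₁ : Matrix (Fin a) (Fin a) F := ((u⁻¹ : GL (Fin a) F) : Matrix (Fin a) (Fin a) F) with hG₁
  have hM := eq_one_kronecker_of_commute (show 0 < a by omega) _
    fun x y => hcomm (Matrix.single x y 1)
  rw [← hG₂] at hM
  have hG : G = G₁ ⊗ₖ G₂ := by
    calc G = G * ((u : Matrix (Fin a) (Fin a) F) ⊗ₖ (1 : Matrix (Fin b) (Fin b) F))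
          * (G₁ ⊗ₖ (1 : Matrix (Fin b) (Fin b) F)) := by
          rw [mul_assoc, ← Matrix.mul_kronecker_mul, one_mul, hG₁, ← Units.val_mul, mul_inv_cancel,
            Units.val_one, Matrix.one_kronecker_one, mul_one]
      _ = G₁ ⊗ₖ G₂ := by rw [hM, ← Matrix.mul_kronecker_mul, one_mul, mul_one]
  have hu₁ : IsUnit G₁ := (u⁻¹).isUnit
  have hu₂ : IsUnit G₂ := by
    rw [Matrix.isUnit_iff_isUnit_det, isUnit_iff_ne_zero]
    intro h0
    have := hGd
    rw [hG, Matrix.det_kronecker, h0, zero_pow (by simp; omega), mul_zero] at this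
    exact not_isUnit_zero this
  have hG₁0 : G₁ ≠ 0 := fun h0 => by rw [h0] at hu₁; exact not_isUnit_zero hu₁
  have hG₂0 : G₂ ≠ 0 := fun h0 => by rw [h0] at hu₂; exact not_isUnit_zero hu₂
  have hh : G₁ᵀ ⊗ₖ G₂ᵀ = (ε • G₁.map σ) ⊗ₖ G₂.map σ := by
    rw [← kronecker_transpose, ← hG, hGdef, h'.gram_herm, ← hGdef, hG, kronecker_map,
      Matrix.smul_kronecker]
  obtain ⟨c, hc, hc₁, hc₂⟩ := kronecker_unique
    (show G₁ᵀ ≠ 0 from fun h0 => hG₁0 (by simpa using congrArg Matrix.transpose h0))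
    (show G₂ᵀ ≠ 0 from fun h0 => hG₂0 (by simpa using congrArg Matrix.transpose h0)) hh
  refine ⟨b, e, P, G₁, G₂, c⁻¹ * ε, c, ⟨ha, hb2, hab, ⟨1, one_ne_zero, by rw [one_smul, ← hG]⟩,
    hu₁, hu₂, ?_, ?_, Or.inl ?_, hHA.trans hle⟩, ?_⟩
  · rw [mul_smul, hc₁, smul_smul, inv_mul_cancel₀ hc, one_smul]
  · rw [hc₂, smul_smul, mul_inv_cancel₀ hc, one_smul]
  · field_simp
  · field_simp

namespace TensorFormData

variable {H : Subgroup (GL ι F)} {a b : ℕ} {e : ι ≃ Fin a × Fin b} {P : GL ι F}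
  {G₁ : Matrix (Fin a) (Fin a) F} {G₂ : Matrix (Fin b) (Fin b) F} {c₁ c₂ : F}

lemma swap (d : TensorFormData σ ε f H a b e P G₁ G₂ c₁ c₂) :
    TensorFormData σ ε f H b a (e.trans (Equiv.prodComm _ _)) P G₂ G₁ c₂ c₁ := by
  refine ⟨d.two_le₂, d.two_le₁, by rw [mul_comm]; exact d.card, ?_, d.unit₂, d.unit₁, d.herm₂,
    d.herm₁, d.sign.imp_left (fun h => by rw [mul_comm]; exact h),
    d.le.trans (tensorProductSubgroup_swap e P)⟩
  obtain ⟨c, hc, hG⟩ := d.gram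
  refine ⟨c, hc, ?_⟩
  ext ⟨i, k⟩ ⟨j, l⟩
  have h1 := congrFun (congrFun hG (k, i)) (l, j)
  have hs : ∀ (x : Fin b × Fin a), (Pi.single x (1 : F) : Fin b × Fin a → F) ∘ (e.trans (Equiv.prodComm _ _))
      = (Pi.single (x.2, x.1) (1 : F) : Fin a × Fin b → F) ∘ e := by
    intro x
    funext z
    rcases hz : e z with ⟨p, q⟩
    simp only [Function.comp_apply, Equiv.trans_apply, hz, Equiv.prodComm_apply, Prod.swap_prod_mk,
      Pi.single_apply, Prod.ext_iff]
    congr 1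
    exact propext and_comm
  simp only [gramMatrix, coordForm] at h1 ⊢
  rw [hs, hs, h1, Matrix.smul_apply, Matrix.smul_apply, Matrix.kroneckerMap_apply,
    Matrix.kroneckerMap_apply, mul_comm (G₁ k l)]

lemma structureEq (d : TensorFormData σ ε f H a b e P G₁ G₂ c₁ c₂) (h : FormSpace σ ε f) :
    IsTensorFormStructure σ f (formOfGram σ G₁) (formOfGram σ G₂) e P := by
  obtain ⟨c, hc, hG⟩ := d.gram
  refine ⟨c, hc, fun x y => ?_⟩
  rw [show f ((P : Matrix ι ι F) *ᵥ (x ∘ e)) ((P : Matrix ι ι F) *ᵥ (y ∘ e)) = coordForm e P f x y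
    from rfl, (h.coord e P).sesq.eq_formOfGram, hG, gram_formOfGram, gram_formOfGram, formOfGram_eq,
    formOfGram_eq, Matrix.smul_mulVec, dotProduct_smul, smul_eq_mul]

/-- Elements of `H` are tensor products of similitudes of the factors. -/
lemma factor_similitude (d : TensorFormData σ ε f H a b e P G₁ G₂ c₁ c₂) (h : FormSpace σ ε f)
    (hH : H ≤ similarityGroup f) {g : GL (Fin a × Fin b) F} (hg : coordEquiv e P g ∈ H) :
    ∃ (x : GL (Fin a) F) (y : GL (Fin b) F) (μ ν : F), μ ≠ 0 ∧ ν ≠ 0 ∧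
      (g : Matrix (Fin a × Fin b) (Fin a × Fin b) F)
        = (x : Matrix (Fin a) (Fin a) F) ⊗ₖ (y : Matrix (Fin b) (Fin b) F) ∧
      gtr σ G₁ (x : Matrix (Fin a) (Fin a) F) = μ • G₁ ∧
      gtr σ G₂ (y : Matrix (Fin b) (Fin b) F) = ν • G₂ := by
  have hle := d.le hg
  rw [tensorProductSubgroup_eq] at hle
  obtain ⟨g', ⟨x, y, hxy⟩, hg'⟩ := hle
  obtain rfl : g' = g := (coordEquiv e P).injective hg'
  obtain ⟨cs, hcs⟩ := similarityGroup_coord e P (hH hg)
  have h' := h.coord e P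
  obtain ⟨c, hc, hG⟩ := d.gram
  haveI : Nonempty (Fin a) := ⟨⟨0, by have := d.two_le₁; omega⟩⟩
  haveI : Nonempty (Fin b) := ⟨⟨0, by have := d.two_le₂; omega⟩⟩
  have h1 : gtr σ (gramMatrix (coordForm e P f)) (g' : Matrix (Fin a × Fin b) (Fin a × Fin b) F)
      = (cs : F) • gramMatrix (coordForm e P f) := by
    have e1 : formOfGram σ (gtr σ (gramMatrix (coordForm e P f))
        (g' : Matrix (Fin a × Fin b) (Fin a × Fin b) F))
        = formOfGram σ ((cs : F) • gramMatrix (coordForm e P f)) := by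
      funext u v
      rw [← formOfGram_mulVec, ← h'.sesq.eq_formOfGram, hcs, h'.sesq.eq_formOfGram u v,
        formOfGram_eq, formOfGram_eq, Matrix.smul_mulVec, dotProduct_smul, smul_eq_mul]
    have := congrArg gramMatrix e1
    rwa [gram_formOfGram, gram_formOfGram] at this
  rw [hG, gtr_smul, smul_comm, hxy] at h1
  have h2 := smul_right_injective _ hc h1
  have h3 : gtr σ G₁ (x : Matrix (Fin a) (Fin a) F) ⊗ₖ gtr σ G₂ (y : Matrix (Fin b) (Fin b) F)
      = ((cs : F) • G₁) ⊗ₖ G₂ := by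
    rw [Matrix.smul_kronecker, ← h2]
    simp only [gtr, kronecker_transpose, kronecker_map, ← Matrix.mul_kronecker_mul]
  have hunit : ∀ {n : ℕ} (G : Matrix (Fin n) (Fin n) F) (z : GL (Fin n) F), IsUnit G →
      IsUnit (gtr σ G (z : Matrix (Fin n) (Fin n) F)) := fun G z hG => by
    refine ((Matrix.isUnit_transpose _).mpr z.isUnit |>.mul hG).mul ?_
    exact z.isUnit.map σ.toRingHom.mapMatrix
  obtain ⟨w, hw, hw1, hw2⟩ := kronecker_unique
    (fun h0 => by have := hunit G₁ x d.unit₁; rw [h0] at this; exact not_isUnit_zero this)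
    (fun h0 => by have := hunit G₂ y d.unit₂; rw [h0] at this; exact not_isUnit_zero this) h3
  refine ⟨x, y, w⁻¹ * (cs : F), w, mul_ne_zero (inv_ne_zero hw) cs.ne_zero, hw, hxy, ?_, ?_⟩
  · rw [mul_smul, hw1, smul_smul, inv_mul_cancel₀ hw, one_smul]
  · conv_rhs => rw [hw2, smul_smul, mul_inv_cancel₀ hw, one_smul]

/-- Rescaling the first factor. -/
lemma rescale₁ (d : TensorFormData σ ε f H a b e P G₁ G₂ c₁ c₂) {δ : F} (hδ : δ ≠ 0)
    (hσ : σ ≠ RingEquiv.refl F) {c' : F} (hc' : δ * c₁ = c' * σ δ) :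
    TensorFormData σ ε f H a b e P (δ • G₁) G₂ c' c₂ := by
  obtain ⟨c, hc, hG⟩ := d.gram
  refine ⟨d.two_le₁, d.two_le₂, d.card, ⟨c / δ, div_ne_zero hc hδ, ?_⟩, ?_, d.unit₂, ?_, d.herm₂,
    Or.inr hσ, d.le⟩
  · rw [hG, Matrix.smul_kronecker, smul_smul, div_mul_cancel₀ _ hδ]
  · have := d.unit₁.smul (Units.mk0 δ hδ)
    simpa [Units.smul_def] using this
  · rw [Matrix.transpose_smul, d.herm₁, smul_smul, hc', ← smul_smul]
    congr 1
    ext i j
    simp

/-- Unitary forms on both factors. -/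
lemma exists_unitary (d : TensorFormData σ ε f H a b e P G₁ G₂ c₁ c₂) (hinv : ∀ a, σ (σ a) = a)
    (hσ : σ ≠ RingEquiv.refl F) :
    ∃ G₁' G₂', TensorFormData σ ε f H a b e P G₁' G₂' 1 1 := by
  have hnorm : ∀ {n : ℕ} {G : Matrix (Fin n) (Fin n) F}, 0 < n → IsUnit G → ∀ {c : F},
      Gᵀ = c • G.map σ → ∃ δ : F, δ ≠ 0 ∧ δ * c = 1 * σ δ := by
    intro n G hn hu c hG
    obtain ⟨δ, hδ, hδc⟩ := exists_hilbert90 hσ hinv (herm_norm hn hinv hu hG)
    exact ⟨δ, hδ, by rw [one_mul, hδc, mul_comm]⟩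
  obtain ⟨δ₁, hδ₁, h1⟩ := hnorm (show 0 < a by have := d.two_le₁; omega) d.unit₁ d.herm₁
  obtain ⟨δ₂, hδ₂, h2⟩ := hnorm (show 0 < b by have := d.two_le₂; omega) d.unit₂ d.herm₂
  have d1 := ((d.rescale₁ hδ₁ hσ h1).swap.rescale₁ hδ₂ hσ h2).swap
  have he : (e.trans (Equiv.prodComm _ _)).trans (Equiv.prodComm _ _) = e := by ext x <;> simp
  rw [he] at d1
  exact ⟨_, _, d1⟩

end TensorFormData

end Cfsg.Agent.Aschbacher
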