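/-
Over the field with two elements a tensor product with a two-dimensional factor normalises a field
with four elements.
-/
import Cfsg.Agent.Aschbacher.Basic

set_option autoImplicit false
set_option maxHeartbeats 1000000
set_option linter.unusedSectionVars false
set_option linter.style.haveILetI false
set_option linter.unusedSimpArgs false
set_option linter.unusedTactic false
set_option linter.unreachableTactic false

namespace Cfsg.Agent.Aschbacher

open scoped MatrixGroups Matrix Kronecker
open Cfsg.Geo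

variable {ι : Type} [Fintype ι] [DecidableEq ι] {F : Type*} [Field F]

/-- The algebra spanned by `1` and a matrix `w` with `w * w = w + 1`. -/
def quadAlg (w : Matrix ι ι F) (hw : w * w = w + 1) : Subalgebra F (Matrix ι ι F) :=
  (Submodule.span F {1, w}).toSubalgebra (Submodule.subset_span (by simp)) (by
    intro x y hx hy
    obtain ⟨a, b, rfl⟩ := Submodule.mem_span_pair.mp hx
    obtain ⟨c, d, rfl⟩ := Submodule.mem_span_pair.mp hy
    refine Submodule.mem_span_pair.mpr ⟨a * c + b * d, a * d + b * c + b * d, ?_⟩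
    simp only [add_mul, mul_add, Matrix.smul_mul, Matrix.mul_smul, one_mul, mul_one, hw, smul_add,
      smul_smul, add_smul]
    rw [mul_comm a c, mul_comm d a, mul_comm d b, mul_comm c b]
    abel)

lemma mem_quadAlg {w : Matrix ι ι F} {hw : w * w = w + 1} {x : Matrix ι ι F} :
    x ∈ quadAlg w hw ↔ ∃ a b : F, a • 1 + b • w = x := Submodule.mem_span_pair

lemma zero_or_one_of_card_two [Fintype F] (hq : Fintype.card F = 2) (a : F) : a = 0 ∨ a = 1 := by
  by_cases ha : a = 0
  · exact Or.inl ha
  · right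
    have := FiniteField.pow_card_sub_one_eq_one a ha
    simpa [hq] using this

theorem tensor_two [Fintype F] (hq : Fintype.card F = 2) {b : ℕ} (e : ι ≃ Fin 2 × Fin b)
    (P : GL ι F) (hb : 0 < b) :
    ∃ K : Subalgebra F (Matrix ι ι F), IsFieldSubalgebra 2 K ∧
      tensorProductSubgroup 2 b e P ≤ subalgebraNormalizer K := by
  have h01 := zero_or_one_of_card_two hq
  have h2 : (1 : F) + 1 = 0 := by
    have := FiniteField.cast_card_eq_zero F
    rw [hq] at this
    push_cast at this
    linear_combination this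
  let ω : Matrix (Fin 2) (Fin 2) F := !![0, 1; 1, 1]
  have hω : ω * ω = ω + 1 := by
    ext i j; fin_cases i <;> fin_cases j <;>
      simp [ω, Matrix.mul_apply, Fin.sum_univ_two, Matrix.one_apply]
  let ρ : Matrix (Fin 2 × Fin b) (Fin 2 × Fin b) F ≃ₐ[F] Matrix ι ι F :=
    (Matrix.reindexAlgEquiv F F e.symm).trans (cj P)
  let L : Matrix (Fin 2) (Fin 2) F → Matrix ι ι F :=
    fun X => ρ (X ⊗ₖ (1 : Matrix (Fin b) (Fin b) F))
  have hLmul : ∀ X Y, L (X * Y) = L X * L Y := fun X Y => by
    rw [← map_mul, ← Matrix.mul_kronecker_mul, one_mul]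
  have hLadd : ∀ X Y, L (X + Y) = L X + L Y := fun X Y => by
    rw [← map_add, ← Matrix.add_kronecker]
  have hL1 : L 1 = 1 := by
    show ρ _ = 1
    rw [Matrix.one_kronecker_one, map_one]
  have hw : L ω * L ω = L ω + 1 := by rw [← hLmul, hω, hLadd, hL1]
  have hnonscalar : ∀ c : F, L ω ≠ c • 1 := by
    intro c hc
    have hc' : ρ (ω ⊗ₖ (1 : Matrix (Fin b) (Fin b) F)) = ρ (c • 1) := by rw [map_smul, map_one]; exact hc
    have := congrFun (congrFun (ρ.injective hc') (0, ⟨0, hb⟩)) (1, ⟨0, hb⟩)
    simp [ω] at this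
  have hli : LinearIndependent F ![(1 : Matrix ι ι F), L ω] := by
    rw [linearIndependent_fin2]
    refine ⟨fun h => hnonscalar 0 (by simpa using h), fun a h => ?_⟩
    simp only [Matrix.cons_val_one, Matrix.cons_val_zero] at h
    rcases eq_or_ne a 0 with rfl | ha
    · rw [zero_smul] at h
      have := congrArg (fun M : Matrix ι ι F => M (e.symm (0, ⟨0, hb⟩)) (e.symm (0, ⟨0, hb⟩))) h
      simp at this
    · exact hnonscalar a⁻¹ (by rw [← h, smul_smul, inv_mul_cancel₀ ha, one_smul])
  refine ⟨quadAlg (L ω) hw, ⟨?_, ?_, ?_⟩, le_subalgebraNormalizer ?_⟩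
  · intro x hx y hy
    obtain ⟨a, c, rfl⟩ := mem_quadAlg.mp hx
    obtain ⟨a', c', rfl⟩ := mem_quadAlg.mp hy
    simp only [add_mul, mul_add, Matrix.smul_mul, Matrix.mul_smul, one_mul, mul_one, smul_smul,
      smul_add, add_smul]
    rw [mul_comm a a', mul_comm a c', mul_comm c a', mul_comm c c']
    abel
  · intro x hx hx0
    obtain ⟨a, c, rfl⟩ := mem_quadAlg.mp hx
    rcases h01 a with rfl | rfl <;> rcases h01 c with rfl | rfl
    · simp at hx0
    · refine ⟨(1 : F) • 1 + (1 : F) • L ω, mem_quadAlg.mpr ⟨1, 1, rfl⟩, ?_⟩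
      simp only [one_smul, zero_smul, zero_add, mul_add, mul_one, hw]
      rw [← add_assoc, ← two_smul F (L ω), show (2 : F) = 0 by linear_combination h2, zero_smul,
        zero_add]
    · exact ⟨1, Subalgebra.one_mem _, by simp⟩
    · refine ⟨(0 : F) • 1 + (1 : F) • L ω, mem_quadAlg.mpr ⟨0, 1, rfl⟩, ?_⟩
      simp only [one_smul, zero_smul, zero_add, add_mul, one_mul, hw]
      rw [← add_assoc, ← two_smul F (L ω), show (2 : F) = 0 by linear_combination h2, zero_smul,
        zero_add]
  · show Module.finrank F (Subalgebra.toSubmodule (quadAlg (L ω) hw)) = 2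
    rw [quadAlg, Submodule.toSubalgebra_toSubmodule]
    have := finrank_span_eq_card hli
    rw [Matrix.range_cons, Matrix.range_cons, Matrix.range_empty, Set.union_empty,
      Set.singleton_union] at this
    simpa using this
  · rintro g ⟨_, ⟨k, ⟨A, B, hAB⟩, rfl⟩, rfl⟩ X hX
    obtain ⟨a, c, rfl⟩ := mem_quadAlg.mp hX
    have hρk : ((MulAut.conj P) ((glReindex e.symm) k) : GL ι F).val
        = ρ ((A : Matrix (Fin 2) (Fin 2) F) ⊗ₖ (B : Matrix (Fin b) (Fin b) F)) := by
      rw [← hAB]
      rfl
    have hA : ∃ d : F, (A : Matrix (Fin 2) (Fin 2) F) * ω = (d • 1 + ω) * (A : Matrix (Fin 2) (Fin 2) F) := by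
      have hdet := ((Matrix.isUnit_iff_isUnit_det _).mp A.isUnit).ne_zero
      rw [Matrix.det_fin_two] at hdet
      set M : Matrix (Fin 2) (Fin 2) F := (A : Matrix (Fin 2) (Fin 2) F)
      rcases h01 (M 0 0) with h1 | h1 <;> rcases h01 (M 0 1) with h2' | h2' <;>
        rcases h01 (M 1 0) with h3 | h3 <;> rcases h01 (M 1 1) with h4 | h4 <;>
        first
        | (exfalso; apply hdet; rw [h1, h2', h3, h4]; ring1)
        | (refine ⟨0, ?_⟩; ext i j
           fin_cases i <;> fin_cases j <;>
             simp [ω, Matrix.mul_apply, Fin.sum_univ_two, h1, h2', h3, h4, h2] <;> fail)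
        | (refine ⟨1, ?_⟩; ext i j
           fin_cases i <;> fin_cases j <;>
             simp [ω, Matrix.mul_apply, Fin.sum_univ_two, Matrix.one_apply, h1, h2', h3, h4, h2] <;> fail)
    obtain ⟨d, hd⟩ := hA
    have hcomm : cj (MulAut.conj P (glReindex e.symm k)) (L ω) = d • 1 + L ω := by
      rw [cj_apply, hρk, ← map_mul, ← Matrix.mul_kronecker_mul, hd,
        show (B : Matrix (Fin b) (Fin b) F) * 1 = 1 * (B : Matrix (Fin b) (Fin b) F) by simp,
        Matrix.mul_kronecker_mul, map_mul, mul_assoc, ← hρk, ← Units.val_mul, mul_inv_cancel,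
        Units.val_one, mul_one, Matrix.add_kronecker, Matrix.smul_kronecker, map_add, map_smul,
        Matrix.one_kronecker_one, map_one]
    show cj (MulAut.conj P (glReindex e.symm k)) (a • 1 + c • L ω) ∈ quadAlg (L ω) hw
    rw [map_add, map_smul, map_smul, map_one, hcomm]
    refine mem_quadAlg.mpr ⟨a + c * d, c, ?_⟩
    rw [smul_add, smul_smul, add_smul]
    abel

end Cfsg.Agent.Aschbacher
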