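/-
Tensor decompositions into 2-dimensional factors lie in similarity groups of forms.
-/
import Cfsg.Agent.Aschbacher.Forms
import Cfsg.Agent.Aschbacher.Wreath

set_option autoImplicit false

namespace Cfsg.Agent.Aschbacher

open scoped MatrixGroups Matrix
open Cfsg.Geo

variable {ι : Type} [Fintype ι] [DecidableEq ι] {F : Type*} [Field F]

/-- The standard alternating 2 × 2 matrix. -/
def altTwo : Matrix (Fin 2) (Fin 2) F := !![0, 1; -1, 0]

lemma transpose_mul_altTwo_mul (u : Matrix (Fin 2) (Fin 2) F) :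
    uᵀ * altTwo * u = u.det • altTwo := by
  rw [Matrix.det_fin_two]
  ext i j
  fin_cases i <;> fin_cases j <;>
    simp [altTwo, Matrix.mul_apply, Fin.sum_univ_two] <;> ring

/-- The t-th tensor power of the alternating matrix. -/
def altPow (t : ℕ) : Matrix (Fin t → Fin 2) (Fin t → Fin 2) F := pureMat fun _ => altTwo

lemma pureMat_transpose {m t : ℕ} (X : Fin t → Matrix (Fin m) (Fin m) F) :
    (pureMat X)ᵀ = pureMat (fun i => (X i)ᵀ) := rfl

lemma pureMat_smul {m t : ℕ} (c : Fin t → F) (X : Fin t → Matrix (Fin m) (Fin m) F) :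
    pureMat (fun i => c i • X i) = (∏ i, c i) • pureMat X := by
  ext x y
  simp [pureMat, Finset.prod_mul_distrib]

lemma isUnit_altPow (t : ℕ) : IsUnit (altPow t : Matrix (Fin t → Fin 2) (Fin t → Fin 2) F) := by
  have h : (pureMat fun _ : Fin t => (-altTwo : Matrix (Fin 2) (Fin 2) F)) * altPow t = 1 := by
    rw [altPow, pureMat_mul, ← pureMat_one]
    congr 1; funext i
    ext a b
    fin_cases a <;> fin_cases b <;> simp [altTwo, Matrix.mul_apply, Fin.sum_univ_two]
  exact (Matrix.isUnit_iff_isUnit_det _).mpr (Matrix.isUnit_det_of_left_inverse h)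

lemma altPow_symm (t : ℕ) (x y : Fin t → Fin 2) :
    (altPow t : Matrix (Fin t → Fin 2) (Fin t → Fin 2) F) x y = (-1) ^ t * altPow t y x := by
  simp only [altPow, pureMat, Matrix.of_apply]
  have h : ∀ a b : Fin 2, (altTwo : Matrix (Fin 2) (Fin 2) F) a b = -1 * altTwo b a := by
    intro a b; fin_cases a <;> fin_cases b <;> simp [altTwo]
  rw [Finset.prod_congr rfl fun i _ => h (x i) (y i), Finset.prod_mul_distrib, Finset.prod_const]
  simp

lemma altPow_diag {t : ℕ} (ht : 0 < t) (x : Fin t → Fin 2) :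
    (altPow t : Matrix (Fin t → Fin 2) (Fin t → Fin 2) F) x x = 0 := by
  refine Finset.prod_eq_zero (Finset.mem_univ (⟨0, ht⟩ : Fin t)) ?_
  generalize x _ = a
  fin_cases a <;> simp [altTwo]

/-- Similitudes of the tensor power of the alternating form. -/
lemma gtr_altPow {t : ℕ} {g : GL (Fin t → Fin 2) F} (hg : g ∈ tensorWreathStandard 2 t F) :
    ∃ c : F, c ≠ 0 ∧
      (g : Matrix (Fin t → Fin 2) (Fin t → Fin 2) F)ᵀ * altPow t *
        (g : Matrix (Fin t → Fin 2) (Fin t → Fin 2) F) = c • altPow t := by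
  induction hg using Subgroup.closure_induction with
  | mem g hg =>
    rcases hg with ⟨gs, hgs⟩ | ⟨σ, hσ⟩
    · refine ⟨∏ i, (gs i : Matrix (Fin 2) (Fin 2) F).det, Finset.prod_ne_zero_iff.mpr fun i _ =>
        ((Matrix.isUnit_iff_isUnit_det _).mp (gs i).isUnit).ne_zero, ?_⟩
      have : (g : Matrix (Fin t → Fin 2) (Fin t → Fin 2) F)
          = pureMat fun i => (gs i : Matrix (Fin 2) (Fin 2) F) := Matrix.ext hgs
      rw [this, altPow, pureMat_transpose, pureMat_mul, pureMat_mul, ← pureMat_smul]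
      congr 1; funext i
      exact transpose_mul_altTwo_mul _
    · refine ⟨1, one_ne_zero, ?_⟩
      have : (g : Matrix (Fin t → Fin 2) (Fin t → Fin 2) F) = factorPerm σ := Matrix.ext hσ
      have hT : (factorPerm σ : Matrix (Fin t → Fin 2) (Fin t → Fin 2) F)ᵀ = factorPerm σ.symm := by
        ext x y
        have hiff : x = y ∘ σ ↔ y = x ∘ σ.symm := by
          constructor
          · rintro rfl; simp [Function.comp_assoc]
          · rintro rfl; simp [Function.comp_assoc]
        simp [factorPerm, hiff]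
      rw [this, hT, one_smul, mul_assoc, altPow,
        show (pureMat fun _ : Fin t => (altTwo : Matrix (Fin 2) (Fin 2) F)) * factorPerm σ
          = factorPerm σ * pureMat (fun _ => altTwo) from
            (factorPerm_conj σ (fun _ => (altTwo : Matrix (Fin 2) (Fin 2) F))).symm,
        ← mul_assoc]
      have h2 := factorPerm_mul_factorPerm (m := 2) (F := F) σ.symm
      rw [Equiv.symm_symm] at h2
      rw [h2, one_mul]
  | one => exact ⟨1, one_ne_zero, by simp⟩
  | mul a b _ _ ha hb =>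
    obtain ⟨c, hc0, hc⟩ := ha
    obtain ⟨d, hd0, hd⟩ := hb
    refine ⟨c * d, mul_ne_zero hc0 hd0, ?_⟩
    rw [Units.val_mul, Matrix.transpose_mul]
    calc _ = (b : Matrix (Fin t → Fin 2) (Fin t → Fin 2) F)ᵀ *
          ((a : Matrix (Fin t → Fin 2) (Fin t → Fin 2) F)ᵀ * altPow t * (a : Matrix (Fin t → Fin 2) (Fin t → Fin 2) F)) * (b : Matrix (Fin t → Fin 2) (Fin t → Fin 2) F) := by
          simp only [mul_assoc]
      _ = _ := by rw [hc, Matrix.mul_smul, Matrix.smul_mul, hd, smul_smul]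
  | inv a _ ha =>
    obtain ⟨c, hc0, hc⟩ := ha
    refine ⟨c⁻¹, inv_ne_zero hc0, ?_⟩
    have h3 := congrArg (fun M => ((a⁻¹ : GL (Fin t → Fin 2) F) :
      Matrix (Fin t → Fin 2) (Fin t → Fin 2) F)ᵀ * M *
      ((a⁻¹ : GL (Fin t → Fin 2) F) : Matrix (Fin t → Fin 2) (Fin t → Fin 2) F)) hc
    simp only [Matrix.mul_smul, Matrix.smul_mul] at h3
    have e : ((a⁻¹ : GL (Fin t → Fin 2) F) : Matrix (Fin t → Fin 2) (Fin t → Fin 2) F)ᵀ *
        ((a : Matrix (Fin t → Fin 2) (Fin t → Fin 2) F)ᵀ * altPow t * (a : Matrix (Fin t → Fin 2) (Fin t → Fin 2) F)) *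
        ((a⁻¹ : GL (Fin t → Fin 2) F) : Matrix (Fin t → Fin 2) (Fin t → Fin 2) F) = altPow t := by
      simp only [← mul_assoc]
      rw [← Matrix.transpose_mul, ← Units.val_mul, mul_inv_cancel, Units.val_one,
        Matrix.transpose_one, one_mul, mul_assoc, ← Units.val_mul, mul_inv_cancel, Units.val_one,
        mul_one]
    rw [e] at h3
    conv_rhs => rw [h3, smul_smul, inv_mul_cancel₀ hc0, one_smul]

/-- A tensor wreath group with factors of dimension 2 preserves a symmetric or alternating form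
up to scalars. -/
theorem wreath_two_le [Finite F] {t : ℕ} (ht : 0 < t) (e : ι ≃ (Fin t → Fin 2)) (P : GL ι F) :
    (∃ f : (ι → F) → (ι → F) → F, IsSymplecticForm f ∧
      tensorWreathSubgroup 2 t e P ≤ similarityGroup f) ∨
    (∃ Q : (ι → F) → F, IsNondegenerateQuadraticForm Q ∧ Odd (Nat.card F) ∧
      tensorWreathSubgroup 2 t e P ≤ quadSimilarityGroup Q) := by
  classical
  let G₀ : Matrix ι ι F := Matrix.reindex e.symm e.symm (altPow t)
  let Pi0 : Matrix ι ι F := ((P⁻¹ : GL ι F) : Matrix ι ι F)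
  let G : Matrix ι ι F := gtr (RingEquiv.refl F) G₀ Pi0
  have hG₀ : IsUnit G₀ := (isUnit_altPow t).map (Matrix.reindexAlgEquiv F F e.symm)
  have hPi : IsUnit Pi0 := (P⁻¹).isUnit
  have hmap : Pi0.map (RingEquiv.refl F) = Pi0 := by ext i j; rfl
  have hG : IsUnit G := by
    show IsUnit (Pi0ᵀ * G₀ * Pi0.map (RingEquiv.refl F))
    rw [hmap]
    exact ((Matrix.isUnit_transpose Pi0 |>.mpr hPi).mul hG₀).mul hPi
  have hsim : ∀ g ∈ tensorWreathSubgroup 2 t e P, ∃ c : F, c ≠ 0 ∧
      gtr (RingEquiv.refl F) G (g : Matrix ι ι F) = c • G := by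
    rintro _ ⟨_, ⟨k, hk, rfl⟩, rfl⟩
    obtain ⟨c, hc0, hc⟩ := gtr_altPow hk
    refine ⟨c, hc0, ?_⟩
    show gtr _ (gtr _ G₀ Pi0) ((P * glReindex e.symm k * P⁻¹ : GL ι F) : Matrix ι ι F) = c • gtr _ G₀ Pi0
    rw [← gtr_mul]
    have e1 : Pi0 * ((P * glReindex e.symm k * P⁻¹ : GL ι F) : Matrix ι ι F)
        = ((glReindex e.symm k : GL ι F) : Matrix ι ι F) * Pi0 := by
      rw [← Units.val_mul, ← Units.val_mul]
      congr 1; group
    have e2 : gtr (RingEquiv.refl F) G₀ ((glReindex e.symm k : GL ι F) : Matrix ι ι F) = c • G₀ := by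
      set ρ := Matrix.reindexAlgEquiv F F e.symm
      show (ρ (k : Matrix (Fin t → Fin 2) (Fin t → Fin 2) F))ᵀ * ρ (altPow t) *
        (ρ (k : Matrix (Fin t → Fin 2) (Fin t → Fin 2) F)).map (RingEquiv.refl F) = c • ρ (altPow t)
      rw [show (ρ (k : Matrix (Fin t → Fin 2) (Fin t → Fin 2) F))ᵀ
        = ρ ((k : Matrix (Fin t → Fin 2) (Fin t → Fin 2) F)ᵀ) from rfl,
        show (ρ (k : Matrix (Fin t → Fin 2) (Fin t → Fin 2) F)).map (RingEquiv.refl F)
          = ρ (k : Matrix (Fin t → Fin 2) (Fin t → Fin 2) F) by ext i j; rfl,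
        ← map_mul, ← map_mul, hc, map_smul]
    rw [e1, gtr_mul, e2, gtr_smul]
  have hle : tensorWreathSubgroup 2 t e P ≤ similarityGroup (formOfGram (RingEquiv.refl F) G) := by
    intro g hg
    obtain ⟨c, hc0, hc⟩ := hsim g hg
    refine ⟨Units.mk0 c hc0, fun u v => ?_⟩
    rw [formOfGram_mulVec, hc]
    simp only [formOfGram_eq, Matrix.smul_mulVec, dotProduct_smul, smul_eq_mul, Units.val_mk0]
  have hsym : ∀ i j, G i j = (-1) ^ t * G j i := by
    have h1 : G₀ᵀ = (-1 : F) ^ t • G₀ := by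
      ext i j; exact altPow_symm t (e j) (e i)
    have h2 : Gᵀ = (-1 : F) ^ t • G := by
      show (Pi0ᵀ * G₀ * Pi0.map (RingEquiv.refl F))ᵀ = _ • (Pi0ᵀ * G₀ * Pi0.map (RingEquiv.refl F))
      rw [hmap, Matrix.transpose_mul, Matrix.transpose_mul, Matrix.transpose_transpose, h1,
        Matrix.smul_mul, Matrix.mul_smul, mul_assoc]
    exact fun i j => congrFun (congrFun h2 j) i
  by_cases hcase : ((-1 : F) ^ t = -1)
  · left
    refine ⟨formOfGram (RingEquiv.refl F) G, ?_, hle⟩
    refine isSymplecticForm_formOfGram hG (fun i j => by rw [hsym i j, hcase, neg_one_mul]) fun i => ?_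
    have halt : IsSymplecticForm (formOfGram (RingEquiv.refl F) G₀) := by
      refine isSymplecticForm_formOfGram hG₀ (fun a b => ?_) fun a => altPow_diag ht (e a)
      show altPow t (e a) (e b) = -altPow t (e b) (e a)
      rw [altPow_symm t (e a) (e b), hcase, neg_one_mul]
    have := halt.alternating (Pi0 *ᵥ Pi.single i 1)
    rw [formOfGram_mulVec] at this
    have h2 := gram_formOfGram (RingEquiv.refl F) G
    have h3 := congrFun (congrFun h2 i) i
    rw [← h3]
    exact this
  · right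
    have h1 : (-1 : F) ^ t = 1 := (neg_one_pow_eq_or F t).resolve_right hcase
    have h2 : (2 : F) ≠ 0 := fun h => hcase (by
      rw [h1]; linear_combination h)
    refine ⟨fun v => formOfGram (RingEquiv.refl F) G v v,
      isQuadForm_formOfGram h2 hG (fun i j => by rw [hsym i j, h1, one_mul]), ?_, fun g hg => ?_⟩
    · haveI := Fintype.ofFinite F
      rw [Nat.card_eq_fintype_card, Nat.odd_iff]
      refine FiniteField.odd_card_of_char_ne_two fun h => h2 ?_
      haveI := ringChar.charP F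
      have h22 : ((2 : ℕ) : F) = 0 := by rw [CharP.cast_eq_zero_iff F (ringChar F), h]
      exact_mod_cast h22
    · obtain ⟨c, hc⟩ := hle hg
      exact ⟨c, fun v => hc v v⟩

end Cfsg.Agent.Aschbacher
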