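/-
Pure tensors: matrices, vectors, factor permutations, and the normal form of the tensor wreath group.
-/
import Cfsg.Agent.Aschbacher.TensorTwo
import Cfsg.Agent.Aschbacher.TwoFactor
import Cfsg.Agent.Aschbacher.Forms

set_option autoImplicit false
set_option linter.unusedSectionVars false

namespace Cfsg.Agent.Aschbacher

open scoped MatrixGroups Matrix Kronecker
open Cfsg.Geo

variable {F : Type*} [Field F] {m t : ℕ}

/-- The tensor product of a family of vectors, indexed by functions. -/
def pureVec (u : Fin t → Fin m → F) : (Fin t → Fin m) → F := fun x => ∏ i, u i (x i)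

/-- A matrix in one tensor slot. -/
def slotMat (i : Fin t) (X : Matrix (Fin m) (Fin m) F) :
    Matrix (Fin t → Fin m) (Fin t → Fin m) F :=
  pureMat (Function.update (fun _ => 1) i X)

lemma pureMat_map (σ : F ≃+* F) (X : Fin t → Matrix (Fin m) (Fin m) F) :
    (pureMat X).map σ = pureMat (fun i => (X i).map σ) := by
  ext x y; simp [pureMat, map_prod]

lemma pureMat_mulVec (X : Fin t → Matrix (Fin m) (Fin m) F) (u : Fin t → Fin m → F) :
    pureMat X *ᵥ pureVec u = pureVec (fun i => X i *ᵥ u i) := by
  funext x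
  simp only [Matrix.mulVec, dotProduct, pureMat, pureVec, Matrix.of_apply, ← Finset.prod_mul_distrib]
  exact (Fintype.prod_sum fun i j => X i (x i) j * u i j).symm

lemma pureVec_dot (u v : Fin t → Fin m → F) :
    pureVec u ⬝ᵥ pureVec v = ∏ i, u i ⬝ᵥ v i := by
  simp only [dotProduct, pureVec, ← Finset.prod_mul_distrib]
  exact (Fintype.prod_sum fun i j => u i j * v i j).symm

lemma pureVec_single (x : Fin t → Fin m) :
    pureVec (fun i => Pi.single (x i) (1 : F)) = Pi.single x 1 := by
  funext y
  by_cases h : y = x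
  · subst h; simp [pureVec]
  · obtain ⟨i, hi⟩ := Function.ne_iff.mp h
    rw [Pi.single_eq_of_ne h]
    exact Finset.prod_eq_zero (Finset.mem_univ i) (Pi.single_eq_of_ne hi _)

lemma factorPerm_mulVec (π : Equiv.Perm (Fin t)) (u : Fin t → Fin m → F) :
    factorPerm π *ᵥ pureVec u = pureVec (fun j => u (π.symm j)) := by
  funext x
  simp only [Matrix.mulVec, dotProduct, factorPerm, Matrix.of_apply, ite_mul, one_mul, zero_mul,
    Finset.sum_ite_eq', Finset.mem_univ, if_true, pureVec, Function.comp_apply]
  rw [← Equiv.prod_comp π (fun j => u (π.symm j) (x j))]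
  simp

/-- Non-zero pure tensors determine their factors up to scalars. -/
lemma pureMat_unique {A B : Fin t → Matrix (Fin m) (Fin m) F} (hA : ∀ i, A i ≠ 0)
    (h : pureMat A = pureMat B) (i : Fin t) : ∃ c : F, c ≠ 0 ∧ A i = c • B i := by
  classical
  have hex : ∀ j, ∃ p : Fin m × Fin m, A j p.1 p.2 ≠ 0 := fun j => by
    by_contra hh
    push Not at hh
    exact hA j (Matrix.ext fun a b => hh (a, b))
  choose p hp using hex
  set ca := ∏ j ∈ Finset.univ.erase i, A j (p j).1 (p j).2 with hca
  set cb := ∏ j ∈ Finset.univ.erase i, B j (p j).1 (p j).2 with hcb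
  have hca0 : ca ≠ 0 := Finset.prod_ne_zero_iff.mpr fun j _ => hp j
  have key : ∀ a b, A i a b * ca = B i a b * cb := by
    intro a b
    have h1 := congrFun (congrFun h (Function.update (fun j => (p j).1) i a))
      (Function.update (fun j => (p j).2) i b)
    simp only [pureMat, Matrix.of_apply] at h1
    rw [← Finset.mul_prod_erase _ _ (Finset.mem_univ i),
      ← Finset.mul_prod_erase _ _ (Finset.mem_univ i)] at h1
    simp only [Function.update_self] at h1
    have hupd : ∀ M : Fin t → Matrix (Fin m) (Fin m) F,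
        (∏ j ∈ Finset.univ.erase i, M j (Function.update (fun j => (p j).1) i a j)
          (Function.update (fun j => (p j).2) i b j))
        = ∏ j ∈ Finset.univ.erase i, M j (p j).1 (p j).2 := fun M =>
      Finset.prod_congr rfl fun j hj => by
        rw [Function.update_of_ne (Finset.ne_of_mem_erase hj),
          Function.update_of_ne (Finset.ne_of_mem_erase hj)]
    rw [hupd A, hupd B] at h1
    exact h1
  refine ⟨cb / ca, div_ne_zero (fun h0 => ?_) hca0, Matrix.ext fun a b => ?_⟩
  · have h1 := key (p i).1 (p i).2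
    rw [h0, mul_zero] at h1
    exact mul_ne_zero (hp i) hca0 h1
  · rw [Matrix.smul_apply, smul_eq_mul]
    field_simp
    linear_combination key a b

lemma pureMat_ne_zero {A : Fin t → Matrix (Fin m) (Fin m) F} (hA : ∀ i, A i ≠ 0) :
    pureMat A ≠ 0 := by
  have hex : ∀ j, ∃ p : Fin m × Fin m, A j p.1 p.2 ≠ 0 := fun j => by
    by_contra hh
    push Not at hh
    exact hA j (Matrix.ext fun a b => hh (a, b))
  choose p hp using hex
  intro h
  have h1 := congrFun (congrFun h fun j => (p j).1) fun j => (p j).2
  simp only [pureMat, Matrix.of_apply, Matrix.zero_apply] at h1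
  exact Finset.prod_ne_zero_iff.mpr (fun j _ => hp j) h1

lemma isUnit_pureMat {A : Fin t → Matrix (Fin m) (Fin m) F} (hA : ∀ i, IsUnit (A i)) :
    IsUnit (pureMat A) := by
  let u : Fin t → GL (Fin m) F := fun i => (hA i).unit
  exact ⟨pureGL u, rfl⟩

lemma slotMat_conj (y : Fin t → GL (Fin m) F) (π : Equiv.Perm (Fin t)) (i : Fin t)
    (X : Matrix (Fin m) (Fin m) F) :
    pureMat (fun j => (y j : Matrix (Fin m) (Fin m) F)) * factorPerm π * slotMat i X
      = slotMat (π i) (cj (y (π i)) X) *
        (pureMat (fun j => (y j : Matrix (Fin m) (Fin m) F)) * factorPerm π) := by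
  rw [slotMat, slotMat, mul_assoc, factorPerm_conj, ← mul_assoc, ← mul_assoc, pureMat_mul,
    pureMat_mul]
  congr 2
  funext j
  by_cases hj : π.symm j = i
  · have hj' : j = π i := by rw [← hj]; simp
    subst hj'
    simp [cj_apply, mul_assoc]
  · have hj' : j ≠ π i := fun h => hj (by simp [h])
    simp [Function.update_of_ne hj, Function.update_of_ne hj']

/-- Two different slots meet in the scalars. -/
lemma slot_eq_smul_one (hm : 0 < m) {i j : Fin t} (hij : i ≠ j) {X Y : Matrix (Fin m) (Fin m) F}
    (hX : X ≠ 0) (h : slotMat i X = slotMat j Y) : ∃ c : F, X = c • 1 := by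
  have : Nonempty (Fin m) := ⟨⟨0, hm⟩⟩
  obtain ⟨c, -, hc⟩ := pureMat_unique (fun k => by
    by_cases hk : k = i
    · subst hk; rwa [Function.update_self]
    · rw [Function.update_of_ne hk]; exact one_ne_zero) h i
  rw [Function.update_self, Function.update_of_ne hij] at hc
  exact ⟨c, hc⟩

lemma gtr_pureMat_perm (σ : F ≃+* F) (G : Fin t → Matrix (Fin m) (Fin m) F)
    (y : Fin t → Matrix (Fin m) (Fin m) F) (π : Equiv.Perm (Fin t)) :
    gtr σ (pureMat G) (pureMat y * factorPerm π)
      = pureMat (fun j => gtr σ (G (π j)) (y (π j))) := by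
  have hT : (factorPerm π : Matrix (Fin t → Fin m) (Fin t → Fin m) F)ᵀ = factorPerm π.symm := by
    ext x z
    have hiff : x = z ∘ π ↔ z = x ∘ π.symm := by
      constructor
      · rintro rfl; simp [Function.comp_assoc]
      · rintro rfl; simp [Function.comp_assoc]
    simp [factorPerm, hiff]
  have hmap : (factorPerm π : Matrix (Fin t → Fin m) (Fin t → Fin m) F).map σ = factorPerm π := by
    ext x z; simp [factorPerm, apply_ite σ]
  have h2 := factorPerm_mul_factorPerm (m := m) (F := F) π.symm
  rw [Equiv.symm_symm] at h2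
  rw [gtr_mul, gtr, gtr, hT, hmap, pureMat_transpose, pureMat_map, pureMat_mul, pureMat_mul]
  have h3 := factorPerm_conj π (fun j => (y (π j))ᵀ * G (π j) * (y (π j)).map σ)
  simp only [Equiv.apply_symm_apply] at h3
  rw [mul_assoc, ← h3, ← mul_assoc, h2, one_mul]
  rfl

/-- Every element of the tensor wreath group is a pure tensor times a factor permutation. -/
theorem tensorWreath_normalForm {g : GL (Fin t → Fin m) F}
    (hg : g ∈ tensorWreathStandard m t F) :
    ∃ (y : Fin t → GL (Fin m) F) (π : Equiv.Perm (Fin t)),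
      (g : Matrix (Fin t → Fin m) (Fin t → Fin m) F)
        = pureMat (fun j => (y j : Matrix (Fin m) (Fin m) F)) * factorPerm π := by
  have hone : (factorPerm (1 : Equiv.Perm (Fin t)) :
      Matrix (Fin t → Fin m) (Fin t → Fin m) F) = 1 := by
    ext x z; simp [factorPerm, Matrix.one_apply, eq_comm]
  induction hg using Subgroup.closure_induction with
  | mem g hg =>
    rcases hg with ⟨gs, hgs⟩ | ⟨π, hπ⟩
    · exact ⟨gs, 1, by rw [hone, mul_one]; exact Matrix.ext hgs⟩
    · exact ⟨fun _ => 1, π, by simp only [Units.val_one, pureMat_one, one_mul]; exact Matrix.ext hπ⟩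
  | one => exact ⟨fun _ => 1, 1, by simp [pureMat_one, hone]⟩
  | mul a b _ _ ha hb =>
    obtain ⟨y, π, ha⟩ := ha
    obtain ⟨z, ρ, hb⟩ := hb
    refine ⟨fun j => y j * z (π.symm j), π * ρ, ?_⟩
    have hperm : (factorPerm π : Matrix (Fin t → Fin m) (Fin t → Fin m) F) * factorPerm ρ
        = factorPerm (π * ρ) := by
      rw [factorPerm_mul]
      ext x w
      simp only [factorPerm, Function.comp_assoc, Equiv.Perm.coe_mul, Matrix.of_apply]
      congr
    rw [Units.val_mul, ha, hb, mul_assoc, ← mul_assoc (factorPerm π), factorPerm_conj, mul_assoc,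
      hperm, ← mul_assoc, pureMat_mul]
    rfl
  | inv a _ ha =>
    obtain ⟨y, π, ha⟩ := ha
    refine ⟨fun j => (y (π j))⁻¹, π.symm, ?_⟩
    have h2 := factorPerm_mul_factorPerm (m := m) (F := F) π.symm
    rw [Equiv.symm_symm] at h2
    refine Units.inv_eq_of_mul_eq_one_right ?_
    rw [ha, mul_assoc, ← mul_assoc (factorPerm π), factorPerm_conj, mul_assoc,
      factorPerm_mul_factorPerm π, mul_one, pureMat_mul]
    simp [pureMat_one]

end Cfsg.Agent.Aschbacher
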