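/-
Tensor powers and the form: all factors carry one form up to similarity.
-/
import Cfsg.Agent.Aschbacher.FormedTensor
import Cfsg.Agent.Aschbacher.TensorVec
import Cfsg.Agent.Aschbacher.Structure

set_option autoImplicit false
set_option linter.unusedSectionVars false
set_option linter.style.haveILetI false
set_option maxHeartbeats 1000000

namespace Cfsg.Agent.Aschbacher

open scoped MatrixGroups Matrix Kronecker
open Cfsg.Geo

variable {ι : Type} [Fintype ι] [DecidableEq ι] {F : Type*} [Field F]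
variable {σ : F ≃+* F} {ε : F} {f : (ι → F) → (ι → F) → F}

/-- A tensor power decomposition compatible with the form. -/
structure PowerFormData (σ : F ≃+* F) (f : (ι → F) → (ι → F) → F)
    (H : Subgroup (GL ι F)) (k t : ℕ) (e : ι ≃ (Fin t → Fin k)) (P : GL ι F)
    (G₀ : Matrix (Fin k) (Fin k) F) : Prop where
  two_le_k : 2 ≤ k
  two_le_t : 2 ≤ t
  card : k ^ t = Fintype.card ι
  gram : ∃ d : F, d ≠ 0 ∧ gramMatrix (coordForm e P f) = d • pureMat (fun _ : Fin t => G₀)
  unit : IsUnit G₀
  le : H ≤ tensorWreathSubgroup k t e P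

lemma coordEquiv_mul_right {κ : Type} [Fintype κ] [DecidableEq κ] (e : ι ≃ κ) (P : GL ι F)
    (B : GL κ F) :
    coordForm e (P * glReindex e.symm B) f = fun x y =>
      coordForm e P f ((B : Matrix κ κ F) *ᵥ x) ((B : Matrix κ κ F) *ᵥ y) := by
  have key : ∀ x : κ → F, ((P * glReindex e.symm B : GL ι F) : Matrix ι ι F) *ᵥ (x ∘ e)
      = (P : Matrix ι ι F) *ᵥ (((B : Matrix κ κ F) *ᵥ x) ∘ e) := by
    intro x
    rw [Units.val_mul, ← Matrix.mulVec_mulVec]
    congr 1
    funext i
    show (Matrix.reindex e.symm e.symm (B : Matrix κ κ F) *ᵥ (x ∘ e)) i = _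
    simp only [Matrix.reindex_apply, Equiv.symm_symm, Matrix.mulVec, dotProduct,
      Matrix.submatrix_apply, Function.comp_apply]
    exact Equiv.sum_comp e fun z => (B : Matrix κ κ F) (e i) z * x z
  funext x y
  show f _ _ = f _ _
  rw [key, key]

lemma gram_coord_mul {κ : Type} [Fintype κ] [DecidableEq κ] (h : FormSpace σ ε f) (e : ι ≃ κ)
    (P : GL ι F) (B : GL κ F) :
    gramMatrix (coordForm e (P * glReindex e.symm B) f)
      = gtr σ (gramMatrix (coordForm e P f)) (B : Matrix κ κ F) := by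
  have h' := h.coord e P
  have e1 : coordForm e (P * glReindex e.symm B) f
      = formOfGram σ (gtr σ (gramMatrix (coordForm e P f)) (B : Matrix κ κ F)) := by
    funext x y
    rw [coordEquiv_mul_right, ← formOfGram_mulVec]
    exact h'.sesq.eq_formOfGram _ _
  rw [e1, gram_formOfGram]

lemma tensorWreathSubgroup_mul {k t : ℕ} (e : ι ≃ (Fin t → Fin k)) (P : GL ι F)
    {B : GL (Fin t → Fin k) F} (hB : B ∈ tensorWreathStandard k t F) :
    tensorWreathSubgroup k t e P ≤ tensorWreathSubgroup k t e (P * glReindex e.symm B) := by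
  rintro _ ⟨_, ⟨g, hg, rfl⟩, rfl⟩
  refine ⟨glReindex e.symm (B⁻¹ * g * B),
    ⟨B⁻¹ * g * B, Subgroup.mul_mem _ (Subgroup.mul_mem _ (Subgroup.inv_mem _ hB) hg) hB, rfl⟩, ?_⟩
  show P * glReindex e.symm B * glReindex e.symm (B⁻¹ * g * B) * (P * glReindex e.symm B)⁻¹
    = P * glReindex e.symm g * P⁻¹
  rw [map_mul, map_mul, map_inv]
  group

/-- Similar factor forms can be made equal. -/
theorem FormSpace.exists_powerFormData (h : FormSpace σ ε f)
    {H : Subgroup (GL ι F)} {k t : ℕ} (hk : 2 ≤ k) (ht : 2 ≤ t) {e : ι ≃ (Fin t → Fin k)}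
    {P : GL ι F} {G : Fin t → Matrix (Fin k) (Fin k) F} {G₀ : Matrix (Fin k) (Fin k) F}
    (hG : ∃ d : F, d ≠ 0 ∧ gramMatrix (coordForm e P f) = d • pureMat G) (hu : IsUnit G₀)
    (hle : H ≤ tensorWreathSubgroup k t e P)
    (hsim : ∀ i, ∃ (B : GL (Fin k) F) (ν : F), ν ≠ 0 ∧
      gtr σ (G i) (B : Matrix (Fin k) (Fin k) F) = ν • G₀) :
    ∃ B : Fin t → GL (Fin k) F,
      PowerFormData σ f H k t e (P * glReindex e.symm (pureGL B)) G₀ := by
  obtain ⟨d, hd, hG⟩ := hG
  choose B ν hν hB using hsim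
  have hBT : pureGL B ∈ tensorWreathStandard k t F :=
    Subgroup.subset_closure (Or.inl ⟨B, fun x y => rfl⟩)
  refine ⟨B, hk, ht, ?_, ⟨d * ∏ i, ν i,
    mul_ne_zero hd (Finset.prod_ne_zero_iff.mpr fun i _ => hν i), ?_⟩, hu,
    hle.trans (tensorWreathSubgroup_mul e P hBT)⟩
  · have := Fintype.card_congr e; simpa using this.symm
  · rw [gram_coord_mul h, hG, gtr_smul, ← smul_smul, ← pureMat_smul]
    congr 1
    show (pureMat fun i => (B i : Matrix (Fin k) (Fin k) F))ᵀ * pureMat G *
      (pureMat fun i => (B i : Matrix (Fin k) (Fin k) F)).map σ = _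
    rw [pureMat_transpose, pureMat_map, pureMat_mul, pureMat_mul]
    exact congrArg pureMat (funext hB)

namespace PowerFormData

variable {H : Subgroup (GL ι F)} {k t : ℕ} {e : ι ≃ (Fin t → Fin k)} {P : GL ι F}
  {G₀ : Matrix (Fin k) (Fin k) F}

lemma structureEq (d : PowerFormData σ f H k t e P G₀) (h : FormSpace σ ε f) :
    IsTensorPowerFormStructure σ f (formOfGram σ G₀) e P := by
  obtain ⟨c, hc, hG⟩ := d.gram
  refine ⟨c, hc, fun x y => ?_⟩
  rw [show f ((P : Matrix ι ι F) *ᵥ (x ∘ e)) ((P : Matrix ι ι F) *ᵥ (y ∘ e)) = coordForm e P f x y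
    from rfl, (h.coord e P).sesq.eq_formOfGram, hG, formOfGram, gram_formOfGram, Finset.mul_sum]
  refine Finset.sum_congr rfl fun a _ => ?_
  rw [Finset.mul_sum]
  refine Finset.sum_congr rfl fun b _ => ?_
  simp only [Matrix.smul_apply, pureMat, Matrix.of_apply, smul_eq_mul]
  ring

/-- Change the common factor form inside its similarity class. -/
lemma change (d : PowerFormData σ f H k t e P G₀) (h : FormSpace σ ε f)
    {G₁ : Matrix (Fin k) (Fin k) F} (hu : IsUnit G₁) (B : GL (Fin k) F) {ν : F} (hν : ν ≠ 0)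
    (hB : gtr σ G₀ (B : Matrix (Fin k) (Fin k) F) = ν • G₁) :
    ∃ B' : Fin t → GL (Fin k) F,
      PowerFormData σ f H k t e (P * glReindex e.symm (pureGL B')) G₁ :=
  h.exists_powerFormData d.two_le_k d.two_le_t d.gram hu d.le fun _ => ⟨B, ν, hν, hB⟩

/-- The common factor form is hermitian up to a scalar. -/
lemma exists_herm [Nonempty ι] (d : PowerFormData σ f H k t e P G₀) (h : FormSpace σ ε f) :
    ∃ c : F, G₀ᵀ = c • G₀.map σ ∧ c * σ c = 1 ∧ (σ = RingEquiv.refl F → c ^ t = ε) := by
  obtain ⟨dd, hd, hG⟩ := d.gram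
  have hh := (h.coord e P).gram_herm
  rw [hG, Matrix.transpose_smul, pureMat_transpose] at hh
  have hmap : (dd • pureMat fun _ : Fin t => G₀).map σ
      = σ dd • pureMat fun _ : Fin t => G₀.map σ := by
    rw [← pureMat_map]; ext x y; simp
  rw [hmap, smul_smul] at hh
  haveI : Nonempty (Fin k) := ⟨⟨0, by have := d.two_le_k; omega⟩⟩
  have hne : G₀ ≠ 0 := fun h0 => by have := d.unit; rw [h0] at this; exact not_isUnit_zero this
  have hneT : G₀ᵀ ≠ 0 := fun h0 => hne (by simpa using congrArg Matrix.transpose h0)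
  have hneM : G₀.map σ ≠ 0 := fun h0 => hne (by
    ext i j; simpa using congrFun (congrFun h0 i) j)
  set s := ε * σ dd / dd with hs
  have hh' : pureMat (fun _ : Fin t => G₀ᵀ) = s • pureMat fun _ : Fin t => G₀.map σ := by
    rw [hs, div_eq_inv_mul, ← smul_smul, ← hh, smul_smul, inv_mul_cancel₀ hd, one_smul]
  have i₀ : Fin t := ⟨0, by have := d.two_le_t; omega⟩
  obtain ⟨c, -, hc⟩ := pureMat_unique (B := Function.update (fun _ => G₀.map σ) i₀ (s • G₀.map σ))
    (fun _ => hneT) (by
      rw [hh', show Function.update (fun _ => G₀.map σ) i₀ (s • G₀.map σ)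
        = fun j => (if j = i₀ then s else 1) • G₀.map σ from funext fun j => by
          by_cases hj : j = i₀
          · subst hj; simp
          · simp [hj]]
      rw [pureMat_smul]; simp) i₀
  rw [Function.update_self, smul_smul] at hc
  refine ⟨c * s, hc, herm_norm (by have := d.two_le_k; omega) h.invol d.unit hc, fun hσ => ?_⟩
  have h1 : pureMat (fun _ : Fin t => G₀ᵀ) = (c * s) ^ t • pureMat fun _ : Fin t => G₀.map σ := by
    rw [show (fun _ : Fin t => G₀ᵀ) = fun _ => (c * s) • G₀.map σ from funext fun _ => hc,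
      pureMat_smul]
    simp
  rw [hh'] at h1
  have h2 := smul_left_injective F (pureMat_ne_zero fun _ : Fin t => hneM) h1
  rw [hσ, RingEquiv.refl_apply] at hs
  rw [hs, mul_div_assoc, div_self hd, mul_one] at h2 ⊢
  exact h2.symm

end PowerFormData

/-- Two tensor factors of the same size with similar forms form a tensor square. -/
theorem TensorFormData.toPower {H : Subgroup (GL ι F)} {a : ℕ} {e : ι ≃ Fin a × Fin a}
    {P : GL ι F} {G₁ G₂ : Matrix (Fin a) (Fin a) F} {c₁ c₂ : F}
    (d : TensorFormData σ ε f H a a e P G₁ G₂ c₁ c₂) (h : FormSpace σ ε f)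
    {G₀ : Matrix (Fin a) (Fin a) F} (hu : IsUnit G₀)
    (h₁ : ∃ (B : GL (Fin a) F) (ν : F), ν ≠ 0 ∧ gtr σ G₁ (B : Matrix (Fin a) (Fin a) F) = ν • G₀)
    (h₂ : ∃ (B : GL (Fin a) F) (ν : F), ν ≠ 0 ∧ gtr σ G₂ (B : Matrix (Fin a) (Fin a) F) = ν • G₀) :
    ∃ (e' : ι ≃ (Fin 2 → Fin a)) (P' : GL ι F), PowerFormData σ f H a 2 e' P' G₀ := by
  set τ := (finTwoArrowEquiv (Fin a)).symm with hτ
  obtain ⟨c, hc, hG⟩ := d.gram
  have hle : H ≤ tensorWreathSubgroup a 2 (e.trans τ) P := by
    refine d.le.trans ?_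
    rintro _ ⟨_, ⟨k, ⟨x, y, hk⟩, rfl⟩, rfl⟩
    let k' : GL (Fin 2 → Fin a) F := glReindex τ k
    refine ⟨glReindex (e.trans τ).symm k', ⟨k', Subgroup.subset_closure
      (Or.inl ⟨![x, y], fun u v => ?_⟩), rfl⟩, ?_⟩
    · show (k : Matrix (Fin a × Fin a) (Fin a × Fin a) F) (u 0, u 1) (v 0, v 1) = _
      rw [hk, Fin.prod_univ_two, Matrix.kroneckerMap_apply]
      rfl
    · rfl
  have hgram : gramMatrix (coordForm (e.trans τ) P f) = c • pureMat ![G₁, G₂] := by
    ext u v
    have h1 := congrFun (congrFun hG (u 0, u 1)) (v 0, v 1)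
    have hs : ∀ w : Fin 2 → Fin a, (Pi.single w (1 : F) : (Fin 2 → Fin a) → F) ∘ (e.trans τ)
        = (Pi.single (w 0, w 1) (1 : F) : Fin a × Fin a → F) ∘ e := by
      intro w
      funext z
      simp only [Function.comp_apply, Equiv.trans_apply, Pi.single_apply]
      by_cases hw : e z = (w 0, w 1)
      · rw [if_pos hw, if_pos]
        rw [hτ, Equiv.symm_apply_eq, hw]; rfl
      · rw [if_neg hw, if_neg]
        intro h2
        exact hw (by rw [hτ, Equiv.symm_apply_eq] at h2; rw [h2]; rfl)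
    simp only [gramMatrix, coordForm] at h1 ⊢
    rw [hs, hs, h1]
    simp [pureMat, Fin.prod_univ_two, Matrix.kroneckerMap_apply]
  obtain ⟨B', hP'⟩ := h.exists_powerFormData d.two_le₁ le_rfl ⟨c, hc, hgram⟩ hu hle
    (fun i => by fin_cases i <;> assumption)
  exact ⟨_, _, hP'⟩

/-- The tensor-induced structure of a group of similitudes. -/
theorem FormSpace.exists_powerFormData_of_tensorPower [Nonempty ι] (h : FormSpace σ ε f)
    {H : Subgroup (GL ι F)} {t k : ℕ} {A : Fin t → Subalgebra F (Matrix ι ι F)}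
    (hA : TensorPowerData H t k A) (hH : H ≤ similarityGroup f) :
    ∃ (e : ι ≃ (Fin t → Fin k)) (P : GL ι F) (G₀ : Matrix (Fin k) (Fin k) F) (i₀ : Fin t),
      PowerFormData σ f H k t e P G₀ ∧
      ∀ Y ∈ A i₀, ∃ X, Y = coordAlg e P (slotMat i₀ X) := by
  classical
  have hk := hA.two_le_m
  have ht := hA.two_le
  haveI : Nonempty (Fin k) := ⟨⟨0, by omega⟩⟩
  have hφ := fun i => (hA.iso i).some
  obtain ⟨hcard, e, P, hperm, hslot⟩ := exists_tensorPower (by omega) (by omega) A hφ hA.comm hA.gen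
  have hle : H ≤ tensorWreathSubgroup k t e P := fun g hg => by
    obtain ⟨π, hπ⟩ := hA.perm g hg
    exact hperm g π hπ
  have hslot' : ∀ i Y, Y ∈ A i ↔ ∃ X, Y = coordAlg e P (slotMat i X) := hslot
  have h' := h.coord e P
  set G := gramMatrix (coordForm e P f) with hGdef
  have hGu : IsUnit G := isUnit_gram h'.sesq h'.nondeg
  have hGd : IsUnit G.det := (Matrix.isUnit_iff_isUnit_det _).mp hGu
  have hinj : ∀ i X Y, slotMat (F := F) (m := k) (t := t) i X = slotMat i Y → X = Y := by
    intro i X Y hXY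
    obtain ⟨a⟩ := (inferInstance : Nonempty (Fin k))
    ext p q
    have h1 := congrFun (congrFun hXY (Function.update (fun _ => a) i p))
      (Function.update (fun _ => a) i q)
    simp only [slotMat, pureMat, Matrix.of_apply] at h1
    rw [← Finset.mul_prod_erase _ _ (Finset.mem_univ i),
      ← Finset.mul_prod_erase _ _ (Finset.mem_univ i),
      Finset.prod_eq_one (fun j hj => by
        simp [Function.update_of_ne (Finset.ne_of_mem_erase hj)]),
      Finset.prod_eq_one (fun j hj => by
        simp [Function.update_of_ne (Finset.ne_of_mem_erase hj)])] at h1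
    simpa using h1
  have hclo : ∀ i X, ∃ Y, G⁻¹ * slotMat i X * G = slotMat i Y := by
    intro i X
    obtain ⟨S, hS, hSA⟩ := hA.env i
    have hAc : AdjClosed σ f (A i) := hSA ▸ h.adjClosed_env (hS.trans hH)
    obtain ⟨Y, hY⟩ := (hslot' i _).mp (hAc _ ((hslot' i (coordAlg e P (slotMat i Xᵀ))).mpr ⟨_, rfl⟩))
    rw [h.adj_coord] at hY
    have hY' := (coordAlg e P).injective hY
    refine ⟨Y.map σ, ?_⟩
    have h1 := h'.adj_gram (slotMat i Xᵀ)
    have eT : (slotMat (F := F) i Xᵀ)ᵀ = slotMat i X := by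
      rw [slotMat, slotMat, pureMat_transpose]
      congr 1; funext j
      by_cases hj : j = i
      · subst hj; simp
      · simp [Function.update_of_ne hj]
    have eM : (slotMat (F := F) i Y).map σ = slotMat i (Y.map σ) := by
      rw [slotMat, slotMat, pureMat_map]
      congr 1; funext j
      by_cases hj : j = i
      · subst hj; simp
      · simp [Function.update_of_ne hj, Matrix.map_one σ (map_zero σ) (map_one σ)]
    rw [eT, hY', eM, ← hGdef] at h1
    rw [mul_assoc, h1, ← mul_assoc, Matrix.nonsing_inv_mul _ hGd, one_mul]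
  choose Z hZ using hclo
  have hmulslot : ∀ i (X Y : Matrix (Fin k) (Fin k) F),
      slotMat (t := t) i (X * Y) = slotMat i X * slotMat i Y := fun i X Y => by
    rw [slotMat, slotMat, slotMat, pureMat_mul]
    congr 1; funext j
    by_cases hj : j = i
    · subst hj; simp
    · simp [Function.update_of_ne hj]
  have hone : ∀ i, slotMat (F := F) (m := k) (t := t) i 1 = 1 := fun i => by
    rw [slotMat, ← pureMat_one]
    congr 1; funext j
    by_cases hj : j = i
    · subst hj; simp
    · simp [Function.update_of_ne hj]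
  have hsmul : ∀ i (c : F) (X : Matrix (Fin k) (Fin k) F),
      slotMat (t := t) i (c • X) = c • slotMat i X := fun i c X => by
    show pureMat _ = c • pureMat _
    rw [show Function.update (fun _ => (1 : Matrix (Fin k) (Fin k) F)) i (c • X)
      = fun j => (if j = i then c else 1) • Function.update (fun _ => 1) i X j from funext fun j => by
        by_cases hj : j = i
        · subst hj; simp
        · simp [hj], pureMat_smul]
    simp
  have hadd : ∀ i (X Y : Matrix (Fin k) (Fin k) F),
      slotMat (t := t) i (X + Y) = slotMat i X + slotMat i Y := fun i X Y => by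
    ext p q
    simp only [slotMat, pureMat, Matrix.of_apply, Matrix.add_apply]
    simp only [← Finset.mul_prod_erase _ _ (Finset.mem_univ i), Function.update_self,
      Matrix.add_apply, add_mul]
    congr 1 <;> refine congrArg _ (Finset.prod_congr rfl fun j hj => ?_) <;>
      simp [Function.update_of_ne (Finset.ne_of_mem_erase hj)]
  let ψ : Fin t → (Matrix (Fin k) (Fin k) F →ₐ[F] Matrix (Fin k) (Fin k) F) := fun i =>
    AlgHom.ofLinearMap
      { toFun := Z i
        map_add' := fun X Y => hinj i _ _ (by rw [hadd, ← hZ, ← hZ, ← hZ, hadd, mul_add, add_mul])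
        map_smul' := fun c X => hinj i _ _ (by
          rw [RingHom.id_apply, hsmul, ← hZ, ← hZ, hsmul, Matrix.mul_smul, Matrix.smul_mul]) }
      (hinj i _ _ (by
        show slotMat i (Z i 1) = _
        rw [← hZ, hone, mul_one, Matrix.nonsing_inv_mul _ hGd]))
      (fun X Y => hinj i _ _ (by
        show slotMat i (Z i (X * Y)) = slotMat i (Z i X * Z i Y)
        rw [hmulslot i (Z i X), ← hZ, ← hZ, ← hZ, hmulslot]
        simp only [mul_assoc]
        rw [← mul_assoc G G⁻¹, Matrix.mul_nonsing_inv _ hGd, one_mul]))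
  choose u hu using fun i => skolem_noether (ψ i)
  have hu' : ∀ i X, Z i X = cj (u i) X := hu
  -- G times the tensor of the u_i commutes with every slot
  set U : Matrix (Fin t → Fin k) (Fin t → Fin k) F :=
    pureMat fun j => (u j : Matrix (Fin k) (Fin k) F) with hU
  have hcomm : ∀ i X, slotMat i X * (G * U) = (G * U) * slotMat i X := by
    intro i X
    have h1 : U * slotMat i X = slotMat i (Z i X) * U := by
      have := slotMat_conj u 1 i X
      have hone' : (factorPerm (1 : Equiv.Perm (Fin t)) :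
          Matrix (Fin t → Fin k) (Fin t → Fin k) F) = 1 := by
        ext x z; simp [factorPerm, Matrix.one_apply, eq_comm]
      rw [hone', mul_one, Equiv.Perm.one_apply] at this
      rw [hu', hU]; exact this
    rw [mul_assoc G U, h1, ← hZ]
    simp only [mul_assoc]
    rw [← mul_assoc G G⁻¹, Matrix.mul_nonsing_inv _ hGd, one_mul]
  have hall : ∀ Y, Y * (G * U) = (G * U) * Y := by
    intro Y
    have hle' : (⨆ i, A i) ≤ Subalgebra.centralizer F {coordAlg e P (G * U)} := iSup_le fun i W hW => by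
      obtain ⟨X, rfl⟩ := (hslot' i W).mp hW
      rw [Subalgebra.mem_centralizer_iff]
      rintro _ rfl
      rw [← map_mul, ← map_mul, hcomm]
    rw [hA.gen] at hle'
    have h2 := Subalgebra.mem_centralizer_iff F |>.mp (hle' (Algebra.mem_top (x := coordAlg e P Y))) _ rfl
    rw [← map_mul, ← map_mul] at h2
    exact ((coordAlg e P).injective h2).symm
  obtain ⟨c, hc⟩ := Matrix.mem_range_scalar_of_commute_single
    (M := G * U) (fun i j _ => hall _)
  have hc0 : c ≠ 0 := by
    intro h0
    have h1 : IsUnit (G * U) := hGu.mul (isUnit_pureMat fun j => (u j).isUnit)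
    rw [← hc, h0, map_zero] at h1
    exact not_isUnit_zero h1
  let Gf : Fin t → Matrix (Fin k) (Fin k) F := fun j => ((u j)⁻¹ : GL (Fin k) F).val
  have hGeq : G = c • pureMat Gf := by
    calc G = G * (U * pureMat Gf) := by
          rw [hU, pureMat_mul]; simp [Gf, pureMat_one]
      _ = (G * U) * pureMat Gf := (mul_assoc _ _ _).symm
      _ = c • pureMat Gf := by
          rw [← hc, show (Matrix.scalar (Fin t → Fin k) c) = c • 1 by
            simp [Matrix.smul_one_eq_diagonal], Matrix.smul_mul, one_mul]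
  have hGf : ∀ j, IsUnit (Gf j) := fun j => ((u j)⁻¹).isUnit
  have hGf0 : ∀ j, Gf j ≠ 0 := fun j h0 => by
    have := hGf j; rw [h0] at this; exact not_isUnit_zero this
  let i₀ : Fin t := ⟨0, by omega⟩
  have hsim : ∀ i, ∃ (B : GL (Fin k) F) (ν : F), ν ≠ 0 ∧
      gtr σ (Gf i) (B : Matrix (Fin k) (Fin k) F) = ν • Gf i₀ := by
    intro i
    obtain ⟨g, hg, hgA⟩ := hA.trans i₀ i
    obtain ⟨g', rfl⟩ := (coordEquiv e P).surjective g
    have hgW := hle hg
    rw [tensorWreathSubgroup_eq] at hgW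
    obtain ⟨g'', hg'', he⟩ := hgW
    obtain rfl : g'' = g' := (coordEquiv e P).injective he
    obtain ⟨y, π, hy⟩ := tensorWreath_normalForm hg''
    have hπ : π i₀ = i := by
      by_contra hne
      -- two slots would share a non-scalar element
      let X₀ : Matrix (Fin k) (Fin k) F :=
        cj (y (π i₀))⁻¹ (Matrix.single ⟨0, by omega⟩ ⟨1, by omega⟩ 1)
      obtain ⟨X, hX⟩ := (hslot' i _).mp (hgA _ ((hslot' i₀ (coordAlg e P (slotMat i₀ X₀))).mpr ⟨_, rfl⟩))
      rw [cj_apply, coordEquiv_val, ← map_mul, hy, slotMat_conj, map_mul, mul_assoc, ← hy,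
        ← coordEquiv_val, ← Units.val_mul, mul_inv_cancel, Units.val_one, mul_one] at hX
      have hX' := (coordAlg e P).injective hX
      rw [show cj (y (π i₀)) X₀ = Matrix.single ⟨0, by omega⟩ ⟨1, by omega⟩ (1 : F) by
        simp [X₀, cj_apply, mul_assoc]] at hX'
      obtain ⟨d, hd⟩ := slot_eq_smul_one (by omega) hne (fun h0 => by
        have := congrFun (congrFun h0 ⟨0, by omega⟩) ⟨1, by omega⟩
        simp at this) hX'
      have := congrFun (congrFun hd ⟨0, by omega⟩) ⟨1, by omega⟩
      simp [Fin.ext_iff] at this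
    obtain ⟨cs, hcs⟩ := similarityGroup_coord e P (hH hg)
    have h1 : gtr σ G (g'' : Matrix (Fin t → Fin k) (Fin t → Fin k) F) = (cs : F) • G := by
      have e1 : formOfGram σ (gtr σ G (g'' : Matrix (Fin t → Fin k) (Fin t → Fin k) F))
          = formOfGram σ ((cs : F) • G) := by
        funext a b
        rw [← formOfGram_mulVec, ← h'.sesq.eq_formOfGram, hcs, h'.sesq.eq_formOfGram a b,
          formOfGram_eq, formOfGram_eq, Matrix.smul_mulVec, dotProduct_smul, smul_eq_mul]
      have := congrArg gramMatrix e1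
      rwa [gram_formOfGram, gram_formOfGram] at this
    rw [hGeq, gtr_smul, smul_comm, hy, gtr_pureMat_perm] at h1
    have h2 := smul_right_injective _ hc0 h1
    have h3 : pureMat (fun j => gtr σ (Gf (π j)) (y (π j) : Matrix (Fin k) (Fin k) F))
        = pureMat (fun j => (if j = i₀ then (cs : F) else 1) • Gf j) := by
      rw [h2, pureMat_smul]; simp
    obtain ⟨d, hd, hd'⟩ := pureMat_unique (fun j h0 => by
      have h4 : IsUnit (gtr σ (Gf (π j)) (y (π j) : Matrix (Fin k) (Fin k) F)) :=
        (((Matrix.isUnit_transpose _).mpr (y (π j)).isUnit).mul (hGf _)).mul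
          ((y (π j)).isUnit.map σ.toRingHom.mapMatrix)
      rw [h0] at h4; exact not_isUnit_zero h4) h3 i₀
    rw [hπ, if_pos rfl, smul_smul] at hd'
    exact ⟨y i, d * cs, mul_ne_zero hd cs.ne_zero, hd'⟩
  obtain ⟨B, hB⟩ := h.exists_powerFormData hk ht ⟨c, hc0, hGeq⟩ (hGf i₀) hle hsim
  refine ⟨e, P * glReindex e.symm (pureGL B), Gf i₀, i₀, hB, fun Y hY => ?_⟩
  obtain ⟨X, rfl⟩ := (hslot' i₀ Y).mp hY
  refine ⟨cj (B i₀)⁻¹ X, ?_⟩
  show cj P _ = cj (P * glReindex e.symm (pureGL B)) _
  rw [cj_mul]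
  congr 1
  set ρ := Matrix.reindexAlgEquiv F F e.symm
  show ρ (slotMat i₀ X) = cj (glReindex e.symm (pureGL B)) (ρ (slotMat i₀ (cj (B i₀)⁻¹ X)))
  have h1 : pureMat (fun j => (B j : Matrix (Fin k) (Fin k) F)) * slotMat i₀ (cj (B i₀)⁻¹ X)
      = slotMat i₀ X * pureMat (fun j => (B j : Matrix (Fin k) (Fin k) F)) := by
    rw [slotMat, slotMat, pureMat_mul, pureMat_mul]
    congr 1; funext j
    by_cases hj : j = i₀
    · subst hj; simp [cj_apply, mul_assoc]
    · simp [Function.update_of_ne hj]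
  rw [cj_apply]
  show ρ _ = ρ (pureMat fun j => (B j : Matrix (Fin k) (Fin k) F)) * ρ _ *
    ρ (pureMat fun j => ((B j)⁻¹ : GL (Fin k) F).val)
  rw [← map_mul, ← map_mul, h1, mul_assoc, pureMat_mul]
  simp [pureMat_one]

end Cfsg.Agent.Aschbacher
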