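/-
The symplectic-type case for isometry groups.
-/
import Cfsg.Agent.Aschbacher.SympClass
import Cfsg.Agent.Aschbacher.Structure
import Cfsg.Agent.Aschbacher.FormedSubfield

set_option autoImplicit false
set_option linter.unusedSectionVars false
set_option linter.style.haveILetI false
set_option maxHeartbeats 1000000

namespace Cfsg.Agent.Aschbacher

open scoped MatrixGroups Matrix
open Cfsg.Geo

variable {ι : Type} [Fintype ι] [DecidableEq ι] {F : Type*} [Field F]

/-- The isometry group of a two-argument form. -/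
def fixGroup (f : (ι → F) → (ι → F) → F) : Subgroup (GL ι F) where
  carrier := {g | ∀ u v, f ((g : Matrix ι ι F) *ᵥ u) ((g : Matrix ι ι F) *ᵥ v) = f u v}
  one_mem' := fun u v => by simp
  mul_mem' {a b} ha hb u v := by
    rw [Units.val_mul, ← Matrix.mulVec_mulVec, ← Matrix.mulVec_mulVec, ha, hb]
  inv_mem' {a} ha u v := by
    have h := ha (((a⁻¹ : GL ι F) : Matrix ι ι F) *ᵥ u) (((a⁻¹ : GL ι F) : Matrix ι ι F) *ᵥ v)
    simp only [Matrix.mulVec_mulVec, ← Units.val_mul, mul_inv_cancel, Units.val_one,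
      Matrix.one_mulVec] at h
    exact h.symm

lemma conj_mem_fixGroup {f : (ι → F) → (ι → F) → F} {g x : GL ι F} (hg : g ∈ similarityGroup f)
    (hx : x ∈ fixGroup f) : g * x * g⁻¹ ∈ fixGroup f := by
  obtain ⟨c, hc⟩ := hg
  intro u v
  have e : ∀ w : ι → F, (g : Matrix ι ι F) *ᵥ (((g⁻¹ : GL ι F) : Matrix ι ι F) *ᵥ w) = w := fun w => by
    rw [Matrix.mulVec_mulVec, ← Units.val_mul, mul_inv_cancel, Units.val_one, Matrix.one_mulVec]
  rw [Units.val_mul, Units.val_mul, ← Matrix.mulVec_mulVec, ← Matrix.mulVec_mulVec,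
    ← Matrix.mulVec_mulVec, ← Matrix.mulVec_mulVec, hc, hx, ← hc, e, e]

variable {σ : F ≃+* F} {ε : F} {f : (ι → F) → (ι → F) → F}

/-- The scalars that are r-elements of the symplectic type group and isometries. -/
def isoRoots (σ : F ≃+* F) (z : ℕ) : Subgroup Fˣ where
  carrier := {c | c ^ z = 1 ∧ (c : F) * σ (c : F) = 1}
  one_mem' := ⟨one_pow _, by simp⟩
  mul_mem' {a b} ha hb := ⟨by rw [mul_pow, ha.1, hb.1, one_mul], by
    rw [Units.val_mul, map_mul, mul_mul_mul_comm, ha.2, hb.2, one_mul]⟩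
  inv_mem' {a} ha := ⟨by rw [inv_pow, ha.1, inv_one], by
    rw [Units.val_inv_eq_inv_val, map_inv₀, ← mul_inv, ha.2, inv_one]⟩

/-- A symplectic-type group of isometries. -/
structure IsoSympData (σ : F ≃+* F) (f : (ι → F) → (ι → F) → F) (H : Subgroup (GL ι F))
    (r m z : ℕ) (R : Subgroup (GL ι F)) : Prop where
  prime : r.Prime
  char_ne : (r : F) ≠ 0
  pos : 1 ≤ m
  card_eq : Fintype.card ι = r ^ m
  fixes : FixesForm (matrixSet R) f
  normal : ∀ h ∈ H, ∀ x ∈ R, h * x * h⁻¹ ∈ R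
  absIrred : ActsAbsolutelyIrreducibly (matrixSet R)
  sympType : IsSymplecticTypeGroup r R
  card_center : Nat.card (Subgroup.center R) = Nat.card (isoRoots σ z)
  card_R : Nat.card R = Nat.card (isoRoots σ z) * r ^ (2 * m)
  zcase : (Odd r ∧ z = r) ∨ (r = 2 ∧ (z = 2 ∨ z = 4))
  nontrivial : ∃ c ∈ isoRoots σ z, c ≠ 1 ∧ c ^ r = 1
  trace_scalar : ∀ x ∈ R, (x : Matrix ι ι F).trace ≠ 0 → x ∈ scalars ι F
  reps : ∃ b : Fin (r ^ (2 * m)) → GL ι F, LinearIndependent F (fun k => (b k : Matrix ι ι F)) ∧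
    ∀ x ∈ R, ∃ (k : Fin (r ^ (2 * m))) (c : Fˣ), (x : Matrix ι ι F) = (c : F) • (b k : Matrix ι ι F)
  realisable : ∀ F₀ : Subfield F, (∀ c ∈ isoRoots σ z, (c : F) ∈ F₀) →
    RealisableOver F₀ (matrixSet R)

/-- The symplectic-type data of a group of isometries. -/
theorem FormSpace.exists_isoSympData [Fintype F] [Nonempty ι] (h : FormSpace σ ε f)
    (hdim : 2 ≤ Fintype.card ι) {H N : Subgroup (GL ι F)} (hH : FixesForm (matrixSet H) f)
    (hN : N ≤ H ⊔ scalars ι F)
    (hmin : ∀ M : Subgroup (GL ι F), scalars ι F ≤ M → M ≤ N →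
      (∀ g ∈ H ⊔ scalars ι F, ∀ x ∈ M, g * x * g⁻¹ ∈ M) → M = scalars ι F ∨ M = N)
    (hNnorm : ∀ g ∈ H ⊔ scalars ι F, ∀ x ∈ N, g * x * g⁻¹ ∈ N) (hZN : scalars ι F ≤ N)
    {r m z : ℕ} {R : Subgroup (GL ι F)} (d : SympData (H ⊔ scalars ι F) N r m z R) :
    ∃ R₁ : Subgroup (GL ι F), IsoSympData σ f H r m z R₁ := by
  classical
  set Z := scalars ι F with hZdef
  set sc : Fˣ →* GL ι F := Units.map (Matrix.scalar ι : F →+* Matrix ι ι F).toMonoidHom with hsc
  have hscv : ∀ c : Fˣ, (sc c : Matrix ι ι F) = (c : F) • (1 : Matrix ι ι F) := fun c => by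
    simp [hsc, Matrix.smul_one_eq_diagonal]
  have hscinj : Function.Injective sc := fun a b hab => by
    have h2 : Matrix.scalar ι (a : F) = Matrix.scalar ι (b : F) := congrArg Units.val hab
    exact Units.ext (Matrix.scalar_inj.mp h2)
  have hsim : H ⊔ Z ≤ similarityGroup f := h.sup_scalars_le_similarity hH
  set R₁ := R ⊓ fixGroup f with hR₁
  have hR₁R : R₁ ≤ R := inf_le_left
  have hR₁n : ∀ g ∈ H ⊔ Z, ∀ x ∈ R₁, g * x * g⁻¹ ∈ R₁ := fun g hg x hx =>
    ⟨d.normal g hg x hx.1, conj_mem_fixGroup (hsim hg) hx.2⟩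
  obtain ⟨u₀, v₀, huv⟩ : ∃ u v, f u v ≠ 0 := by
    obtain ⟨i⟩ := (inferInstance : Nonempty ι)
    obtain ⟨-, x, hx⟩ := h.nondeg (Pi.single i 1) (fun h0 => one_ne_zero (α := F) (by
      simpa using congrFun h0 i))
    exact ⟨_, _, hx⟩
  -- scalars in R₁
  have hscR₁ : ∀ c : Fˣ, sc c ∈ R₁ ↔ c ∈ isoRoots σ z := by
    intro c
    constructor
    · rintro ⟨h1, h2⟩
      refine ⟨(d.scalar_pow c).mp h1, ?_⟩
      have h3 := h2 u₀ v₀
      rw [hscv, Matrix.smul_mulVec, Matrix.smul_mulVec, Matrix.one_mulVec, Matrix.one_mulVec,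
        h.sesq.smul_left, h.sesq.smul_right, ← mul_assoc] at h3
      exact mul_right_cancel₀ huv (h3.trans (one_mul _).symm)
    · intro hc
      refine ⟨(d.scalar_pow c).mpr hc.1, fun u v => ?_⟩
      rw [hscv, Matrix.smul_mulVec, Matrix.smul_mulVec, Matrix.one_mulVec, Matrix.one_mulVec,
        h.sesq.smul_left, h.sesq.smul_right, ← mul_assoc, hc.2, one_mul]
  have hcent : ∀ x : GL ι F, (∀ y ∈ R, x * y = y * x) → x ∈ Z := by
    intro x hx
    obtain ⟨c, hc⟩ := d.absIrred.2 (x : Matrix ι ι F) (by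
      rintro _ ⟨y, hy, rfl⟩
      simpa using congrArg Units.val (hx y hy))
    have hc0 : c ≠ 0 := fun h0 => x.ne_zero (by rw [hc, h0, zero_smul])
    exact (mem_scalars_iff x).mpr ⟨Units.mk0 c hc0, hc⟩
  have hnab : ¬ ∀ x ∈ R, ∀ y ∈ R, x * y = y * x := by
    intro hab
    have hle : Submodule.span F (matrixSet R) ≤ F ∙ (1 : Matrix ι ι F) := by
      rw [Submodule.span_le]
      rintro _ ⟨x, hx, rfl⟩
      obtain ⟨c, hc⟩ := (mem_scalars_iff x).mp (hcent x (hab x hx))
      show (x : Matrix ι ι F) ∈ _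
      rw [hc]
      exact Submodule.smul_mem _ _ (Submodule.mem_span_singleton_self _)
    rw [span_eq_top d.absIrred] at hle
    have h1 := Submodule.finrank_mono hle
    rw [finrank_top, finrank_span_singleton (one_ne_zero (α := Matrix ι ι F)),
      Module.finrank_matrix, Module.finrank_self, mul_one] at h1
    nlinarith
  -- R₁ covers R modulo scalars
  have hcov : ∀ x ∈ R, ∃ y ∈ R₁, x * y⁻¹ ∈ Z := by
    have hM : R₁ ⊔ Z = N := by
      refine (hmin _ le_sup_right (sup_le (hR₁R.trans d.le) hZN) ?_).resolve_left ?_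
      · intro g hg x hx
        obtain ⟨a, ha, b, hb, rfl⟩ := Subgroup.mem_sup_of_normal_right.mp hx
        rw [show g * (a * b) * g⁻¹ = (g * a * g⁻¹) * (g * b * g⁻¹) by group]
        exact Subgroup.mul_mem _ (Subgroup.mem_sup_left (hR₁n g hg a ha))
          (Subgroup.mem_sup_right (scalars_normal.conj_mem b hb g))
      · intro hM
        apply hnab
        have hmul : ∀ x : R, ∃ c : Fˣ, ∀ u v,
            f (((x : GL ι F) : Matrix ι ι F) *ᵥ u) (((x : GL ι F) : Matrix ι ι F) *ᵥ v)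
              = (c : F) * f u v := fun x => hsim (hN (d.le x.2))
        choose μ hμ using hmul
        let μh : R →* Fˣ := MonoidHom.mk' μ fun x y => Units.ext (mul_right_cancel₀ huv (by
          rw [← hμ (x * y) u₀ v₀]
          push_cast
          rw [← Matrix.mulVec_mulVec, ← Matrix.mulVec_mulVec, hμ x, hμ y, mul_assoc]))
        have hker : μh.ker ≤ Subgroup.center R := by
          intro x hx
          have hx₁ : (x : GL ι F) ∈ R₁ := ⟨x.2, fun u v => by
            rw [hμ x u v, show μ x = 1 from hx, Units.val_one, one_mul]⟩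
          have hxZ : (x : GL ι F) ∈ Z := hM ▸ Subgroup.mem_sup_left hx₁
          rw [Subgroup.mem_center_iff]
          exact fun y => Subtype.ext (scalars_comm hxZ _).symm
        intro x hx y hy
        exact congrArg Subtype.val
          ((commutative_of_cyclic_center_quotient μh hker) (⟨x, hx⟩ : R) ⟨y, hy⟩)
    intro x hx
    have hxN := d.le hx
    rw [← hM] at hxN
    obtain ⟨y, hy, w, hw, rfl⟩ := Subgroup.mem_sup_of_normal_right.mp hxN
    exact ⟨y, hy, by rwa [← scalars_comm hw y, mul_assoc, mul_inv_cancel, mul_one]⟩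
  obtain ⟨b, hbR, hbli, hbcov, htr⟩ := d.reps
  choose b' hb'R hb' using fun k => hcov (b k) (hbR k)
  have hb'v : ∀ k, ∃ c : Fˣ, (b k : Matrix ι ι F) = (c : F) • (b' k : Matrix ι ι F) := fun k => by
    obtain ⟨c, hc⟩ := (mem_scalars_iff _).mp (hb' k)
    refine ⟨c, ?_⟩
    have : (b k : Matrix ι ι F) = ((b k * (b' k)⁻¹ : GL ι F) : Matrix ι ι F) * (b' k : Matrix ι ι F) := by
      simp [mul_assoc]
    rw [this, hc, Matrix.smul_mul, one_mul]
  choose cb hcb using hb'v
  have hli : LinearIndependent F fun k => (b' k : Matrix ι ι F) := by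
    rw [Fintype.linearIndependent_iff]
    intro g hg k
    have h1 := Fintype.linearIndependent_iff.mp hbli (fun k => g k / (cb k : F)) (by
      rw [← hg]
      refine Finset.sum_congr rfl fun k _ => ?_
      rw [hcb, smul_smul, div_mul_cancel₀ _ (cb k).ne_zero]) k
    exact (div_eq_zero_iff.mp h1).resolve_right (cb k).ne_zero
  have hcov' : ∀ x ∈ R₁, ∃ k, ∃ c ∈ isoRoots σ z, x = sc c * b' k := by
    intro x hx
    obtain ⟨k, hk⟩ := hbcov x hx.1
    have h1 : x * (b' k)⁻¹ ∈ Z := by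
      rw [show x * (b' k)⁻¹ = (x * (b k)⁻¹) * (b k * (b' k)⁻¹) by group]
      exact Z.mul_mem hk (hb' k)
    obtain ⟨c, hc⟩ := scalars_ext h1
    exact ⟨k, c, (hscR₁ c).mp (hc ▸ R₁.mul_mem hx (R₁.inv_mem (hb'R k))), by rw [hsc, ← hc]; group⟩
  have hspan : matrixSet R ⊆ Submodule.span F (matrixSet R₁) := by
    rintro _ ⟨x, hx, rfl⟩
    obtain ⟨y, hy, hz⟩ := hcov x hx
    obtain ⟨c, hc⟩ := (mem_scalars_iff _).mp hz
    show (x : Matrix ι ι F) ∈ _
    have : (x : Matrix ι ι F) = ((x * y⁻¹ : GL ι F) : Matrix ι ι F) * (y : Matrix ι ι F) := by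
      simp [mul_assoc]
    rw [this, hc, Matrix.smul_mul, one_mul]
    exact Submodule.smul_mem _ _ (Submodule.subset_span (mem_matrixSet hy))
  have habs : ActsAbsolutelyIrreducibly (matrixSet R₁) := by
    apply absIrred_of_env_eq_top
    rw [← Algebra.toSubmodule_eq_top, env_toSubmodule, eq_top_iff, ← span_eq_top d.absIrred]
    exact Submodule.span_le.mpr hspan
  have hcentR₁ : ∀ x : R₁, x ∈ Subgroup.center R₁ ↔ (x : GL ι F) ∈ Z := by
    intro x
    rw [Subgroup.mem_center_iff]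
    refine ⟨fun hx => ?_, fun hx y => Subtype.ext (scalars_comm hx _).symm⟩
    obtain ⟨c, hc⟩ := habs.2 ((x : GL ι F) : Matrix ι ι F) (by
      rintro _ ⟨y, hy, rfl⟩
      simpa using congrArg (fun w : R₁ => ((w : GL ι F) : Matrix ι ι F)) (hx ⟨y, hy⟩).symm)
    have hc0 : c ≠ 0 := fun h0 => (x : GL ι F).ne_zero (by rw [hc, h0, zero_smul])
    exact (mem_scalars_iff _).mpr ⟨Units.mk0 c hc0, hc⟩
  have hcardc : Nat.card (Subgroup.center R₁) = Nat.card (isoRoots σ z) := by
    refine (Nat.card_congr (Equiv.ofBijective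
      (fun c : isoRoots σ z => (⟨⟨sc (c : Fˣ), (hscR₁ c).mpr c.2⟩,
        (hcentR₁ _).mpr ⟨(c : Fˣ), rfl⟩⟩ : Subgroup.center R₁)) ⟨?_, ?_⟩)).symm
    · intro a b hab
      exact Subtype.ext (hscinj (congrArg (fun w : Subgroup.center R₁ => ((w : R₁) : GL ι F)) hab))
    · intro x
      obtain ⟨c, hc⟩ := scalars_ext ((hcentR₁ _).mp x.2)
      exact ⟨⟨c, (hscR₁ c).mp (hc ▸ (x : R₁).2)⟩, Subtype.ext (Subtype.ext hc.symm)⟩
  have hcardR : Nat.card R₁ = Nat.card (isoRoots σ z) * r ^ (2 * m) := by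
    let ψ : isoRoots σ z × Fin (r ^ (2 * m)) → R₁ := fun p =>
      ⟨sc (p.1 : Fˣ) * b' p.2, R₁.mul_mem ((hscR₁ _).mpr p.1.2) (hb'R p.2)⟩
    have hψ : Function.Bijective ψ := by
      refine ⟨fun p p' hpp => ?_, fun x => ?_⟩
      · have h1 : ((p.1 : Fˣ) : F) • (b' p.2 : Matrix ι ι F)
            = ((p'.1 : Fˣ) : F) • (b' p'.2 : Matrix ι ι F) := by
          have := congrArg (fun w : R₁ => ((w : GL ι F) : Matrix ι ι F)) hpp
          simpa [ψ, hscv] using this
        have hk : p.2 = p'.2 := by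
          by_contra hne
          have h2 := Fintype.linearIndependent_iff.mp hli
            (Pi.single p.2 ((p.1 : Fˣ) : F) - Pi.single p'.2 ((p'.1 : Fˣ) : F)) (by
              simp [sub_smul, Finset.sum_sub_distrib, Pi.single_apply, ite_smul, h1]) p.2
          simp [Pi.single_eq_of_ne hne] at h2
        refine Prod.ext ?_ hk
        rw [hk] at h1
        exact Subtype.ext (Units.ext (smul_left_injective F (b' p'.2).ne_zero h1))
      · obtain ⟨k, c, hc, hx⟩ := hcov' x x.2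
        exact ⟨(⟨c, hc⟩, k), Subtype.ext hx.symm⟩
    rw [← Nat.card_congr (Equiv.ofBijective ψ hψ), Nat.card_prod, Nat.card_eq_fintype_card (α := Fin _),
      Fintype.card_fin]
  have hnab₁ : ¬ ∀ x ∈ R₁, ∀ y ∈ R₁, x * y = y * x := by
    intro hab
    apply hnab
    intro x hx y hy
    obtain ⟨a, ha, ha'⟩ := hcov x hx
    obtain ⟨b, hb, hb'⟩ := hcov y hy
    have e1 : x = (x * a⁻¹) * a := by group
    have e2 : y = (y * b⁻¹) * b := by group
    set u := x * a⁻¹
    set w := y * b⁻¹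
    calc x * y = (u * a) * (w * b) := by rw [← e1, ← e2]
      _ = u * (a * w) * b := by group
      _ = u * w * (a * b) := by rw [← scalars_comm hb' a]; group
      _ = w * u * (b * a) := by rw [hab a ha b hb, scalars_comm ha' w]
      _ = w * (u * b) * a := by group
      _ = (w * b) * (u * a) := by rw [scalars_comm ha' b]; group
      _ = y * x := by rw [← e1, ← e2]
  have hexp : Monoid.exponent R₁ = r * Nat.gcd 2 r := by
    have hdvd : Monoid.exponent R₁ ∣ r * Nat.gcd 2 r := by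
      rw [← d.sympType.exponent_eq]
      exact Monoid.exponent_dvd_of_monoidHom (Subgroup.inclusion hR₁R) (Subgroup.inclusion_injective _)
    have hne1 : Monoid.exponent R₁ ≠ 1 := fun h1 => hnab₁ fun x hx y hy => by
      haveI := Monoid.exp_eq_one_iff.mp h1
      exact congrArg Subtype.val (Subsingleton.elim ((⟨x, hx⟩ : R₁) * ⟨y, hy⟩) (⟨y, hy⟩ * ⟨x, hx⟩))
    rcases d.prime.eq_two_or_odd' with h2 | hodd
    · subst h2
      rw [show (2 : ℕ) * Nat.gcd 2 2 = 2 ^ 2 by norm_num] at hdvd ⊢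
      obtain ⟨i, hi, hie⟩ := (Nat.dvd_prime_pow Nat.prime_two).mp hdvd
      rw [hie]
      have hi2 : i ≠ 1 := fun h1 => hnab₁ fun x hx y hy => by
        rw [h1, pow_one] at hie
        have hall : ∀ w : R₁, w * w = 1 := fun w => by
          rw [← pow_two, ← hie, Monoid.pow_exponent_eq_one]
        have hinv : ∀ w : R₁, w⁻¹ = w := fun w => inv_eq_of_mul_eq_one_right (hall w)
        have := hinv ((⟨x, hx⟩ : R₁) * ⟨y, hy⟩)
        rw [mul_inv_rev, hinv, hinv] at this
        exact congrArg Subtype.val this.symm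
      have hi0 : i ≠ 0 := fun h0 => hne1 (by rw [hie, h0, pow_zero])
      rw [show i = 2 by omega]
    · rw [(Nat.coprime_two_left.mpr hodd).gcd_eq_one, mul_one] at hdvd ⊢
      exact (d.prime.eq_one_or_self_of_dvd _ hdvd).resolve_left hne1
  have hchar : ∀ A : Subgroup R₁, A.Characteristic → IsMulCommutative A → IsCyclic A := by
    intro A hA hAc
    have hAle : A.map R₁.subtype ≤ Z := by
      have hle : A.map R₁.subtype ≤ R₁ := Subgroup.map_subtype_le _
      rcases hmin (A.map R₁.subtype ⊔ Z) le_sup_right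
        (sup_le (hle.trans (hR₁R.trans d.le)) hZN) (by
          intro g hg x hx
          obtain ⟨a, ha, c, hc, rfl⟩ := Subgroup.mem_sup_of_normal_right.mp hx
          rw [show g * (a * c) * g⁻¹ = (g * a * g⁻¹) * (g * c * g⁻¹) by group]
          refine Subgroup.mul_mem _ (Subgroup.mem_sup_left ?_)
            (Subgroup.mem_sup_right (scalars_normal.conj_mem c hc g))
          obtain ⟨a', ha', rfl⟩ := ha
          let φ : R₁ ≃* R₁ :=
            { toFun := fun x => ⟨g * x * g⁻¹, hR₁n g hg x x.2⟩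
              invFun := fun x => ⟨g⁻¹ * x * g, by
                simpa using hR₁n g⁻¹ (Subgroup.inv_mem _ hg) x x.2⟩
              left_inv := fun x => Subtype.ext (by simp [mul_assoc])
              right_inv := fun x => Subtype.ext (by simp [mul_assoc])
              map_mul' := fun x y => Subtype.ext (by simp [mul_assoc]) }
          exact ⟨φ a', by
            have := hA.fixed φ
            rw [← this] at ha'
            exact ha', rfl⟩) with h1 | h1
      · exact fun x hx => h1 ▸ Subgroup.mem_sup_left hx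
      · exfalso
        apply hnab
        intro x hx y hy
        have hxM := h1 ▸ d.le hx
        have hyM := h1 ▸ d.le hy
        obtain ⟨a, ha, c, hc, rfl⟩ := Subgroup.mem_sup_of_normal_right.mp hxM
        obtain ⟨a', ha', c', hc', rfl⟩ := Subgroup.mem_sup_of_normal_right.mp hyM
        obtain ⟨w, hw, rfl⟩ := ha
        obtain ⟨w', hw', rfl⟩ := ha'
        have hww : (w : GL ι F) * w' = w' * w :=
          congrArg (fun s : A => ((s : R₁) : GL ι F)) (hAc.is_comm.comm ⟨w, hw⟩ ⟨w', hw'⟩)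
        show (w : GL ι F) * c * ((w' : GL ι F) * c') = (w' : GL ι F) * c' * ((w : GL ι F) * c)
        calc (w : GL ι F) * c * ((w' : GL ι F) * c') = (w : GL ι F) * (c * w') * c' := by group
          _ = ((w : GL ι F) * w') * (c * c') := by rw [scalars_comm hc]; group
          _ = ((w' : GL ι F) * w) * (c' * c) := by rw [hww, scalars_comm hc c']
          _ = (w' : GL ι F) * ((w : GL ι F) * c') * c := by group
          _ = _ := by rw [← scalars_comm hc' (w : GL ι F)]; group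
    have hval : ∀ a : A, ∃ c : Fˣ, ((a : R₁) : GL ι F) = sc c := fun a =>
      scalars_ext (hAle ⟨(a : R₁), a.2, rfl⟩)
    choose cA hcA using hval
    refine isCyclic_of_subgroup_isDomain ((Units.coeHom F).comp (MonoidHom.mk' cA fun a b => hscinj ?_)) ?_
    · rw [map_mul, ← hcA, ← hcA, ← hcA]; rfl
    · intro a b hab
      have : cA a = cA b := Units.ext hab
      exact Subtype.ext (Subtype.ext (by rw [hcA, hcA, this]))
  obtain ⟨x₁, hx₁, y₁, hy₁, hxy⟩ : ∃ x ∈ R₁, ∃ y ∈ R₁, x * y ≠ y * x := by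
    by_contra hc
    push Not at hc
    exact hnab₁ hc
  have hzc : (Odd r ∧ z = r) ∨ (r = 2 ∧ (z = 2 ∨ z = 4)) := by
    rcases d.zcase with hh | ⟨a, b, -⟩ | ⟨a, b, -⟩
    · exact Or.inl hh
    · exact Or.inr ⟨a, Or.inr b⟩
    · exact Or.inr ⟨a, Or.inl b⟩
  have hnt : ∃ c ∈ isoRoots σ z, c ≠ 1 ∧ c ^ r = 1 := by
    rcases hzc with ⟨hodd, hz⟩ | ⟨hr2, hz⟩
    · -- a commutator of two non-commuting elements
      have hcomm : x₁ * y₁ * x₁⁻¹ * y₁⁻¹ ∈ Z :=
        d.commutator_le_scalars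
          (Subgroup.commutator_mem_commutator (d.le (hR₁R hx₁)) (d.le (hR₁R hy₁)))
      obtain ⟨c, hc⟩ := scalars_ext hcomm
      have hcU : c ∈ isoRoots σ z := (hscR₁ c).mp (hc ▸ R₁.mul_mem (R₁.mul_mem (R₁.mul_mem hx₁ hy₁)
        (R₁.inv_mem hx₁)) (R₁.inv_mem hy₁))
      refine ⟨c, hcU, fun h1 => hxy ?_, by rw [← hz]; exact hcU.1⟩
      rw [h1, map_one] at hc
      calc x₁ * y₁ = (x₁ * y₁ * x₁⁻¹ * y₁⁻¹) * (y₁ * x₁) := by group
        _ = y₁ * x₁ := by rw [hc, one_mul]
    · subst hr2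
      refine ⟨-1, ⟨?_, by simp⟩, fun h1 => d.char_ne ?_, by norm_num⟩
      · rcases hz with rfl | rfl <;> norm_num
      · have h2 : (-1 : F) = 1 := by simpa using congrArg Units.val h1
        push_cast
        linear_combination -h2
  refine ⟨R₁, ⟨d.prime, d.char_ne, d.pos, d.card_eq, ?_, ?_, habs,
    ⟨d.prime, d.sympType.pGroup.to_le hR₁R, hchar, hexp⟩, hcardc, hcardR, hzc, hnt,
    fun x hx ht => ?_, ⟨b', hli, fun x hx => ?_⟩, ?_⟩⟩
  · rintro _ ⟨x, hx, rfl⟩
    exact hx.2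
  · exact fun g hg x hx => hR₁n g (Subgroup.mem_sup_left hg) x hx
  · obtain ⟨k, hk⟩ := hbcov x hx.1
    obtain ⟨c, hc⟩ := (mem_scalars_iff _).mp hk
    have e : (x : Matrix ι ι F) = (c : F) • (b k : Matrix ι ι F) := by
      calc (x : Matrix ι ι F) = ((x * (b k)⁻¹ : GL ι F) : Matrix ι ι F) * (b k : Matrix ι ι F) := by
            simp [mul_assoc]
        _ = _ := by rw [hc, Matrix.smul_mul, one_mul]
    have hb : b k ∈ Z := htr k fun h0 => ht (by rw [e, Matrix.trace_smul, h0, smul_zero])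
    simpa using Z.mul_mem hk hb
  · obtain ⟨k, c, -, rfl⟩ := hcov' x hx
    exact ⟨k, c, by rw [Units.val_mul, hscv, Matrix.smul_mul, one_mul]⟩
  · intro F₀ hF₀
    refine realisableOver_of_basis F₀ habs.1 (fun k => (b' k : Matrix ι ι F)) hli ?_
      (fun k => mem_matrixSet (hb'R k)) ?_
    · rw [Fintype.card_fin, d.card_eq, ← pow_add]; ring_nf
    · rintro _ ⟨x, hx, rfl⟩
      obtain ⟨k, c, hc, rfl⟩ := hcov' x hx
      have e : ((sc c * b' k : GL ι F) : Matrix ι ι F)
          = (⟨(c : F), hF₀ c hc⟩ : F₀) • (b' k : Matrix ι ι F) := by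
        rw [Units.val_mul, hscv, Matrix.smul_mul, one_mul]; rfl
      show ((sc c * b' k : GL ι F) : Matrix ι ι F) ∈ _
      rw [e]
      exact Submodule.smul_mem _ _ (Submodule.subset_span ⟨k, rfl⟩)

end Cfsg.Agent.Aschbacher
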