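/-
The geometric classes given by a symplectic-type group of isometries.
-/
import Cfsg.Agent.Aschbacher.FormedSympType

set_option autoImplicit false
set_option linter.unusedSectionVars false
set_option linter.style.haveILetI false
set_option maxHeartbeats 1000000

namespace Cfsg.Agent.Aschbacher

open scoped MatrixGroups Matrix
open Cfsg.Geo

variable {ι : Type} [Fintype ι] [DecidableEq ι] {F : Type*} [Field F]
variable {σ : F ≃+* F} {ε : F} {f : (ι → F) → (ι → F) → F}

/-- The three kinds of subfield structure of a unitary form. -/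
def UnitSubfield [Fintype F] (q : ℕ) (f : (ι → F) → (ι → F) → F) (H : Subgroup (GL ι F)) : Prop :=
  (∃ (F₁ : Subfield F) (r : ℕ) (B : GL ι F), r.Prime ∧ Odd r ∧
    Fintype.card F = Nat.card F₁ ^ r ∧ IsFormRationalStructure f F₁ 1 B ∧
    H ≤ subfieldSubgroup F₁ B) ∨
  (∃ (F₁ : Subfield F) (B : GL ι F), Odd q ∧ Fintype.card F = Nat.card F₁ ^ 2 ∧
    IsFormRationalStructure f F₁ 1 B ∧ H ≤ subfieldSubgroup F₁ B) ∨
  (∃ (F₁ : Subfield F) (B : GL ι F) (ζ : F), Even (Fintype.card ι) ∧
    Fintype.card F = Nat.card F₁ ^ 2 ∧ ζ ≠ 0 ∧ ζ + ζ ^ q = 0 ∧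
    IsFormRationalStructure f F₁ ζ B ∧
    (∀ u : ι → F, (∀ i, u i ∈ F₁) → f ((B : Matrix ι ι F) *ᵥ u) ((B : Matrix ι ι F) *ᵥ u) = 0) ∧
    H ≤ subfieldSubgroup F₁ B)

lemma le_subgroupNormalizer_of_normalises {H R : Subgroup (GL ι F)}
    (hn : ∀ h ∈ H, ∀ x ∈ R, h * x * h⁻¹ ∈ R) : H ≤ subgroupNormalizer R := by
  intro h hh
  show h ∈ Subgroup.normalizer (R : Set (GL ι F))
  rw [Subgroup.mem_normalizer_iff]
  intro x
  refine ⟨fun hx => hn h hh x hx, fun hx => ?_⟩
  have := hn h⁻¹ (H.inv_mem hh) _ hx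
  simpa [mul_assoc] using this

lemma card_dvd_of_forall_pow [Finite F] (S : Subgroup Fˣ) {N : ℕ} (h : ∀ c ∈ S, c ^ N = 1) :
    Nat.card S ∣ N := by
  rw [← IsCyclic.exponent_eq_card (α := S)]
  exact Monoid.exponent_dvd_of_forall_pow_eq_one fun c => Subtype.ext (h c c.2)

namespace IsoSympData

variable {H : Subgroup (GL ι F)} {r m z : ℕ} {R : Subgroup (GL ι F)}

lemma card_roots [Finite F] (d : IsoSympData σ f H r m z R) :
    Nat.card (isoRoots σ z) ∣ z ∧ 2 ≤ Nat.card (isoRoots σ z) ∧
      (Odd r → Nat.card (isoRoots σ z) = r) := by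
  have h1 : Nat.card (isoRoots σ z) ∣ z := card_dvd_of_forall_pow _ fun c hc => hc.1
  obtain ⟨c, hc, hc1, -⟩ := d.nontrivial
  haveI : Nontrivial (isoRoots σ z) := ⟨⟨c, hc⟩, 1, fun h => hc1 (congrArg Subtype.val h)⟩
  have h2 : 2 ≤ Nat.card (isoRoots σ z) := Finite.one_lt_card
  refine ⟨h1, h2, fun hodd => ?_⟩
  rcases d.zcase with ⟨-, hz⟩ | ⟨hr2, -⟩
  · rw [hz] at h1 h2 ⊢
    exact (d.prime.eq_one_or_self_of_dvd _ h1).resolve_left (by omega)
  · rw [hr2] at hodd; exact absurd hodd (by decide)

/-- A bilinear form is preserved only by the scalars ±1, so the prime is 2. -/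
lemma bilinear_prime (d : IsoSympData (RingEquiv.refl F) f H r m z R) :
    r = 2 ∧ (2 : F) ≠ 0 := by
  obtain ⟨c, hc, hc1, hcr⟩ := d.nontrivial
  have hne : (c : F) ≠ 1 := fun h => hc1 (Units.ext h)
  have hneg : (c : F) = -1 := (mul_self_eq_one_iff.mp hc.2).resolve_left hne
  have h2 : (2 : F) ≠ 0 := fun h2 => hne (by rw [hneg]; linear_combination -h2)
  refine ⟨?_, h2⟩
  rcases d.prime.eq_two_or_odd' with h | h
  · exact h
  exfalso
  have h5 := congrArg Units.val hcr
  rw [Units.val_pow_eq_pow_val, hneg, h.neg_one_pow, Units.val_one] at h5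
  exact h2 (by linear_combination -h5)

lemma card_roots_bilinear [Finite F] (d : IsoSympData (RingEquiv.refl F) f H r m z R) :
    Nat.card (isoRoots (RingEquiv.refl F) z) = 2 := by
  have h1 : Nat.card (isoRoots (RingEquiv.refl F) z) ∣ 2 :=
    card_dvd_of_forall_pow _ fun c hc => Units.ext (by
      rw [sq, Units.val_mul]; exact hc.2)
  exact ((Nat.dvd_prime Nat.prime_two).mp h1).resolve_left (by have := d.card_roots.2.1; omega)

lemma realisable_of_bilinear (d : IsoSympData (RingEquiv.refl F) f H r m z R) (F₀ : Subfield F) :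
    RealisableOver F₀ (matrixSet R) :=
  d.realisable F₀ fun c hc => by
    rcases mul_self_eq_one_iff.mp hc.2 with h | h <;> rw [h]
    · exact F₀.one_mem
    · exact F₀.neg_mem F₀.one_mem

/-- The alternating invariant form forces minus type. -/
theorem minusType [Fintype F] [Nonempty ι] (d : IsoSympData (RingEquiv.refl F) f H r m z R)
    (h : FormSpace (RingEquiv.refl F) (-1) f)
    {p : ℕ} (hp : p.Prime) (hFp : Fintype.card F = p) : IsOfMinusType m R := by
  classical
  obtain ⟨hr2, h2⟩ := d.bilinear_prime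
  subst hr2
  intro A hA hAsq
  by_contra hlt
  push Not at hlt
  obtain ⟨b, hbli, hb⟩ := d.reps
  choose k c hkc using fun a : A => hb _ (a : R).2
  haveI : Fintype A := Fintype.ofFinite _
  haveI : Fact p.Prime := ⟨hp⟩
  haveI : CharP F p := by
    obtain ⟨p', hp'⟩ := CharP.exists F
    have hpp : p'.Prime := (CharP.char_is_prime_or_zero F p').resolve_right
      (CharP.char_ne_zero_of_finite F p')
    haveI : Fact p'.Prime := ⟨hpp⟩
    obtain ⟨e, he0, he⟩ := FiniteField.card F p'
    have : p' = p := (Nat.prime_dvd_prime_iff_eq hpp hp).mp (by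
      rw [← hFp, he]; exact dvd_pow_self _ e.ne_zero)
    rwa [this] at hp'
  let mat : A → Matrix ι ι F := fun a => (((a : R) : GL ι F) : Matrix ι ι F)
  have hmul : ∀ a a' : A, mat (a * a') = mat a * mat a' := fun a a' => by simp [mat]
  have hsq : ∀ a : A, mat a * mat a = 1 := fun a => by
    have := congrArg (fun x : R => ((x : GL ι F) : Matrix ι ι F)) (hAsq _ a.2)
    simpa [mat] using this
  set E := Submodule.span F (Set.range mat) with hE
  have hone : (1 : Matrix ι ι F) ∈ E := Submodule.subset_span ⟨1, by simp [mat]⟩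
  have hEmul : ∀ X ∈ E, ∀ Y ∈ E, X * Y ∈ E := by
    intro X hX Y hY
    induction hX using Submodule.span_induction with
    | mem X hX =>
      obtain ⟨a, rfl⟩ := hX
      induction hY using Submodule.span_induction with
      | mem Y hY =>
        obtain ⟨a', rfl⟩ := hY
        exact Submodule.subset_span ⟨a * a', hmul a a'⟩
      | zero => simp
      | add u v _ _ hu hv => rw [mul_add]; exact E.add_mem hu hv
      | smul t u _ hu => rw [Matrix.mul_smul]; exact E.smul_mem t hu
    | zero => simp
    | add u v _ _ hu hv => rw [add_mul]; exact E.add_mem hu hv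
    | smul t u _ hu => rw [Matrix.smul_mul]; exact E.smul_mem t hu
  have hEcomm : ∀ X ∈ E, ∀ Y ∈ E, X * Y = Y * X := by
    intro X hX Y hY
    induction hX using Submodule.span_induction with
    | mem X hX =>
      obtain ⟨a, rfl⟩ := hX
      induction hY using Submodule.span_induction with
      | mem Y hY =>
        obtain ⟨a', rfl⟩ := hY
        rw [← hmul, ← hmul, hA.is_comm.comm a a']
      | zero => simp
      | add u v _ _ hu hv => rw [mul_add, add_mul, hu, hv]
      | smul t u _ hu => rw [Matrix.mul_smul, Matrix.smul_mul, hu]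
    | zero => simp
    | add u v _ _ hu hv => rw [mul_add, add_mul, hu, hv]
    | smul t u _ hu => rw [Matrix.mul_smul, Matrix.smul_mul, hu]
  have hsa : ∀ X ∈ E, ∀ u v, f (X *ᵥ u) v = f u (X *ᵥ v) := by
    intro X hX
    induction hX using Submodule.span_induction with
    | mem X hX =>
      obtain ⟨a, rfl⟩ := hX
      intro u v
      have := d.fixes (mat a) (mem_matrixSet (a : R).2) u (mat a *ᵥ v)
      rwa [Matrix.mulVec_mulVec, hsq, Matrix.one_mulVec] at this
    | zero => intro u v; simp [h.zero_left, h.zero_right]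
    | add X Y _ _ hX hY =>
      intro u v
      rw [Matrix.add_mulVec, Matrix.add_mulVec, h.sesq.add_left, h.sesq.add_right, hX, hY]
    | smul t X _ hX =>
      intro u v
      rw [Matrix.smul_mulVec, Matrix.smul_mulVec, h.sesq.smul_left, h.sesq.smul_right, hX]
      simp
  have hpodd : Odd p := hp.odd_of_ne_two fun hh => h2 (by
    subst hh; exact_mod_cast CharP.cast_eq_zero F 2)
  have hfrob : ∀ X ∈ E, X ^ p = X := by
    intro X hX
    induction hX using Submodule.span_induction with
    | mem X hX =>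
      obtain ⟨a, rfl⟩ := hX
      obtain ⟨j, hj⟩ := hpodd
      rw [hj, pow_add, pow_one, pow_mul, sq, hsq, one_pow, one_mul]
    | zero => exact zero_pow hp.ne_zero
    | add X Y hXm hYm hX hY => rw [add_pow_char_of_commute p (hEcomm X hXm Y hYm), hX, hY]
    | smul t X _ hX => rw [smul_pow, hX, show t ^ p = t by rw [← hFp]; exact FiniteField.pow_card t]
  -- a vector with trivial annihilator
  let ann : (ι → F) → Submodule F (Matrix ι ι F) := fun u =>
    E ⊓ { carrier := {X | X *ᵥ u = 0}
          add_mem' := fun {X Y} hX hY => by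
            show (X + Y) *ᵥ u = 0
            rw [Matrix.add_mulVec, hX, hY, add_zero]
          zero_mem' := Matrix.zero_mulVec u
          smul_mem' := fun t X hX => by
            show (t • X) *ᵥ u = 0
            rw [Matrix.smul_mulVec, hX, smul_zero] }
  obtain ⟨u, -, humin⟩ := Finset.exists_min_image Finset.univ
    (fun u : ι → F => Module.finrank F (ann u)) Finset.univ_nonempty
  have hinj : ∀ X ∈ E, X *ᵥ u = 0 → X = 0 := by
    intro X hX hXu
    by_contra hX0
    set e := X ^ (p - 1) with he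
    have hpow : ∀ j, X ^ (j + 1) ∈ E := fun j => by
      induction j with
      | zero => simpa using hX
      | succ j ih => rw [pow_succ]; exact hEmul _ ih _ hX
    have hp2 := hp.two_le
    have heE : e ∈ E := by
      rw [he, show p - 1 = (p - 2) + 1 by omega]; exact hpow _
    have heX : e * X = X := by
      rw [he, ← pow_succ, show p - 1 + 1 = p by omega, hfrob X hX]
    have hee : e * e = e := by
      rw [he, ← pow_add, show p - 1 + (p - 1) = (p - 1 + 1) + (p - 2) by omega, pow_add,
        show p - 1 + 1 = p by omega, hfrob X hX, ← pow_succ', show p - 2 + 1 = p - 1 by omega]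
    have heu : e *ᵥ u = 0 := by
      rw [he, show p - 1 = (p - 2) + 1 by omega, pow_succ, ← Matrix.mulVec_mulVec, hXu,
        Matrix.mulVec_zero]
    obtain ⟨v, hv⟩ : ∃ v, e *ᵥ v ≠ 0 := by
      by_contra hh
      push Not at hh
      apply hX0
      have he0 : e = 0 := Matrix.toLin'.injective (LinearMap.ext fun v => by simp [hh v])
      rw [← heX, he0, zero_mul]
    have hlt' : ann (u + e *ᵥ v) < ann u := by
      refine lt_of_le_of_ne (fun Y hY => ⟨hY.1, ?_⟩) fun heq => ?_
      · have hc := congrArg (fun w => (1 - e) *ᵥ w) (show Y *ᵥ (u + e *ᵥ v) = 0 from hY.2)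
        show Y *ᵥ u = 0
        simp only [Matrix.mulVec_zero, Matrix.mulVec_add, Matrix.mulVec_mulVec] at hc
        have hc2 : (1 - e) * (Y * e) = 0 := by
          rw [hEcomm Y hY.1 e heE, ← mul_assoc, sub_mul, one_mul, hee, sub_self, zero_mul]
        have hc3 : (1 - e) * Y = Y - Y * e := by rw [sub_mul, one_mul, hEcomm Y hY.1 e heE]
        rw [hc2, hc3, Matrix.zero_mulVec, add_zero, Matrix.sub_mulVec, ← Matrix.mulVec_mulVec, heu,
          Matrix.mulVec_zero, sub_zero] at hc
        exact hc
      · have hmem : e ∈ ann u := ⟨heE, heu⟩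
        rw [← heq] at hmem
        have h5 : e *ᵥ (u + e *ᵥ v) = 0 := hmem.2
        rw [Matrix.mulVec_add, heu, zero_add, Matrix.mulVec_mulVec, hee] at h5
        exact hv h5
    exact absurd (humin _ (Finset.mem_univ _)) (not_le.mpr (Submodule.finrank_lt_finrank_of_lt hlt'))
  -- the dimension of E
  have hdim : 2 ^ m ≤ Module.finrank F E := by
    set S := Finset.univ.image k with hS
    have hfib : ∀ j ∈ S, (Finset.univ.filter fun a => k a = j).card ≤ 2 := by
      intro j hj
      obtain ⟨a₀, -, ha₀⟩ := Finset.mem_image.mp hj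
      have hsub : ∀ a, k a = j → mat a = mat a₀ ∨ mat a = - mat a₀ := by
        intro a ha
        set s : F := (c a : F) / (c a₀ : F) with hs
        have e : mat a = s • mat a₀ := by
          show _ = s • _
          simp only [mat, hkc, ha, ha₀, smul_smul, hs]
          rw [div_mul_cancel₀ _ (c a₀).ne_zero]
        have h5 := hsq a
        rw [e, Matrix.smul_mul, Matrix.mul_smul, smul_smul, hsq] at h5
        have h6 : s * s = 1 := by
          obtain ⟨i⟩ := (inferInstance : Nonempty ι)
          simpa using congrFun (congrFun h5 i) i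
        rcases mul_self_eq_one_iff.mp h6 with h7 | h7
        · exact Or.inl (by rw [e, h7, one_smul])
        · exact Or.inr (by rw [e, h7, neg_one_smul])
      refine (Finset.card_le_card_of_injOn mat (t := {mat a₀, - mat a₀}) ?_ ?_).trans
        Finset.card_le_two
      · intro a ha
        simp only [Finset.coe_filter, Finset.mem_univ, true_and, Set.mem_ofPred_eq] at ha
        simp only [Finset.coe_insert, Finset.coe_singleton, Set.mem_insert_iff,
          Set.mem_singleton_iff]
        exact hsub a ha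
      · intro a _ a' _ haa
        exact Subtype.ext (Subtype.ext (Units.ext haa))
    have hcard : 2 ^ (m + 1) ≤ 2 * S.card := by
      calc 2 ^ (m + 1) ≤ Fintype.card A := by rw [← Nat.card_eq_fintype_card]; exact hlt
        _ = (Finset.univ : Finset A).card := Finset.card_univ.symm
        _ ≤ 2 * S.card := Finset.card_le_mul_card_image _ 2 hfib
    have hli : LinearIndependent F (fun j : S => (b j : Matrix ι ι F)) :=
      hbli.comp _ Subtype.val_injective
    have hmem : ∀ j : S, (b j : Matrix ι ι F) ∈ E := by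
      rintro ⟨j, hj⟩
      obtain ⟨a, -, rfl⟩ := Finset.mem_image.mp hj
      have h5 := E.smul_mem ((c a : F)⁻¹) (Submodule.subset_span ⟨a, rfl⟩ : mat a ∈ E)
      simpa [mat, hkc, smul_smul] using h5
    have h5 : Fintype.card S ≤ Module.finrank F E :=
      LinearIndependent.fintype_card_le_finrank (b := fun j : S => (⟨_, hmem j⟩ : E))
        (LinearIndependent.of_comp E.subtype hli)
    rw [Fintype.card_coe] at h5
    rw [pow_succ] at hcard
    omega
  let T : E →ₗ[F] (ι → F) :=
    { toFun := fun X => (X : Matrix ι ι F) *ᵥ u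
      map_add' := fun X Y => by simp [Matrix.add_mulVec]
      map_smul' := fun t X => by simp [Matrix.smul_mulVec] }
  have hTinj : Function.Injective T := by
    rw [← LinearMap.ker_eq_bot, eq_bot_iff]
    intro X hX
    exact Subtype.ext (hinj _ X.2 hX)
  have htop : LinearMap.range T = ⊤ := by
    refine Submodule.eq_top_of_finrank_eq (le_antisymm ?_ ?_)
    · exact Submodule.finrank_le _
    · rw [LinearMap.finrank_range_of_inj hTinj, Module.finrank_pi, d.card_eq]
      exact hdim
  have hsym : ∀ X ∈ E, f (X *ᵥ u) u = 0 := by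
    intro X hX
    have e1 := hsa X hX u u
    have e2 := h.herm u (X *ᵥ u)
    simp only [RingEquiv.refl_apply] at e2
    have e3 : (2 : F) * f (X *ᵥ u) u = 0 := by linear_combination e1 + e2
    exact (mul_eq_zero.mp e3).resolve_left h2
  have hu : u ≠ 0 := by
    rintro rfl
    have := hinj 1 hone (Matrix.mulVec_zero 1)
    obtain ⟨i⟩ := (inferInstance : Nonempty ι)
    simpa using congrFun (congrFun this i) i
  obtain ⟨⟨x, hx⟩, -⟩ := h.nondeg u hu
  obtain ⟨X, hX⟩ : x ∈ LinearMap.range T := htop ▸ Submodule.mem_top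
  exact hx (by rw [← hX]; exact hsym _ X.2)

/-- The class of a symplectic-type group inside a symplectic group. -/
theorem symplectic_case [Fintype F] [Nonempty ι] (d : IsoSympData (RingEquiv.refl F) f H r m z R)
    (h : FormSpace (RingEquiv.refl F) (-1) f) :
    (∃ (F₁ : Subfield F) (r' : ℕ) (B : GL ι F) (ζ : F), r'.Prime ∧
      Fintype.card F = Nat.card F₁ ^ r' ∧ ζ ≠ 0 ∧ IsFormRationalStructure f F₁ ζ B ∧
      H ≤ subfieldSubgroup F₁ B) ∨
    (∃ p : ℕ, IsSymplecticTypeGroup 2 R ∧ ActsAbsolutelyIrreducibly (matrixSet R) ∧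
      R ≤ similarityGroup f ∧ p.Prime ∧ Odd p ∧ Fintype.card F = p ∧
      Nat.card R = 2 ^ (1 + 2 * m) ∧ Nat.card (Subgroup.center R) = 2 ∧ IsOfMinusType m R ∧
      Fintype.card ι = 2 ^ m ∧ H ≤ subgroupNormalizer R) := by
  obtain ⟨hr2, h2⟩ := d.bilinear_prime
  subst hr2
  by_cases hsub : ∃ F₀ : Subfield F, F₀ ≠ ⊤
  · left
    obtain ⟨F₀, hne⟩ := hsub
    obtain ⟨F₁, r', B, ζ, hr', hF₁, hζ, -, hrat, hle, -⟩ :=
      h.subfield_case d.absIrred d.normal d.fixes hne (d.realisable_of_bilinear F₀)
    exact ⟨F₁, r', B, ζ, hr', hF₁, hζ, hrat, hle⟩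
  right
  push Not at hsub
  obtain ⟨p, hpc⟩ := CharP.exists F
  have hp : p.Prime := (CharP.char_is_prime_or_zero F p).resolve_right
    (CharP.char_ne_zero_of_finite F p)
  haveI : Fact p.Prime := ⟨hp⟩
  obtain ⟨e, he⟩ : ∃ e : ℕ+, Fintype.card F = p ^ (e : ℕ) := ⟨_, (FiniteField.card F p).choose_spec.2⟩
  have hcard : Fintype.card F = p := by
    have h5 := card_frobFixed (F := F) (p := p) (e := 1) (f := (e : ℕ)) he (one_dvd _) one_pos
    rw [hsub (frobFixed p 1), pow_one, Nat.card_congr Subfield.topEquiv.toEquiv,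
      Nat.card_eq_fintype_card] at h5
    exact h5
  have hroots := d.card_roots_bilinear
  refine ⟨p, d.sympType, d.absIrred, le_similarityGroup_of_fixes d.fixes, hp,
    hp.odd_of_ne_two fun hh => h2 (by subst hh; exact_mod_cast CharP.cast_eq_zero F 2), hcard,
    by rw [d.card_R, hroots, pow_add, pow_one], by rw [d.card_center, hroots],
    d.minusType h hp hcard, d.card_eq, le_subgroupNormalizer_of_normalises d.normal⟩

/-- The class of a symplectic-type group inside a unitary group. -/
theorem unitary_case [Fintype F] [Nonempty ι] {q : ℕ} (hF : Fintype.card F = q ^ 2)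
    (hdim : 2 ≤ Fintype.card ι) (d : IsoSympData (Unitary.frob hF) f H r m z R)
    (h : FormSpace (Unitary.frob hF) 1 f) :
    UnitSubfield q f H ∨
    (∃ p e : ℕ, IsSymplecticTypeGroup r R ∧ ActsAbsolutelyIrreducibly (matrixSet R) ∧
      R ≤ similarityGroup f ∧ FixesForm (matrixSet R) f ∧ r ≠ p ∧
      IsMinimalFieldFor (Nat.card (Subgroup.center R)) p e F ∧
      ((Odd r ∧ Nat.card (Subgroup.center R) = r ∧ 1 ≤ m ∧ Nat.card R = r ^ (1 + 2 * m)) ∨
       (r = 2 ∧ e = 2 ∧ Nat.card (Subgroup.center R) = 4 ∧ Nat.card R = 2 ^ (2 + 2 * m))) ∧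
      Fintype.card ι = r ^ m ∧ Nat.card (Subgroup.center R) ∣ q + 1 ∧
      H ≤ subgroupNormalizer R) := by
  classical
  obtain ⟨p, hpc⟩ := CharP.exists F
  have hp : p.Prime := (CharP.char_is_prime_or_zero F p).resolve_right
    (CharP.char_ne_zero_of_finite F p)
  haveI : Fact p.Prime := ⟨hp⟩
  obtain ⟨f', hf'0, hf'⟩ := FiniteField.card F p
  obtain ⟨hdvdz, htwo, hoddr⟩ := d.card_roots
  set z' := Nat.card (isoRoots (Unitary.frob hF) z) with hz'
  have hzq : z' ∣ q + 1 := card_dvd_of_forall_pow _ fun c hc => Units.ext (by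
    rw [Units.val_pow_eq_pow_val, Units.val_one, pow_succ']
    exact hc.2)
  have hzf : z' ∣ p ^ (f' : ℕ) - 1 := by
    rw [← hf', ← Fintype.card_units, ← Nat.card_eq_fintype_card]
    exact Subgroup.card_subgroup_dvd_card _
  have hex : ∃ e, 0 < e ∧ z' ∣ p ^ e - 1 := ⟨f', f'.pos, hzf⟩
  obtain ⟨he0, hze⟩ := Nat.find_spec hex
  set e := Nat.find hex with he
  have hpow : ∀ c ∈ isoRoots (Unitary.frob hF) z, (c : F) ^ p ^ e = (c : F) := by
    intro c hc
    obtain ⟨t, ht⟩ := hze
    have h1 : p ^ e = (p ^ e - 1) + 1 := by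
      have := Nat.one_le_pow e p hp.pos; omega
    have h2 : c ^ z' = 1 := by
      have := congrArg Subtype.val
        (pow_card_eq_one' (x := (⟨c, hc⟩ : isoRoots (Unitary.frob hF) z)))
      exact this
    rw [h1, pow_succ, ht, pow_mul, ← Units.val_pow_eq_pow_val, h2, Units.val_one, one_pow, one_mul]
  by_cases hsub : (frobFixed p e : Subfield F) = ⊤
  swap
  · exact Or.inl (unitary_subfield hF h d.absIrred hdim d.normal d.fixes hsub
      (d.realisable _ fun c hc => mem_frobFixed.mpr (hpow c hc)))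
  right
  have hFe : Fintype.card F = p ^ e := by
    -- every element is fixed by the e-th power of Frobenius
    refine le_antisymm ?_ ?_
    · have hall : ∀ x : F, x ^ p ^ e = x := fun x =>
        mem_frobFixed.mp (hsub ▸ Subfield.mem_top x)
      have h1 := Finset.card_le_card (s := (Finset.univ : Finset F))
        (t := (Polynomial.X ^ (p ^ e) - Polynomial.X : Polynomial F).roots.toFinset) fun x _ => by
          rw [Multiset.mem_toFinset, Polynomial.mem_roots
            (FiniteField.X_pow_card_sub_X_ne_zero F (Nat.one_lt_pow he0.ne' hp.one_lt))]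
          simp [Polynomial.IsRoot, hall x]
      refine h1.trans ((Multiset.toFinset_card_le _).trans ((Polynomial.card_roots' _).trans ?_))
      rw [FiniteField.X_pow_card_sub_X_natDegree_eq F (Nat.one_lt_pow he0.ne' hp.one_lt)]
    · rw [hf']
      exact Nat.pow_le_pow_right hp.pos (Nat.find_le ⟨f'.pos, hzf⟩)
  have hrp : r ≠ p := fun hh => d.char_ne (by rw [hh]; exact CharP.cast_eq_zero F p)
  have hmin : IsMinimalFieldFor z' p e F := ⟨hp, hpc, hFe, hze, fun d' hd hlt hdvd =>
    Nat.find_min hex hlt ⟨hd, hdvd⟩⟩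
  refine ⟨p, e, d.sympType, d.absIrred, le_similarityGroup_of_fixes d.fixes, d.fixes, hrp,
    by rwa [d.card_center], ?_, d.card_eq, by rwa [d.card_center],
    le_subgroupNormalizer_of_normalises d.normal⟩
  rw [d.card_center, d.card_R, ← hz']
  rcases d.zcase with ⟨hodd, -⟩ | ⟨hr2, hz⟩
  · exact Or.inl ⟨hodd, hoddr hodd, d.pos, by rw [hoddr hodd, pow_add, pow_one]⟩
  subst hr2
  have hp2 : p % 2 = 1 := Nat.odd_iff.mp (hp.odd_of_ne_two (Ne.symm hrp))
  have he1 : e ≠ 1 := fun h1 => by
    rw [h1, pow_one, hF] at hFe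
    have := hp
    rw [← hFe] at this
    exact Nat.Prime.not_prime_pow (by norm_num : 2 ≤ 2) this
  have hz4 : z' = 4 := by
    have h2z : z' ≠ 2 := fun h2 => by
      have := Nat.find_le (h := hex) (n := 1) ⟨one_pos, by rw [h2, pow_one]; omega⟩
      omega
    have h4 : z' ∣ 4 := hdvdz.trans (by rcases hz with rfl | rfl <;> norm_num)
    obtain ⟨i, hi, hzi⟩ := (Nat.dvd_prime_pow Nat.prime_two (m := 2) (i := z')).mp (by simpa using h4)
    rcases i with _ | _ | i
    · simp at hzi; omega
    · simp at hzi; omega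
    · rw [hzi, show i = 0 by omega]; norm_num
  have he2 : e ≤ 2 := Nat.find_le ⟨two_pos, by
    rw [hz4]
    obtain ⟨j, hj⟩ : ∃ j, p = 2 * j + 1 := ⟨p / 2, by omega⟩
    exact ⟨j * j + j, by rw [hj]; have : (2 * j + 1) ^ 2 = 4 * (j * j + j) + 1 := by ring
                         omega⟩⟩
  exact Or.inr ⟨rfl, by omega, hz4, by rw [hz4, pow_add]; norm_num⟩

/-- No orthogonal group in odd dimension contains a symplectic-type group. -/
theorem orthogonal_case (d : IsoSympData (RingEquiv.refl F) f H r m z R)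
    (hodd : Odd (Fintype.card ι)) : False := by
  obtain ⟨hr2, -⟩ := d.bilinear_prime
  rw [d.card_eq, hr2] at hodd
  exact Nat.not_even_iff_odd.mpr hodd (Nat.even_pow.mpr ⟨even_two, by have := d.pos; omega⟩)

end IsoSympData

end Cfsg.Agent.Aschbacher
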