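/-
Tensor powers: characteristic two, two-dimensional hermitian factors, small solvable exclusions.
-/
import Cfsg.Agent.Aschbacher.FormedPower
import Cfsg.Agent.Aschbacher.FormCongruence
import Cfsg.Agent.Aschbacher.FormedSubfield
import Cfsg.Agent.Aschbacher.FormedQuad
import Cfsg.Agent.Aschbacher.FormedSympCases
import Cfsg.Agent.Unitary.Order
import Cfsg.Agent.S0144

set_option autoImplicit false
set_option linter.unusedSectionVars false
set_option linter.style.haveILetI false
set_option maxHeartbeats 1000000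

namespace Cfsg.Agent.Aschbacher

open scoped MatrixGroups Matrix Kronecker
open Cfsg.Geo

variable {ι : Type} [Fintype ι] [DecidableEq ι] {F : Type*} [Field F]
variable {σ : F ≃+* F} {ε : F} {f : (ι → F) → (ι → F) → F}

lemma pureMat_update_add {m t : ℕ} (M : Fin t → Matrix (Fin m) (Fin m) F) (i : Fin t)
    (X Y : Matrix (Fin m) (Fin m) F) :
    pureMat (Function.update M i (X + Y))
      = pureMat (Function.update M i X) + pureMat (Function.update M i Y) := by
  ext p q
  simp only [pureMat, Matrix.of_apply, Matrix.add_apply,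
    ← Finset.mul_prod_erase _ _ (Finset.mem_univ i), Function.update_self, Matrix.add_apply, add_mul]
  congr 1 <;> refine congrArg _ (Finset.prod_congr rfl fun j hj => ?_) <;>
    simp [Function.update_of_ne (Finset.ne_of_mem_erase hj)]

lemma pureMat_update_smul {m t : ℕ} (M : Fin t → Matrix (Fin m) (Fin m) F) (i : Fin t)
    (c : F) (X : Matrix (Fin m) (Fin m) F) :
    pureMat (Function.update M i (c • X)) = c • pureMat (Function.update M i X) := by
  ext p q
  simp only [pureMat, Matrix.of_apply, Matrix.smul_apply, smul_eq_mul,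
    ← Finset.mul_prod_erase _ _ (Finset.mem_univ i), Function.update_self, mul_assoc]
  refine congrArg _ (congrArg _ (Finset.prod_congr rfl fun j hj => ?_))
  simp [Function.update_of_ne (Finset.ne_of_mem_erase hj)]

lemma pureVec_update_add {m t : ℕ} (u : Fin t → Fin m → F) (i : Fin t) (a b : Fin m → F) :
    pureVec (Function.update u i (a + b))
      = pureVec (Function.update u i a) + pureVec (Function.update u i b) := by
  funext p
  simp only [pureVec, Pi.add_apply,
    ← Finset.mul_prod_erase _ _ (Finset.mem_univ i), Function.update_self, add_mul]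
  congr 1 <;> refine congrArg _ (Finset.prod_congr rfl fun j hj => ?_) <;>
    simp [Function.update_of_ne (Finset.ne_of_mem_erase hj)]

lemma pureVec_update_smul {m t : ℕ} (u : Fin t → Fin m → F) (i : Fin t) (c : F) (a : Fin m → F) :
    pureVec (Function.update u i (c • a)) = c • pureVec (Function.update u i a) := by
  funext p
  simp only [pureVec, Pi.smul_apply, smul_eq_mul,
    ← Finset.mul_prod_erase _ _ (Finset.mem_univ i), Function.update_self, mul_assoc]
  refine congrArg _ (congrArg _ (Finset.prod_congr rfl fun j hj => ?_))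
  simp [Function.update_of_ne (Finset.ne_of_mem_erase hj)]

/-- The isometry group of a Gram matrix. -/
def gramFix {k : ℕ} (σ : F ≃+* F) (G : Matrix (Fin k) (Fin k) F) : Subgroup (GL (Fin k) F) where
  carrier := {g | gtr σ G (g : Matrix (Fin k) (Fin k) F) = G}
  one_mem' := by
    show gtr σ G _ = G
    simp [gtr, Matrix.map_one σ (map_zero σ) (map_one σ)]
  mul_mem' {a b} ha hb := by
    show gtr σ G _ = G
    rw [Units.val_mul, gtr_mul, ha, hb]
  inv_mem' {a} ha := by
    show gtr σ G _ = G
    conv_lhs => rw [← ha, ← gtr_mul, ← Units.val_mul, mul_inv_cancel, Units.val_one]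
    simp [gtr, Matrix.map_one σ (map_zero σ) (map_one σ)]

namespace PowerFormData

variable {H : Subgroup (GL ι F)} {k t : ℕ} {e : ι ≃ (Fin t → Fin k)} {P : GL ι F}
  {G₀ : Matrix (Fin k) (Fin k) F}

/-- The normal form of an element together with the similitude conditions on its factors. -/
lemma normalForm (d : PowerFormData σ f H k t e P G₀) (h : FormSpace σ ε f)
    (hH : FixesForm (matrixSet H) f) {g : GL (Fin t → Fin k) F} (hg : coordEquiv e P g ∈ H) :
    ∃ (y : Fin t → GL (Fin k) F) (π : Equiv.Perm (Fin t)) (ν : Fin t → F),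
      (g : Matrix (Fin t → Fin k) (Fin t → Fin k) F)
        = pureMat (fun j => (y j : Matrix (Fin k) (Fin k) F)) * factorPerm π ∧
      (∀ j, ν j ≠ 0 ∧ gtr σ G₀ (y j : Matrix (Fin k) (Fin k) F) = ν j • G₀) := by
  have hgW := d.le hg
  rw [tensorWreathSubgroup_eq] at hgW
  obtain ⟨g', hg', he⟩ := hgW
  obtain rfl : g' = g := (coordEquiv e P).injective he
  obtain ⟨y, π, hy⟩ := tensorWreath_normalForm hg'
  obtain ⟨c, hc, hG⟩ := d.gram
  have hfix := (fixes_iff_gtr (h.coord e P).sesq _).mp
    (FixesForm.coord e P hH _ (mem_matrixSet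
      (show g' ∈ H.comap (coordEquiv e P).toMonoidHom from hg)))
  rw [hG, gtr_smul, hy, gtr_pureMat_perm] at hfix
  have h2 := smul_right_injective _ hc hfix
  have hu : ∀ j, IsUnit (gtr σ G₀ (y (π j) : Matrix (Fin k) (Fin k) F)) := fun j =>
    (((Matrix.isUnit_transpose _).mpr (y (π j)).isUnit).mul d.unit).mul
      ((y (π j)).isUnit.map σ.toRingHom.mapMatrix)
  haveI : Nonempty (Fin k) := ⟨⟨0, by have := d.two_le_k; omega⟩⟩
  have hν : ∀ j, ∃ ν : F, ν ≠ 0 ∧ gtr σ G₀ (y j : Matrix (Fin k) (Fin k) F) = ν • G₀ := by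
    intro j
    obtain ⟨c', hc', h3⟩ := pureMat_unique (fun j h0 => by
      have := hu j; rw [h0] at this; exact not_isUnit_zero this) h2 (π.symm j)
    rw [Equiv.apply_symm_apply] at h3
    exact ⟨c', hc', h3⟩
  choose ν hν using hν
  exact ⟨y, π, ν, hy, hν⟩

/-- In characteristic two a tensor power preserves a quadratic form. -/
theorem char_two_strong [Finite F] [Nonempty ι] (d : PowerFormData (RingEquiv.refl F) f H k t e P G₀)
    (h : FormSpace (RingEquiv.refl F) (-1) f) (halt : ∀ v, f v v = 0) (h2 : (2 : F) = 0)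
    (hH : FixesForm (matrixSet H) f) :
    (∀ a, G₀ a a = 0) ∧
    ∃ Q : (ι → F) → F, IsNondegenerateQuadraticForm Q ∧ (∀ u v, QuadraticMap.polar Q u v = f u v) ∧
      FixesQuadForm (matrixSet H) Q ∧ ∀ u : Fin t → Fin k → F,
        Q ((P : Matrix ι ι F) *ᵥ (pureVec u ∘ e)) = 0 := by
  classical
  haveI : CharP F 2 := CharTwo.of_one_ne_zero_of_two_eq_zero one_ne_zero h2
  obtain ⟨c, hc, hG⟩ := d.gram
  have h' := h.coord e P
  set f' := coordForm e P f with hf'
  have halt' : ∀ x, f' x x = 0 := fun x => halt _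
  obtain ⟨c₀, hsym, hc₀, -⟩ := d.exists_herm h
  have hc1 : c₀ = 1 := by
    rw [RingEquiv.refl_apply] at hc₀
    rcases mul_self_eq_one_iff.mp hc₀ with h3 | h3
    · exact h3
    · rw [h3, CharTwo.neg_eq]
  have hs : ∀ a b, G₀ b a = G₀ a b := fun a b => by
    have := congrFun (congrFun hsym a) b
    simpa [hc1] using this
  have hdiag : ∀ a, G₀ a a = 0 := fun a => by
    have h1 := congrFun (congrFun hG (fun _ => a)) (fun _ => a)
    rw [gramMatrix, halt', Matrix.smul_apply, smul_eq_mul] at h1
    have h3 := (mul_eq_zero.mp h1.symm).resolve_left hc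
    obtain ⟨j, -, hj⟩ := Finset.prod_eq_zero_iff.mp (show ∏ _j : Fin t, G₀ a a = 0 from h3)
    exact hj
  have hG₀ : ∀ u, u ⬝ᵥ (G₀ *ᵥ u) = 0 := by
    intro u
    simp only [dotProduct, Matrix.mulVec, Finset.mul_sum, ← Fintype.sum_prod_type']
    refine Finset.sum_involution (fun p _ => (p.2, p.1)) ?_ ?_ ?_ ?_
    · intro p _
      rw [hs p.1 p.2, show u p.2 * (G₀ p.1 p.2 * u p.1) = u p.1 * (G₀ p.1 p.2 * u p.2) by ring,
        CharTwo.add_self_eq_zero]
    · intro p _ hp h0
      have : p.1 = p.2 := (congrArg Prod.fst h0).symm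
      rw [this, hdiag, zero_mul, mul_zero] at hp
      exact hp rfl
    · simp
    · simp
  have hfpt : ∀ a b, f' (pureVec a) (pureVec b) = c * ∏ j, (a j ⬝ᵥ (G₀ *ᵥ b j)) := by
    intro a b
    rw [h'.sesq.eq_formOfGram, hG, formOfGram_eq,
      show ((RingEquiv.refl F : F ≃+* F) ∘ pureVec b : (Fin t → Fin k) → F) = pureVec b from rfl,
      Matrix.smul_mulVec, dotProduct_smul, smul_eq_mul, pureMat_mulVec, pureVec_dot]
  obtain ⟨Q, hQ, hpol, hQ0⟩ := exists_quad_polar h' halt' h2
  have hpt : ∀ (S : Finset (Fin t)) (u : Fin t → Fin k → F),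
      (∀ i, i ∉ S → ∃ a, u i = Pi.single a 1) → Q (pureVec u) = 0 := by
    intro S
    induction S using Finset.induction with
    | empty =>
      intro u hu
      choose x hx using fun i => hu i (Finset.notMem_empty i)
      rw [show u = fun i => Pi.single (x i) 1 from funext hx, pureVec_single, hQ0]
    | insert i S hi ih =>
      intro u hu
      obtain ⟨j, hji⟩ : ∃ j, j ≠ i := by
        haveI : Nontrivial (Fin t) := Fin.nontrivial_iff_two_le.mpr d.two_le_t
        exact exists_ne i
      have hkey := semilinear_eq_zero (D := fun a => Q (pureVec (Function.update u i a)))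
        (fun a b => by
          rw [pureVec_update_add, quad_add hpol, hfpt,
            Finset.prod_eq_zero (Finset.mem_univ j) (by
              rw [Function.update_of_ne hji, Function.update_of_ne hji]; exact hG₀ _),
            mul_zero, add_zero])
        (fun t' a => by rw [pureVec_update_smul, hQ.smul])
        (fun a => ih _ fun l hl => by
          by_cases hli : l = i
          · exact ⟨a, by rw [hli, Function.update_self]⟩
          · rw [Function.update_of_ne hli]
            exact hu l (by simp [hli, hl])) (u i)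
      rwa [Function.update_eq_self] at hkey
  suffices hkey : ∀ g : GL (Fin t → Fin k) F, coordEquiv e P g ∈ H →
      ∀ v, Q ((g : Matrix (Fin t → Fin k) (Fin t → Fin k) F) *ᵥ v) = Q v by
    obtain ⟨Q', h1, h3, h4, h5⟩ := exists_quad_of_coord_strong e P ⟨h.sesq.add_left,
      h.sesq.smul_left, h.sesq.add_right, h.sesq.smul_right⟩ h.nondeg hQ hpol hkey
    exact ⟨hdiag, Q', h1, h3, h4, fun u => (h5 _).trans
      (hpt Finset.univ u fun i hi => absurd (Finset.mem_univ i) hi)⟩
  intro g hg v
  obtain ⟨y, π, ν, hy, -⟩ := d.normalForm h hH hg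
  refine quad_invariant hQ.smul hpol (fun u w => FixesForm.coord e P hH _ (mem_matrixSet
    (show g ∈ H.comap (coordEquiv e P).toMonoidHom from hg)) u w) (fun x => ?_) v
  rw [hQ0, hy, ← pureVec_single, ← Matrix.mulVec_mulVec, factorPerm_mulVec, pureMat_mulVec]
  exact hpt Finset.univ _ (fun i hi => absurd (Finset.mem_univ i) hi)

/-- A tensor power in characteristic two forces an invariant quadratic form. -/
theorem char_two [Finite F] [Nonempty ι] (d : PowerFormData (RingEquiv.refl F) f H k t e P G₀)
    (h : FormSpace (RingEquiv.refl F) (-1) f) (halt : ∀ v, f v v = 0) (h2 : (2 : F) = 0)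
    (hH : FixesForm (matrixSet H) f) :
    ∃ Q : (ι → F) → F, IsNondegenerateQuadraticForm Q ∧ (∀ u v, QuadraticMap.polar Q u v = f u v) ∧
      H ≤ quadSimilarityGroup Q := by
  obtain ⟨-, Q, h1, h3, h4, -⟩ := d.char_two_strong h halt h2 hH
  exact ⟨Q, h1, h3, fun g hg => ⟨1, fun v => by
    rw [Units.val_one, one_mul]; exact h4 _ ⟨g, hg, rfl⟩ v⟩⟩

/-- A perfect group inside one tensor slot cannot fix the form when the isometry group of the
factor is solvable. -/
theorem no_perfect [Fintype F] [Nonempty ι] (d : PowerFormData σ f H k t e P G₀) (h : FormSpace σ ε f)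
    (hsol : Group.IsSolvable (gramFix σ G₀)) {D : Subgroup (GL ι F)}
    (hD : FixesForm (matrixSet D) f) (hperf : ⁅D, D⁆ = D) (i₀ : Fin t)
    (hslot : ∀ x ∈ D, ∃ X, (x : Matrix ι ι F) = coordAlg e P (slotMat i₀ X)) :
    D ≤ scalars ι F := by
  classical
  haveI : Nonempty (Fin k) := ⟨⟨0, by have := d.two_le_k; omega⟩⟩
  obtain ⟨c, hc, hG⟩ := d.gram
  choose X hX using fun x : D => hslot x x.2
  have hG0 : G₀ ≠ 0 := fun h0 => by have := d.unit; rw [h0] at this; exact not_isUnit_zero this
  have hfixX : ∀ x, gtr σ G₀ (X x) = G₀ := by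
    intro x
    obtain ⟨g', hg'⟩ := (coordEquiv e P).surjective (x : GL ι F)
    have hg'v : (g' : Matrix (Fin t → Fin k) (Fin t → Fin k) F) = slotMat i₀ (X x) :=
      (coordAlg e P).injective (by rw [← coordEquiv_val, hg', hX])
    have h1 := (fixes_iff_gtr (h.coord e P).sesq _).mp (FixesForm.coord e P hD _
      (mem_matrixSet (show g' ∈ D.comap (coordEquiv e P).toMonoidHom from by
        show coordEquiv e P g' ∈ D; rw [hg']; exact x.2)))
    rw [hG, gtr_smul, hg'v] at h1
    have h2 := smul_right_injective _ hc h1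
    have hone : (factorPerm (1 : Equiv.Perm (Fin t)) :
        Matrix (Fin t → Fin k) (Fin t → Fin k) F) = 1 := by
      ext a b; simp [factorPerm, Matrix.one_apply, eq_comm]
    have e3 := gtr_pureMat_perm σ (fun _ : Fin t => G₀) (Function.update (fun _ => (1 : Matrix (Fin k) (Fin k) F)) i₀ (X x)) 1
    rw [hone, mul_one] at e3
    have h2' : pureMat (fun j => gtr σ G₀ (Function.update (fun _ => (1 : Matrix (Fin k) (Fin k) F)) i₀ (X x) j))
        = pureMat (fun _ : Fin t => G₀) := by
      simp only [Equiv.Perm.one_apply] at e3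
      simp only [slotMat] at h2
      rw [← e3]; exact h2
    have hne : ∀ j, gtr σ G₀ (Function.update (fun _ => (1 : Matrix (Fin k) (Fin k) F)) i₀ (X x) j) ≠ 0 := fun j h0 => by
      refine pureMat_ne_zero (t := t) (fun _ => hG0) ?_
      rw [← h2']
      ext p q
      simp only [pureMat, Matrix.of_apply, Matrix.zero_apply]
      exact Finset.prod_eq_zero (Finset.mem_univ j) (by rw [h0]; rfl)
    obtain ⟨c', hc', h3⟩ := pureMat_unique hne h2' i₀
    simp only [Function.update_self] at h3
    rw [show (fun j => gtr σ G₀ (Function.update (fun _ => (1 : Matrix (Fin k) (Fin k) F)) i₀ (X x) j))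
        = Function.update (fun _ => G₀) i₀ (c' • G₀) from funext fun j => by
          by_cases hj : j = i₀
          · subst hj; simp [h3]
          · simp [Function.update_of_ne hj, gtr, Matrix.map_one σ (map_zero σ) (map_one σ)],
      pureMat_update_smul, Function.update_eq_self i₀ (fun _ : Fin t => G₀)] at h2'
    have h4 : (c' - 1) • pureMat (fun _ : Fin t => G₀) = 0 := by
      rw [sub_smul, one_smul, h2', sub_self]
    rw [h3, sub_eq_zero.mp ((smul_eq_zero.mp h4).resolve_right (pureMat_ne_zero fun _ => hG0)),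
      one_smul]
  have hunit : ∀ x, IsUnit (X x) := fun x => by
    rw [Matrix.isUnit_iff_isUnit_det, isUnit_iff_ne_zero]
    intro h0
    have h1 := congrArg Matrix.det (hfixX x)
    rw [gtr, Matrix.det_mul, Matrix.det_mul, Matrix.det_transpose, h0, zero_mul, zero_mul] at h1
    exact ((Matrix.isUnit_iff_isUnit_det _).mp d.unit).ne_zero h1.symm
  have hslotinj : ∀ A B : Matrix (Fin k) (Fin k) F, slotMat (t := t) i₀ A = slotMat i₀ B → A = B := by
    intro A B hAB
    obtain ⟨a⟩ := (inferInstance : Nonempty (Fin k))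
    ext p q
    have h1 := congrFun (congrFun hAB (Function.update (fun _ => a) i₀ p))
      (Function.update (fun _ => a) i₀ q)
    simp only [slotMat, pureMat, Matrix.of_apply] at h1
    rw [← Finset.mul_prod_erase _ _ (Finset.mem_univ i₀),
      ← Finset.mul_prod_erase _ _ (Finset.mem_univ i₀),
      Finset.prod_eq_one (fun j hj => by
        simp [Function.update_of_ne (Finset.ne_of_mem_erase hj)]),
      Finset.prod_eq_one (fun j hj => by
        simp [Function.update_of_ne (Finset.ne_of_mem_erase hj)])] at h1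
    simpa using h1
  let φ : D →* GL (Fin k) F := MonoidHom.mk' (fun x => (hunit x).unit) fun x y => Units.ext (by
    show X (x * y) = X x * X y
    refine hslotinj _ _ ((coordAlg e P).injective ?_)
    rw [← hX, show slotMat i₀ (X x * X y) = slotMat i₀ (X x) * slotMat i₀ (X y) by
      rw [slotMat, slotMat, slotMat, pureMat_mul]
      congr 1; funext j
      by_cases hj : j = i₀
      · subst hj; simp
      · simp [Function.update_of_ne hj], map_mul, ← hX, ← hX]
    rfl)
  intro x hx
  have hperf' : commutator D = ⊤ := by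
    apply Subgroup.map_injective (show Function.Injective D.subtype from Subtype.val_injective)
    rw [commutator_def, Subgroup.map_commutator, ← MonoidHom.range_eq_map, Subgroup.range_subtype,
      hperf]
  have h1 := perfect_hom_trivial hperf' hsol φ (by rintro _ ⟨y, rfl⟩; exact hfixX y) ⟨x, hx⟩
  have h2 : X ⟨x, hx⟩ = 1 := congrArg Units.val h1
  have h3 := hX ⟨x, hx⟩
  rw [h2, slotMat, Function.update_eq_self i₀ (fun _ : Fin t => (1 : Matrix (Fin k) (Fin k) F)),
    pureMat_one, map_one] at h3
  rw [show x = 1 from Units.ext h3]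
  exact one_mem _

end PowerFormData

/-- GL(2,3) and GU(3,2) are solvable. -/
theorem isSolvable_gramFix_three_two [Fintype F] (hq : Fintype.card F = 3) (σ : F ≃+* F)
    (G : Matrix (Fin 2) (Fin 2) F) : Group.IsSolvable (gramFix σ G) := by
  haveI : Group.IsSolvable (GL (Fin 2) F) := by
    refine S0144.result 2 3 4 1 Nat.prime_two Nat.prime_three ?_
    rw [Matrix.card_GL_field, hq]
    simp
  infer_instance

theorem isSolvable_gramFix_two_three [Fintype F] (hF : Fintype.card F = 2 ^ 2)
    {G : Matrix (Fin 3) (Fin 3) F} (hu : IsUnit G) {c : F}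
    (hG : Gᵀ = c • G.map (Unitary.frob hF)) (hc : c * Unitary.frob hF c = 1) :
    Group.IsSolvable (gramFix (Unitary.frob hF) G) := by
  obtain ⟨B, ν, hν, hB⟩ := exists_gtr_eq_one hF hu hG hc
  haveI : Group.IsSolvable (GU 3 F 2) := by
    refine S0144.result 2 3 3 4 Nat.prime_two Nat.prime_three ?_
    rw [Unitary.card_GU hF]
    simp [Finset.prod_range_succ, Unitary.guFactor]
  let ψ : gramFix (Unitary.frob hF) G →* GU 3 F 2 :=
    ((MulAut.conj B⁻¹).toMonoidHom.comp (gramFix (Unitary.frob hF) G).subtype).codRestrict _ fun x => by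
      have hx : gtr (Unitary.frob hF) (1 : Matrix (Fin 3) (Fin 3) F)
          ((B⁻¹ * x * B : GL (Fin 3) F) : Matrix (Fin 3) (Fin 3) F) = 1 := by
        have hB1 : (1 : Matrix (Fin 3) (Fin 3) F)
            = ν⁻¹ • gtr (Unitary.frob hF) G (B : Matrix (Fin 3) (Fin 3) F) := by
          rw [hB, smul_smul, inv_mul_cancel₀ hν, one_smul]
        conv_lhs => rw [hB1]
        rw [gtr_smul, ← gtr_mul, ← Units.val_mul, mul_assoc, mul_inv_cancel_left, Units.val_mul,
          gtr_mul, x.2, hB, smul_smul, inv_mul_cancel₀ hν, one_smul]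
      show MulAut.conj B⁻¹ (x : GL (Fin 3) F) ∈ GU 3 F 2
      rw [MulAut.conj_apply, inv_inv, Unitary.mem_GU_iff]
      intro u v
      have key := formOfGram_mulVec (Unitary.frob hF) (1 : Matrix (Fin 3) (Fin 3) F)
        ((B⁻¹ * x * B : GL (Fin 3) F) : Matrix (Fin 3) (Fin 3) F) u v
      rw [hx] at key
      have e : ∀ a b : Fin 3 → F,
          formOfGram (Unitary.frob hF) (1 : Matrix (Fin 3) (Fin 3) F) a b = hermForm 3 F 2 a b := by
        intro a b
        simp [formOfGram, hermForm, Matrix.one_apply, Unitary.frob_apply, Finset.sum_ite_eq]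
      rw [← e, ← e]
      exact key
  refine Group.isSolvable_of_isSolvable_injective (f := ψ) fun a b hab => ?_
  have h1 := congrArg Subtype.val hab
  exact Subtype.ext ((MulAut.conj B⁻¹).injective h1)

end Cfsg.Agent.Aschbacher
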