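/-
Tensor powers of two-dimensional hermitian spaces have a subfield structure; three-dimensional
orthogonal factors over three elements give a frame.
-/
import Cfsg.Agent.Aschbacher.FormedPowerCases

set_option autoImplicit false
set_option linter.unusedSectionVars false
set_option linter.style.haveILetI false
set_option maxHeartbeats 1000000

namespace Cfsg.Agent.Aschbacher

open scoped MatrixGroups Matrix Kronecker
open Cfsg.Geo

variable {ι : Type} [Fintype ι] [DecidableEq ι] {F : Type*} [Field F]

lemma pureMat_map_two {t : ℕ} (σ : F ≃+* F) :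
    (pureMat fun _ : Fin t => (1 : Matrix (Fin 2) (Fin 2) F)).map σ = 1 := by
  rw [pureMat_one, Matrix.map_one σ (map_zero σ) (map_one σ)]

/-- The special isometry group of the identity hermitian matrix of size two. -/
def smallSU (σ : F ≃+* F) : Subgroup (GL (Fin 2) F) :=
  gramFix σ 1 ⊓ (Matrix.GeneralLinearGroup.det : GL (Fin 2) F →* Fˣ).ker

/-- The embedding of pure tensors as a homomorphism. -/
def pureHom (m t : ℕ) : (Fin t → GL (Fin m) F) →* GL (Fin t → Fin m) F :=
  MonoidHom.mk' pureGL fun u v => Units.ext (by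
    show pureMat _ = pureMat _ * pureMat _
    rw [pureMat_mul]; rfl)

/-- A tensor power of two-dimensional hermitian spaces has a subfield structure. -/
theorem PowerFormData.unitary_two [Fintype F] [Nonempty ι] {q : ℕ} (hF : Fintype.card F = q ^ 2)
    {f : (ι → F) → (ι → F) → F} {H : Subgroup (GL ι F)} {t : ℕ}
    {e : ι ≃ (Fin t → Fin 2)} {P : GL ι F}
    (d : PowerFormData (Unitary.frob hF) f H 2 t e P 1)
    (h : FormSpace (Unitary.frob hF) 1 f) (hH : FixesForm (matrixSet H) f) :
    UnitSubfield q f H := by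
  classical
  set σ := Unitary.frob hF with hσdef
  have hσne : σ ≠ RingEquiv.refl F := by
    intro hc
    have hall : ∀ x : F, x ^ q = x := fun x => by
      rw [← Unitary.frob_apply hF x, ← hσdef, hc]; rfl
    have h1 := Finset.card_le_card (s := (Finset.univ : Finset F))
      (t := (Polynomial.X ^ q - Polynomial.X : Polynomial F).roots.toFinset) fun x _ => by
        rw [Multiset.mem_toFinset, Polynomial.mem_roots
          (FiniteField.X_pow_card_sub_X_ne_zero F (Unitary.two_le_q hF))]
        simp [Polynomial.IsRoot, hall x]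
    have h2 := h1.trans ((Multiset.toFinset_card_le _).trans ((Polynomial.card_roots' _).trans
      (FiniteField.X_pow_card_sub_X_natDegree_eq F (Unitary.two_le_q hF)).le))
    rw [Finset.card_univ, hF] at h2
    have := Unitary.two_le_q hF
    nlinarith
  set S := smallSU σ with hS
  -- the small group spans the matrix algebra
  have hspan : Submodule.span F (matrixSet S) = ⊤ := by
    obtain ⟨a, ha, ha2⟩ : ∃ a : F, a * σ a = 1 ∧ a * a ≠ 1 := by
      by_contra hall
      push Not at hall
      have h1 : Nat.card {x : F // x * x ^ q = 1} ≤ 2 := by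
        rw [Nat.card_eq_fintype_card, Fintype.card_subtype]
        refine (Finset.card_le_card (t := ({1, -1} : Finset F)) fun x hx => ?_).trans Finset.card_le_two
        rw [Finset.mem_filter] at hx
        have := mul_self_eq_one_iff.mp (hall x hx.2)
        simp [this]
      rw [Unitary.card_norm_eq_one hF] at h1
      have := Unitary.two_le_q hF
      omega
    have ha0 : a ≠ 0 := fun h0 => by rw [h0, zero_mul] at ha; exact zero_ne_one ha
    have hσa : σ a = a⁻¹ := eq_inv_of_mul_eq_one_right ha
    have hmem : ∀ M : Matrix (Fin 2) (Fin 2) F, gtr σ 1 M = 1 → M.det = 1 →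
        M ∈ Submodule.span F (matrixSet S) := by
      intro M h1 h2
      have hu : IsUnit M := by rw [Matrix.isUnit_iff_isUnit_det, h2]; exact isUnit_one
      refine Submodule.subset_span ⟨hu.unit, ⟨h1, ?_⟩, rfl⟩
      exact Units.ext h2
    have hD : !![a, 0; 0, a⁻¹] ∈ Submodule.span F (matrixSet S) := by
      refine hmem _ ?_ (by simp [Matrix.det_fin_two_of, ha0])
      ext i j
      fin_cases i <;> fin_cases j <;>
        simp [gtr, Matrix.mul_apply, Fin.sum_univ_two, hσa, map_inv₀, ha0]
    have hW : !![0, 1; -1, 0] ∈ Submodule.span F (matrixSet S) := by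
      refine hmem _ ?_ (by simp [Matrix.det_fin_two_of])
      ext i j
      fin_cases i <;> fin_cases j <;> simp [gtr, Matrix.mul_apply, Fin.sum_univ_two]
    have hDW : !![0, a; -a⁻¹, 0] ∈ Submodule.span F (matrixSet S) := by
      refine hmem _ ?_ (by simp [Matrix.det_fin_two_of, ha0])
      ext i j
      fin_cases i <;> fin_cases j <;>
        simp [gtr, Matrix.mul_apply, Fin.sum_univ_two, hσa, map_inv₀, ha0]
    have h1 : (1 : Matrix (Fin 2) (Fin 2) F) ∈ Submodule.span F (matrixSet S) :=
      Submodule.subset_span ⟨1, one_mem _, rfl⟩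
    have hne : a⁻¹ - a ≠ 0 := by
      intro h0
      apply ha2
      have : a⁻¹ = a := sub_eq_zero.mp h0
      nth_rewrite 2 [← this]
      exact mul_inv_cancel₀ ha0
    rw [eq_top_iff]
    intro M _
    have e : M = ((a⁻¹ * M 0 0 - a * M 1 1) / (a⁻¹ - a)) • (1 : Matrix (Fin 2) (Fin 2) F)
        + ((M 1 1 - M 0 0) / (a⁻¹ - a)) • !![a, 0; 0, a⁻¹]
        + ((a⁻¹ * M 0 1 + a * M 1 0) / (a⁻¹ - a)) • !![0, 1; -1, 0]
        + (-(M 0 1 + M 1 0) / (a⁻¹ - a)) • !![0, a; -a⁻¹, 0] := by
      ext i j
      fin_cases i <;> fin_cases j <;> simp <;> grind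
    rw [e]
    exact Submodule.add_mem _ (Submodule.add_mem _ (Submodule.add_mem _ (Submodule.smul_mem _ _ h1)
      (Submodule.smul_mem _ _ hD)) (Submodule.smul_mem _ _ hW)) (Submodule.smul_mem _ _ hDW)
  -- the product of the small groups in all slots
  set P' : Subgroup (GL (Fin t → Fin 2) F) :=
    (Subgroup.pi Set.univ fun _ : Fin t => S).map (pureHom 2 t) with hP'
  have hspan' : Submodule.span F (matrixSet P') = ⊤ := by
    have key : ∀ (A : Finset (Fin t)) (M : Fin t → Matrix (Fin 2) (Fin 2) F),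
        (∀ i, i ∉ A → M i ∈ matrixSet S) → pureMat M ∈ Submodule.span F (matrixSet P') := by
      intro A
      induction A using Finset.induction with
      | empty =>
        intro M hM
        choose u hu hu' using fun i => hM i (Finset.notMem_empty i)
        rw [show M = fun i => (u i : Matrix (Fin 2) (Fin 2) F) from (funext hu').symm]
        exact Submodule.subset_span ⟨pureHom 2 t u, ⟨u, fun i _ => hu i, rfl⟩, rfl⟩
      | insert i A hi ih =>
        intro M hM
        have hMi : M i ∈ Submodule.span F (matrixSet S) := hspan ▸ Submodule.mem_top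
        suffices hX : ∀ X ∈ Submodule.span F (matrixSet S),
            pureMat (Function.update M i X) ∈ Submodule.span F (matrixSet P') by
          simpa using hX _ hMi
        intro X hX
        induction hX using Submodule.span_induction with
        | mem X hX =>
          refine ih _ fun l hl => ?_
          by_cases hli : l = i
          · rw [hli, Function.update_self]; exact hX
          · rw [Function.update_of_ne hli]
            exact hM l (by simp [hli, hl])
        | zero =>
          have h0 := pureMat_update_smul M i (0 : F) 0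
          rw [zero_smul, zero_smul] at h0
          rw [h0]
          exact Submodule.zero_mem _
        | add X Y _ _ hX hY => rw [pureMat_update_add]; exact Submodule.add_mem _ hX hY
        | smul c X _ hX => rw [pureMat_update_smul]; exact Submodule.smul_mem _ c hX
    rw [eq_top_iff]
    intro M _
    rw [Matrix.matrix_eq_sum_single M]
    refine Submodule.sum_mem _ fun x _ => Submodule.sum_mem _ fun y _ => ?_
    rw [show Matrix.single x y (M x y) = M x y • pureMat (fun i => Matrix.single (x i) (y i) (1 : F)) by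
      rw [← mul_one (M x y), ← smul_eq_mul, ← Matrix.smul_single, smul_eq_mul, mul_one]
      congr 1
      ext p r
      simp only [pureMat, Matrix.of_apply, Matrix.single_apply]
      by_cases hpr : x = p ∧ y = r
      · rw [if_pos hpr, Finset.prod_eq_one fun i _ => if_pos ⟨congrFun hpr.1 i, congrFun hpr.2 i⟩]
      · rw [if_neg hpr]
        rw [not_and_or] at hpr
        rcases hpr with hpr | hpr <;>
          (obtain ⟨i, hi⟩ := Function.ne_iff.mp hpr
           exact (Finset.prod_eq_zero (Finset.mem_univ i) (if_neg (by simp [hi]))).symm)]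
    exact Submodule.smul_mem _ _ (key Finset.univ _ fun i hi => absurd (Finset.mem_univ i) hi)
  have habs : ActsAbsolutelyIrreducibly (matrixSet P') := by
    apply absIrred_of_env_eq_top
    rw [← Algebra.toSubmodule_eq_top, env_toSubmodule, hspan']
  have hP'mem : ∀ g ∈ P', ∃ u : Fin t → GL (Fin 2) F, (∀ i, u i ∈ S) ∧
      (g : Matrix (Fin t → Fin 2) (Fin t → Fin 2) F)
        = pureMat fun i => (u i : Matrix (Fin 2) (Fin 2) F) := by
    rintro _ ⟨u, hu, rfl⟩
    exact ⟨u, fun i => hu i trivial, rfl⟩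
  obtain ⟨c, hc, hG⟩ := d.gram
  have h' := h.coord e P
  -- a bilinear form fixed by the small groups
  have hgalt : ∀ g ∈ P', gtr (RingEquiv.refl F) (altPow t)
      (g : Matrix (Fin t → Fin 2) (Fin t → Fin 2) F) = altPow t := by
    intro g hg
    obtain ⟨u, hu, hg'⟩ := hP'mem g hg
    rw [hg', gtr, show ((pureMat fun i => (u i : Matrix (Fin 2) (Fin 2) F)).map (RingEquiv.refl F))
      = pureMat fun i => (u i : Matrix (Fin 2) (Fin 2) F) from Matrix.map_id _, altPow,
      pureMat_transpose, pureMat_mul, pureMat_mul]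
    congr 1; funext i
    rw [transpose_mul_altTwo_mul]
    have h2 : (u i : Matrix (Fin 2) (Fin 2) F).det = 1 := congrArg Units.val (hu i).2
    rw [h2, one_smul]
  have hfix' : FixesForm (matrixSet P') (coordForm e P f) := by
    rintro _ ⟨g, hg, rfl⟩
    rw [fixes_iff_gtr h'.sesq] at *
    obtain ⟨u, hu, hg'⟩ := hP'mem g hg
    show gtr σ _ (g : Matrix (Fin t → Fin 2) (Fin t → Fin 2) F) = _
    rw [hg', hG, gtr_smul]
    congr 1
    rw [gtr, pureMat_transpose, pureMat_map, pureMat_mul, pureMat_mul]
    exact congrArg pureMat (funext fun i => (hu i).1)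
  have hdescent := descent_of_forms habs h'.sesq h'.nondeg
    (isSesq_formOfGram (RingEquiv.refl F) (altPow t))
    (nondegenerate_formOfGram (isUnit_altPow t)) hfix'
    (SympData.fixesForm_of_gram (fun s hs => by obtain ⟨g, hg, rfl⟩ := hs; exact hgalt g hg))
  -- transport to the original coordinates
  set P₁ := P'.map (coordEquiv e P).toMonoidHom with hP₁
  have hval : ∀ s ∈ matrixSet P₁, ∃ g ∈ P', s = coordAlg e P (g : Matrix (Fin t → Fin 2) (Fin t → Fin 2) F) := by
    rintro _ ⟨_, ⟨g, hg, rfl⟩, rfl⟩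
    exact ⟨g, hg, rfl⟩
  have habs₁ : ActsAbsolutelyIrreducibly (matrixSet P₁) := by
    apply absIrred_of_env_eq_top
    rw [← Algebra.toSubmodule_eq_top, env_toSubmodule, eq_top_iff]
    rintro M -
    obtain ⟨M', rfl⟩ := (coordAlg e P).surjective M
    have hM' : M' ∈ Submodule.span F (matrixSet P') := hspan' ▸ Submodule.mem_top
    induction hM' using Submodule.span_induction with
    | mem X hX =>
      obtain ⟨g, hg, rfl⟩ := hX
      exact Submodule.subset_span ⟨_, ⟨g, hg, rfl⟩, rfl⟩
    | zero => simp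
    | add X Y _ _ hX hY => rw [map_add]; exact Submodule.add_mem _ hX hY
    | smul c X _ hX => rw [map_smul]; exact Submodule.smul_mem _ c hX
  have hfix₁ : FixesForm (matrixSet P₁) f := by
    intro s hs u v
    obtain ⟨g, hg, rfl⟩ := hval s hs
    obtain ⟨x, rfl⟩ := exists_coord e P u
    obtain ⟨y, rfl⟩ := exists_coord e P v
    rw [coordAlg_mulVec, coordAlg_mulVec]
    exact hfix' _ (mem_matrixSet hg) x y
  have hn : ∀ g ∈ H, ∀ x ∈ P₁, g * x * g⁻¹ ∈ P₁ := by
    rintro g hg _ ⟨x, hx, rfl⟩
    obtain ⟨g', rfl⟩ := (coordEquiv e P).surjective g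
    refine ⟨g' * x * g'⁻¹, ?_, by simp⟩
    obtain ⟨y, π, ν, hy, hν⟩ := d.normalForm h hH hg
    obtain ⟨u, hu, hx'⟩ := hP'mem x hx
    refine ⟨fun j => y j * u (π.symm j) * (y j)⁻¹, fun j _ => ⟨?_, ?_⟩, Units.ext ?_⟩
    · show gtr σ 1 _ = 1
      obtain ⟨hν0, hνj⟩ := hν j
      rw [Units.val_mul, Units.val_mul, gtr_mul, gtr_mul, hνj, gtr_smul, (hu _).1, ← hνj, ← gtr_mul,
        ← Units.val_mul, mul_inv_cancel, Units.val_one]
      simp [gtr, Matrix.map_one σ (map_zero σ) (map_one σ)]
    · show Matrix.GeneralLinearGroup.det _ = 1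
      have h2 : Matrix.GeneralLinearGroup.det (u (π.symm j)) = 1 := (hu _).2
      rw [map_mul, map_mul, h2, mul_one, map_inv, mul_inv_cancel]
    · show pureMat _ = ((g' * x * g'⁻¹ : GL (Fin t → Fin 2) F) : Matrix (Fin t → Fin 2) (Fin t → Fin 2) F)
      have e1 : (g' : Matrix (Fin t → Fin 2) (Fin t → Fin 2) F) * (x : Matrix _ _ F)
          = pureMat (fun j => ((y j * u (π.symm j) * (y j)⁻¹ : GL (Fin 2) F) : Matrix (Fin 2) (Fin 2) F))
            * (g' : Matrix (Fin t → Fin 2) (Fin t → Fin 2) F) := by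
        rw [hy, hx', mul_assoc, factorPerm_conj, ← mul_assoc, ← mul_assoc, pureMat_mul, pureMat_mul]
        simp [mul_assoc]
      rw [Units.val_mul, Units.val_mul, e1, mul_assoc, ← Units.val_mul, mul_inv_cancel, Units.val_one,
        mul_one]
  have hreal : RealisableOver (RingHom.eqLocusField σ.toRingHom (RingHom.id F)) (matrixSet P₁) := by
    obtain ⟨B, hB⟩ := hdescent
    refine ⟨glReindex e.symm B * P⁻¹, fun s hs i j => ?_⟩
    obtain ⟨g, hg, rfl⟩ := hval s hs
    have e1 : ((glReindex e.symm B * P⁻¹ : GL ι F) : Matrix ι ι F) *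
        coordAlg e P (g : Matrix (Fin t → Fin 2) (Fin t → Fin 2) F) *
        (((glReindex e.symm B * P⁻¹)⁻¹ : GL ι F) : Matrix ι ι F)
        = Matrix.reindexAlgEquiv F F e.symm ((B : Matrix _ _ F) * (g : Matrix _ _ F) * ((B⁻¹ : GL _ F) : Matrix _ _ F)) := by
      rw [← coordEquiv_val, ← Units.val_mul, ← Units.val_mul, ← Units.val_mul, ← Units.val_mul]
      rw [show glReindex e.symm B * P⁻¹ * coordEquiv e P g * (glReindex e.symm B * P⁻¹)⁻¹
          = glReindex e.symm (B * g * B⁻¹) by
        show glReindex e.symm B * P⁻¹ * (P * glReindex e.symm g * P⁻¹) * (glReindex e.symm B * P⁻¹)⁻¹ = _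
        rw [map_mul, map_mul, map_inv]; group]
      rfl
    rw [e1]
    exact hB _ (mem_matrixSet hg) (e i) (e j)
  refine unitary_subfield hF h habs₁ ?_ hn hfix₁ (eqLocusField_ne_top hσne) hreal
  have := d.card
  have h2t : 2 ≤ 2 ^ t := Nat.le_self_pow (by have := d.two_le_t; omega) 2
  omega

/-- Three-dimensional orthogonal factors over three elements give a frame of non-singular lines. -/
theorem PowerFormData.frame_three [Fintype F] [Nonempty ι] (hq : Fintype.card F = 3)
    {f : (ι → F) → (ι → F) → F} {H : Subgroup (GL ι F)} {t : ℕ}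
    {e : ι ≃ (Fin t → Fin 3)} {P : GL ι F}
    (d : PowerFormData (RingEquiv.refl F) f H 3 t e P 1)
    (h : FormSpace (RingEquiv.refl F) 1 f) (hH : FixesForm (matrixSet H) f) :
    ∃ (v : (Fin t → Fin 3) → ι → F) (c : F), c ≠ 0 ∧
      (∀ x y, f (v x) (v y) = if x = y then c else 0) ∧ LinearIndependent F v ∧
      (⨆ x, F ∙ v x) = ⊤ ∧
      ∀ g ∈ H, ∃ π : Equiv.Perm (Fin t → Fin 3), ∀ x, ∃ s : F, s ≠ 0 ∧
        (g : Matrix ι ι F) *ᵥ v x = s • v (π x) := by
  classical
  obtain ⟨c, hc, hG⟩ := d.gram
  rw [pureMat_one] at hG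
  let v : (Fin t → Fin 3) → ι → F := fun x => (P : Matrix ι ι F) *ᵥ (Pi.single x 1 ∘ e)
  have h3 : (3 : F) = 0 := by
    have := FiniteField.cast_card_eq_zero F
    rw [hq] at this
    exact_mod_cast this
  have hsq : ∀ x : F, x ≠ 0 → x * x = 1 := fun x hx => by
    have := FiniteField.pow_card_sub_one_eq_one x hx
    rw [hq] at this
    rw [← sq]; exact this
  have h2 : (2 : F) ≠ 0 := fun h2 => one_ne_zero (α := F) (by linear_combination h3 - h2)
  refine ⟨v, c, hc, fun x y => ?_, ?_, ?_, fun g hg => ?_⟩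
  · show gramMatrix (coordForm e P f) x y = _
    rw [hG, Matrix.smul_apply, Matrix.one_apply, smul_eq_mul, mul_ite, mul_one, mul_zero]
  · rw [Fintype.linearIndependent_iff]
    intro g hg i
    have h1 : (P : Matrix ι ι F) *ᵥ (g ∘ e) = (P : Matrix ι ι F) *ᵥ ((0 : (Fin t → Fin 3) → F) ∘ e) := by
      rw [show ((0 : (Fin t → Fin 3) → F) ∘ e) = 0 from rfl, Matrix.mulVec_zero, ← hg]
      simp only [v, ← Matrix.mulVec_smul, ← Matrix.mulVec_sum]
      congr 1
      funext z
      simp [Finset.sum_apply, Pi.single_apply, eq_comm]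
    exact congrFun (coord_injective e P h1) i
  · rw [eq_top_iff]
    intro w _
    obtain ⟨x, rfl⟩ := exists_coord e P w
    have : (P : Matrix ι ι F) *ᵥ (x ∘ e) = ∑ z, x z • v z := by
      simp only [v, ← Matrix.mulVec_smul, ← Matrix.mulVec_sum]
      congr 1
      funext z
      simp [Finset.sum_apply, Pi.single_apply, eq_comm]
    rw [this]
    exact Submodule.sum_mem _ fun z _ =>
      Submodule.smul_mem _ _ (Submodule.mem_iSup_of_mem z (Submodule.mem_span_singleton_self _))
  obtain ⟨g', rfl⟩ := (coordEquiv e P).surjective g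
  obtain ⟨y, π, ν, hy, hν⟩ := d.normalForm h hH hg
  have hy1 : ∀ j, gtr (RingEquiv.refl F) 1 (y j : Matrix (Fin 3) (Fin 3) F) = 1 := by
    intro j
    obtain ⟨hν0, hνj⟩ := hν j
    have hdet := congrArg Matrix.det hνj
    simp only [gtr, mul_one, Matrix.det_mul, Matrix.det_transpose, Matrix.det_smul, Fintype.card_fin,
      Matrix.det_one] at hdet
    rw [show ((y j : Matrix (Fin 3) (Fin 3) F)).map (RingEquiv.refl F) = (y j : Matrix (Fin 3) (Fin 3) F)
      from Matrix.map_id _, hsq _ ((Matrix.isUnit_iff_isUnit_det _).mp (y j).isUnit).ne_zero,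
      pow_succ, sq, hsq _ hν0, one_mul] at hdet
    rw [hνj, ← hdet, one_smul]
  -- columns have exactly one non-zero entry
  have hcol : ∀ j a, ∃ b, ∃ s : F, s ≠ 0 ∧
      (y j : Matrix (Fin 3) (Fin 3) F) *ᵥ Pi.single a 1 = s • Pi.single b 1 := by
    intro j a
    set u : Fin 3 → F := (y j : Matrix (Fin 3) (Fin 3) F) *ᵥ Pi.single a 1 with hu
    have hdot : u 0 * u 0 + u 1 * u 1 + u 2 * u 2 = 1 := by
      have h1 := congrFun (congrFun (hy1 j) a) a
      simp [gtr, Matrix.mul_apply, Fin.sum_univ_three] at h1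
      simpa [hu, Matrix.mulVec_single_one] using h1
    have key : (u 0 ≠ 0 ∧ u 1 = 0 ∧ u 2 = 0) ∨ (u 0 = 0 ∧ u 1 ≠ 0 ∧ u 2 = 0) ∨
        (u 0 = 0 ∧ u 1 = 0 ∧ u 2 ≠ 0) := by
      have hd : ∀ z, u z * u z = if u z = 0 then 0 else 1 := fun z => by
        split_ifs with hz
        · rw [hz, mul_zero]
        · exact hsq _ hz
      rw [hd 0, hd 1, hd 2] at hdot
      by_cases h0 : u 0 = 0 <;> by_cases h1 : u 1 = 0 <;> by_cases h2' : u 2 = 0
      all_goals simp [h0, h1, h2'] at hdot ⊢
      all_goals first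
        | exact one_ne_zero (α := F) (by linear_combination hdot)
        | exact one_ne_zero (α := F) (by linear_combination h3 - hdot)
    rcases key with ⟨h0, h1, h2'⟩ | ⟨h0, h1, h2'⟩ | ⟨h0, h1, h2'⟩
    · exact ⟨0, u 0, h0, by funext z; fin_cases z <;> simp [h1, h2']⟩
    · exact ⟨1, u 1, h1, by funext z; fin_cases z <;> simp [h0, h2']⟩
    · exact ⟨2, u 2, h2', by funext z; fin_cases z <;> simp [h0, h1]⟩
  choose b s hs0 hs using hcol
  let φ : (Fin t → Fin 3) → (Fin t → Fin 3) := fun x j => b j (x (π.symm j))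
  have hφv : ∀ x, (coordEquiv e P g' : Matrix ι ι F) *ᵥ v x
      = (∏ j, s j (x (π.symm j))) • v (φ x) := by
    intro x
    show coordAlg e P _ *ᵥ _ = _
    rw [coordAlg_mulVec]
    simp only [v, ← Matrix.mulVec_smul]
    congr 1
    rw [hy, ← pureVec_single, ← Matrix.mulVec_mulVec, factorPerm_mulVec, pureMat_mulVec]
    simp only [hs]
    rw [← pureVec_single]
    funext z
    simp [pureVec, φ, Finset.prod_mul_distrib]
  have hφinj : Function.Injective φ := by
    intro x x' hxx
    by_contra hne
    have h5 := hφv x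
    rw [hxx] at h5
    have h6 := hφv x'
    have hp0 : ∀ z : Fin t → Fin 3, (∏ j, s j (z (π.symm j))) ≠ 0 := fun z => Finset.prod_ne_zero_iff.mpr fun j _ => hs0 _ _
    have h7 : (coordEquiv e P g' : Matrix ι ι F) *ᵥ ((∏ j, s j (x' (π.symm j))) • v x)
        = (coordEquiv e P g' : Matrix ι ι F) *ᵥ ((∏ j, s j (x (π.symm j))) • v x') := by
      rw [Matrix.mulVec_smul, Matrix.mulVec_smul, h5, h6, smul_comm]
    have h8 := Matrix.mulVec_injective_iff_isUnit.mpr (coordEquiv e P g').isUnit h7
    simp only [v, ← Matrix.mulVec_smul] at h8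
    have h9 := congrFun (coord_injective e P (x := (∏ j, s j (x' (π.symm j))) • Pi.single x 1)
      (y := (∏ j, s j (x (π.symm j))) • Pi.single x' 1) (by exact h8)) x
    simp [Pi.single_eq_of_ne hne] at h9
    exact hp0 x' (by simpa [Finset.prod_eq_zero_iff] using h9)
  exact ⟨Equiv.ofBijective φ (Finite.injective_iff_bijective.mp hφinj), fun x =>
    ⟨_, Finset.prod_ne_zero_iff.mpr fun j _ => hs0 _ _, hφv x⟩⟩

end Cfsg.Agent.Aschbacher
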