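/-
Tensor decompositions of alternating forms: a two-dimensional symmetric factor, and characteristic
two.
-/
import Cfsg.Agent.Aschbacher.FormedTensor
import Cfsg.Agent.Aschbacher.FormedQuad
import Cfsg.Agent.Aschbacher.TwoFactor

set_option autoImplicit false
set_option linter.unusedSectionVars false
set_option linter.style.haveILetI false

namespace Cfsg.Agent.Aschbacher

open scoped MatrixGroups Matrix Kronecker
open Cfsg.Geo

variable {ι : Type} [Fintype ι] [DecidableEq ι] {F : Type*} [Field F]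
variable {ε : F} {f : (ι → F) → (ι → F) → F}

local notation "σ₀" => RingEquiv.refl F

/-- A symmetric two-dimensional tensor factor gives a quadratic field or a pair of totally singular
halves. -/
theorem TensorFormData.symmetric_two [Nonempty ι] {H : Subgroup (GL ι F)} {a : ℕ}
    {e : ι ≃ Fin a × Fin 2} {P : GL ι F} {G₁ : Matrix (Fin a) (Fin a) F}
    {G₂ : Matrix (Fin 2) (Fin 2) F} {c₁ c₂ : F}
    (d : TensorFormData σ₀ ε f H a 2 e P G₁ G₂ c₁ c₂) (h : FormSpace σ₀ ε f) (h2 : (2 : F) ≠ 0)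
    (hH : H ≤ similarityGroup f) (hsym : G₂ᵀ = G₂) :
    (∃ K : Subalgebra F (Matrix ι ι F), IsFieldSubalgebra 2 K ∧ IsAdjointClosedFor f K ∧
      ¬ IsSelfAdjointFor f K ∧ H ≤ subalgebraNormalizer K) ∨
    (∃ (k : ℕ) (D : Fin 2 → Submodule F (ι → F)), 2 * k = Fintype.card ι ∧ IsMDecomposition k D ∧
      (∀ i, IsTotallySingularFor f (D i)) ∧ H ≤ decompositionStabilizer D) := by
  haveI : Nonempty (Fin a) := ⟨⟨0, by have := d.two_le₁; omega⟩⟩
  have hd : IsUnit G₂.det := (Matrix.isUnit_iff_isUnit_det _).mp d.unit₂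
  set k : Matrix (Fin 2) (Fin 2) F := G₂⁻¹ * altTwo with hk
  have h10 : G₂ 1 0 = G₂ 0 1 := congrFun (congrFun hsym 0) 1
  have hJ : altTwo * G₂⁻¹ * altTwo = (-(G₂.det)⁻¹) • G₂ := by
    rw [Matrix.inv_def, Ring.inverse_eq_inv', Matrix.adjugate_fin_two, altTwo]
    ext i j
    fin_cases i <;> fin_cases j <;>
      simp [Matrix.mul_apply, Fin.sum_univ_two, h10]
  have hkk : k * k = (-(G₂.det)⁻¹) • (1 : Matrix (Fin 2) (Fin 2) F) := by
    rw [hk, mul_assoc, ← mul_assoc altTwo, hJ, Matrix.mul_smul, Matrix.nonsing_inv_mul _ hd]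
  have hkT : kᵀ * G₂ = - (G₂ * k) := by
    rw [hk, ← mul_assoc, Matrix.mul_nonsing_inv _ hd, one_mul, Matrix.transpose_mul,
      Matrix.transpose_nonsing_inv, hsym, mul_assoc, Matrix.nonsing_inv_mul _ hd, mul_one]
    ext i j
    fin_cases i <;> fin_cases j <;> simp [altTwo]
  set M : Matrix (Fin a × Fin 2) (Fin a × Fin 2) F := (1 : Matrix (Fin a) (Fin a) F) ⊗ₖ k with hM
  have hMM : M * M = (-(G₂.det)⁻¹) • (1 : Matrix (Fin a × Fin 2) (Fin a × Fin 2) F) := by
    rw [hM, ← Matrix.mul_kronecker_mul, one_mul, hkk, Matrix.kronecker_smul, Matrix.one_kronecker_one]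
  have hMadj : adj σ₀ (coordForm e P f) M = -M := by
    obtain ⟨c, hc, hG⟩ := d.gram
    refine (h.coord e P).adj_unique fun u v => ?_
    rw [(h.coord e P).sesq.eq_formOfGram, (h.coord e P).sesq.eq_formOfGram u, formOfGram_eq,
      formOfGram_eq, hG]
    show (M *ᵥ u) ⬝ᵥ ((c • (G₁ ⊗ₖ G₂)) *ᵥ v) = u ⬝ᵥ ((c • (G₁ ⊗ₖ G₂)) *ᵥ ((-M) *ᵥ v))
    have e1 : Mᵀ * (c • (G₁ ⊗ₖ G₂)) = (c • (G₁ ⊗ₖ G₂)) * (-M) := by
      rw [Matrix.mul_smul, Matrix.smul_mul, mul_neg, hM, kronecker_transpose,
        ← Matrix.mul_kronecker_mul, ← Matrix.mul_kronecker_mul, Matrix.transpose_one, one_mul,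
        mul_one, hkT]
      congr 1
      ext ⟨i, j⟩ ⟨i', j'⟩
      simp
    rw [Matrix.mulVec_mulVec, ← e1, ← Matrix.mulVec_mulVec, Matrix.dotProduct_mulVec u Mᵀ,
      Matrix.vecMul_transpose]
  have hdet0 : -(G₂.det)⁻¹ ≠ 0 := neg_ne_zero.mpr (inv_ne_zero hd.ne_zero)
  refine skew_sqrt_cases h h2 (X := coordAlg e P M) hdet0 ?_ ?_ ?_
  · rw [← map_mul, hMM, map_smul, map_one]
  · rw [h.adj_coord, hMadj, map_neg]
  intro g hg
  obtain ⟨g', rfl⟩ := (coordEquiv e P).surjective g
  obtain ⟨x, y, μ, ν, -, hν, hxy, -, hy⟩ := d.factor_similitude h hH hg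
  simp only [gtr] at hy
  rw [show ((y : Matrix (Fin 2) (Fin 2) F)).map σ₀ = (y : Matrix (Fin 2) (Fin 2) F) from
    Matrix.map_id _] at hy
  -- y normalises k up to a scalar
  set l := (y : Matrix (Fin 2) (Fin 2) F).det / ν with hl
  have hyk : k * (y : Matrix (Fin 2) (Fin 2) F) = l • ((y : Matrix (Fin 2) (Fin 2) F) * k) := by
    have hyd : IsUnit (y : Matrix (Fin 2) (Fin 2) F).det :=
      (Matrix.isUnit_iff_isUnit_det _).mp y.isUnit
    have e1 : G₂ * (y : Matrix (Fin 2) (Fin 2) F)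
        = ν • ((y : Matrix (Fin 2) (Fin 2) F)ᵀ⁻¹ * G₂) := by
      rw [← Matrix.mul_smul, ← hy, ← mul_assoc, ← mul_assoc,
        Matrix.nonsing_inv_mul _ (by rwa [Matrix.det_transpose]), one_mul]
    have e2 : altTwo * (y : Matrix (Fin 2) (Fin 2) F)
        = (y : Matrix (Fin 2) (Fin 2) F).det • ((y : Matrix (Fin 2) (Fin 2) F)ᵀ⁻¹ * altTwo) := by
      rw [← Matrix.mul_smul, ← transpose_mul_altTwo_mul, ← mul_assoc, ← mul_assoc,
        Matrix.nonsing_inv_mul _ (by rwa [Matrix.det_transpose]), one_mul]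
    have e3 : G₂ * (k * (y : Matrix (Fin 2) (Fin 2) F))
        = G₂ * (l • ((y : Matrix (Fin 2) (Fin 2) F) * k)) := by
      rw [Matrix.mul_smul, ← mul_assoc G₂ (y : Matrix (Fin 2) (Fin 2) F) k, e1, Matrix.smul_mul,
        smul_smul, hl, div_mul_cancel₀ _ hν, hk, mul_assoc _ G₂, ← mul_assoc G₂ G₂⁻¹,
        Matrix.mul_nonsing_inv _ hd, one_mul, ← e2, ← mul_assoc G₂ (G₂⁻¹ * altTwo),
        ← mul_assoc G₂ G₂⁻¹, Matrix.mul_nonsing_inv _ hd, one_mul]
    exact Matrix.mul_left_injective_of_invertible_aux d.unit₂ e3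
  have hl2 : l * l = 1 := by
    have hcm : k * k * (y : Matrix (Fin 2) (Fin 2) F)
        = (l * l) • ((y : Matrix (Fin 2) (Fin 2) F) * (k * k)) := by
      rw [mul_assoc, hyk, Matrix.mul_smul, ← mul_assoc, hyk, Matrix.smul_mul, smul_smul, mul_assoc]
    rw [hkk, Matrix.smul_mul, one_mul, Matrix.mul_smul, mul_one, smul_smul] at hcm
    have hy0 : (y : Matrix (Fin 2) (Fin 2) F) ≠ 0 := y.ne_zero
    have := smul_left_injective F hy0 hcm
    exact mul_right_cancel₀ hdet0 (this.symm.trans (one_mul _).symm)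
  have hconj : cj (coordEquiv e P g') (coordAlg e P M) = l • coordAlg e P M := by
    have e1 : (g' : Matrix (Fin a × Fin 2) (Fin a × Fin 2) F) * M
        = (l • M) * (g' : Matrix (Fin a × Fin 2) (Fin a × Fin 2) F) := by
      rw [hxy, hM, ← Matrix.mul_kronecker_mul, Matrix.smul_mul, ← Matrix.mul_kronecker_mul, one_mul,
        mul_one, hyk, Matrix.kronecker_smul, smul_smul, hl2, one_smul]
    rw [cj_apply, coordEquiv_val, ← map_mul, e1, map_mul, map_smul, mul_assoc, ← coordEquiv_val,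
      ← Units.val_mul, mul_inv_cancel, Units.val_one, mul_one]
  rw [hconj]
  rcases mul_self_eq_one_iff.mp hl2 with h3 | h3
  · left; rw [h3, one_smul]
  · right; rw [h3, neg_one_smul]
where
  Matrix.mul_left_injective_of_invertible_aux {n : ℕ} {G A B : Matrix (Fin n) (Fin n) F}
      (hG : IsUnit G) (h : G * A = G * B) : A = B := hG.mul_left_cancel h

/-- In characteristic two, an alternating form on an irreducible tensor product comes from two
alternating factors, and the group preserves a quadratic form. -/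
theorem TensorFormData.char_two_strong [Finite F] [Nonempty ι] {H : Subgroup (GL ι F)} {a b : ℕ}
    {e : ι ≃ Fin a × Fin b} {P : GL ι F} {G₁ : Matrix (Fin a) (Fin a) F}
    {G₂ : Matrix (Fin b) (Fin b) F} {c₁ c₂ : F}
    (d : TensorFormData σ₀ (-1) f H a b e P G₁ G₂ c₁ c₂) (h : FormSpace σ₀ (-1) f)
    (halt : ∀ v, f v v = 0) (h2 : (2 : F) = 0) (hH : FixesForm (matrixSet H) f)
    (hirr : ActsIrreducibly (matrixSet H)) :
    ((∀ i, G₁ i i = 0) ∧ ∀ j, G₂ j j = 0) ∧
    ∃ Q : (ι → F) → F, IsNondegenerateQuadraticForm Q ∧ (∀ u v, QuadraticMap.polar Q u v = f u v) ∧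
      FixesQuadForm (matrixSet H) Q ∧ ∀ (u : Fin a → F) (v : Fin b → F),
        Q ((P : Matrix ι ι F) *ᵥ ((fun p : Fin a × Fin b => u p.1 * v p.2) ∘ e)) = 0 := by
  classical
  haveI : CharP F 2 := CharTwo.of_one_ne_zero_of_two_eq_zero one_ne_zero h2
  obtain ⟨c, hc, hG⟩ := d.gram
  have h' := h.coord e P
  set f' := coordForm e P f with hf'
  have halt' : ∀ x, f' x x = 0 := fun x => halt _
  have hdiag : ∀ i j, G₁ i i * G₂ j j = 0 := fun i j => by
    have h1 := congrFun (congrFun hG (i, j)) (i, j)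
    rw [gramMatrix, halt', Matrix.smul_apply, Matrix.kroneckerMap_apply, smul_eq_mul] at h1
    exact (mul_eq_zero.mp h1.symm).resolve_left hc
  have hfac := fun g (hg : coordEquiv e P g ∈ H) =>
    d.factor_similitude h (le_similarityGroup_of_fixes hH) hg
  have hsymG : ∀ {n : ℕ} {G : Matrix (Fin n) (Fin n) F} {c : F}, 0 < n → IsUnit G →
      Gᵀ = c • G.map σ₀ → ∀ i j, G j i = G i j := by
    intro n G c hn hu hh i j
    have hc1 := herm_norm hn (fun _ => rfl) hu hh
    rw [RingEquiv.refl_apply] at hc1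
    have hc2 : c = 1 := by
      rcases mul_self_eq_one_iff.mp hc1 with h3 | h3
      · exact h3
      · rw [h3, CharTwo.neg_eq]
    have h3 := congrFun (congrFun hh i) j
    rw [hc2] at h3
    simpa using h3
  -- a factor which is not alternating gives an invariant subspace
  have hall : ∀ {a b : ℕ} {e : ι ≃ Fin a × Fin b} {G₁ : Matrix (Fin a) (Fin a) F}
      {G₂ : Matrix (Fin b) (Fin b) F} {c₁ c₂ : F},
      TensorFormData σ₀ (-1) f H a b e P G₁ G₂ c₁ c₂ → ∀ j, G₂ j j = 0 := by
    intro a b e G₁ G₂ c₁ c₂ d j₀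
    by_contra hj₀
    have hroot : ∀ x : F, ∃ y, y ^ 2 = x := fun x => by
      obtain ⟨y, hy⟩ := (surjective_frobenius F 2) x
      exact ⟨y, by rwa [frobenius_def] at hy⟩
    choose sq hsq using hroot
    let q : (Fin b → F) → F := fun w => ∑ j, w j ^ 2 * G₂ j j
    have hq : ∀ w, q w = w ⬝ᵥ (G₂ *ᵥ w) := by
      intro w
      have hsy := hsymG (show 0 < b by have := d.two_le₂; omega) d.unit₂ d.herm₂
      simp only [q, dotProduct, Matrix.mulVec, Finset.mul_sum, ← Fintype.sum_prod_type']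
      have hoff : ∑ p ∈ (Finset.univ.filter fun p : Fin b × Fin b => p.1 ≠ p.2),
          w p.1 * (G₂ p.1 p.2 * w p.2) = 0 := by
        refine Finset.sum_involution (fun p _ => (p.2, p.1)) ?_ ?_ ?_ ?_
        · intro p _
          rw [hsy p.1 p.2, show w p.2 * (G₂ p.1 p.2 * w p.1) = w p.1 * (G₂ p.1 p.2 * w p.2) by ring,
            CharTwo.add_self_eq_zero]
        · intro p hp _ h0
          rw [Finset.mem_filter] at hp
          exact hp.2 (congrArg Prod.fst h0).symm
        · intro p hp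
          rw [Finset.mem_filter] at hp ⊢
          exact ⟨Finset.mem_univ _, hp.2.symm⟩
        · simp
      rw [← Finset.sum_filter_add_sum_filter_not Finset.univ (fun p : Fin b × Fin b => p.1 ≠ p.2),
        hoff, zero_add]
      refine Finset.sum_nbij' (fun j => (j, j)) Prod.fst ?_ ?_ ?_ ?_ ?_
      · intro j _; simp
      · intro p _; exact Finset.mem_univ _
      · intro j _; rfl
      · intro p hp
        rw [Finset.mem_filter, not_not] at hp
        exact Prod.ext rfl hp.2
      · intro j _; ring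
    let W : Submodule F (Fin a × Fin b → F) :=
      { carrier := {x | ∀ i, q (fun j => x (i, j)) = 0}
        add_mem' := fun {u v} hu hv i => by
          show ∑ j, (u (i, j) + v (i, j)) ^ 2 * G₂ j j = 0
          simp only [add_pow_char, add_mul, Finset.sum_add_distrib]
          rw [show ∑ j, u (i, j) ^ 2 * G₂ j j = 0 from hu i,
            show ∑ j, v (i, j) ^ 2 * G₂ j j = 0 from hv i, add_zero]
        zero_mem' := fun i => by simp [q]
        smul_mem' := fun t x hx i => by
          show ∑ j, (t * x (i, j)) ^ 2 * G₂ j j = 0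
          simp only [mul_pow, mul_assoc, ← Finset.mul_sum]
          rw [show ∑ j, x (i, j) ^ 2 * G₂ j j = 0 from hx i, mul_zero] }
    rcases eq_bot_or_eq_top (actsIrreducibly_coord e P hirr) W (fun g hg x hx i => by
      obtain ⟨X, Y, μ, ν, -, -, hxy, -, hY⟩ := d.factor_similitude h (le_similarityGroup_of_fixes hH) hg
      have hrow : (fun j => ((g : Matrix (Fin a × Fin b) (Fin a × Fin b) F) *ᵥ x) (i, j))
          = ∑ i', (X : Matrix (Fin a) (Fin a) F) i i' •
              ((Y : Matrix (Fin b) (Fin b) F) *ᵥ fun j' => x (i', j')) := by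
        funext j
        rw [hxy]
        simp [Matrix.mulVec, dotProduct, Fintype.sum_prod_type, Finset.mul_sum, mul_assoc]
      have hqY : ∀ w, q ((Y : Matrix (Fin b) (Fin b) F) *ᵥ w) = ν * q w := fun w => by
        rw [hq, hq, Matrix.mulVec_mulVec, Matrix.dotProduct_mulVec,
          ← Matrix.vecMul_transpose, Matrix.vecMul_vecMul, ← Matrix.dotProduct_mulVec, ← mul_assoc]
        simp only [gtr] at hY
        rw [show (Y : Matrix (Fin b) (Fin b) F).map σ₀ = (Y : Matrix (Fin b) (Fin b) F) from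
          Matrix.map_id _] at hY
        rw [hY, Matrix.smul_mulVec, dotProduct_smul, smul_eq_mul]
      rw [hrow]
      have hqadd : ∀ u v, q (u + v) = q u + q v := fun u v => by
        simp [q, add_pow_char, add_mul, Finset.sum_add_distrib]
      let qh : (Fin b → F) →+ F := AddMonoidHom.mk' q hqadd
      show qh _ = 0
      rw [map_sum]
      refine Finset.sum_eq_zero fun i' _ => ?_
      show q _ = 0
      rw [show q ((X : Matrix (Fin a) (Fin a) F) i i' • ((Y : Matrix (Fin b) (Fin b) F) *ᵥ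
          fun j' => x (i', j'))) = ((X : Matrix (Fin a) (Fin a) F) i i') ^ 2 *
            q ((Y : Matrix (Fin b) (Fin b) F) *ᵥ fun j' => x (i', j')) by
        simp [q, mul_pow, Finset.mul_sum, mul_assoc], hqY, hx i', mul_zero, mul_zero]) with hW | hW
    · -- the kernel of q is non-zero
      obtain ⟨k, hk⟩ : ∃ k, k ≠ j₀ := by
        haveI : Nontrivial (Fin b) := Fin.nontrivial_iff_two_le.mpr d.two_le₂
        exact exists_ne j₀
      let i₀ : Fin a := ⟨0, by have := d.two_le₁; omega⟩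
      let w : Fin b → F := Pi.single j₀ (sq (G₂ k k)) + Pi.single k (sq (G₂ j₀ j₀))
      let x : Fin a × Fin b → F := fun p => if p.1 = i₀ then w p.2 else 0
      have hx : x ∈ W := by
        intro i
        by_cases hi : i = i₀
        · show ∑ j, (if (i, j).1 = i₀ then w j else 0) ^ 2 * G₂ j j = 0
          simp only [hi, if_pos]
          rw [← Finset.sum_subset (Finset.subset_univ ({j₀, k} : Finset (Fin b))),
            Finset.sum_pair hk.symm]
          · simp [w, Pi.single_eq_of_ne hk, Pi.single_eq_of_ne hk.symm, hsq]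
            rw [mul_comm (G₂ k k), CharTwo.add_self_eq_zero]
          · intro j _ hj
            simp only [Finset.mem_insert, Finset.mem_singleton, not_or] at hj
            simp [w, Pi.single_eq_of_ne hj.1, Pi.single_eq_of_ne hj.2]
        · show ∑ j, (if (i, j).1 = i₀ then w j else 0) ^ 2 * G₂ j j = 0
          simp [hi]
      rw [hW, Submodule.mem_bot] at hx
      have h3 := congrFun hx (i₀, k)
      simp [x, w, Pi.single_eq_of_ne hk] at h3
      have h4 := hsq (G₂ j₀ j₀)
      rw [h3, zero_pow two_ne_zero] at h4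
      exact hj₀ h4.symm
    · let i₀ : Fin a := ⟨0, by have := d.two_le₁; omega⟩
      let x : Fin a × Fin b → F := fun p => if p.2 = j₀ then 1 else 0
      have hx : x ∈ W := hW ▸ Submodule.mem_top
      have h3 := hx i₀
      simp [q, x] at h3
      exact hj₀ h3
  have hd₂ : ∀ j, G₂ j j = 0 := hall d
  have hd₁ : ∀ i, G₁ i i = 0 := hall d.swap
  -- the quadratic form vanishing on pure tensors
  obtain ⟨Q, hQ, hpol, hQ0⟩ := exists_quad_polar h' halt' h2
  let pt : (Fin a → F) → (Fin b → F) → (Fin a × Fin b → F) := fun u v p => u p.1 * v p.2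
  have hG1 : ∀ {n : ℕ} {G : Matrix (Fin n) (Fin n) F}, (∀ i j, G j i = G i j) → (∀ i, G i i = 0) →
      ∀ u, u ⬝ᵥ (G *ᵥ u) = 0 := by
    intro n G hs hd u
    simp only [dotProduct, Matrix.mulVec, Finset.mul_sum, ← Fintype.sum_prod_type']
    refine Finset.sum_involution (fun p _ => (p.2, p.1)) ?_ ?_ ?_ ?_
    · intro p _
      rw [hs p.1 p.2, show u p.2 * (G p.1 p.2 * u p.1) = u p.1 * (G p.1 p.2 * u p.2) by ring,
        CharTwo.add_self_eq_zero]
    · intro p _ hp h0
      have : p.1 = p.2 := (congrArg Prod.fst h0).symm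
      rw [this, hd, zero_mul, mul_zero] at hp
      exact hp rfl
    · simp
    · simp
  have hfpt : ∀ u v u' v', f' (pt u v) (pt u' v') = c * ((u ⬝ᵥ (G₁ *ᵥ u')) * (v ⬝ᵥ (G₂ *ᵥ v'))) := by
    intro u v u' v'
    have e1 : (G₁ ⊗ₖ G₂) *ᵥ pt u' v' = pt (G₁ *ᵥ u') (G₂ *ᵥ v') := by
      funext p
      simp only [Matrix.mulVec, dotProduct, Matrix.kroneckerMap_apply, pt, Fintype.sum_prod_type,
        Finset.sum_mul_sum]
      exact Finset.sum_congr rfl fun i _ => Finset.sum_congr rfl fun l _ => by ring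
    have e2 : pt u v ⬝ᵥ pt (G₁ *ᵥ u') (G₂ *ᵥ v') = (u ⬝ᵥ (G₁ *ᵥ u')) * (v ⬝ᵥ (G₂ *ᵥ v')) := by
      simp only [dotProduct, pt, Fintype.sum_prod_type, Finset.sum_mul_sum]
      exact Finset.sum_congr rfl fun i _ => Finset.sum_congr rfl fun l _ => by ring
    rw [h'.sesq.eq_formOfGram, hG, formOfGram_eq,
      show ((σ₀ : F ≃+* F) ∘ pt u' v' : Fin a × Fin b → F) = pt u' v' from rfl, Matrix.smul_mulVec,
      dotProduct_smul, smul_eq_mul, e1, e2]
  have hpt : ∀ u v, Q (pt u v) = 0 := by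
    have hcol : ∀ u j, Q (pt u (Pi.single j 1)) = 0 := by
      intro u j
      refine semilinear_eq_zero (D := fun u => Q (pt u (Pi.single j 1))) (fun u u' => ?_)
        (fun t u => ?_) (fun i => ?_) u
      · have e1 : pt (u + u') (Pi.single j 1) = pt u (Pi.single j 1) + pt u' (Pi.single j 1) := by
          funext p; simp [pt, add_mul]
        rw [e1, quad_add hpol, hfpt,
          hG1 (hsymG (show 0 < b by have := d.two_le₂; omega) d.unit₂ d.herm₂) hd₂, mul_zero,
          mul_zero, add_zero]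
      · have e1 : pt (t • u) (Pi.single j 1) = t • pt u (Pi.single j 1) := by
          funext p; simp [pt, mul_assoc]
        rw [e1, hQ.smul]
      · have e1 : pt (Pi.single i 1) (Pi.single j 1) = Pi.single (i, j) 1 := by
          funext p
          simp only [pt, Pi.single_apply, Prod.ext_iff, ite_and, mul_ite, mul_one, mul_zero]
          split_ifs <;> simp
        rw [e1, hQ0]
    intro u v
    refine semilinear_eq_zero (D := fun v => Q (pt u v)) (fun v v' => ?_) (fun t v => ?_)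
      (hcol u) v
    · have e1 : pt u (v + v') = pt u v + pt u v' := by funext p; simp [pt, mul_add]
      rw [e1, quad_add hpol, hfpt,
        hG1 (hsymG (show 0 < a by have := d.two_le₁; omega) d.unit₁ d.herm₁) hd₁, zero_mul,
        mul_zero, add_zero]
    · have e1 : pt u (t • v) = t • pt u v := by funext p; simp [pt]; ring
      rw [e1, hQ.smul]
  suffices hkey : ∀ g : GL (Fin a × Fin b) F, coordEquiv e P g ∈ H →
      ∀ v, Q ((g : Matrix (Fin a × Fin b) (Fin a × Fin b) F) *ᵥ v) = Q v by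
    obtain ⟨Q', h1, h3, h4, h5⟩ := exists_quad_of_coord_strong e P ⟨h.sesq.add_left,
      h.sesq.smul_left, h.sesq.add_right, h.sesq.smul_right⟩ h.nondeg hQ hpol hkey
    exact ⟨⟨hd₁, hd₂⟩, Q', h1, h3, h4, fun u v => (h5 _).trans (hpt u v)⟩
  intro g hg v
  obtain ⟨X, Y, μ, ν, -, -, hxy, -, -⟩ := hfac g hg
  refine quad_invariant hQ.smul hpol (fun u w => FixesForm.coord e P hH _ (mem_matrixSet
    (show g ∈ H.comap (coordEquiv e P).toMonoidHom from hg)) u w) (fun p => ?_) v
  rw [hQ0, show (g : Matrix (Fin a × Fin b) (Fin a × Fin b) F) *ᵥ Pi.single p 1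
    = pt (fun i => (X : Matrix (Fin a) (Fin a) F) i p.1) (fun j => (Y : Matrix (Fin b) (Fin b) F) j p.2) by
      funext p'; rw [hxy, Matrix.mulVec_single_one]; rfl]
  exact hpt (fun i => (X : Matrix (Fin a) (Fin a) F) i p.1) (fun j => (Y : Matrix (Fin b) (Fin b) F) j p.2)

/-- A tensor decomposition in characteristic two forces an invariant quadratic form. -/
theorem TensorFormData.char_two [Finite F] [Nonempty ι] {H : Subgroup (GL ι F)} {a b : ℕ}
    {e : ι ≃ Fin a × Fin b} {P : GL ι F} {G₁ : Matrix (Fin a) (Fin a) F}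
    {G₂ : Matrix (Fin b) (Fin b) F} {c₁ c₂ : F}
    (d : TensorFormData σ₀ (-1) f H a b e P G₁ G₂ c₁ c₂) (h : FormSpace σ₀ (-1) f)
    (halt : ∀ v, f v v = 0) (h2 : (2 : F) = 0) (hH : FixesForm (matrixSet H) f)
    (hirr : ActsIrreducibly (matrixSet H)) :
    ∃ Q : (ι → F) → F, IsNondegenerateQuadraticForm Q ∧ (∀ u v, QuadraticMap.polar Q u v = f u v) ∧
      H ≤ quadSimilarityGroup Q := by
  obtain ⟨-, Q, h1, h3, h4, -⟩ := d.char_two_strong h halt h2 hH hirr
  exact ⟨Q, h1, h3, fun g hg => ⟨1, fun v => by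
    rw [Units.val_one, one_mul]; exact h4 _ ⟨g, hg, rfl⟩ v⟩⟩

end Cfsg.Agent.Aschbacher
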