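/-
Aschbacher's theorem for symplectic groups.
-/
import Cfsg.Agent.Aschbacher.FormedCore
import Cfsg.Agent.Aschbacher.FormedFrame
import Cfsg.Agent.Aschbacher.FormedTensorCases
import Cfsg.Agent.Aschbacher.FormedPowerCases
import Cfsg.Agent.Aschbacher.FormedSympCases

set_option autoImplicit false
set_option linter.unusedSectionVars false
set_option linter.style.haveILetI false
set_option maxHeartbeats 1000000

namespace Cfsg.Agent.Aschbacher

open scoped MatrixGroups Matrix Kronecker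
open Cfsg.Geo

variable {ι : Type} [Fintype ι] [DecidableEq ι] {F : Type*} [Field F]

/-- The alternatives of Aschbacher's theorem for a subgroup of a symplectic group, with the
numerical side conditions that the specialisations need. -/
inductive SpOutcome [Fintype F] (f : (ι → F) → (ι → F) → F) (H : Subgroup (GL ι F)) : Prop
  | ts (W : Submodule F (ι → F)) (h0 : W ≠ ⊥) (hts : IsTotallySingularFor f W)
      (h : H ≤ subspaceStabilizer W)
  | nd (W : Submodule F (ι → F)) (h0 : W ≠ ⊥) (hnd : IsNondegenerateOn f W)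
      (hk : 2 * Module.finrank F W < Fintype.card ι) (h : H ≤ subspaceStabilizer W)
  | decomp (t k : ℕ) (D : Fin t → Submodule F (ι → F)) (hD : IsNondegenerateMDecomposition f k D)
      (hcard : t * k = Fintype.card ι) (h : H ≤ decompositionStabilizer D)
  | tsPair (k : ℕ) (D : Fin 2 → Submodule F (ι → F)) (hodd : Odd (Fintype.card F))
      (hk : 2 * k = Fintype.card ι) (hD : IsMDecomposition k D)
      (hts : ∀ i, IsTotallySingularFor f (D i)) (h : H ≤ decompositionStabilizer D)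
  | fieldSA (r : ℕ) (K : Subalgebra F (Matrix ι ι F)) (hr : r.Prime) (hdvd : r ∣ Fintype.card ι)
      (hK : IsFieldSubalgebra r K) (hsa : IsSelfAdjointFor f K)
      (halt : ∀ k ∈ K, ∀ v, f (k *ᵥ v) v = 0) (h : H ≤ subalgebraNormalizer K)
  | fieldU (K : Subalgebra F (Matrix ι ι F)) (hodd : Odd (Fintype.card F))
      (hK : IsFieldSubalgebra 2 K) (hA : IsAdjointClosedFor f K) (hns : ¬ IsSelfAdjointFor f K)
      (h : H ≤ subalgebraNormalizer K)
  | tensor (n₁ n₂ : ℕ) (e : ι ≃ Fin n₁ × Fin n₂) (P : GL ι F)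
      (f₁ : (Fin n₁ → F) → (Fin n₁ → F) → F) (f₂ : (Fin n₂ → F) → (Fin n₂ → F) → F)
      (hodd : Odd (Fintype.card F)) (h1 : 2 ≤ n₁) (hev : Even n₁) (h2 : 3 ≤ n₂)
      (hcard : n₁ * n₂ = Fintype.card ι) (hf₁ : IsSymplecticForm f₁) (hf₂ : IsSymmetricForm f₂)
      (hs : IsTensorFormStructure id f f₁ f₂ e P) (h : H ≤ tensorProductSubgroup n₁ n₂ e P)
  | subfld (F₀ : Subfield F) (r : ℕ) (P : GL ι F) (ζ : F) (hr : r.Prime)
      (hF : Fintype.card F = Nat.card F₀ ^ r) (hζ : ζ ≠ 0) (hrat : IsFormRationalStructure f F₀ ζ P)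
      (h : H ≤ subfieldSubgroup F₀ P)
  | symp (R : Subgroup (GL ι F)) (p k : ℕ) (hR : IsSymplecticTypeGroup 2 R)
      (habs : ActsAbsolutelyIrreducibly (matrixSet R)) (hsim : R ≤ similarityGroup f) (hp : p.Prime)
      (hodd : Odd p) (hF : Fintype.card F = p) (hcard : Nat.card R = 2 ^ (1 + 2 * k))
      (hc : Nat.card (Subgroup.center R) = 2) (hminus : IsOfMinusType k R)
      (hn : Fintype.card ι = 2 ^ k) (h : H ≤ subgroupNormalizer R)
  | power (k t : ℕ) (e : ι ≃ (Fin t → Fin k)) (P : GL ι F) (f₁ : (Fin k → F) → (Fin k → F) → F)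
      (hodd : Odd (Fintype.card F)) (hk : 2 ≤ k) (hev : Even k) (ht : Odd t) (ht3 : 3 ≤ t)
      (hne : ¬ (Fintype.card F = 3 ∧ k = 2)) (hcard : k ^ t = Fintype.card ι)
      (hf₁ : IsSymplecticForm f₁) (hs : IsTensorPowerFormStructure id f f₁ e P)
      (h : H ≤ tensorWreathSubgroup k t e P)
  | quad (Q : (ι → F) → F) (hev : ¬ Odd (Fintype.card F)) (hQ : IsNondegenerateQuadraticForm Q)
      (hpol : ∀ u v, QuadraticMap.polar Q u v = f u v) (h : H ≤ quadSimilarityGroup Q)
  | residual (h : InSymplecticResidualClass H)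

lemma odd_card_iff [Fintype F] : Odd (Fintype.card F) ↔ (2 : F) ≠ 0 := by
  constructor
  · intro hodd h2
    haveI : CharP F 2 := CharTwo.of_one_ne_zero_of_two_eq_zero one_ne_zero h2
    haveI : Fact (Nat.Prime 2) := ⟨Nat.prime_two⟩
    obtain ⟨e, -, he⟩ := FiniteField.card F 2
    rw [he] at hodd
    exact Nat.not_even_iff_odd.mpr hodd (Nat.even_pow.mpr ⟨even_two, e.ne_zero⟩)
  · intro h2
    rw [Nat.odd_iff]
    refine FiniteField.odd_card_of_char_ne_two fun h => h2 ?_
    have := ringChar.Nat.cast_ringChar (R := F)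
    rw [h] at this
    exact_mod_cast this

lemma isSymmetricForm_formOfGram {n : Type} [Fintype n] [DecidableEq n] {G : Matrix n n F}
    (hu : IsUnit G) (hs : Gᵀ = G) : IsSymmetricForm (formOfGram (RingEquiv.refl F) G) := by
  have hb := isSesq_formOfGram (RingEquiv.refl F) G
  refine ⟨⟨hb.add_left, hb.smul_left, hb.add_right, hb.smul_right⟩, fun u v => ?_,
    nondegenerate_formOfGram hu⟩
  simp only [formOfGram, RingEquiv.refl_apply]
  rw [Finset.sum_comm]
  refine Finset.sum_congr rfl fun a _ => Finset.sum_congr rfl fun b _ => ?_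
  rw [show G b a = G a b from congrFun (congrFun hs a) b]
  ring

lemma bilinear_sign {n : ℕ} (hn : 0 < n) {G : Matrix (Fin n) (Fin n) F} (hu : IsUnit G) {c : F}
    (hG : Gᵀ = c • G.map (RingEquiv.refl F)) : (c = 1 ∧ Gᵀ = G) ∨ (c = -1 ∧ Gᵀ = -G) := by
  have hc := herm_norm hn (fun _ => rfl) hu hG
  rw [RingEquiv.refl_apply] at hc
  rw [show G.map (RingEquiv.refl F) = G from Matrix.map_id _] at hG
  rcases mul_self_eq_one_iff.mp hc with h | h
  · exact Or.inl ⟨h, by rw [hG, h, one_smul]⟩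
  · exact Or.inr ⟨h, by rw [hG, h, neg_one_smul]⟩

lemma isSymplecticForm_of_skew (h2 : (2 : F) ≠ 0) {n : Type} [Fintype n] [DecidableEq n]
    {G : Matrix n n F} (hu : IsUnit G) (hs : Gᵀ = -G) :
    IsSymplecticForm (formOfGram (RingEquiv.refl F) G) := by
  have hsk : ∀ i j, G i j = - G j i := fun i j => by
    have := congrFun (congrFun hs j) i
    simpa using this
  refine isSymplecticForm_formOfGram hu hsk fun i => ?_
  have h5 : (2 : F) * G i i = 0 := by linear_combination hsk i i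
  exact (mul_eq_zero.mp h5).resolve_left h2

lemma even_of_skew (h2 : (2 : F) ≠ 0) {n : ℕ} {G : Matrix (Fin n) (Fin n) F} (hu : IsUnit G)
    (hs : Gᵀ = -G) : Even n := by
  have h := even_card_of_symplectic (isSymplecticForm_of_skew h2 hu hs)
  rwa [Fintype.card_fin] at h

variable {f : (ι → F) → (ι → F) → F} {H : Subgroup (GL ι F)}

/-- The tensor case. -/
lemma SpOutcome.of_tensor [Fintype F] [Nonempty ι] (h : FormSpace (RingEquiv.refl F) (-1) f)
    (halt : ∀ v, f v v = 0) (hH : FixesForm (matrixSet H) f) (hirr : ActsIrreducibly (matrixSet H))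
    {a b : ℕ} {e : ι ≃ Fin a × Fin b} {P : GL ι F} {G₁ : Matrix (Fin a) (Fin a) F}
    {G₂ : Matrix (Fin b) (Fin b) F} {c₁ c₂ : F}
    (d : TensorFormData (RingEquiv.refl F) (-1) f H a b e P G₁ G₂ c₁ c₂) (hc : c₁ * c₂ = -1) :
    SpOutcome f H := by
  by_cases h2 : (2 : F) = 0
  · obtain ⟨Q, hQ, hpol, hle⟩ := d.char_two h halt h2 hH hirr
    exact .quad Q (fun ho => odd_card_iff.mp ho h2) hQ hpol hle
  have hodd := odd_card_iff.mpr h2
  have key : ∀ {a b : ℕ} {e : ι ≃ Fin a × Fin b} {P : GL ι F} {G₁ : Matrix (Fin a) (Fin a) F}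
      {G₂ : Matrix (Fin b) (Fin b) F} {c₁ c₂ : F},
      TensorFormData (RingEquiv.refl F) (-1) f H a b e P G₁ G₂ c₁ c₂ → G₁ᵀ = -G₁ → G₂ᵀ = G₂ →
      SpOutcome f H := by
    intro a b e P G₁ G₂ c₁ c₂ d hsk hsy
    by_cases hb : b = 2
    · subst hb
      rcases d.symmetric_two h h2 (le_similarityGroup_of_fixes hH) hsy with
        ⟨K, hK, hA, hns, hle⟩ | ⟨k, D, hk, hD, hts, hle⟩
      · exact .fieldU K hodd hK hA hns hle
      · exact .tsPair k D hodd hk hD hts hle
    · exact .tensor a b e P _ _ hodd d.two_le₁ (even_of_skew h2 d.unit₁ hsk)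
        (by have := d.two_le₂; omega) d.card (isSymplecticForm_of_skew h2 d.unit₁ hsk)
        (isSymmetricForm_formOfGram d.unit₂ hsy) (d.structureEq h) d.le
  have ha := d.two_le₁
  have hb := d.two_le₂
  rcases bilinear_sign (by omega) d.unit₁ d.herm₁ with ⟨e1, hs1⟩ | ⟨e1, hs1⟩ <;>
    rcases bilinear_sign (by omega) d.unit₂ d.herm₂ with ⟨e2, hs2⟩ | ⟨e2, hs2⟩
  · rw [e1, e2, mul_one] at hc; exact absurd (by linear_combination hc) h2
  · exact key d.swap hs2 hs1
  · exact key d hs1 hs2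
  · rw [e1, e2, neg_one_mul, neg_neg] at hc; exact absurd (by linear_combination hc) h2

/-- The tensor power case. -/
lemma SpOutcome.of_power [Fintype F] [Nonempty ι] (h : FormSpace (RingEquiv.refl F) (-1) f)
    (halt : ∀ v, f v v = 0) (hH : FixesForm (matrixSet H) f) {t k : ℕ}
    {A : Fin t → Subalgebra F (Matrix ι ι F)} (hA : TensorPowerData (H ⊔ scalars ι F) t k A) :
    SpOutcome f H := by
  obtain ⟨e, P, G₀, i₀, d₀, hslot⟩ :=
    h.exists_powerFormData_of_tensorPower hA (h.sup_scalars_le_similarity hH)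
  have d : PowerFormData (RingEquiv.refl F) f H k t e P G₀ :=
    { d₀ with le := le_sup_left.trans d₀.le }
  by_cases h2 : (2 : F) = 0
  · obtain ⟨Q, hQ, hpol, hle⟩ := d.char_two h halt h2 hH
    exact .quad Q (fun ho => odd_card_iff.mp ho h2) hQ hpol hle
  have hodd := odd_card_iff.mpr h2
  obtain ⟨c, hG, -, hct⟩ := d.exists_herm h
  have hct' := hct rfl
  have hk := d.two_le_k
  rcases bilinear_sign (by omega) d.unit hG with ⟨e1, -⟩ | ⟨e1, hs⟩
  · rw [e1, one_pow] at hct'; exact absurd (by linear_combination hct') h2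
  have ht : Odd t := by
    rw [← Nat.not_even_iff_odd]
    intro hev
    rw [e1, hev.neg_one_pow] at hct'
    exact absurd (by linear_combination hct') h2
  refine .power k t e P _ hodd hk (even_of_skew h2 d.unit hs) ht ?_ ?_ d.card
    (isSymplecticForm_of_skew h2 d.unit hs) (d.structureEq h) d.le
  · obtain ⟨j, hj⟩ := ht; have := d.two_le_t; omega
  rintro ⟨hq, rfl⟩
  obtain ⟨D, hDH, hperf, hns, henv⟩ := hA.perfect i₀
  exact hns (d.no_perfect h (isSolvable_gramFix_three_two hq _ _)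
    (fun s hs => by
      obtain ⟨x, hx, rfl⟩ := hs
      exact hH _ (mem_matrixSet (le_of_perfect hDH hperf hx)))
    hperf i₀ fun x hx => hslot _ (henv (val_mem_env hx)))

/-- Aschbacher's theorem for symplectic groups. -/
theorem symplectic_aschbacher [Fintype F] (hf : IsSymplecticForm f) (hdim : 2 ≤ Fintype.card ι)
    (hH : FixesForm (matrixSet H) f) : SpOutcome f H := by
  classical
  haveI : Nonempty ι := Fintype.card_pos_iff.mp (by omega)
  have h : FormSpace (RingEquiv.refl F) (-1) f :=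
    ⟨isSesq_of_bilinear hf.bilinear, fun _ => rfl, hf.nondegenerate, fun u v => by
      rw [RingEquiv.refl_apply, neg_one_mul]; exact hf.skew v u⟩
  have halt := hf.alternating
  by_cases hirr : ActsIrreducibly (matrixSet H)
  swap
  · rcases h.reducible_cases hH hirr with ⟨W, h0, hts, hle⟩ | ⟨W, h0, hnd, hk, hle⟩ |
      ⟨k, D, hk, hD, hle⟩
    · exact .ts W h0 hts hle
    · exact .nd W h0 hnd hk hle
    · exact .decomp 2 k D hD hk hle
  set H' := H ⊔ scalars ι F with hH'
  have hHle : H ≤ H' := le_sup_left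
  obtain ⟨N, hZN, hNH, hNn, hmin, hcases⟩ := structure_theorem H' (actsIrreducibly_mono hHle hirr)
    le_sup_right hdim
  have hAdj : AdjClosed (RingEquiv.refl F) f (env N) :=
    h.adjClosed_env (hNH.trans (h.sup_scalars_le_similarity hH))
  have hNA : H' ≤ subalgebraNormalizer (env N) :=
    le_subalgebraNormalizer fun g hg X hX => cj_mem_env (fun x hx => hNn g hg x hx) hX
  rcases hcases with ⟨t, e, he⟩ | ⟨d, hd, hK⟩ | ⟨a, ha1, ha2, ⟨φ⟩⟩ | ⟨-, hrest⟩
  · rcases h.imprimitive_cases hH hAdj he with ⟨t', m, D, hD, hcard, hle, -⟩ |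
      ⟨k, D, hk, hD, hts, hle⟩
    · exact .decomp t' m D hD hcard hle
    · by_cases h2 : (2 : F) = 0
      · obtain ⟨Q, hQ, hpol, hle'⟩ := h.pair_quadratic h2 hH hD hts hle
        exact .quad Q (fun ho => odd_card_iff.mp ho h2) hQ hpol hle'
      · exact .tsPair k D (odd_card_iff.mpr h2) hk hD hts hle
  · obtain ⟨r, L, hr, hdvd, -, hL, hLA, hLn⟩ := h.exists_prime_field hd hK (h.adjClosed_centre hAdj)
    have hHL : H ≤ subalgebraNormalizer L := hHle.trans ((normalizer_centre_le hNA).trans hLn)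
    by_cases hsa : ∀ X ∈ L, adj (RingEquiv.refl F) f X = X
    · exact .fieldSA r L hr hdvd hL ((isSelfAdjointFor_iff h).mpr hsa)
        (h.field_alternating halt hH hirr hL hHL hsa) hHL
    have hr2 : r = 2 := (((h.field_parity hL hr hLA).2 rfl)).resolve_left hsa
    subst hr2
    by_cases h2 : (2 : F) = 0
    · push Not at hsa
      obtain ⟨k₀, hk₀, hne⟩ := hsa
      obtain ⟨Q, hQ, hpol, hle⟩ := h.field_quadratic h2 hH hL hLA hHL hk₀ hne
      exact .quad Q (fun ho => odd_card_iff.mp ho h2) hQ hpol hle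
    · exact .fieldU L (odd_card_iff.mpr h2) hL (isAdjointClosedFor h hLA)
        (fun hh => hsa ((isSelfAdjointFor_iff h).mp hh)) hHL
  · obtain ⟨b, e, P, G₁, G₂, c₁, c₂, d, hc⟩ :=
      h.exists_tensorFormData (by omega) ha2 (env N) hAdj (hHle.trans hNA) φ
    exact SpOutcome.of_tensor h halt hH hirr d hc
  rcases hrest with ⟨r, m, z, R, hd⟩ | ⟨t, k, A, hA⟩ | hcore
  · obtain ⟨R₁, hR₁⟩ := h.exists_isoSympData hdim hH hNH hmin hNn hZN hd
    rcases hR₁.symplectic_case h with ⟨F₁, r', B, ζ, hr', hF, hζ, hrat, hle⟩ |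
      ⟨p, h1, h2, h3, h4, h5, h6, h7, h8, h9, h10, h11⟩
    · exact .subfld F₁ r' B ζ hr' hF hζ hrat hle
    · exact .symp R₁ p m h1 h2 h3 h4 h5 h6 h7 h8 h9 h10 h11
  · exact SpOutcome.of_power h halt hH hA
  -- the almost simple case
  set P := ⁅N, N⁆
  have hP := hcore.absIrred
  have hPH : P ≤ H := le_of_perfect hcore.le hcore.perfect
  have hPf : FixesForm (matrixSet P) f := by
    rintro _ ⟨x, hx, rfl⟩; exact hH _ (mem_matrixSet (hPH hx))
  have hn : ∀ g ∈ H, ∀ x ∈ P, g * x * g⁻¹ ∈ P := fun g hg => hcore.normal g (hHle hg)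
  have hsubf : ∀ {F₀ : Subfield F}, F₀ ≠ ⊤ → RealisableOver F₀ (matrixSet P) → SpOutcome f H := by
    intro F₀ hne hreal
    obtain ⟨F₁, r, B, ζ, hr, hF, hζ, -, hrat, hle, -⟩ := h.subfield_case hP hn hPf hne hreal
    exact .subfld F₁ r B ζ hr hF hζ hrat hle
  rcases residualCore_or_subfield hcore with hres | ⟨F₀, hne, hreal⟩
  swap
  · exact hsubf hne hreal
  by_cases hq : ∃ Q : (ι → F) → F, IsNondegenerateQuadraticForm Q ∧ FixesQuadForm (matrixSet P) Q
  · obtain ⟨Q, hQ, hfix⟩ := hq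
    by_cases h2 : (2 : F) = 0
    · obtain ⟨Q', hQ', hpol, hle⟩ := h.quad_of_core h2 hdim hH hn hP hPf hQ hfix
      exact .quad Q' (fun ho => odd_card_iff.mp ho h2) hQ' hpol hle
    · exact (h.no_quad h2 hP hPf hQ hfix).elim
  by_cases hu : ∃ (σ : F ≃+* F) (g : (ι → F) → (ι → F) → F), IsUnitaryForm σ g ∧
      FixesForm (matrixSet P) g
  · obtain ⟨σ, g, hg, hfix⟩ := hu
    exact hsubf (eqLocusField_ne_top hg.ne_refl) (descent_of_forms hP (isSesq_of_unitary hg)
      hg.nondegenerate h.sesq h.nondeg hfix hPf)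
  exact .residual ⟨P, hres, hq, hu⟩

end Cfsg.Agent.Aschbacher
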