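/-
Aschbacher's theorem for orthogonal groups in odd dimension, odd characteristic.
-/
import Cfsg.Agent.Aschbacher.FormedCore
import Cfsg.Agent.Aschbacher.FormedFrame
import Cfsg.Agent.Aschbacher.FormedPowerTwo
import Cfsg.Agent.Aschbacher.FormCongruence
import Cfsg.Agent.Aschbacher.FormedSympCases
import Cfsg.Agent.Aschbacher.SpTheorem
import Cfsg.Agent.Orthogonal.StdForms

set_option autoImplicit false
set_option linter.unusedSectionVars false
set_option linter.style.haveILetI false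
set_option maxHeartbeats 1000000

namespace Cfsg.Agent.Aschbacher

open scoped MatrixGroups Matrix Kronecker
open Cfsg.Geo

variable {ι : Type} [Fintype ι] [DecidableEq ι] {F : Type*} [Field F]

/-- The alternatives of Aschbacher's theorem for a subgroup of an orthogonal group in odd
dimension over a field of odd order, with the numerical side conditions that the
specialisations need. -/
inductive OrthOutcome [Fintype F] (Q : (ι → F) → F) (H : Subgroup (GL ι F)) : Prop
  | ts (W : Submodule F (ι → F)) (h0 : W ≠ ⊥) (hts : IsTotallySingularQuad Q W)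
      (h : H ≤ subspaceStabilizer W)
  | nd (W : Submodule F (ι → F)) (h0 : W ≠ ⊥) (htop : W ≠ ⊤)
      (hnd : IsNondegenerateOn (QuadraticMap.polar Q) W)
      (hk : 2 * Module.finrank F W < Fintype.card ι) (h : H ≤ subspaceStabilizer W)
  | decomp (t k : ℕ) (D : Fin t → Submodule F (ι → F)) (hk : 1 < k)
      (hD : IsOrthogonalMDecomposition Q k D) (hcard : t * k = Fintype.card ι)
      (h : H ≤ decompositionStabilizer D)
  | frame (D : Fin (Fintype.card ι) → Submodule F (ι → F)) (hp : (Fintype.card F).Prime)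
      (hD : IsOrthogonalMDecomposition Q 1 D) (h : H ≤ decompositionStabilizer D)
  | fieldSA (r : ℕ) (K : Subalgebra F (Matrix ι ι F)) (hr : r.Prime) (hodd : Odd r)
      (hdvd : r ∣ Fintype.card ι) (hne : Fintype.card ι ≠ r) (hK : IsFieldSubalgebra r K)
      (hsa : IsSelfAdjointFor (QuadraticMap.polar Q) K) (h : H ≤ subalgebraNormalizer K)
  | tensor (n₁ n₂ : ℕ) (e : ι ≃ Fin n₁ × Fin n₂) (P : GL ι F)
      (f₁ : (Fin n₁ → F) → (Fin n₁ → F) → F) (f₂ : (Fin n₂ → F) → (Fin n₂ → F) → F)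
      (h1 : 3 ≤ n₁) (h2 : n₁ < n₂) (hcard : n₁ * n₂ = Fintype.card ι)
      (hf₁ : IsSymmetricForm f₁) (hf₂ : IsSymmetricForm f₂)
      (hs : IsTensorFormStructure id (QuadraticMap.polar Q) f₁ f₂ e P)
      (h : H ≤ tensorProductSubgroup n₁ n₂ e P)
  | subfld (F₀ : Subfield F) (r : ℕ) (P : GL ι F) (hr : r.Prime)
      (hF : Fintype.card F = Nat.card F₀ ^ r) (hrat : IsQuadFormRationalStructure Q F₀ P)
      (h : H ≤ subfieldSubgroup F₀ P)
  | power (k t : ℕ) (e : ι ≃ (Fin t → Fin k)) (P : GL ι F) (f₁ : (Fin k → F) → (Fin k → F) → F)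
      (hk : 3 ≤ k) (hkodd : Odd k) (ht : 2 ≤ t) (hne : ¬ (Fintype.card F = 3 ∧ k = 3))
      (hcard : k ^ t = Fintype.card ι) (hf₁ : IsSymmetricForm f₁)
      (hs : IsTensorPowerFormStructure id (QuadraticMap.polar Q) f₁ e P)
      (h : H ≤ tensorWreathSubgroup k t e P)
  | residual (h : InOrthogonalResidualClass H)

lemma formSpace_polar {Q : (ι → F) → F} (hQ : IsNondegenerateQuadraticForm Q) :
    FormSpace (RingEquiv.refl F) 1 (QuadraticMap.polar Q) :=
  ⟨isSesq_of_bilinear hQ.polar_bilinear, fun _ => rfl, hQ.nondegenerate, fun u v => by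
    rw [RingEquiv.refl_apply, one_mul]; exact QuadraticMap.polar_comm _ _ _⟩

lemma quadRational_of_polar {Q : (ι → F) → F} (hQ : IsNondegenerateQuadraticForm Q)
    (h2 : (2 : F) ≠ 0) {F₁ : Subfield F} {B : GL ι F}
    (h : IsFormRationalStructure (QuadraticMap.polar Q) F₁ 1 B) :
    IsQuadFormRationalStructure Q F₁ B := by
  intro u hu
  have h1 := h u u hu hu
  rw [one_mul, ← two_mul_quad hQ] at h1
  have h3 : (2 : F)⁻¹ ∈ F₁ := F₁.inv_mem (by exact_mod_cast natCast_mem F₁ 2)
  have h4 := F₁.mul_mem h3 h1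
  rwa [← mul_assoc, inv_mul_cancel₀ h2, one_mul] at h4

lemma bot_ne_top_of_not_prime [Fintype F] (hp : ¬ (Fintype.card F).Prime) :
    (⊥ : Subfield F) ≠ ⊤ := by
  intro hc
  obtain ⟨p, hp', -, hpp, -⟩ := FiniteField.card' F
  haveI : Fact p.Prime := ⟨hpp⟩
  have h1 := Subfield.card_bot F p
  rw [hc, Nat.card_congr (Subfield.topEquiv (K := F)).toEquiv, Nat.card_eq_fintype_card] at h1
  rw [h1] at hp
  exact hp hpp

lemma areIsometricFor_of_map {Q : (ι → F) → F} {g : GL ι F}
    (hg : ∀ v, Q ((g : Matrix ι ι F) *ᵥ v) = Q v) {W W' : Submodule F (ι → F)}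
    (h : W.map (Matrix.toLin' (g : Matrix ι ι F)) = W') : AreIsometricFor Q W W' := by
  have hinj : Function.Injective (Matrix.toLin' (g : Matrix ι ι F)) := by
    intro a b hab
    simp only [Matrix.toLin'_apply] at hab
    exact Matrix.mulVec_injective_iff_isUnit.mpr g.isUnit hab
  subst h
  refine ⟨Submodule.equivMapOfInjective _ hinj W, fun w => ?_⟩
  rw [Submodule.coe_equivMapOfInjective_apply, Matrix.toLin'_apply]
  exact hg _

variable {Q : (ι → F) → F} {H : Subgroup (GL ι F)}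

/-- A power decomposition over 𝔽₃ with factors of dimension 3 is a frame. -/
lemma OrthOutcome.of_three [Fintype F] [Nonempty ι] (hQ : IsNondegenerateQuadraticForm Q)
    (h2 : (2 : F) ≠ 0) (hH : FixesForm (matrixSet H) (QuadraticMap.polar Q))
    (hq : Fintype.card F = 3) {t : ℕ} {e : ι ≃ (Fin t → Fin 3)} {P : GL ι F}
    (d : PowerFormData (RingEquiv.refl F) (QuadraticMap.polar Q) H 3 t e P 1) :
    OrthOutcome Q H := by
  classical
  obtain ⟨v, c, hc, hv, hli, htop, hstab⟩ := d.frame_three hq (formSpace_polar hQ) hH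
  have hb := hQ.polar_bilinear
  have hN : Fintype.card ι = Fintype.card (Fin t → Fin 3) := Fintype.card_congr e
  let i2 : Fin (Fintype.card ι) ≃ (Fin t → Fin 3) := (Fintype.equivFinOfCardEq hN.symm).symm
  let D : Fin (Fintype.card ι) → Submodule F (ι → F) := fun i => F ∙ v (i2 i)
  have hne : ∀ x, v x ≠ 0 := fun x h0 => hli.ne_zero x h0
  have hperp : ∀ i j, i ≠ j → AreOrthogonalFor (QuadraticMap.polar Q) (D i) (D j) := by
    intro i j hij u hu w hw
    obtain ⟨a, rfl⟩ := Submodule.mem_span_singleton.mp hu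
    obtain ⟨b, rfl⟩ := Submodule.mem_span_singleton.mp hw
    rw [hb.smul_left, hb.smul_right, hv, if_neg (fun h => hij (i2.injective h)), mul_zero, mul_zero]
  refine .frame D (by rw [hq]; exact Nat.prime_three) ⟨⟨⟨?_, Nat.one_pos, ?_, ?_, ?_⟩, ?_, hperp⟩, ?_⟩ ?_
  · rw [hN, Fintype.card_fun, Fintype.card_fin, Fintype.card_fin]
    calc 2 ≤ 3 ^ 1 := by norm_num
      _ ≤ 3 ^ t := Nat.pow_le_pow_right (by norm_num) (by have := d.two_le_t; omega)
  · exact fun i => finrank_span_singleton (hne _)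
  · exact (hli.comp _ i2.injective).iSupIndep_span_singleton
  · rw [← htop]; exact i2.iSup_comp (g := fun x => F ∙ v x)
  · intro i w hw hw0
    obtain ⟨a, rfl⟩ := Submodule.mem_span_singleton.mp hw
    have ha : a ≠ 0 := fun h => hw0 (by rw [h, zero_smul])
    have hvv : QuadraticMap.polar Q (v (i2 i)) (v (i2 i)) = c := by rw [hv, if_pos rfl]
    exact ⟨⟨v (i2 i), Submodule.mem_span_singleton_self _, by
      rw [hb.smul_right, hvv]; exact mul_ne_zero ha hc⟩, ⟨v (i2 i), Submodule.mem_span_singleton_self _, by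
      rw [hb.smul_left, hvv]; exact mul_ne_zero ha hc⟩⟩
  · intro i j
    let E := ((LinearEquiv.toSpanNonzeroSingleton F _ _ (hne (i2 i))).symm).trans
      (LinearEquiv.toSpanNonzeroSingleton F _ _ (hne (i2 j)))
    refine ⟨E, fun w => ?_⟩
    obtain ⟨a, ha⟩ := Submodule.mem_span_singleton.mp w.2
    have hw : w = LinearEquiv.toSpanNonzeroSingleton F _ _ (hne (i2 i)) a :=
      Subtype.ext ha.symm
    have hE : ((E w : D j) : ι → F) = a • v (i2 j) := by
      rw [hw]
      simp only [E, LinearEquiv.trans_apply, LinearEquiv.symm_apply_apply]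
      rfl
    refine mul_left_cancel₀ h2 ?_
    rw [two_mul_quad hQ, two_mul_quad hQ, hE, ← ha, hb.smul_left, hb.smul_left, hb.smul_right,
      hb.smul_right, hv, hv, if_pos rfl, if_pos rfl]
  · intro g hg
    obtain ⟨π, hπ⟩ := hstab g hg
    refine ⟨i2.trans (π.trans i2.symm), fun i => ?_⟩
    obtain ⟨s, hs, hgs⟩ := hπ (i2 i)
    simp only [D, Equiv.trans_apply, Equiv.apply_symm_apply]
    rw [Submodule.map_span, Set.image_singleton, Matrix.toLin'_apply, hgs]
    exact Submodule.span_singleton_smul_eq (Ne.isUnit hs) _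

/-- The power case. -/
lemma OrthOutcome.of_powerData [Fintype F] [Nonempty ι] (hQ : IsNondegenerateQuadraticForm Q)
    (h2 : (2 : F) ≠ 0) (hodd : Odd (Fintype.card ι))
    (hH : FixesForm (matrixSet H) (QuadraticMap.polar Q)) {k t : ℕ} {e : ι ≃ (Fin t → Fin k)}
    {P : GL ι F} {G₀ : Matrix (Fin k) (Fin k) F}
    (d : PowerFormData (RingEquiv.refl F) (QuadraticMap.polar Q) H k t e P G₀) :
    OrthOutcome Q H := by
  have h := formSpace_polar hQ
  obtain ⟨c, hG, -, -⟩ := d.exists_herm h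
  have hk := d.two_le_k
  have hkodd : Odd k := by
    rw [← d.card, Nat.odd_pow_iff (by have := d.two_le_t; omega)] at hodd
    exact hodd
  rcases bilinear_sign (by omega) d.unit hG with ⟨-, hs⟩ | ⟨-, hs⟩
  swap
  · exact absurd (even_of_skew h2 d.unit hs) (Nat.not_even_iff_odd.mpr hkodd)
  by_cases hex : Fintype.card F = 3 ∧ k = 3
  · obtain ⟨hq, rfl⟩ := hex
    obtain ⟨B, ν, hν, hB⟩ := symmetric_similar h2 hkodd d.unit hs isUnit_one Matrix.transpose_one
    obtain ⟨B', d'⟩ := d.change h isUnit_one B hν hB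
    exact OrthOutcome.of_three hQ h2 hH hq d'
  refine .power k t e P _ ?_ hkodd d.two_le_t hex d.card (isSymmetricForm_formOfGram d.unit hs)
    (d.structureEq h) d.le
  obtain ⟨j, hj⟩ := hkodd; omega

/-- The tensor case. -/
lemma OrthOutcome.of_tensor [Fintype F] [Nonempty ι] (hQ : IsNondegenerateQuadraticForm Q)
    (h2 : (2 : F) ≠ 0) (hodd : Odd (Fintype.card ι))
    (hH : FixesForm (matrixSet H) (QuadraticMap.polar Q)) {a b : ℕ} {e : ι ≃ Fin a × Fin b}
    {P : GL ι F} {G₁ : Matrix (Fin a) (Fin a) F} {G₂ : Matrix (Fin b) (Fin b) F} {c₁ c₂ : F}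
    (d : TensorFormData (RingEquiv.refl F) 1 (QuadraticMap.polar Q) H a b e P G₁ G₂ c₁ c₂) :
    OrthOutcome Q H := by
  have h := formSpace_polar hQ
  obtain ⟨hao, hbo⟩ := Nat.odd_mul.mp (d.card ▸ hodd)
  have ha := d.two_le₁
  have hb := d.two_le₂
  rcases bilinear_sign (by omega) d.unit₁ d.herm₁ with ⟨-, hs1⟩ | ⟨-, hs1⟩
  swap
  · exact absurd (even_of_skew h2 d.unit₁ hs1) (Nat.not_even_iff_odd.mpr hao)
  rcases bilinear_sign (by omega) d.unit₂ d.herm₂ with ⟨-, hs2⟩ | ⟨-, hs2⟩
  swap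
  · exact absurd (even_of_skew h2 d.unit₂ hs2) (Nat.not_even_iff_odd.mpr hbo)
  rcases lt_trichotomy a b with hab | hab | hab
  · refine .tensor a b e P _ _ ?_ hab d.card (isSymmetricForm_formOfGram d.unit₁ hs1)
      (isSymmetricForm_formOfGram d.unit₂ hs2) (d.structureEq h) d.le
    obtain ⟨j, hj⟩ := hao; omega
  · subst hab
    obtain ⟨e', P', d'⟩ := d.toPower h d.unit₁
      ⟨1, 1, one_ne_zero, by simp [gtr]⟩
      (symmetric_similar h2 hbo d.unit₂ hs2 d.unit₁ hs1)
    exact OrthOutcome.of_powerData hQ h2 hodd hH d'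
  · refine .tensor b a (e.trans (Equiv.prodComm _ _)) P _ _ ?_ hab
      (by rw [mul_comm]; exact d.card) (isSymmetricForm_formOfGram d.unit₂ hs2)
      (isSymmetricForm_formOfGram d.unit₁ hs1) (d.swap.structureEq h) d.swap.le
    obtain ⟨j, hj⟩ := hbo; omega

/-- Aschbacher's theorem for orthogonal groups in odd dimension. -/
theorem orthogonal_aschbacher [Fintype F] (hQ : IsNondegenerateQuadraticForm Q)
    (h2 : (2 : F) ≠ 0) (hodd : Odd (Fintype.card ι)) (hdim : 2 ≤ Fintype.card ι)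
    (hprime : ∀ (F₁ : Subfield F) i j, gramMatrix (QuadraticMap.polar Q) i j ∈ F₁)
    (hHQ : FixesQuadForm (matrixSet H) Q) : OrthOutcome Q H := by
  classical
  haveI : Nonempty ι := Fintype.card_pos_iff.mp (by omega)
  have h := formSpace_polar hQ
  have hH := fixesForm_polar hHQ
  by_cases hirr : ActsIrreducibly (matrixSet H)
  swap
  · rcases h.reducible_cases hH hirr with ⟨W, h0, hts, hle⟩ | ⟨W, h0, hnd, hk, hle⟩ |
      ⟨k, D, hk, hD, hle⟩
    · refine .ts W h0 (fun w hw => mul_left_cancel₀ h2 ?_) hle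
      rw [two_mul_quad hQ, hts w hw w hw, mul_zero]
    · refine .nd W h0 (fun htop => ?_) hnd hk hle
      rw [htop, finrank_top, Module.finrank_fintype_fun_eq_card] at hk
      omega
    · exact absurd ⟨k, by omega⟩ (Nat.not_even_iff_odd.mpr hodd)
  set H' := H ⊔ scalars ι F with hH'
  have hHle : H ≤ H' := le_sup_left
  obtain ⟨N, hZN, hNH, hNn, hmin, hcases⟩ := structure_theorem H' (actsIrreducibly_mono hHle hirr)
    le_sup_right hdim
  have hAdj : AdjClosed (RingEquiv.refl F) (QuadraticMap.polar Q) (env N) :=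
    h.adjClosed_env (hNH.trans (h.sup_scalars_le_similarity hH))
  have hNA : H' ≤ subalgebraNormalizer (env N) :=
    le_subalgebraNormalizer fun g hg X hX => cj_mem_env (fun x hx => hNn g hg x hx) hX
  rcases hcases with ⟨t, e, he⟩ | ⟨d, hd, hK⟩ | ⟨a, ha1, ha2, ⟨φ⟩⟩ | ⟨-, hrest⟩
  · rcases h.imprimitive_cases hH hAdj he with ⟨t', m, D, hD, hcard, hle, htrans⟩ |
      ⟨k, D, hk, hD, hts, hle⟩
    swap
    · exact absurd ⟨k, by omega⟩ (Nat.not_even_iff_odd.mpr hodd)
    have hiso : IsOrthogonalMDecomposition Q m D := ⟨hD, fun i j => by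
      obtain ⟨g, hg, hij⟩ := htrans i j
      exact areIsometricFor_of_map (fun v => hHQ _ (mem_matrixSet hg) v) hij⟩
    by_cases hm : m = 1
    swap
    · exact .decomp t' m D (by have := hD.decomp.pos; omega) hiso hcard hle
    subst hm
    rw [mul_one] at hcard
    subst hcard
    by_cases hp : (Fintype.card F).Prime
    · exact .frame D hp hiso hle
    obtain ⟨F₁, r, B, hr, hF, hrat, hle'⟩ := h.frame_subfield h2 hodd hprime
      (bot_ne_top_of_not_prime hp) hH hD rfl hle htrans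
    exact .subfld F₁ r B hr hF (quadRational_of_polar hQ h2 hrat) hle'
  · obtain ⟨r, L, hr, hdvd, hLK, hL, hLA, hLn⟩ :=
      h.exists_prime_field hd hK (h.adjClosed_centre hAdj)
    have hHL : H ≤ subalgebraNormalizer L := hHle.trans ((normalizer_centre_le hNA).trans hLn)
    have hrodd : Odd r := hodd.of_dvd_nat hdvd
    have hsa : ∀ X ∈ L, adj (RingEquiv.refl F) (QuadraticMap.polar Q) X = X :=
      (((h.field_parity hL hr hLA).2 rfl)).resolve_right
        (fun h2r => by rw [h2r] at hrodd; exact absurd hrodd (by decide))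
    exact .fieldSA r L hr hrodd hdvd (h.field_degree_ne hH hNH hd hK hLK hL hsa) hL
      ((isSelfAdjointFor_iff h).mpr hsa) hHL
  · obtain ⟨b, e, P, G₁, G₂, c₁, c₂, d, -⟩ :=
      h.exists_tensorFormData (by omega) ha2 (env N) hAdj (hHle.trans hNA) φ
    exact OrthOutcome.of_tensor hQ h2 hodd hH d
  rcases hrest with ⟨r, m, z, R, hd⟩ | ⟨t, k, A, hA⟩ | hcore
  · obtain ⟨R₁, hR₁⟩ := h.exists_isoSympData hdim hH hNH hmin hNn hZN hd
    exact (hR₁.orthogonal_case hodd).elim
  · obtain ⟨e, P, G₀, i₀, d₀, -⟩ :=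
      h.exists_powerFormData_of_tensorPower hA (h.sup_scalars_le_similarity hH)
    exact OrthOutcome.of_powerData hQ h2 hodd hH (G₀ := G₀) (e := e) (P := P)
      { d₀ with le := le_sup_left.trans d₀.le }
  -- the almost simple case
  set P := ⁅N, N⁆
  have hP := hcore.absIrred
  have hPH : P ≤ H := le_of_perfect hcore.le hcore.perfect
  have hPf : FixesForm (matrixSet P) (QuadraticMap.polar Q) := by
    rintro _ ⟨x, hx, rfl⟩; exact hH _ (mem_matrixSet (hPH hx))
  have hn : ∀ g ∈ H, ∀ x ∈ P, g * x * g⁻¹ ∈ P := fun g hg => hcore.normal g (hHle hg)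
  have hsubf : ∀ {F₀ : Subfield F}, F₀ ≠ ⊤ → RealisableOver F₀ (matrixSet P) → OrthOutcome Q H := by
    intro F₀ hne hreal
    obtain ⟨F₁, r, B, hr, hF, hrat, hle⟩ := orthogonal_subfield h h2 hodd hprime hP hn hPf hne hreal
    exact .subfld F₁ r B hr hF (quadRational_of_polar hQ h2 hrat) hle
  rcases residualCore_or_subfield hcore with hres | ⟨F₀, hne, hreal⟩
  swap
  · exact hsubf hne hreal
  by_cases hu : ∃ (σ : F ≃+* F) (g : (ι → F) → (ι → F) → F), IsUnitaryForm σ g ∧
      FixesForm (matrixSet P) g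
  · obtain ⟨σ, g, hg, hfix⟩ := hu
    exact hsubf (eqLocusField_ne_top hg.ne_refl) (descent_of_forms hP (isSesq_of_unitary hg)
      hg.nondegenerate h.sesq h.nondeg hfix hPf)
  exact .residual ⟨P, hres, hu⟩

/-! ### The standard form in odd dimension -/

lemma polar_quadFormOdd_gram (m : ℕ) (F₁ : Subfield F) (i j : Unit ⊕ (Fin m ⊕ Fin m)) :
    gramMatrix (QuadraticMap.polar (Cfsg.quadFormOdd m F)) i j ∈ F₁ := by
  have h2 : (2 : F) ∈ F₁ := by exact_mod_cast natCast_mem F₁ 2
  rw [show gramMatrix (QuadraticMap.polar (Cfsg.quadFormOdd m F)) i j =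
    QuadraticMap.polar (Orthogonal.formOdd F m) (Pi.single i 1) (Pi.single j 1) from rfl,
    Orthogonal.polar_formOdd]
  refine F₁.add_mem (F₁.mul_mem (F₁.mul_mem h2 ?_) ?_) (F₁.sum_mem fun x _ =>
    F₁.add_mem (F₁.mul_mem ?_ ?_) (F₁.mul_mem ?_ ?_)) <;>
    (rw [Pi.single_apply]; split_ifs; exacts [F₁.one_mem, F₁.zero_mem])

lemma isNondegenerateQuadraticForm_odd (m : ℕ) (h2 : (2 : F) ≠ 0) :
    IsNondegenerateQuadraticForm (Cfsg.quadFormOdd m F) := by
  have hnd := Orthogonal.formOdd_nondeg F m h2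
  refine ⟨fun c v => ?_, ⟨fun x y v => ?_, fun c x v => ?_, fun v x y => ?_, fun c v x => ?_⟩,
    fun v hv => ?_⟩
  · show Orthogonal.formOdd F m (c • v) = c ^ 2 * Orthogonal.formOdd F m v
    rw [QuadraticMap.map_smul, smul_eq_mul, sq]
  · exact QuadraticMap.polar_add_left (Orthogonal.formOdd F m) x y v
  · exact QuadraticMap.polar_smul_left (Orthogonal.formOdd F m) c x v
  · exact QuadraticMap.polar_add_right (Orthogonal.formOdd F m) v x y
  · exact QuadraticMap.polar_smul_right (Orthogonal.formOdd F m) c v x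
  · have hex : ∃ x, QuadraticMap.polar (Cfsg.quadFormOdd m F) v x ≠ 0 := by
      by_contra hc
      push Not at hc
      exact hv (hnd v hc)
    obtain ⟨x, hx⟩ := hex
    exact ⟨⟨x, by rwa [QuadraticMap.polar_comm] at hx⟩, ⟨x, hx⟩⟩

lemma fixesQuadForm_of_le_omegaGL {Q : (ι → F) → F} {H : Subgroup (GL ι F)}
    (hH : H ≤ omegaGL Q) : FixesQuadForm (matrixSet H) Q := by
  rintro _ ⟨g, hg, rfl⟩ v
  obtain ⟨x, -, rfl⟩ := hH hg
  exact x.2 v v

end Cfsg.Agent.Aschbacher
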