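/-
Maximal subgroups of Ω in odd dimension: reduction to the geometric list.
-/
import Cfsg.Agent.Aschbacher.OrthTheorem
import Cfsg.Agent.Aschbacher.OrthProper

set_option autoImplicit false
set_option linter.unusedSectionVars false
set_option linter.style.haveILetI false
set_option maxHeartbeats 1000000

namespace Cfsg.Agent.Aschbacher

open scoped MatrixGroups Matrix
open Cfsg.Geo Module
open QuadraticMap (polar polar_comm)
open Cfsg.Agent.Orthogonal

variable {ι : Type} [Fintype ι] [DecidableEq ι] {F : Type*} [Field F] [Fintype F]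

lemma eq_inf_of_isMaximalIn {G : Type*} [Group G] {K H X : Subgroup G} (hH : IsMaximalIn K H)
    (hle : H ≤ X) (hX : ¬ K ≤ X) : H = X ⊓ K := by
  rcases hH.2 (X ⊓ K) (le_inf hle hH.1.le) inf_le_right with h | h
  · exact h.symm
  · exact absurd (inf_eq_right.mp h) hX

lemma subfield_ne_top_odd {F₀ : Subfield F} {r : ℕ} (hr : r.Prime)
    (h : Fintype.card F = Nat.card F₀ ^ r) : F₀ ≠ ⊤ := by
  rintro rfl
  rw [Nat.card_congr (Subfield.topEquiv (K := F)).toEquiv, Nat.card_eq_fintype_card] at h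
  have h1 : Fintype.card F ^ 1 < Fintype.card F ^ r :=
    Nat.pow_lt_pow_right Fintype.one_lt_card hr.one_lt
  rw [pow_one] at h1
  omega

variable {Q : QuadraticForm F (ι → F)}

lemma nondegenerateOn_of_restr {W : Submodule F (ι → F)} (h : Nondeg (restr Q W)) :
    IsNondegenerateOn (polar ⇑Q) W := by
  intro w hw hw0
  obtain ⟨y, hy⟩ := h.exists_polar_ne (x := ⟨w, hw⟩) fun he => hw0 (congrArg Subtype.val he)
  rw [polar_restr] at hy
  exact ⟨⟨y, y.2, by rwa [polar_comm]⟩, ⟨y, y.2, hy⟩⟩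

lemma polar_of_preserves {W W' : Submodule F (ι → F)} (e : W ≃ₗ[F] W')
    (he : ∀ w : W, Q ((e w : W') : ι → F) = Q (w : ι → F)) (a b : W) :
    polar ⇑Q ((e a : W') : ι → F) ((e b : W') : ι → F) = polar ⇑Q (a : ι → F) b := by
  have h := he (a + b)
  rw [map_add, Submodule.coe_add, Submodule.coe_add] at h
  simp only [polar, h, he]

/-- A family of orthogonal vectors of equal value is a frame, stable under a group permuting
its lines. -/
lemma frame_of_family (h2 : (2 : F) ≠ 0) {n : ℕ} (hn2 : 2 ≤ n) {κ : Type} [Fintype κ]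
    [DecidableEq κ] (hκ : Fintype.card κ = n) (hn : Fintype.card ι = n) (v : κ → ι → F) {c : F}
    (hc : c ≠ 0) (hv : ∀ x y, polar ⇑Q (v x) (v y) = if x = y then c else 0)
    {H : Subgroup (GL ι F)}
    (hH : ∀ g ∈ H, ∀ x, ∃ (y : κ) (s : F), s ≠ 0 ∧ (g : Matrix ι ι F) *ᵥ v x = s • v y) :
    ∃ D : Fin n → Submodule F (ι → F), IsOrthogonalMDecomposition (⇑Q) 1 D ∧
      H ≤ decompositionStabilizer D := by
  classical
  let i2 : Fin n ≃ κ := (Fintype.equivFinOfCardEq hκ).symm
  have hne : ∀ x, v x ≠ 0 := fun x h0 => hc (by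
    have := hv x x
    rwa [h0, QuadraticMap.polar_zero_left, if_pos rfl, eq_comm] at this)
  have hli : LinearIndependent F v := Fintype.linearIndependent_iff.2 fun g hg x => by
    have h := congrArg (fun w => Q.polarBilin w (v x)) hg
    simp only [map_sum, map_smul, LinearMap.sum_apply, LinearMap.smul_apply, smul_eq_mul,
      polarBilin_apply', hv, mul_ite, mul_zero, Finset.sum_ite_eq', Finset.mem_univ, if_true,
      map_zero, LinearMap.zero_apply] at h
    exact (mul_eq_zero.1 h).resolve_right hc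
  have hli' : LinearIndependent F (v ∘ i2) := hli.comp _ i2.injective
  let D : Fin n → Submodule F (ι → F) := fun i => F ∙ v (i2 i)
  refine ⟨D, ⟨⟨⟨hn2, Nat.one_pos, fun i => finrank_span_singleton (hne _),
    hli'.iSupIndep_span_singleton, ?_⟩, ?_, ?_⟩, ?_⟩, ?_⟩
  · rw [show iSup D = Submodule.span F (Set.range (v ∘ i2)) by
      rw [Submodule.span_range_eq_iSup]; rfl]
    exact hli'.span_eq_top_of_card_eq_finrank' (by
      rw [Fintype.card_fin, finrank_fintype_fun_eq_card, hn])
  · intro i w hw hw0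
    obtain ⟨a, rfl⟩ := Submodule.mem_span_singleton.mp hw
    have ha : a ≠ 0 := fun h => hw0 (by rw [h, zero_smul])
    exact ⟨⟨v (i2 i), Submodule.mem_span_singleton_self _, by
      rw [polar_smul_right', hv, if_pos rfl]; exact mul_ne_zero ha hc⟩,
      ⟨v (i2 i), Submodule.mem_span_singleton_self _, by
      rw [polar_smul_left', hv, if_pos rfl]; exact mul_ne_zero ha hc⟩⟩
  · intro i j hij u hu w hw
    obtain ⟨a, rfl⟩ := Submodule.mem_span_singleton.mp hu
    obtain ⟨b, rfl⟩ := Submodule.mem_span_singleton.mp hw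
    rw [polar_smul_left', polar_smul_right', hv, if_neg (fun h => hij (i2.injective h)),
      mul_zero, mul_zero]
  · intro i j
    let E := ((LinearEquiv.toSpanNonzeroSingleton F _ _ (hne (i2 i))).symm).trans
      (LinearEquiv.toSpanNonzeroSingleton F _ _ (hne (i2 j)))
    refine ⟨E, fun w => ?_⟩
    obtain ⟨a, ha⟩ := Submodule.mem_span_singleton.mp w.2
    have hw : w = LinearEquiv.toSpanNonzeroSingleton F _ _ (hne (i2 i)) a :=
      Subtype.ext ha.symm
    have hE : ((E w : D j) : ι → F) = a • v (i2 j) := by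
      rw [hw]
      simp only [E, LinearEquiv.trans_apply, LinearEquiv.symm_apply_apply]
      rfl
    refine mul_left_cancel₀ h2 ?_
    rw [← polar_self', ← polar_self', hE, ← ha, polar_smul_left', polar_smul_left',
      polar_smul_right', polar_smul_right', hv, hv, if_pos rfl, if_pos rfl]
  · intro g hg
    choose π s hs hπ using fun i => hH g hg (i2 i)
    have hinj : Function.Injective π := fun i j hij => by
      by_contra hne'
      have h0 : s j • v (i2 i) + (-s i) • v (i2 j) = 0 := by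
        refine Matrix.mulVec_injective_iff_isUnit.2 g.isUnit ?_
        show (g : Matrix ι ι F) *ᵥ _ = (g : Matrix ι ι F) *ᵥ 0
        rw [Matrix.mulVec_add, Matrix.mulVec_smul, Matrix.mulVec_smul, hπ, hπ, hij,
          Matrix.mulVec_zero]
        module
      have h1 := congrArg (fun w => polar ⇑Q w (v (i2 i))) h0
      simp only [QuadraticMap.polar_add_left, polar_smul_left', hv, if_pos, QuadraticMap.polar_zero_left,
        if_neg (fun h : i2 j = i2 i => hne' (i2.injective h).symm), mul_zero, add_zero,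
        mul_eq_zero] at h1
      exact (hs j) (h1.resolve_right hc)
    let σ : Equiv.Perm (Fin n) := Equiv.ofBijective (fun i => i2.symm (π i))
      (Finite.injective_iff_bijective.1 (i2.symm.injective.comp hinj))
    refine ⟨σ, fun i => ?_⟩
    show (F ∙ v (i2 i)).map _ = F ∙ v (i2 (i2.symm (π i)))
    rw [Submodule.map_span, Set.image_singleton, Matrix.toLin'_apply, hπ, i2.apply_symm_apply]
    exact Submodule.span_singleton_smul_eq (Ne.isUnit (hs i)) _

lemma F_three (hq : Fintype.card F = 3) :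
    (3 : F) = 0 ∧ ∀ a : F, a = 0 ∨ a * a = 1 := by
  refine ⟨by simpa [hq] using FiniteField.cast_card_eq_zero F, fun a => ?_⟩
  by_cases ha : a = 0
  · exact Or.inl ha
  · refine Or.inr ?_
    have := FiniteField.pow_card_sub_one_eq_one a ha
    rwa [hq, show 3 - 1 = 2 from rfl, pow_two] at this

/-- Over 𝔽₃ a decomposition into 3-spaces refines to a frame. -/
lemma frame_of_three (h2 : (2 : F) ≠ 0) (hq : Fintype.card F = 3) {t : ℕ}
    {D : Fin t → Submodule F (ι → F)} (hD : IsOrthogonalMDecomposition (⇑Q) 3 D)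
    (hcard : t * 3 = Fintype.card ι) {H : Subgroup (GL ι F)} (hHQ : FixesQuadForm (matrixSet H) ⇑Q)
    (hH : H ≤ decompositionStabilizer D) :
    ∃ D' : Fin (Fintype.card ι) → Submodule F (ι → F), IsOrthogonalMDecomposition (⇑Q) 1 D' ∧
      H ≤ decompositionStabilizer D' := by
  classical
  obtain ⟨h3, hsq⟩ := F_three hq
  have ht := hD.decomp.decomp.two_le
  let i₀ : Fin t := ⟨0, by omega⟩
  have hfin := hD.decomp.decomp.finrank_eq
  let b := Module.finBasisOfFinrankEq F (D i₀) (hfin i₀)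
  let L : (Fin 3 → F) →ₗ[F] (ι → F) := (D i₀).subtype ∘ₗ b.equivFun.symm.toLinearMap
  let f₀ : (Fin 3 → F) → (Fin 3 → F) → F := fun x y => polar ⇑Q (L x) (L y)
  have hsesq : IsSesq (RingEquiv.refl F) f₀ := by
    refine ⟨fun x y v => ?_, fun c x v => ?_, fun v x y => ?_, fun c v x => ?_⟩ <;>
      simp only [f₀, map_add, map_smul, QuadraticMap.polar_add_left, polar_smul_left',
        QuadraticMap.polar_add_right, polar_smul_right', RingEquiv.refl_apply]
  have hL : Function.Injective L :=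
    (D i₀).injective_subtype.comp b.equivFun.symm.injective
  have hnd : IsNondegenerateForm f₀ := fun x hx => by
    obtain ⟨⟨y, hy, hy1⟩, ⟨z, hz, hz1⟩⟩ := hD.decomp.nondegenerate i₀ (L x) (b.equivFun.symm x).2
      (fun h => hx (hL (h.trans (map_zero L).symm)))
    have hLy : ∀ y (hy : y ∈ D i₀), L (b.equivFun ⟨y, hy⟩) = y := fun y hy => by
      simp only [L, LinearMap.comp_apply, LinearEquiv.coe_coe, LinearEquiv.symm_apply_apply,
        Submodule.subtype_apply]
    exact ⟨⟨_, by rw [show f₀ _ x = polar ⇑Q (L (b.equivFun ⟨y, hy⟩)) (L x) from rfl, hLy]; exact hy1⟩,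
      ⟨_, by rw [show f₀ x _ = polar ⇑Q (L x) (L (b.equivFun ⟨z, hz⟩)) from rfl, hLy]; exact hz1⟩⟩
  set G := gramMatrix f₀ with hGdef
  have hsym : Gᵀ = G := Matrix.ext fun i j => polar_comm _ _ _
  obtain ⟨B, ν, hν, hB⟩ := symmetric_similar h2 (by decide : Odd 3) (isUnit_gram hsesq hnd) hsym
    isUnit_one Matrix.transpose_one
  let v₀ : Fin 3 → D i₀ := fun j =>
    b.equivFun.symm ((B : Matrix (Fin 3) (Fin 3) F) *ᵥ Pi.single j 1)
  have hv₀ : ∀ i j, polar ⇑Q (v₀ i : ι → F) (v₀ j) = if i = j then ν else 0 := fun i j => by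
    have h := hsesq.eq_formOfGram ((B : Matrix (Fin 3) (Fin 3) F) *ᵥ Pi.single i 1)
      ((B : Matrix (Fin 3) (Fin 3) F) *ᵥ Pi.single j 1)
    rw [formOfGram_mulVec, ← hGdef, hB] at h
    have h' : gramMatrix (formOfGram (RingEquiv.refl F) (ν • (1 : Matrix (Fin 3) (Fin 3) F))) i j
        = (ν • (1 : Matrix (Fin 3) (Fin 3) F)) i j := by rw [gram_formOfGram]
    refine h.trans (h'.trans ?_)
    simp [Matrix.one_apply]
  choose E hE using fun i => hD.isometric i₀ i
  let v : Fin t × Fin 3 → ι → F := fun p => (E p.1 (v₀ p.2) : ι → F)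
  have hmem : ∀ p, v p ∈ D p.1 := fun p => (E p.1 (v₀ p.2)).2
  have hv : ∀ p p', polar ⇑Q (v p) (v p') = if p = p' then ν else 0 := by
    rintro ⟨i, j⟩ ⟨i', j'⟩
    by_cases hii : i = i'
    · subst hii
      rw [polar_of_preserves (E i) (hE i), hv₀]
      simp
    · rw [hD.decomp.orthogonal i i' hii _ (hmem (i, j)) _ (hmem (i', j')), if_neg (fun h => hii (congrArg Prod.fst h))]
  refine frame_of_family h2 (by omega) (by simp [hcard]) rfl v hν hv ?_
  intro g hg p
  obtain ⟨σ, hσ⟩ := hH hg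
  have hu : (g : Matrix ι ι F) *ᵥ v p ∈ D (σ p.1) := by
    rw [← hσ p.1, ← Matrix.toLin'_apply]; exact Submodule.mem_map_of_mem (hmem p)
  -- coordinates in the image piece
  have hli : LinearIndependent F (fun l => E (σ p.1) (v₀ l)) := by
    refine Fintype.linearIndependent_iff.2 fun a ha l => ?_
    have h := congrArg (fun w : D (σ p.1) => Q.polarBilin (w : ι → F) (v (σ p.1, l))) ha
    simp only [Submodule.coe_sum, Submodule.coe_smul, map_sum, map_smul, LinearMap.sum_apply,
      LinearMap.smul_apply, smul_eq_mul, polarBilin_apply', Submodule.coe_zero, map_zero,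
      LinearMap.zero_apply] at h
    simp only [fun l' => show polar ⇑Q (E (σ p.1) (v₀ l') : ι → F) (v (σ p.1, l)) =
      if (σ p.1, l') = (σ p.1, l) then ν else 0 from hv (σ p.1, l') (σ p.1, l), Prod.mk.injEq,
      true_and, mul_ite, mul_zero, Finset.sum_ite_eq', Finset.mem_univ, if_true] at h
    exact (mul_eq_zero.1 h).resolve_right hν
  obtain ⟨a, ha⟩ := (Submodule.mem_span_range_iff_exists_fun F).1
    (show (⟨_, hu⟩ : D (σ p.1)) ∈ Submodule.span F (Set.range fun l => E (σ p.1) (v₀ l)) by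
      rw [hli.span_eq_top_of_card_eq_finrank' (by rw [Fintype.card_fin, hfin])]
      exact Submodule.mem_top)
  have hu' : (g : Matrix ι ι F) *ᵥ v p = a 0 • v (σ p.1, 0) + a 1 • v (σ p.1, 1) + a 2 • v (σ p.1, 2) := by
    have := congrArg Subtype.val ha
    simp only [Fin.sum_univ_three, Submodule.coe_add, Submodule.coe_smul] at this
    exact this.symm
  have hnorm : polar ⇑Q ((g : Matrix ι ι F) *ᵥ v p) ((g : Matrix ι ι F) *ᵥ v p) = ν := by
    rw [fixesForm_polar hHQ _ (mem_matrixSet hg), hv, if_pos rfl]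
  rw [hu'] at hnorm
  simp only [QuadraticMap.polar_add_left, QuadraticMap.polar_add_right, polar_smul_left',
    polar_smul_right', hv, Prod.mk.injEq, true_and, if_true, Fin.reduceEq, if_false, mul_zero,
    add_zero, zero_add] at hnorm
  have hsum : a 0 * a 0 + a 1 * a 1 + a 2 * a 2 = 1 :=
    mul_right_cancel₀ hν (by linear_combination hnorm)
  have hne : ∀ l, a l * a l = 1 → a l ≠ 0 := fun l h h0 => by simp [h0] at h
  rcases hsq (a 0) with z0 | z0 <;> rcases hsq (a 1) with z1 | z1 <;>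
    rcases hsq (a 2) with z2 | z2
  · exact absurd (show (0 : F) = 1 by simpa [z0, z1, z2] using hsum) zero_ne_one
  · exact ⟨(σ p.1, 2), a 2, hne _ z2, by rw [hu', z0, z1]; simp⟩
  · exact ⟨(σ p.1, 1), a 1, hne _ z1, by rw [hu', z0, z2]; simp⟩
  · exfalso; rw [z0, z1, z2] at hsum; exact one_ne_zero (by linear_combination hsum)
  · exact ⟨(σ p.1, 0), a 0, hne _ z0, by rw [hu', z1, z2]; simp⟩
  · exfalso; rw [z1, z0, z2] at hsum; exact one_ne_zero (by linear_combination hsum)
  · exfalso; rw [z2, z0, z1] at hsum; exact one_ne_zero (by linear_combination hsum)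
  · exfalso; rw [z0, z1, z2] at hsum; exact one_ne_zero (by linear_combination h3 - hsum)

/-- Over 𝔽₃ the stabiliser of a hyperbolic plane fixes a non-singular point. -/
lemma point_of_plus_plane (hq : Fintype.card F = 3) {W : Submodule F (ι → F)}
    (hdim : finrank F W = 2) (hW : IsNondegenerateOn (polar ⇑Q) W) (hplus : IsPlusTypeOn (⇑Q) W)
    {H : Subgroup (GL ι F)} (hHQ : FixesQuadForm (matrixSet H) ⇑Q)
    (hH : H ≤ subspaceStabilizer W) :
    ∃ v : ι → F, Q v ≠ 0 ∧ H ≤ subspaceStabilizer (F ∙ v) := by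
  obtain ⟨-, hsq⟩ := F_three hq
  obtain ⟨U, hUW, hU, hUd⟩ := hplus
  obtain ⟨e, heU, he0⟩ := U.exists_mem_ne_zero_of_ne_bot fun h => by
    rw [h, finrank_bot, hdim] at hUd; omega
  have hR := H98.OrthMax.nondeg_restr_of_nondegenerateOn hW
  obtain ⟨f, hf, hef⟩ := hR.exists_partner (u := ⟨e, hUW heU⟩)
    (fun h => he0 (congrArg Subtype.val h)) (hU e heU)
  rw [restr_apply] at hf
  rw [polar_restr] at hef
  have he : Q e = 0 := hU e heU
  have hWeq : Submodule.span F {e, (f : ι → F)} = W := by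
    refine Submodule.eq_of_le_of_finrank_eq ?_ ?_
    · rw [Submodule.span_le]
      rintro x (rfl | rfl)
      · exact hUW heU
      · exact f.2
    · rw [hdim, finrank_hyperbolic_plane he hf hef]
  have hval : ∀ a b : F, Q (a • e + b • (f : ι → F)) = a * b := fun a b => by
    rw [map_add_polar, qmap_smul, qmap_smul, polar_smul_left', polar_smul_right', he, hf, hef]; ring
  have hv : Q (e + (f : ι → F)) = 1 := by simpa using hval 1 1
  refine ⟨e + f, by rw [hv]; exact one_ne_zero, le_subspaceStabilizer fun g hg w hw => ?_⟩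
  obtain ⟨c, rfl⟩ := Submodule.mem_span_singleton.1 hw
  rw [Matrix.mulVec_smul]
  refine Submodule.smul_mem _ _ ?_
  have hgW : (g : Matrix ι ι F) *ᵥ (e + (f : ι → F)) ∈ W :=
    (hH hg (e + f)).1 (W.add_mem (hUW heU) f.2)
  have hgW := Submodule.mem_span_pair.1 ((SetLike.ext_iff.1 hWeq _).2 hgW)
  obtain ⟨a, b, hab⟩ := hgW
  have h1 : a * b = 1 := by rw [← hval, hab, hHQ _ (mem_matrixSet hg), hv]
  have hba : b = a := by
    rcases hsq a with ha | ha
    · simp [ha] at h1
    · calc b = a * a * b := by rw [ha, one_mul]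
        _ = a := by rw [mul_assoc, h1, mul_one]
  rw [← hab, hba, ← smul_add]
  exact Submodule.smul_mem _ _ (Submodule.mem_span_singleton_self _)

/-- The geometric possibilities for a maximal subgroup of Ω in odd dimension. -/
inductive OddMax (Q : (ι → F) → F) (H : Subgroup (GL ι F)) : Prop
  | ts (W : Submodule F (ι → F)) (h0 : W ≠ ⊥) (hts : IsTotallySingularQuad Q W)
      (h : H = subspaceStabilizer W ⊓ omegaGL Q)
  | nd (W : Submodule F (ι → F)) (h0 : W ≠ ⊥) (hev : Even (finrank F W))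
      (hnd : IsNondegenerateOn (polar Q) W)
      (hex : ¬ (Fintype.card F = 3 ∧ finrank F W = 2 ∧ IsPlusTypeOn Q W))
      (h : H = subspaceStabilizer W ⊓ omegaGL Q)
  | frame (D : Fin (Fintype.card ι) → Submodule F (ι → F)) (hp : (Fintype.card F).Prime)
      (hD : IsOrthogonalMDecomposition Q 1 D) (h : H = decompositionStabilizer D ⊓ omegaGL Q)
  | decomp (t k : ℕ) (D : Fin t → Submodule F (ι → F)) (hk : 1 < k)
      (hex : ¬ (Fintype.card F = 3 ∧ k = 3)) (hD : IsOrthogonalMDecomposition Q k D)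
      (hcard : t * k = Fintype.card ι) (h : H = decompositionStabilizer D ⊓ omegaGL Q)
  | fieldSA (r : ℕ) (K : Subalgebra F (Matrix ι ι F)) (hr : r.Prime)
      (hdvd : r ∣ Fintype.card ι) (hne : Fintype.card ι ≠ r) (hK : IsFieldSubalgebra r K)
      (hsa : IsSelfAdjointFor (polar Q) K) (h : H = subalgebraNormalizer K ⊓ omegaGL Q)
  | tensor (n₁ n₂ : ℕ) (h1 : 3 ≤ n₁) (h2 : n₁ < n₂) (hcard : n₁ * n₂ = Fintype.card ι)
  | subfld (F₀ : Subfield F) (r : ℕ) (P : GL ι F) (hr : r.Prime)
      (hF : Fintype.card F = Nat.card F₀ ^ r) (hrat : IsQuadFormRationalStructure Q F₀ P)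
      (h : H = subfieldSubgroup F₀ P ⊓ omegaGL Q)
  | power (k t : ℕ) (e : ι ≃ (Fin t → Fin k)) (P : GL ι F) (f₁ : (Fin k → F) → (Fin k → F) → F)
      (hk : 3 ≤ k) (ht : 2 ≤ t) (hne : ¬ (Fintype.card F = 3 ∧ k = 3))
      (hcard : k ^ t = Fintype.card ι) (hf₁ : IsSymmetricForm f₁)
      (hs : IsTensorPowerFormStructure id (polar Q) f₁ e P)
      (h : H ≤ tensorWreathSubgroup k t e P)
  | residual (h : InOrthogonalResidualClass H)

theorem oddMax_cases {Qf : (ι → F) → F} (hQf : IsNondegenerateQuadraticForm Qf)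
    (h2 : (2 : F) ≠ 0) (hodd : Odd (Fintype.card ι)) (h7 : 7 ≤ Fintype.card ι)
    (hprime : ∀ (F₁ : Subfield F) i j, gramMatrix (polar Qf) i j ∈ F₁)
    {H : Subgroup (GL ι F)} (hH : IsMaximalIn (omegaGL Qf) H) : OddMax Qf H := by
  classical
  obtain ⟨Q, rfl⟩ : ∃ Q : QuadraticForm F (ι → F), ⇑Q = Qf := ⟨H96.asForm hQf, rfl⟩
  have hQ : Nondeg Q := fun x hx => by
    by_contra hne
    obtain ⟨y, hy⟩ := (hQf.nondegenerate x hne).2
    exact hy (hx y)
  have hn : 5 ≤ finrank F (ι → F) := by rw [finrank_fintype_fun_eq_card]; omega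
  have hHQ := fixesQuadForm_of_le_omegaGL hH.1.le
  -- non-degenerate subspaces of even dimension
  have hnd : ∀ W : Submodule F (ι → F), W ≠ ⊥ → W ≠ ⊤ → IsNondegenerateOn (polar ⇑Q) W →
      H ≤ subspaceStabilizer W → ∃ W' : Submodule F (ι → F), W' ≠ ⊥ ∧ Even (finrank F W') ∧
        IsNondegenerateOn (polar ⇑Q) W' ∧ H = subspaceStabilizer W' ⊓ omegaGL ⇑Q := by
    intro W h0 h1 hW hle
    have heq := eq_inf_of_isMaximalIn hH hle (omega_not_le_subspace hQ hn h2 h0 h1)
    rcases Nat.even_or_odd (finrank F W) with hev | ho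
    · exact ⟨W, h0, hev, hW, heq⟩
    have hsum := hQ.finrank_add_perp W
    rw [finrank_fintype_fun_eq_card] at hsum
    have hlt : finrank F W < Fintype.card ι := by
      rw [← finrank_fintype_fun_eq_card (R := F)]; exact Submodule.finrank_lt h1
    refine ⟨perp Q W, fun hb => ?_, ?_, nondegenerateOn_of_restr
      (hQ.nondeg_perp (H98.OrthMax.nondeg_restr_of_nondegenerateOn hW)), ?_⟩
    · rw [hb, finrank_bot] at hsum; omega
    · obtain ⟨a, ha⟩ := ho; obtain ⟨b, hb⟩ := hodd
      exact ⟨b - a, by omega⟩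
    · rw [H98.OrthMax.stabilizer_inf_omega_perp hQ W]; exact heq
  cases orthogonal_aschbacher hQf h2 hodd (by omega) hprime hHQ with
  | ts W h0 hts h =>
    refine .ts W h0 hts (eq_inf_of_isMaximalIn hH h (omega_not_le_subspace hQ hn h2 h0 fun htop => ?_))
    haveI : Nonempty ι := Fintype.card_pos_iff.1 (by omega)
    obtain ⟨x, hx⟩ := exists_ne (0 : ι → F)
    obtain ⟨a, ha⟩ := exists_anisotropic hQ hx
    exact ha (hts a (htop ▸ Submodule.mem_top))
  | nd W h0 htop hW _ h =>
    obtain ⟨W', h0', hev', hW', heq'⟩ := hnd W h0 htop hW h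
    by_cases hex : Fintype.card F = 3 ∧ finrank F W' = 2 ∧ IsPlusTypeOn (⇑Q) W'
    · obtain ⟨hq, hdim, hplus⟩ := hex
      obtain ⟨v, hv, hle⟩ := point_of_plus_plane hq hdim hW' hplus hHQ (heq'.le.trans inf_le_left)
      have hv0 : v ≠ 0 := fun h => hv (by rw [h, QuadraticMap.map_zero])
      have hndl : Nondeg (restr Q (F ∙ v)) := fun x hx => by
        obtain ⟨c, hc⟩ := Submodule.mem_span_singleton.1 x.2
        have h := hx ⟨v, Submodule.mem_span_singleton_self v⟩
        rw [polar_restr, ← hc, polar_smul_left', polar_self'] at h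
        have hc0 : c = 0 := (mul_eq_zero.1 h).resolve_right (mul_ne_zero h2 hv)
        exact Subtype.ext (by rw [← hc, hc0, zero_smul]; rfl)
      have hbot : (F ∙ v) ≠ ⊥ := by simpa using hv0
      have htop' : (F ∙ v) ≠ ⊤ := fun h => by
        have := finrank_span_singleton (K := F) hv0
        rw [h, finrank_top] at this; omega
      have heq := eq_inf_of_isMaximalIn hH hle (omega_not_le_subspace hQ hn h2 hbot htop')
      have hsum := hQ.finrank_add_perp (F ∙ v)
      rw [finrank_span_singleton hv0, finrank_fintype_fun_eq_card] at hsum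
      obtain ⟨b, hb⟩ := hodd
      refine .nd (perp Q (F ∙ v)) (fun hb' => ?_) ⟨b, by omega⟩
        (nondegenerateOn_of_restr (hQ.nondeg_perp hndl)) (fun hh => by omega) ?_
      · rw [hb', finrank_bot] at hsum; omega
      · rw [H98.OrthMax.stabilizer_inf_omega_perp hQ _]; exact heq
    · exact .nd W' h0' hev' hW' hex heq'
  | decomp t k D hk hD hcard h =>
    have hk3 : 3 ≤ k := by
      obtain ⟨j, hj⟩ := (Nat.odd_mul.1 (hcard ▸ hodd)).2
      omega
    by_cases hex : Fintype.card F = 3 ∧ k = 3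
    · obtain ⟨hq, rfl⟩ := hex
      obtain ⟨D', hD', hle⟩ := frame_of_three h2 hq hD hcard hHQ h
      exact .frame D' (hq ▸ Nat.prime_three) hD' (eq_inf_of_isMaximalIn hH hle
        (omega_not_le_decomp hQ hn h2 hD' (Or.inl ⟨rfl, by omega⟩)))
    · exact .decomp t k D hk hex hD hcard
        (eq_inf_of_isMaximalIn hH h (omega_not_le_decomp hQ hn h2 hD (Or.inr hk3)))
  | frame D hp hD h =>
    exact .frame D hp hD (eq_inf_of_isMaximalIn hH h
      (omega_not_le_decomp hQ hn h2 hD (Or.inl ⟨rfl, by omega⟩)))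
  | fieldSA r K hr _ hdvd hne hK hsa h =>
    exact .fieldSA r K hr hdvd hne hK hsa (eq_inf_of_isMaximalIn hH h
      (omega_not_le_fieldNormalizer hQ hn hK hr.two_le))
  | tensor n₁ n₂ e P f₁ f₂ h1 h12 hcard _ _ _ _ => exact .tensor n₁ n₂ h1 h12 hcard
  | subfld F₀ r P hr hF hrat h =>
    exact .subfld F₀ r P hr hF hrat (eq_inf_of_isMaximalIn hH h
      (omega_not_le_subfield hQ hn (subfield_ne_top_odd hr hF) P))
  | power k t e P f₁ hk _ ht hne hcard hf₁ hs h =>
    exact .power k t e P f₁ hk ht hne hcard hf₁ hs h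
  | residual h => exact .residual h

lemma exists_decomp_cast {Qf : (ι → F) → F} {k a b : ℕ} (h : a = b)
    (D : Fin a → Submodule F (ι → F)) (hD : IsOrthogonalMDecomposition Qf k D) :
    ∃ D' : Fin b → Submodule F (ι → F), IsOrthogonalMDecomposition Qf k D' ∧
      decompositionStabilizer D' = decompositionStabilizer D := by
  subst h
  exact ⟨D, hD, rfl⟩

end Cfsg.Agent.Aschbacher
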