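/-
Tools for Aschbacher's theorem for orthogonal groups in even dimension, in any characteristic.
-/
import Cfsg.Agent.Aschbacher.OrthTheorem
import Cfsg.Agent.Aschbacher.OrthOddMaximal

set_option autoImplicit false
set_option linter.unusedSectionVars false
set_option linter.style.haveILetI false
set_option maxHeartbeats 1000000

namespace Cfsg.Agent.Aschbacher

open scoped MatrixGroups Matrix Kronecker
open Cfsg.Geo

variable {ι : Type} [Fintype ι] [DecidableEq ι] {F : Type*} [Field F] [Fintype F]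

lemma exists_sqrt_two (h2 : (2 : F) = 0) (x : F) : ∃ y : F, y ^ 2 = x := by
  haveI : CharP F 2 := CharTwo.of_one_ne_zero_of_two_eq_zero one_ne_zero h2
  obtain ⟨y, hy⟩ := (surjective_frobenius F 2) x
  exact ⟨y, by rwa [frobenius_def] at hy⟩

/-- The zeros of an additive, quadratically homogeneous function on a subspace form a subspace of
codimension at most one. -/
lemma exists_kernel (h2 : (2 : F) = 0) (W : Submodule F (ι → F)) (D : (ι → F) → F)
    (hadd : ∀ u ∈ W, ∀ v ∈ W, D (u + v) = D u + D v)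
    (hsmul : ∀ (c : F) v, D (c • v) = c ^ 2 * D v) :
    ∃ K : Submodule F (ι → F), (∀ v, v ∈ K ↔ v ∈ W ∧ D v = 0) ∧
      Module.finrank F W ≤ Module.finrank F K + 1 := by
  have h0 : D 0 = 0 := by simpa using hsmul 0 0
  let K : Submodule F (ι → F) :=
    { carrier := {v | v ∈ W ∧ D v = 0}
      add_mem' := fun {u v} hu hv =>
        ⟨W.add_mem hu.1 hv.1, by rw [hadd u hu.1 v hv.1, hu.2, hv.2, add_zero]⟩
      zero_mem' := ⟨W.zero_mem, h0⟩
      smul_mem' := fun c v hv => ⟨W.smul_mem c hv.1, by rw [hsmul, hv.2, mul_zero]⟩ }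
  refine ⟨K, fun v => Iff.rfl, ?_⟩
  by_cases hall : ∀ v ∈ W, D v = 0
  · have hWK : W ≤ K := fun v hv => ⟨hv, hall v hv⟩
    exact (Submodule.finrank_mono hWK).trans (Nat.le_succ _)
  push Not at hall
  obtain ⟨y, hy, hDy⟩ := hall
  have hle : W ≤ K ⊔ (F ∙ y) := by
    intro v hv
    obtain ⟨t, ht⟩ := exists_sqrt_two h2 (D v / D y)
    refine Submodule.mem_sup.2 ⟨v + t • y, ⟨W.add_mem hv (W.smul_mem t hy), ?_⟩, t • y,
      Submodule.smul_mem _ _ (Submodule.mem_span_singleton_self y), ?_⟩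
    · rw [hadd v hv _ (W.smul_mem t hy), hsmul, ht, div_mul_cancel₀ _ hDy, ← two_mul, h2, zero_mul]
    · rw [add_assoc, ← add_smul, ← two_mul, h2, zero_mul, zero_smul, add_zero]
  have h1 := (Submodule.finrank_mono hle).trans (Submodule.finrank_add_le_finrank_add_finrank K (F ∙ y))
  rw [finrank_span_singleton (fun h : y = 0 => hDy (by rw [h, h0]))] at h1
  exact h1

variable {H : Subgroup (GL ι F)}

/-- An invariant subspace which is non-zero is everything. -/
lemma eq_top_of_irreducible (hirr : ActsIrreducibly (matrixSet H)) {W : Submodule F (ι → F)}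
    (h0 : W ≠ ⊥) (hW : ∀ g ∈ H, ∀ v ∈ W, (g : Matrix ι ι F) *ᵥ v ∈ W) : W = ⊤ :=
  (eq_bot_or_eq_top hirr W hW).resolve_left h0

/-- An irreducible group fixes no non-zero additive quadratically homogeneous function in
characteristic two. -/
lemma semilinear_invariant_eq_zero (h2 : (2 : F) = 0) (hdim : 2 ≤ Fintype.card ι)
    (hirr : ActsIrreducibly (matrixSet H)) (D : (ι → F) → F)
    (hadd : ∀ u v, D (u + v) = D u + D v) (hsmul : ∀ (c : F) v, D (c • v) = c ^ 2 * D v)
    (hinv : ∀ g ∈ H, ∀ v, D ((g : Matrix ι ι F) *ᵥ v) = D v) (v : ι → F) : D v = 0 := by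
  obtain ⟨K, hK, hfr⟩ := exists_kernel h2 ⊤ D (fun u _ w _ => hadd u w) hsmul
  rw [finrank_top, Module.finrank_fintype_fun_eq_card] at hfr
  have h0 : K ≠ ⊥ := fun h => by rw [h, finrank_bot] at hfr; omega
  have htop := eq_top_of_irreducible hirr h0 fun g hg w hw =>
    (hK _).2 ⟨trivial, (hinv g hg w).trans ((hK w).1 hw).2⟩
  exact ((hK v).1 (htop ▸ Submodule.mem_top)).2

/-- An irreducible group fixes at most one quadratic form with given polar form. -/
lemma quad_eq_of_invariant (h2 : (2 : F) = 0) (hdim : 2 ≤ Fintype.card ι)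
    (hirr : ActsIrreducibly (matrixSet H)) {Q Q' : (ι → F) → F}
    (hQ : ∀ (c : F) v, Q (c • v) = c ^ 2 * Q v) (hQ' : ∀ (c : F) v, Q' (c • v) = c ^ 2 * Q' v)
    (hpol : ∀ u v, QuadraticMap.polar Q' u v = QuadraticMap.polar Q u v)
    (hH : FixesQuadForm (matrixSet H) Q) (hH' : FixesQuadForm (matrixSet H) Q') : Q' = Q := by
  funext v
  refine sub_eq_zero.1 (semilinear_invariant_eq_zero h2 hdim hirr (fun v => Q' v - Q v)
    (fun u w => ?_) (fun c w => ?_) (fun g hg w => ?_) v)
  · have h := hpol u w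
    simp only [QuadraticMap.polar] at h
    linear_combination h
  · simp only [hQ, hQ']; ring
  · simp only [hH _ (mem_matrixSet hg), hH' _ (mem_matrixSet hg)]

variable {Q : (ι → F) → F}

lemma quad_add_polar (u v : ι → F) : Q (u + v) = Q u + Q v + QuadraticMap.polar Q u v :=
  quad_add (Q := Q) (f := QuadraticMap.polar Q) (fun _ _ => rfl) u v

/-- Totally singular subspaces from totally isotropic ones. -/
lemma ts_or_point (hQ : IsNondegenerateQuadraticForm Q) (hHQ : FixesQuadForm (matrixSet H) Q)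
    {W : Submodule F (ι → F)} (h0 : W ≠ ⊥) (hts : IsTotallySingularFor (QuadraticMap.polar Q) W)
    (hle : H ≤ subspaceStabilizer W) :
    (∃ W' : Submodule F (ι → F), W' ≠ ⊥ ∧ IsTotallySingularQuad Q W' ∧ H ≤ subspaceStabilizer W') ∨
    ((2 : F) = 0 ∧ ∃ v : ι → F, Q v ≠ 0 ∧ H ≤ subspaceStabilizer (F ∙ v)) := by
  by_cases h2 : (2 : F) = 0
  swap
  · refine Or.inl ⟨W, h0, fun w hw => mul_left_cancel₀ h2 ?_, hle⟩
    rw [two_mul_quad hQ, hts w hw w hw, mul_zero]
  obtain ⟨K, hK, hfr⟩ := exists_kernel h2 W Q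
    (fun u hu v hv => by rw [quad_add_polar (Q := Q) u v, hts u hu v hv, add_zero]) hQ.smul
  have hinv : ∀ g ∈ H, ∀ v ∈ K, (g : Matrix ι ι F) *ᵥ v ∈ K := fun g hg v hv =>
    (hK _).2 ⟨((hle hg) v).1 ((hK v).1 hv).1, by
      rw [hHQ _ (mem_matrixSet hg), ((hK v).1 hv).2]⟩
  by_cases hK0 : K = ⊥
  swap
  · exact Or.inl ⟨K, hK0, fun w hw => ((hK w).1 hw).2, le_subspaceStabilizer hinv⟩
  obtain ⟨v, hv, hv0⟩ := W.exists_mem_ne_zero_of_ne_bot h0
  refine Or.inr ⟨h2, v, fun hQv => hv0 ?_, ?_⟩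
  · have : v ∈ K := (hK v).2 ⟨hv, hQv⟩
    rwa [hK0, Submodule.mem_bot] at this
  · have hW : W = F ∙ v := by
      refine (Submodule.eq_of_le_of_finrank_le (by simpa using hv) ?_).symm
      rw [finrank_span_singleton hv0]
      rw [hK0, finrank_bot] at hfr
      exact hfr
    rw [← hW]; exact hle

/-- A stabilised pair of totally isotropic halves is totally singular for an irreducible group. -/
lemma pair_singular (hQ : IsNondegenerateQuadraticForm Q) (hHQ : FixesQuadForm (matrixSet H) Q)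
    (hirr : ActsIrreducibly (matrixSet H)) {k : ℕ} (hk : 2 ≤ k) (hk2 : 2 * k = Fintype.card ι)
    {D : Fin 2 → Submodule F (ι → F)} (hD : IsMDecomposition k D)
    (hts : ∀ i, IsTotallySingularFor (QuadraticMap.polar Q) (D i))
    (hle : H ≤ decompositionStabilizer D) : ∀ i, IsTotallySingularQuad Q (D i) := by
  by_cases h2 : (2 : F) = 0
  swap
  · intro i w hw
    refine mul_left_cancel₀ h2 ?_
    rw [two_mul_quad hQ, hts i w hw w hw, mul_zero]
  choose K hK hfr using fun i => exists_kernel h2 (D i) Q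
    (fun u hu v hv => by rw [quad_add_polar (Q := Q) u v, hts i u hu v hv, add_zero]) hQ.smul
  have hKD : ∀ i, K i ≤ D i := fun i v hv => ((hK i v).1 hv).1
  have hinv : ∀ g ∈ H, ∀ v ∈ ⨆ i, K i, (g : Matrix ι ι F) *ᵥ v ∈ ⨆ i, K i := by
    intro g hg v hv
    obtain ⟨σ, hσ⟩ := hle hg
    have hle' : (⨆ i, K i).map (Matrix.toLin' (g : Matrix ι ι F)) ≤ ⨆ i, K i := by
      rw [Submodule.map_iSup]
      refine iSup_le fun i => le_trans ?_ (le_iSup K (σ i))
      rintro _ ⟨w, hw, rfl⟩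
      rw [Matrix.toLin'_apply]
      refine (hK (σ i) _).2 ⟨?_, by rw [hHQ _ (mem_matrixSet hg), ((hK i w).1 hw).2]⟩
      rw [← hσ i, ← Matrix.toLin'_apply]
      exact Submodule.mem_map_of_mem (hKD i hw)
    have := hle' (Submodule.mem_map_of_mem hv)
    rwa [Matrix.toLin'_apply] at this
  have hsup : (⨆ i, K i) = K 0 ⊔ K 1 := le_antisymm
    (iSup_le fun i => by fin_cases i <;> simp) (sup_le (le_iSup K 0) (le_iSup K 1))
  have h0 : (⨆ i, K i) ≠ ⊥ := by
    intro h
    have hb := eq_bot_iff.2 ((le_iSup K 0).trans h.le)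
    have h1 := hfr 0
    rw [hb, finrank_bot, hD.finrank_eq] at h1
    omega
  have htop := eq_top_of_irreducible hirr h0 hinv
  have hsum := Submodule.finrank_add_le_finrank_add_finrank (K 0) (K 1)
  rw [← hsup, htop, finrank_top, Module.finrank_fintype_fun_eq_card] at hsum
  have e0 := Submodule.finrank_mono (hKD 0)
  have e1 := Submodule.finrank_mono (hKD 1)
  rw [hD.finrank_eq] at e0 e1
  intro i w hw
  have he : K i = D i := Submodule.eq_of_le_of_finrank_le (hKD i) (by
    rw [hD.finrank_eq]; fin_cases i <;> simp <;> omega)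
  exact ((hK i w).1 (he ▸ hw)).2

/-- A quadratic field that is not self-adjoint acts by similarities of the quadratic form. -/
lemma field_similar (hQ : IsNondegenerateQuadraticForm Q) (hHQ : FixesQuadForm (matrixSet H) Q)
    (hdim : 3 ≤ Fintype.card ι) (hirr : (2 : F) = 0 → ActsIrreducibly (matrixSet H))
    {L : Subalgebra F (Matrix ι ι F)} (hL : IsFieldSubalgebra 2 L)
    (hA : AdjClosed (RingEquiv.refl F) (QuadraticMap.polar Q) L)
    (hns : ∃ k₀ ∈ L, adj (RingEquiv.refl F) (QuadraticMap.polar Q) k₀ ≠ k₀)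
    (hle : H ≤ subalgebraNormalizer L) : ∀ k ∈ L, ∃ c : F, ∀ v, Q (k *ᵥ v) = c * Q v := by
  haveI : Nonempty ι := Fintype.card_pos_iff.1 (by omega)
  have h := formSpace_polar hQ
  have hH := fixesForm_polar hHQ
  obtain ⟨k₀, hk₀, hne⟩ := hns
  have hscal : ∀ s ∈ L, adj (RingEquiv.refl F) (QuadraticMap.polar Q) s = s →
      ∃ c : F, s = c • (1 : Matrix ι ι F) := by
    intro s hs has
    by_contra hns'
    have hli : LinearIndependent F ![(⟨1, L.one_mem⟩ : L), ⟨s, hs⟩] := by
      rw [LinearIndependent.pair_iff]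
      intro x y hxy
      have hxy' : x • (1 : Matrix ι ι F) + y • s = 0 := congrArg Subtype.val hxy
      by_cases hy : y = 0
      · rw [hy, zero_smul, add_zero] at hxy'
        exact ⟨(smul_eq_zero.mp hxy').resolve_right one_ne_zero, hy⟩
      · refine absurd ⟨-(y⁻¹ * x), ?_⟩ hns'
        rw [neg_smul, ← smul_smul, eq_neg_iff_add_eq_zero, add_comm]
        have h3 := congrArg (fun X => y⁻¹ • X) hxy'
        simpa [smul_add, smul_smul, inv_mul_cancel₀ hy] using h3
    obtain ⟨c, hc⟩ := (Submodule.mem_span_range_iff_exists_fun F).mp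
      ((hli.span_eq_top_of_card_eq_finrank (by simp [hL.finrank_eq])) ▸ Submodule.mem_top :
        (⟨k₀, hk₀⟩ : L) ∈ _)
    have hc' : c 0 • (1 : Matrix ι ι F) + c 1 • s = k₀ := by
      have := congrArg Subtype.val hc
      simpa [Fin.sum_univ_two] using this
    refine hne ?_
    rw [← hc', h.adj_add, h.adj_smul, h.adj_smul, h.adj_one, has]
    rfl
  have hnorm : ∀ k ∈ L, ∃ N : F,
      adj (RingEquiv.refl F) (QuadraticMap.polar Q) k * k = N • (1 : Matrix ι ι F) := fun k hk =>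
    hscal _ (L.mul_mem (hA k hk) hk) (by rw [h.adj_mul, h.adj_adj])
  choose! N hN using hnorm
  have hpol : ∀ k ∈ L, ∀ u v, QuadraticMap.polar Q (k *ᵥ u) (k *ᵥ v) =
      N k * QuadraticMap.polar Q u v := fun k hk u v => by
    rw [h.adj_spec, Matrix.mulVec_mulVec, hN k hk, Matrix.smul_mulVec, Matrix.one_mulVec,
      h.sesq.smul_right, RingEquiv.refl_apply]
  by_cases h2 : (2 : F) = 0
  swap
  · refine fun k hk => ⟨N k, fun v => mul_left_cancel₀ h2 ?_⟩
    rw [two_mul_quad hQ, hpol k hk, mul_left_comm, two_mul_quad hQ]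
  -- the common zero set
  have hK : ∀ k ∈ L, ∃ K : Submodule F (ι → F), (∀ v, v ∈ K ↔ Q (k *ᵥ v) - N k * Q v = 0) ∧
      Fintype.card ι ≤ Module.finrank F K + 1 := by
    intro k hk
    obtain ⟨K, hK, hfr⟩ := exists_kernel h2 ⊤ (fun v => Q (k *ᵥ v) - N k * Q v)
      (fun u _ v _ => by
        simp only [Matrix.mulVec_add, quad_add_polar (Q := Q),
          hpol k hk]; ring)
      (fun c v => by simp only [Matrix.mulVec_smul, hQ.smul]; ring)
    rw [finrank_top, Module.finrank_fintype_fun_eq_card] at hfr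
    exact ⟨K, fun v => (hK v).trans ⟨fun h => h.2, fun h => ⟨trivial, h⟩⟩, hfr⟩
  choose K hKmem hKfr using hK
  let K0 : Submodule F (ι → F) := ⨅ k : L, K k.1 k.2
  -- two members determine the intersection
  obtain ⟨K1, hK1⟩ : ∃ K1, K1 = K k₀ hk₀ ⊓ K (k₀ + 1) (L.add_mem hk₀ L.one_mem) := ⟨_, rfl⟩
  have hle1 : K1 ≤ K0 := by
    intro v hv
    rw [hK1] at hv
    have e1 := (hKmem _ _ v).1 hv.1
    have e2 := (hKmem _ _ v).1 hv.2
    refine (Submodule.mem_iInf _).2 fun k => (hKmem _ _ v).2 ?_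
    have hli : LinearIndependent F ![(⟨1, L.one_mem⟩ : L), ⟨k₀, hk₀⟩] := by
      rw [LinearIndependent.pair_iff]
      intro x y hxy
      have hxy' : x • (1 : Matrix ι ι F) + y • k₀ = 0 := congrArg Subtype.val hxy
      by_cases hy : y = 0
      · rw [hy, zero_smul, add_zero] at hxy'
        exact ⟨(smul_eq_zero.mp hxy').resolve_right one_ne_zero, hy⟩
      · exfalso
        apply hne
        have hk : k₀ = (-(y⁻¹ * x)) • (1 : Matrix ι ι F) := by
          rw [neg_smul, ← smul_smul, eq_neg_iff_add_eq_zero, add_comm]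
          have h3 := congrArg (fun X => y⁻¹ • X) hxy'
          simpa [smul_add, smul_smul, inv_mul_cancel₀ hy] using h3
        rw [hk, h.adj_smul, h.adj_one]
        rfl
    obtain ⟨c, hc⟩ := (Submodule.mem_span_range_iff_exists_fun F).mp
      ((hli.span_eq_top_of_card_eq_finrank (by simp [hL.finrank_eq])) ▸ Submodule.mem_top : k ∈ _)
    have hc' : c 0 • (1 : Matrix ι ι F) + c 1 • k₀ = k.1 := by
      have := congrArg Subtype.val hc
      simpa [Fin.sum_univ_two] using this
    -- the norm is quadratic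
    set T := adj (RingEquiv.refl F) (QuadraticMap.polar Q) k₀ + k₀ with hT
    obtain ⟨τ, hτ⟩ := hscal T (L.add_mem (hA _ hk₀) hk₀)
      (by rw [hT, h.adj_add, h.adj_adj, add_comm])
    have hNval : ∀ a b : F, N (a • 1 + b • k₀) = a ^ 2 + a * b * τ + b ^ 2 * N k₀ := by
      intro a b
      refine smul_left_injective F (one_ne_zero (α := Matrix ι ι F)) ?_
      show N (a • 1 + b • k₀) • (1 : Matrix ι ι F) = _ • (1 : Matrix ι ι F)
      rw [← hN _ (L.add_mem (L.smul_mem L.one_mem a) (L.smul_mem hk₀ b)), h.adj_add, h.adj_smul,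
        h.adj_smul, h.adj_one, RingEquiv.refl_apply, RingEquiv.refl_apply, add_smul, add_smul,
        mul_smul (b ^ 2), ← hN _ hk₀, mul_smul (a * b), ← hτ, hT]
      simp only [add_mul, mul_add, smul_mul_assoc, mul_smul_comm, one_mul, mul_one, smul_add,
        smul_smul]
      module
    rw [← hc', hNval]
    have hN1 : N (k₀ + 1) = 1 + τ + N k₀ := by
      have := hNval 1 1
      rw [one_smul, one_smul, add_comm (1 : Matrix ι ι F)] at this
      rw [this]; ring
    rw [hN1, Matrix.add_mulVec, Matrix.one_mulVec, quad_add_polar (Q := Q)] at e2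
    rw [Matrix.add_mulVec, Matrix.smul_mulVec, Matrix.smul_mulVec, Matrix.one_mulVec,
      quad_add_polar (Q := Q), hQ.smul, hQ.smul]
    rw [show QuadraticMap.polar Q (c 0 • v) (c 1 • (k₀ *ᵥ v))
        = c 0 * c 1 * QuadraticMap.polar Q (k₀ *ᵥ v) v by
      rw [hQ.polar_bilinear.smul_left, hQ.polar_bilinear.smul_right, QuadraticMap.polar_comm]; ring]
    linear_combination (c 1 ^ 2 - c 0 * c 1) * e1 + (c 0 * c 1) * e2
  have h0 : K0 ≠ ⊥ := by
    intro hb
    have hb1 : K1 = ⊥ := eq_bot_iff.2 (hle1.trans hb.le)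
    have hi := Submodule.finrank_sup_add_finrank_inf_eq (K k₀ hk₀)
      (K (k₀ + 1) (L.add_mem hk₀ L.one_mem))
    rw [← hK1, hb1, finrank_bot] at hi
    have hle' := Submodule.finrank_le (K k₀ hk₀ ⊔ K (k₀ + 1) (L.add_mem hk₀ L.one_mem))
    rw [Module.finrank_fintype_fun_eq_card] at hle'
    have := hKfr k₀ hk₀
    have := hKfr (k₀ + 1) (L.add_mem hk₀ L.one_mem)
    omega
  have htop : K0 = ⊤ := by
    refine eq_top_of_irreducible (hirr h2) h0 fun g hg v hv => ?_
    refine (Submodule.mem_iInf _).2 fun k => (hKmem _ _ _).2 ?_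
    set k' := cj g⁻¹ k.1 with hk'
    have hk'L : k' ∈ L := cj_mem_of_mem_normalizer (hle (H.inv_mem hg)) k.2
    have he := (hKmem k' hk'L v).1 ((Submodule.mem_iInf _).1 hv ⟨k', hk'L⟩)
    have hN' : N k' = N k.1 := by
      refine smul_left_injective F (one_ne_zero (α := Matrix ι ι F)) ?_
      show N k' • (1 : Matrix ι ι F) = N k.1 • (1 : Matrix ι ι F)
      rw [← hN _ hk'L, hk', h.adj_cj (le_similarityGroup_of_fixes hH (H.inv_mem hg)), ← map_mul,
        hN _ k.2, map_smul, map_one]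
    have hkg : k.1 *ᵥ ((g : Matrix ι ι F) *ᵥ v) = (g : Matrix ι ι F) *ᵥ (k' *ᵥ v) := by
      rw [Matrix.mulVec_mulVec, Matrix.mulVec_mulVec, hk', cj_apply, inv_inv, ← mul_assoc,
        ← mul_assoc, ← Units.val_mul, mul_inv_cancel, Units.val_one, one_mul]
    rw [hkg, hHQ _ (mem_matrixSet hg), hHQ _ (mem_matrixSet hg), ← hN']
    exact he
  exact fun k hk => ⟨N k, fun v =>
    sub_eq_zero.1 ((hKmem k hk v).1 ((Submodule.mem_iInf _).1 (htop ▸ Submodule.mem_top) ⟨k, hk⟩))⟩

/-- In characteristic two a self-adjoint field of prime degree divides half the dimension. -/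
lemma field_dvd_half (hQ : IsNondegenerateQuadraticForm Q) {r : ℕ}
    {L : Subalgebra F (Matrix ι ι F)} (hL : IsFieldSubalgebra r L) (hr : 0 < r)
    (hsa : IsSelfAdjointFor (QuadraticMap.polar Q) L)
    (halt : ∀ k ∈ L, ∀ v, QuadraticMap.polar Q (k *ᵥ v) v = 0) :
    ∃ j, 2 * (j * r) = Fintype.card ι := by
  classical
  set f := QuadraticMap.polar Q with hf
  have hb := hQ.polar_bilinear
  set QF := H96.asForm hQ
  have hnd : Orthogonal.Nondeg QF := H96.asForm_nondeg hQ
  let P : ℕ → Prop := fun j => ∃ M : Submodule F (ι → F), Module.finrank F M = j * r ∧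
    (∀ k ∈ L, ∀ m ∈ M, k *ᵥ m ∈ M) ∧ ∀ u ∈ M, ∀ v ∈ M, f u v = 0
  have hP0 : P 0 := ⟨⊥, by simp, fun k _ m hm => by simp [Submodule.mem_bot _ |>.1 hm],
    fun u hu v _ => by
      have := hb.smul_left 0 0 v
      rw [(Submodule.mem_bot F).1 hu]; simpa using this⟩
  obtain ⟨M, hMd, hML, hMts⟩ : P (Nat.findGreatest P (Fintype.card ι)) :=
    Nat.findGreatest_spec (Nat.zero_le _) hP0
  refine ⟨Nat.findGreatest P (Fintype.card ι), ?_⟩
  have hsum := hnd.finrank_add_perp M
  rw [Module.finrank_fintype_fun_eq_card] at hsum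
  have hle : M ≤ Orthogonal.perp QF M := fun x hx w hw => hMts w hw x hx
  rcases (Submodule.finrank_mono hle).lt_or_eq with hlt | heq
  swap
  · omega
  exfalso
  obtain ⟨v, hv, hvM⟩ := SetLike.exists_of_lt
    (lt_of_le_of_ne hle fun he => by rw [← he] at hlt; exact hlt.false)
  let T : L →ₗ[F] (ι → F) :=
    { toFun := fun k => k.1 *ᵥ v
      map_add' := fun x y => by simp [Matrix.add_mulVec]
      map_smul' := fun c x => by simp [Matrix.smul_mulVec] }
  have hinj : ∀ k : L, k.1 *ᵥ v ∈ M → k = 0 := by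
    intro k hk
    by_contra hne
    obtain ⟨y, hy, hky⟩ := hL.inv k.1 k.2 fun h => hne (Subtype.ext h)
    apply hvM
    have := hML y hy _ hk
    rwa [Matrix.mulVec_mulVec, hL.comm y hy k.1 k.2, hky, Matrix.one_mulVec] at this
  have hTinj : Function.Injective T := by
    rw [← LinearMap.ker_eq_bot, eq_bot_iff]
    exact fun k hk => hinj k (by rw [show k.1 *ᵥ v = 0 from hk]; exact M.zero_mem)
  have hdisj : M ⊓ LinearMap.range T = ⊥ := by
    rw [eq_bot_iff]
    rintro x ⟨hxM, k, rfl⟩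
    rw [hinj k hxM, map_zero]
    exact Submodule.zero_mem _
  have hdim : Module.finrank F (M ⊔ LinearMap.range T : Submodule F (ι → F))
      = (Nat.findGreatest P (Fintype.card ι) + 1) * r := by
    have := Submodule.finrank_sup_add_finrank_inf_eq M (LinearMap.range T)
    rw [hdisj, finrank_bot, LinearMap.finrank_range_of_inj hTinj,
      show Module.finrank F L = r from hL.finrank_eq] at this
    rw [Nat.succ_mul]; omega
  have hbound : Nat.findGreatest P (Fintype.card ι) + 1 ≤ Fintype.card ι := by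
    have h1 := Submodule.finrank_le (M ⊔ LinearMap.range T)
    rw [hdim, Module.finrank_fintype_fun_eq_card] at h1
    exact (Nat.le_mul_of_pos_right _ hr).trans h1
  refine Nat.findGreatest_is_greatest (Nat.lt_succ_self _) hbound
    ⟨M ⊔ LinearMap.range T, hdim, ?_, ?_⟩
  · intro k hk m hm
    obtain ⟨a, ha, _, ⟨k', rfl⟩, rfl⟩ := Submodule.mem_sup.1 hm
    rw [Matrix.mulVec_add]
    refine Submodule.add_mem_sup (hML k hk a ha) ⟨⟨k * k'.1, L.mul_mem hk k'.2⟩, ?_⟩
    show (k * k'.1) *ᵥ v = k *ᵥ (k'.1 *ᵥ v)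
    rw [Matrix.mulVec_mulVec]
  · intro x hx y hy
    obtain ⟨a, ha, _, ⟨k, rfl⟩, rfl⟩ := Submodule.mem_sup.1 hx
    obtain ⟨a', ha', _, ⟨k', rfl⟩, rfl⟩ := Submodule.mem_sup.1 hy
    have h1 : ∀ m ∈ M, ∀ l : L, f m (T l) = 0 := fun m hm l => by
      show f m (l.1 *ᵥ v) = 0
      rw [← hsa l.1 l.2]
      exact hv _ (hML l.1 l.2 m hm)
    have h3 : f (T k) (T k') = 0 := by
      show f (k.1 *ᵥ v) (k'.1 *ᵥ v) = 0
      rw [← hsa k'.1 k'.2, Matrix.mulVec_mulVec]
      exact halt _ (L.mul_mem k'.2 k.2) v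
    have h4 : f (T k) a' = 0 := by
      rw [hf, QuadraticMap.polar_comm, ← hf, h1 a' ha' k]
    simp only [hf] at h1 h3 h4 hMts ⊢
    rw [hb.add_left, hb.add_right, hb.add_right, hMts a ha a' ha', h1 a ha k', h3, h4]
    simp

/-- Rationality of the quadratic form on the structure of an absolutely irreducible group
realised over a subfield. -/
lemma quad_rational_of_real (hQ : IsNondegenerateQuadraticForm Q) (hdim : 2 ≤ Fintype.card ι)
    {P : Subgroup (GL ι F)} (hP : ActsAbsolutelyIrreducibly (matrixSet P))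
    (hPQ : FixesQuadForm (matrixSet P) Q) {F₁ : Subfield F} {B : GL ι F} {ζ : F}
    (hrat : IsFormRationalStructure (QuadraticMap.polar Q) F₁ ζ B)
    (hB : ∀ s ∈ matrixSet P, ∀ i j,
        (((B⁻¹ : GL ι F) : Matrix ι ι F) * s * (B : Matrix ι ι F)) i j ∈ F₁) :
    IsQuadFormRationalStructure (fun v => ζ * Q v) F₁ B := by
  intro u hu
  by_cases h2 : (2 : F) = 0
  swap
  · have h1 := hrat u u hu hu
    rw [← two_mul_quad hQ, mul_left_comm] at h1
    have h3 : (2 : F)⁻¹ ∈ F₁ := F₁.inv_mem (by exact_mod_cast natCast_mem F₁ 2)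
    have h4 := F₁.mul_mem h3 h1
    rwa [← mul_assoc, inv_mul_cancel₀ h2, one_mul] at h4
  -- Frobenius of F₁ fixes the values
  set q₁ := Nat.card F₁ with hq₁
  set φ : (ι → F) → F := fun v => ζ * Q ((B : Matrix ι ι F) *ᵥ v) with hφ
  haveI : CharP F 2 := CharTwo.of_one_ne_zero_of_two_eq_zero one_ne_zero h2
  haveI : CharP F₁ 2 := (RingHom.charP_iff_charP F₁.subtype 2).2 inferInstance
  haveI : Fintype F₁ := Fintype.ofFinite _
  obtain ⟨⟨e, he0⟩, -, he⟩ := FiniteField.card F₁ 2
  have hq : q₁ = 2 ^ e := by rw [hq₁, Nat.card_eq_fintype_card, he]; rfl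
  have hpow : ∀ x y : F, (x + y) ^ q₁ = x ^ q₁ + y ^ q₁ := fun x y => by
    rw [hq, add_pow_char_pow]
  let δ : (ι → F) → F := fun v => φ v ^ q₁ - φ v
  have hφadd : ∀ u v, φ (u + v) = φ u + φ v
      + ζ * QuadraticMap.polar Q ((B : Matrix ι ι F) *ᵥ u) ((B : Matrix ι ι F) *ᵥ v) :=
    fun u v => by
      simp only [hφ, Matrix.mulVec_add]
      rw [quad_add_polar (Q := Q)]; ring
  have hδadd : ∀ u v, (∀ i, u i ∈ F₁) → (∀ i, v i ∈ F₁) → δ (u + v) = δ u + δ v := by
    intro u v hu hv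
    have e := (mem_subfield_iff_pow F₁ _).1 (hrat u v hu hv)
    simp only [δ, hφadd, hpow]
    rw [e]
    ring
  have hδsmul : ∀ (c : F) v, c ∈ F₁ → δ (c • v) = c ^ 2 * δ v := by
    intro c v hc
    have e : φ (c • v) = c ^ 2 * φ v := by
      simp only [hφ, Matrix.mulVec_smul, hQ.smul]; ring
    show φ (c • v) ^ q₁ - φ (c • v) = c ^ 2 * (φ v ^ q₁ - φ v)
    rw [e, mul_pow, ← pow_mul, mul_comm 2 q₁, pow_mul, (mem_subfield_iff_pow F₁ c).1 hc]
    ring
  -- extend to F semilinearly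
  let Δ : (ι → F) → F := fun v => ∑ i, v i ^ 2 * δ (Pi.single i 1)
  have hΔadd : ∀ u v, Δ (u + v) = Δ u + Δ v := fun u v => by
    simp [Δ, add_pow_char, add_mul, Finset.sum_add_distrib]
  have hΔsmul : ∀ (c : F) v, Δ (c • v) = c ^ 2 * Δ v := fun c v => by
    simp [Δ, mul_pow, Finset.mul_sum, mul_assoc]
  have hagree : ∀ v, (∀ i, v i ∈ F₁) → δ v = Δ v := by
    intro v hv
    have key : ∀ s : Finset ι, δ (∑ i ∈ s, v i • Pi.single i 1) = ∑ i ∈ s, v i ^ 2 * δ (Pi.single i 1) := by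
      intro s
      induction s using Finset.induction with
      | empty =>
        have : δ 0 = 0 := by simpa using hδsmul 0 0 F₁.zero_mem
        simpa using this
      | insert a s ha ih =>
        rw [Finset.sum_insert ha, Finset.sum_insert ha, hδadd _ _ ?_ ?_, hδsmul _ _ (hv a), ih]
        · intro j
          rw [Pi.smul_apply, smul_eq_mul, Pi.single_apply]
          exact F₁.mul_mem (hv a) (by split_ifs; exacts [F₁.one_mem, F₁.zero_mem])
        · intro j
          rw [Finset.sum_apply]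
          refine F₁.sum_mem fun i _ => ?_
          rw [Pi.smul_apply, smul_eq_mul, Pi.single_apply]
          exact F₁.mul_mem (hv i) (by split_ifs; exacts [F₁.one_mem, F₁.zero_mem])
    have := key Finset.univ
    rwa [show ∑ i, v i • Pi.single i (1 : F) = v by
      funext j; simp [Finset.sum_apply, Pi.single_apply]] at this
  set P' := P.comap (MulAut.conj B).toMonoidHom with hP'
  have hval : ∀ g : GL ι F, g ∈ P' → ∀ i j, (g : Matrix ι ι F) i j ∈ F₁ := by
    intro g hg i j
    have := hB _ (mem_matrixSet (show MulAut.conj B g ∈ P from hg)) i j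
    simpa [MulAut.conj_apply, mul_assoc] using this
  have hfixφ : ∀ g ∈ P', ∀ v, φ ((g : Matrix ι ι F) *ᵥ v) = φ v := by
    intro g hg v
    simp only [hφ]
    congr 1
    rw [Matrix.mulVec_mulVec, show (B : Matrix ι ι F) * (g : Matrix ι ι F)
      = ((MulAut.conj B g : GL ι F) : Matrix ι ι F) * (B : Matrix ι ι F) by
        simp [MulAut.conj_apply, mul_assoc], ← Matrix.mulVec_mulVec]
    exact hPQ _ (mem_matrixSet (show MulAut.conj B g ∈ P from hg)) _
  have hΔinv : ∀ g ∈ P', ∀ v, Δ ((g : Matrix ι ι F) *ᵥ v) = Δ v := by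
    intro g hg v
    refine sub_eq_zero.mp (semilinear_eq_zero (D := fun v => Δ ((g : Matrix ι ι F) *ᵥ v) - Δ v)
      (fun a b => by simp only [Matrix.mulVec_add, hΔadd]; ring)
      (fun c a => by simp only [Matrix.mulVec_smul, hΔsmul]; ring) (fun i => ?_) v)
    have hone : ∀ j, (Pi.single i (1 : F) : ι → F) j ∈ F₁ := fun j => by
      rw [Pi.single_apply]; split_ifs; exacts [F₁.one_mem, F₁.zero_mem]
    rw [← hagree _ hone, ← hagree _ (fun j => by
      rw [Matrix.mulVec_single_one]; exact hval g hg j i), sub_eq_zero]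
    show φ _ ^ q₁ - φ _ = φ _ ^ q₁ - φ _
    rw [hfixφ g hg]
  have hirr' : ActsIrreducibly (matrixSet P') := by
    intro W hW
    have := hP.1 (W.map (Matrix.toLin' (B : Matrix ι ι F))) (by
      rintro _ ⟨x, hx, rfl⟩ _ ⟨_, ⟨w, hw, rfl⟩, rfl⟩
      have hx' : B⁻¹ * x * B ∈ P' := by
        show MulAut.conj B (B⁻¹ * x * B) ∈ P
        simpa [MulAut.conj_apply, mul_assoc] using hx
      refine ⟨_, hW _ (mem_matrixSet hx') (Submodule.mem_map_of_mem hw), ?_⟩
      simp only [Matrix.toLin'_apply, Matrix.mulVec_mulVec, Units.val_mul, ← mul_assoc,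
        Units.mul_inv, one_mul])
    have hinj : Function.Injective (Matrix.toLin' (B : Matrix ι ι F)) := by
      intro a b hab
      simp only [Matrix.toLin'_apply] at hab
      exact Matrix.mulVec_injective_iff_isUnit.mpr B.isUnit hab
    rcases this with h | h
    · exact Or.inl (Submodule.map_injective_of_injective hinj (h.trans (Submodule.map_bot _).symm))
    · refine Or.inr (Submodule.map_injective_of_injective hinj (h.trans ?_))
      rw [Submodule.map_top, LinearMap.range_eq_top.2]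
      exact LinearMap.surjective_of_injective hinj
  have hzero := semilinear_invariant_eq_zero h2 hdim hirr' Δ hΔadd hΔsmul hΔinv u
  rw [← hagree u hu] at hzero
  exact (mem_subfield_iff_pow F₁ _).2 (sub_eq_zero.1 hzero)

/-- An orthogonal frame of equal values over a field with a proper subfield gives a subfield
structure. -/
lemma frame_subfield_even (hQ : IsNondegenerateQuadraticForm Q) (h2 : (2 : F) ≠ 0)
    (hHQ : FixesQuadForm (matrixSet H) Q) (hp : ¬ (Fintype.card F).Prime) {t : ℕ}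
    {D : Fin t → Submodule F (ι → F)} (hD : IsOrthogonalMDecomposition Q 1 D)
    (ht : t = Fintype.card ι) (hle : H ≤ decompositionStabilizer D) :
    ∃ (F₁ : Subfield F) (r : ℕ) (B : GL ι F) (ζ : F), r.Prime ∧
      Fintype.card F = Nat.card F₁ ^ r ∧ ζ ≠ 0 ∧
      IsQuadFormRationalStructure (fun v => ζ * Q v) F₁ B ∧ H ≤ subfieldSubgroup F₁ B := by
  classical
  have hb := hQ.polar_bilinear
  set f := QuadraticMap.polar Q with hf
  have h2t := hD.decomp.decomp.two_le
  let i₀ : Fin t := ⟨0, by omega⟩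
  obtain ⟨x₀, hx₀, hx0⟩ := (D i₀).exists_mem_ne_zero_of_ne_bot fun h => by
    have := hD.decomp.decomp.finrank_eq i₀
    rw [h, finrank_bot] at this; exact zero_ne_one this
  choose E hE using fun i => hD.isometric i₀ i
  let v : Fin t → ι → F := fun i => (E i ⟨x₀, hx₀⟩ : ι → F)
  have hv0 : ∀ i, v i ≠ 0 := fun i h0 => hx0 (congrArg Subtype.val
    ((E i).map_eq_zero_iff.1 (Subtype.ext h0 : E i ⟨x₀, hx₀⟩ = 0)))
  have hspan : ∀ i, D i = F ∙ v i := fun i =>
    (Submodule.eq_of_le_of_finrank_eq ((Submodule.span_singleton_le_iff_mem _ _).2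
      (E i ⟨x₀, hx₀⟩).2) (by rw [finrank_span_singleton (hv0 i), hD.decomp.decomp.finrank_eq])).symm
  set c := f x₀ x₀ with hc
  have hvv : ∀ i, f (v i) (v i) = c := fun i => by
    rw [hc, hf, ← two_mul_quad hQ, ← two_mul_quad hQ]
    exact congrArg _ (hE i ⟨x₀, hx₀⟩)
  have hvo : ∀ i j, i ≠ j → f (v i) (v j) = 0 := fun i j hij =>
    hD.decomp.orthogonal i j hij _ (E i ⟨x₀, hx₀⟩).2 _ (E j ⟨x₀, hx₀⟩).2
  have hc0 : c ≠ 0 := by
    intro hc0
    obtain ⟨⟨x, hx, hxw⟩, -⟩ := hD.decomp.nondegenerate i₀ x₀ hx₀ hx0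
    rw [hspan i₀, Submodule.mem_span_singleton] at hx hx₀
    obtain ⟨a, rfl⟩ := hx
    obtain ⟨b, hb'⟩ := hx₀
    rw [← hb'] at hxw
    rw [← hf, hb.smul_left, hb.smul_right, hvv, hc0, mul_zero, mul_zero] at hxw
    exact hxw rfl
  let eI : ι ≃ Fin t := Fintype.equivFinOfCardEq ht.symm
  set M : Matrix ι ι F := Matrix.of fun a i => v (eI i) a with hM
  have hMe : ∀ i, M *ᵥ Pi.single i 1 = v (eI i) := fun i => by
    funext a; simp [M]
  have hMapp : ∀ u : ι → F, M *ᵥ u = ∑ i, u i • v (eI i) := fun u => by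
    funext a; simp [M, Matrix.mulVec, dotProduct, mul_comm, Finset.sum_apply]
  have hgram : ∀ u w, f (M *ᵥ u) (M *ᵥ w) = c * ∑ i, u i * w i := by
    intro u w
    let L : (ι → F) → ((ι → F) →+ F) := fun y => AddMonoidHom.mk' (fun x => f x y) fun a b =>
      hb.add_left a b y
    let R : (ι → F) → ((ι → F) →+ F) := fun x => AddMonoidHom.mk' (fun y => f x y) fun a b =>
      hb.add_right x a b
    rw [hMapp u, hMapp w, show f _ _ = L _ _ from rfl, map_sum, Finset.mul_sum]
    refine Finset.sum_congr rfl fun i _ => ?_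
    show f (u i • v (eI i)) _ = _
    rw [hb.smul_left, show f (v (eI i)) _ = R _ _ from rfl, map_sum, Finset.sum_eq_single i]
    · show u i * f (v (eI i)) (w i • v (eI i)) = _
      rw [hb.smul_right, hvv]; ring
    · intro j _ hj
      show f (v (eI i)) (w j • v (eI j)) = 0
      rw [hb.smul_right, hvo _ _ fun h => hj (eI.injective h).symm, mul_zero]
    · simp
  have hMinj : Function.Injective M.mulVec := by
    intro u w huw
    funext i
    have h1 := hgram u (Pi.single i 1)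
    have h3 := hgram w (Pi.single i 1)
    have huw' : M *ᵥ u = M *ᵥ w := huw
    rw [huw', h3] at h1
    simpa [Pi.single_apply, hc0, eq_comm] using h1
  obtain ⟨B, hB⟩ := Matrix.mulVec_injective_iff_isUnit.1 hMinj
  obtain ⟨F₁, r, -, hr, hF⟩ := exists_prime_index_subfield (⊥ : Subfield F)
    (bot_ne_top_of_not_prime hp)
  refine ⟨F₁, r, B, c⁻¹, hr, hF, inv_ne_zero hc0, fun u hu => ?_, ?_⟩
  · show c⁻¹ * Q ((B : Matrix ι ι F) *ᵥ u) ∈ F₁
    have h3 : (2 : F)⁻¹ ∈ F₁ := F₁.inv_mem (by exact_mod_cast natCast_mem F₁ 2)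
    have h4 : c⁻¹ * Q ((B : Matrix ι ι F) *ᵥ u) = (2 : F)⁻¹ * ∑ i, u i * u i := by
      have := hgram u u
      rw [hf, ← two_mul_quad hQ] at this
      have e2 : Q (M *ᵥ u) = (2 : F)⁻¹ * (c * ∑ i, u i * u i) := by
        rw [eq_inv_mul_iff_mul_eq₀ h2]; exact this
      rw [hB, e2, mul_left_comm, ← mul_assoc c⁻¹, inv_mul_cancel₀ hc0, one_mul]
    rw [h4]
    exact F₁.mul_mem h3 (F₁.sum_mem fun i _ => F₁.mul_mem (hu i) (hu i))
  intro g hg
  obtain ⟨π, hπ⟩ := hle hg
  -- the monomial matrix of g has entries in F₁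
  have hcol : ∀ i, ∃ s : F, (s = 1 ∨ s = -1) ∧ (g : Matrix ι ι F) *ᵥ v i = s • v (π i) := by
    intro i
    have hmem : (g : Matrix ι ι F) *ᵥ v i ∈ F ∙ v (π i) := by
      rw [← hspan, ← hπ i, ← Matrix.toLin'_apply]
      exact Submodule.mem_map_of_mem (E i ⟨x₀, hx₀⟩).2
    obtain ⟨s, hs⟩ := Submodule.mem_span_singleton.1 hmem
    refine ⟨s, mul_self_eq_one_iff.1 ?_, hs.symm⟩
    have h1 := fixesForm_polar hHQ _ (mem_matrixSet hg) (v i) (v i)
    rw [← hf, ← hs, hb.smul_left, hb.smul_right, hvv, hvv, ← mul_assoc] at h1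
    exact (mul_eq_right₀ hc0).1 h1
  choose s hs hgs using hcol
  have hentry : ∀ a i, ((B⁻¹ * g * B : GL ι F) : Matrix ι ι F) a i ∈ F₁ := by
    intro a i
    have e : ((B⁻¹ * g * B : GL ι F) : Matrix ι ι F) *ᵥ Pi.single i 1
        = Pi.single (eI.symm (π (eI i))) (s (eI i)) := by
      refine hMinj ?_
      show M *ᵥ _ = M *ᵥ _
      rw [← hB, Units.val_mul, Units.val_mul, ← Matrix.mulVec_mulVec, ← Matrix.mulVec_mulVec,
        Matrix.mulVec_mulVec, Units.mul_inv, Matrix.one_mulVec, hB, hMe, hgs,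
        show (Pi.single (eI.symm (π (eI i))) (s (eI i)) : ι → F)
          = s (eI i) • Pi.single (eI.symm (π (eI i))) 1 by
            rw [← Pi.single_smul, smul_eq_mul, mul_one],
        Matrix.mulVec_smul, hMe, eI.apply_symm_apply]
    have := congrFun e a
    rw [Matrix.mulVec_single_one] at this
    rw [show ((B⁻¹ * g * B : GL ι F) : Matrix ι ι F) a i = _ from this, Pi.single_apply]
    split_ifs
    · rcases hs (eI i) with h | h <;> rw [h]
      exacts [F₁.one_mem, F₁.neg_mem F₁.one_mem]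
    · exact F₁.zero_mem
  let M₀ : Matrix ι ι F₁ := Matrix.of fun a i => ⟨_, hentry a i⟩
  have hmap : M₀.map F₁.subtype = ((B⁻¹ * g * B : GL ι F) : Matrix ι ι F) := rfl
  have hdet : M₀.det ≠ 0 := fun h0 => by
    have h1 : (M₀.map F₁.subtype).det = 0 := by
      rw [← RingHom.mapMatrix_apply, ← RingHom.map_det F₁.subtype M₀, h0, map_zero]
    rw [hmap] at h1
    exact ((Matrix.isUnit_iff_isUnit_det _).mp (B⁻¹ * g * B).isUnit).ne_zero h1
  refine ⟨B⁻¹ * g * B, Subgroup.mem_sup_left ⟨Matrix.GeneralLinearGroup.mkOfDetNeZero M₀ hdet,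
    Units.ext ?_⟩, ?_⟩
  · rfl
  · simp [mul_assoc]

end Cfsg.Agent.Aschbacher
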