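/-
Aschbacher's theorem for orthogonal groups in even dimension.
-/
import Cfsg.Agent.Aschbacher.EvenOrthBase
import Cfsg.Agent.Symplectic.AschLemmas

set_option autoImplicit false
set_option linter.unusedSectionVars false
set_option linter.style.haveILetI false
set_option maxHeartbeats 1000000

namespace Cfsg.Agent.Aschbacher

open scoped MatrixGroups Matrix Kronecker
open Cfsg.Geo

variable {ι : Type} [Fintype ι] [DecidableEq ι] {F : Type*} [Field F]

/-- The alternatives of Aschbacher's theorem for a subgroup of an orthogonal group in even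
dimension, in any characteristic, with the side conditions that the specialisations need. -/
inductive EvenOutcome [Fintype F] (Q : (ι → F) → F) (H : Subgroup (GL ι F)) : Prop
  | ts (W : Submodule F (ι → F)) (h0 : W ≠ ⊥) (hts : IsTotallySingularQuad Q W)
      (h : H ≤ subspaceStabilizer W)
  | point (v : ι → F) (hev : (2 : F) = 0) (hv : Q v ≠ 0) (h : H ≤ subspaceStabilizer (F ∙ v))
  | nd (W : Submodule F (ι → F)) (h0 : W ≠ ⊥) (htop : W ≠ ⊤)
      (hnd : IsNondegenerateOn (QuadraticMap.polar Q) W)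
      (hk : 2 * Module.finrank F W < Fintype.card ι) (h : H ≤ subspaceStabilizer W)
  | pair (k : ℕ) (D : Fin 2 → Submodule F (ι → F)) (hk : 2 * k = Fintype.card ι)
      (hD : IsNondegenerateMDecomposition (QuadraticMap.polar Q) k D)
      (hniso : ¬ AreIsometricFor Q (D 0) (D 1)) (hfix : ∀ i, H ≤ subspaceStabilizer (D i))
      (h : H ≤ decompositionStabilizer D)
  | decomp (t k : ℕ) (D : Fin t → Submodule F (ι → F)) (hk : 1 < k)
      (hD : IsOrthogonalMDecomposition Q k D) (hcard : t * k = Fintype.card ι)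
      (h : H ≤ decompositionStabilizer D)
  | frame (D : Fin (Fintype.card ι) → Submodule F (ι → F)) (hp : (Fintype.card F).Prime)
      (hodd : (2 : F) ≠ 0) (hD : IsOrthogonalMDecomposition Q 1 D)
      (h : H ≤ decompositionStabilizer D)
  | tsPair (k : ℕ) (D : Fin 2 → Submodule F (ι → F)) (hk : 2 * k = Fintype.card ι)
      (hD : IsMDecomposition k D) (hts : ∀ i, IsTotallySingularQuad Q (D i))
      (h : H ≤ decompositionStabilizer D)
  | fieldSA (r : ℕ) (K : Subalgebra F (Matrix ι ι F)) (hr : r.Prime) (hdvd : r ∣ Fintype.card ι)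
      (hne : Fintype.card ι ≠ r) (hK : IsFieldSubalgebra r K)
      (hsa : IsSelfAdjointFor (QuadraticMap.polar Q) K)
      (heven : (2 : F) = 0 → (∃ j, 2 * (j * r) = Fintype.card ι) ∧
        ∀ k ∈ K, ∀ v, QuadraticMap.polar Q (k *ᵥ v) v = 0)
      (h : H ≤ subalgebraNormalizer K)
  | fieldU (K : Subalgebra F (Matrix ι ι F)) (hK : IsFieldSubalgebra 2 K)
      (hA : IsAdjointClosedFor (QuadraticMap.polar Q) K)
      (hns : ¬ IsSelfAdjointFor (QuadraticMap.polar Q) K)
      (hsim : ∀ k ∈ K, ∃ c : F, ∀ v, Q (k *ᵥ v) = c * Q v) (h : H ≤ subalgebraNormalizer K)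
  | tensorSym (n₁ n₂ : ℕ) (e : ι ≃ Fin n₁ × Fin n₂) (P : GL ι F)
      (f₁ : (Fin n₁ → F) → (Fin n₁ → F) → F) (f₂ : (Fin n₂ → F) → (Fin n₂ → F) → F)
      (hodd : (2 : F) ≠ 0) (h1 : 3 ≤ n₁) (h2 : n₁ ≤ n₂) (hcard : n₁ * n₂ = Fintype.card ι)
      (hf₁ : IsSymmetricForm f₁) (hf₂ : IsSymmetricForm f₂)
      (hs : IsTensorFormStructure id (QuadraticMap.polar Q) f₁ f₂ e P)
      (h : H ≤ tensorProductSubgroup n₁ n₂ e P)
  | tensorSymp (n₁ n₂ : ℕ) (e : ι ≃ Fin n₁ × Fin n₂) (P : GL ι F)
      (f₁ : (Fin n₁ → F) → (Fin n₁ → F) → F) (f₂ : (Fin n₂ → F) → (Fin n₂ → F) → F)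
      (h1 : 2 ≤ n₁) (h2 : n₁ ≤ n₂) (hev₁ : Even n₁) (hev₂ : Even n₂)
      (hcard : n₁ * n₂ = Fintype.card ι) (hf₁ : IsSymplecticForm f₁) (hf₂ : IsSymplecticForm f₂)
      (hs : IsTensorFormStructure id (QuadraticMap.polar Q) f₁ f₂ e P)
      (hQ0 : ∀ (x₁ : Fin n₁ → F) (x₂ : Fin n₂ → F),
        Q ((P : Matrix ι ι F) *ᵥ ((fun a : Fin n₁ × Fin n₂ => x₁ a.1 * x₂ a.2) ∘ e)) = 0)
      (h : H ≤ tensorProductSubgroup n₁ n₂ e P)
  | powerSym (k t : ℕ) (e : ι ≃ (Fin t → Fin k)) (P : GL ι F) (f₁ : (Fin k → F) → (Fin k → F) → F)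
      (hodd : (2 : F) ≠ 0) (hk : 4 ≤ k) (hkev : Even k) (ht : 2 ≤ t)
      (hcard : k ^ t = Fintype.card ι) (hf₁ : IsSymmetricForm f₁)
      (hs : IsTensorPowerFormStructure id (QuadraticMap.polar Q) f₁ e P)
      (h : H ≤ tensorWreathSubgroup k t e P)
  | powerSymp (k t : ℕ) (e : ι ≃ (Fin t → Fin k)) (P : GL ι F)
      (f₁ : (Fin k → F) → (Fin k → F) → F) (hk : 2 ≤ k) (hkev : Even k) (ht : 2 ≤ t)
      (htev : (2 : F) ≠ 0 → Even t) (hne : ¬ (Fintype.card F ≤ 3 ∧ k = 2))
      (hcard : k ^ t = Fintype.card ι) (hf₁ : IsSymplecticForm f₁)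
      (hs : IsTensorPowerFormStructure id (QuadraticMap.polar Q) f₁ e P)
      (hQ0 : ∀ u : Fin t → Fin k → F, Q ((P : Matrix ι ι F) *ᵥ (pureVec u ∘ e)) = 0)
      (h : H ≤ tensorWreathSubgroup k t e P)
  | subfld (F₀ : Subfield F) (r : ℕ) (P : GL ι F) (ζ : F) (hr : r.Prime)
      (hF : Fintype.card F = Nat.card F₀ ^ r) (hζ : ζ ≠ 0)
      (hrat : IsQuadFormRationalStructure (fun v => ζ * Q v) F₀ P)
      (h : H ≤ subfieldSubgroup F₀ P)
  | symp (R : Subgroup (GL ι F)) (p m : ℕ) (hR : IsSymplecticTypeGroup 2 R)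
      (habs : ActsAbsolutelyIrreducibly (matrixSet R))
      (hsim : R ≤ similarityGroup (QuadraticMap.polar Q)) (hfixR : FixesQuadForm (matrixSet R) Q)
      (hp : p.Prime) (hodd : Odd p) (hF : Fintype.card F = p)
      (hcard : Nat.card R = 2 ^ (1 + 2 * m)) (hc : Nat.card (Subgroup.center R) = 2)
      (hn : Fintype.card ι = 2 ^ m) (h : H ≤ subgroupNormalizer R)
  | residual (h : InOrthogonalResidualClass H)

/-- A vector is isotropic for an alternating Gram matrix. -/
lemma dotProduct_mulVec_self_of_symplectic {n : Type} [Fintype n] [DecidableEq n]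
    {G : Matrix n n F} (h : IsSymplecticForm (formOfGram (RingEquiv.refl F) G)) (u : n → F) :
    u ⬝ᵥ (G *ᵥ u) = 0 := by
  have := h.alternating u
  rwa [formOfGram_eq, show ((RingEquiv.refl F : F ≃+* F) ∘ u : n → F) = u from rfl] at this

/-- The isometry group of a symmetric form in dimension two is solvable. -/
theorem isSolvable_gramFix_symmetric_two {G : Matrix (Fin 2) (Fin 2) F} (hu : IsUnit G)
    (hs : Gᵀ = G) (h2 : (2 : F) ≠ 0) : Group.IsSolvable (gramFix (RingEquiv.refl F) G) := by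
  let φ : gramFix (RingEquiv.refl F) G →* Fˣ :=
    Matrix.GeneralLinearGroup.det.comp (gramFix (RingEquiv.refl F) G).subtype
  have h10 : G 1 0 = G 0 1 := congrFun (congrFun hs 0) 1
  have hdet : G 0 0 * G 1 1 - G 0 1 * G 0 1 ≠ 0 := by
    have := ((Matrix.isUnit_iff_isUnit_det _).mp hu).ne_zero
    rwa [Matrix.det_fin_two, h10] at this
  have hlin : ∀ g : φ.ker, (G 0 0 * ((g : GL (Fin 2) F) 0 0 - (g : GL (Fin 2) F) 1 1)
        + 2 * G 0 1 * (g : GL (Fin 2) F) 1 0 = 0) ∧
      (G 0 0 * (g : GL (Fin 2) F) 0 1 + G 1 1 * (g : GL (Fin 2) F) 1 0 = 0) ∧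
      (2 * G 0 1 * (g : GL (Fin 2) F) 0 1
        - G 1 1 * ((g : GL (Fin 2) F) 0 0 - (g : GL (Fin 2) F) 1 1) = 0) := by
    rintro ⟨⟨g, hg⟩, hk⟩
    have h1 : (g : Matrix (Fin 2) (Fin 2) F).det = 1 := congrArg Units.val (MonoidHom.mem_ker.mp hk)
    rw [Matrix.det_fin_two] at h1
    have e : ∀ i j, gtr (RingEquiv.refl F) G (g : Matrix (Fin 2) (Fin 2) F) i j = G i j :=
      fun i j => congrFun (congrFun hg i) j
    have e00 := e 0 0
    have e01 := e 0 1
    have e10 := e 1 0
    have e11 := e 1 1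
    simp only [gtr, Matrix.mul_apply, Fin.sum_univ_two, Matrix.transpose_apply, Matrix.map_apply,
      RingEquiv.refl_apply, h10] at e00 e01 e10 e11
    show (G 0 0 * ((g : Matrix (Fin 2) (Fin 2) F) 0 0 - (g : Matrix (Fin 2) (Fin 2) F) 1 1)
        + 2 * G 0 1 * (g : Matrix (Fin 2) (Fin 2) F) 1 0 = 0) ∧ _ ∧ _
    refine ⟨?_, ?_, ?_⟩
    · linear_combination ((g : Matrix (Fin 2) (Fin 2) F) 1 1) * e00
        - ((g : Matrix (Fin 2) (Fin 2) F) 1 0) * e01
        - (G 0 0 * (g : Matrix (Fin 2) (Fin 2) F) 0 0 + G 0 1 * (g : Matrix (Fin 2) (Fin 2) F) 1 0) * h1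
    · linear_combination ((g : Matrix (Fin 2) (Fin 2) F) 1 1) * e10
        - ((g : Matrix (Fin 2) (Fin 2) F) 1 0) * e11
        - (G 0 0 * (g : Matrix (Fin 2) (Fin 2) F) 0 1 + G 0 1 * (g : Matrix (Fin 2) (Fin 2) F) 1 1) * h1
    · linear_combination -((g : Matrix (Fin 2) (Fin 2) F) 0 1) * e10
        + ((g : Matrix (Fin 2) (Fin 2) F) 0 0) * e11
        - (G 0 1 * (g : Matrix (Fin 2) (Fin 2) F) 0 1 + G 1 1 * (g : Matrix (Fin 2) (Fin 2) F) 1 1) * h1
  haveI : IsMulCommutative φ.ker := ⟨⟨fun g g' => by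
    obtain ⟨a1, a2, a3⟩ := hlin g
    obtain ⟨b1, b2, b3⟩ := hlin g'
    apply Subtype.ext
    apply Subtype.ext
    apply Units.ext
    show ((g : GL (Fin 2) F) : Matrix (Fin 2) (Fin 2) F) * ((g' : GL (Fin 2) F) : Matrix (Fin 2) (Fin 2) F)
      = ((g' : GL (Fin 2) F) : Matrix (Fin 2) (Fin 2) F) * ((g : GL (Fin 2) F) : Matrix (Fin 2) (Fin 2) F)
    set A := ((g : GL (Fin 2) F) : Matrix (Fin 2) (Fin 2) F)
    set B := ((g' : GL (Fin 2) F) : Matrix (Fin 2) (Fin 2) F)
    have key : A 0 1 * B 1 0 - B 0 1 * A 1 0 = 0 ∧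
        (A 0 0 - A 1 1) * B 0 1 - (B 0 0 - B 1 1) * A 0 1 = 0 ∧
        (A 0 0 - A 1 1) * B 1 0 - (B 0 0 - B 1 1) * A 1 0 = 0 := by
      by_cases hu0 : G 0 0 = 0
      · have hv : G 0 1 ≠ 0 := fun h0 => hdet (by rw [hu0, h0]; ring)
        have hv2 : (2 : F) * G 0 1 ≠ 0 := mul_ne_zero h2 hv
        refine ⟨?_, ?_, ?_⟩ <;> refine mul_left_cancel₀ hv2 ?_ <;> rw [mul_zero]
        · linear_combination (A 0 1) * b1 - (B 0 1) * a1
            - (A 0 1 * (B 0 0 - B 1 1) - B 0 1 * (A 0 0 - A 1 1)) * hu0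
        · linear_combination (A 0 0 - A 1 1) * b3 - (B 0 0 - B 1 1) * a3
        · linear_combination (A 0 0 - A 1 1) * b1 - (B 0 0 - B 1 1) * a1
      · refine ⟨?_, ?_, ?_⟩ <;> refine mul_left_cancel₀ hu0 ?_ <;> rw [mul_zero]
        · linear_combination (B 1 0) * a2 - (A 1 0) * b2
        · refine mul_left_cancel₀ hu0 ?_
          rw [mul_zero]
          linear_combination (G 0 0 * B 0 1) * a1 - (G 0 0 * A 0 1) * b1
            + (2 * G 0 1) * ((B 1 0) * a2 - (A 1 0) * b2)
        · linear_combination (B 1 0) * a1 - (A 1 0) * b1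
    obtain ⟨k1, k2, k3⟩ := key
    ext i j
    fin_cases i <;> fin_cases j <;>
      simp only [Matrix.mul_apply, Fin.sum_univ_two, Fin.zero_eta, Fin.mk_one] <;>
      first | linear_combination k1 | linear_combination -k1 | linear_combination k2 |
        linear_combination -k2 | linear_combination k3 | linear_combination -k3⟩⟩
  haveI : Group.IsSolvable φ.ker := Group.isSolvable_of_comm fun x y => Std.Commutative.comm x y
  exact Group.isSolvable_of_ker_le_range φ.ker.subtype φ (by rw [Subgroup.range_subtype])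

theorem isSolvable_gramFix_two_two [Fintype F] (hq : Fintype.card F = 2) (σ : F ≃+* F)
    (G : Matrix (Fin 2) (Fin 2) F) : Group.IsSolvable (gramFix σ G) := by
  haveI : Group.IsSolvable (GL (Fin 2) F) := by
    refine S0144.result 2 3 1 1 Nat.prime_two Nat.prime_three ?_
    rw [Matrix.card_GL_field, hq]
    simp
  infer_instance

variable {Q : (ι → F) → F} {H : Subgroup (GL ι F)}

lemma formSpace_polar_two (hQ : IsNondegenerateQuadraticForm Q) (h2 : (2 : F) = 0) :
    FormSpace (RingEquiv.refl F) (-1) (QuadraticMap.polar Q) := by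
  rw [show (-1 : F) = 1 by linear_combination -h2]
  exact formSpace_polar hQ

lemma polar_self_zero (hQ : IsNondegenerateQuadraticForm Q) (h2 : (2 : F) = 0) (v : ι → F) :
    QuadraticMap.polar Q v v = 0 := by
  rw [← two_mul_quad hQ, h2, zero_mul]

/-- The tensor case. -/
lemma EvenOutcome.of_tensor [Fintype F] [Nonempty ι] (hQ : IsNondegenerateQuadraticForm Q)
    (hdim : 4 ≤ Fintype.card ι) (hHQ : FixesQuadForm (matrixSet H) Q)
    (hirr : ActsIrreducibly (matrixSet H)) {a b : ℕ} {e : ι ≃ Fin a × Fin b} {P : GL ι F}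
    {G₁ : Matrix (Fin a) (Fin a) F} {G₂ : Matrix (Fin b) (Fin b) F} {c₁ c₂ : F}
    (d : TensorFormData (RingEquiv.refl F) 1 (QuadraticMap.polar Q) H a b e P G₁ G₂ c₁ c₂)
    (hc : c₁ * c₂ = 1) : EvenOutcome Q H := by
  have h := formSpace_polar hQ
  have hH := fixesForm_polar hHQ
  -- two symplectic factors
  have mk : ∀ {a b : ℕ} {e : ι ≃ Fin a × Fin b} {P : GL ι F} {G₁ : Matrix (Fin a) (Fin a) F}
      {G₂ : Matrix (Fin b) (Fin b) F} {c₁ c₂ : F},
      TensorFormData (RingEquiv.refl F) 1 (QuadraticMap.polar Q) H a b e P G₁ G₂ c₁ c₂ →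
      IsSymplecticForm (formOfGram (RingEquiv.refl F) G₁) →
      IsSymplecticForm (formOfGram (RingEquiv.refl F) G₂) →
      (∀ (u : Fin a → F) (v : Fin b → F),
        Q ((P : Matrix ι ι F) *ᵥ ((fun p : Fin a × Fin b => u p.1 * v p.2) ∘ e)) = 0) →
      EvenOutcome Q H := by
    intro a b e P G₁ G₂ c₁ c₂ d hs1 hs2 hQ0
    have hev1 := even_card_of_symplectic hs1
    have hev2 := even_card_of_symplectic hs2
    rw [Fintype.card_fin] at hev1 hev2
    rcases le_total a b with hab | hab
    · exact .tensorSymp a b e P _ _ d.two_le₁ hab hev1 hev2 d.card hs1 hs2 (d.structureEq h) hQ0 d.le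
    · refine .tensorSymp b a (e.trans (Equiv.prodComm _ _)) P _ _ d.two_le₂ hab hev2 hev1
        (by rw [mul_comm]; exact d.card) hs2 hs1 (d.swap.structureEq h) (fun u v => ?_) d.swap.le
      rw [show ((fun p : Fin b × Fin a => u p.1 * v p.2) ∘ (e.trans (Equiv.prodComm _ _)))
          = (fun p : Fin a × Fin b => v p.1 * u p.2) ∘ e from funext fun i => mul_comm _ _]
      exact hQ0 v u
  by_cases h2 : (2 : F) = 0
  · haveI : CharP F 2 := CharTwo.of_one_ne_zero_of_two_eq_zero one_ne_zero h2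
    have d' : TensorFormData (RingEquiv.refl F) (-1) (QuadraticMap.polar Q) H a b e P G₁ G₂ c₁ c₂ := by
      rw [show (-1 : F) = 1 by linear_combination -h2]; exact d
    obtain ⟨⟨hd1, hd2⟩, Q', hQ', hpol, hH', hQ0⟩ :=
      d'.char_two_strong (formSpace_polar_two hQ h2) (polar_self_zero hQ h2) h2 hH hirr
    have hQQ := quad_eq_of_invariant h2 (by omega) hirr hQ.smul hQ'.smul hpol hHQ hH'
    subst hQQ
    have hskew : ∀ {n : ℕ} {G : Matrix (Fin n) (Fin n) F}, 0 < n → IsUnit G → (∀ i, G i i = 0) →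
        ∀ {c : F}, Gᵀ = c • G.map (RingEquiv.refl F) →
        IsSymplecticForm (formOfGram (RingEquiv.refl F) G) := by
      intro n G hn hu hd c hG
      refine isSymplecticForm_formOfGram hu (fun i j => ?_) hd
      rw [CharTwo.neg_eq]
      rcases bilinear_sign hn hu hG with ⟨-, hs⟩ | ⟨-, hs⟩ <;>
        have := congrFun (congrFun hs j) i
      · simpa using this
      · simpa [CharTwo.neg_eq] using this
    exact mk d (hskew (by have := d.two_le₁; omega) d.unit₁ hd1 d.herm₁)
      (hskew (by have := d.two_le₂; omega) d.unit₂ hd2 d.herm₂) hQ0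
  have ha := d.two_le₁
  have hb := d.two_le₂
  -- two symmetric factors
  have key : ∀ {a b : ℕ} {e : ι ≃ Fin a × Fin b} {P : GL ι F} {G₁ : Matrix (Fin a) (Fin a) F}
      {G₂ : Matrix (Fin b) (Fin b) F} {c₁ c₂ : F},
      TensorFormData (RingEquiv.refl F) 1 (QuadraticMap.polar Q) H a b e P G₁ G₂ c₁ c₂ →
      G₁ᵀ = G₁ → G₂ᵀ = G₂ → a ≠ 2 → a ≤ b ∨ b = 2 → EvenOutcome Q H := by
    intro a b e P G₁ G₂ c₁ c₂ d hs1 hs2 ha2 hab
    have ha := d.two_le₁
    by_cases hb2 : b = 2
    · subst hb2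
      rcases d.symmetric_two h h2 (le_similarityGroup_of_fixes hH) hs2 with
        ⟨K, hK, hA, hns, hle⟩ | ⟨k, D, hk, hD, hts, hle⟩
      · have hA' : AdjClosed (RingEquiv.refl F) (QuadraticMap.polar Q) K := by
          intro X hX
          obtain ⟨X', hX', hspec⟩ := hA X hX
          rwa [h.adj_unique hspec]
        refine .fieldU K hK hA hns (field_similar hQ hHQ (by omega) (fun h0 => absurd h0 h2) hK hA'
          ?_ hle) hle
        by_contra hall
        push Not at hall
        exact hns ((isSelfAdjointFor_iff h).mpr hall)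
      · refine .tsPair k D hk hD (fun i w hw => mul_left_cancel₀ h2 ?_) hle
        rw [two_mul_quad hQ, hts i w hw w hw, mul_zero]
    · exact .tensorSym a b e P _ _ h2 (by omega) (hab.resolve_right hb2) d.card
        (isSymmetricForm_formOfGram d.unit₁ hs1) (isSymmetricForm_formOfGram d.unit₂ hs2)
        (d.structureEq h) d.le
  rcases bilinear_sign (by omega) d.unit₁ d.herm₁ with ⟨e1, hs1⟩ | ⟨e1, hs1⟩ <;>
    rcases bilinear_sign (by omega) d.unit₂ d.herm₂ with ⟨e2, hs2⟩ | ⟨e2, hs2⟩
  · by_cases ha2 : a = 2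
    · by_cases hb2 : b = 2
      · subst hb2
        rcases d.symmetric_two h h2 (le_similarityGroup_of_fixes hH) hs2 with
          ⟨K, hK, hA, hns, hle⟩ | ⟨k, D, hk, hD, hts, hle⟩
        · have hA' : AdjClosed (RingEquiv.refl F) (QuadraticMap.polar Q) K := by
            intro X hX
            obtain ⟨X', hX', hspec⟩ := hA X hX
            rwa [h.adj_unique hspec]
          refine .fieldU K hK hA hns (field_similar hQ hHQ (by omega) (fun h0 => absurd h0 h2) hK
            hA' ?_ hle) hle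
          by_contra hall
          push Not at hall
          exact hns ((isSelfAdjointFor_iff h).mpr hall)
        · refine .tsPair k D hk hD (fun i w hw => mul_left_cancel₀ h2 ?_) hle
          rw [two_mul_quad hQ, hts i w hw w hw, mul_zero]
      · exact key d.swap hs2 hs1 hb2 (Or.inr ha2)
    · rcases le_total a b with hab | hab
      · exact key d hs1 hs2 ha2 (Or.inl hab)
      · by_cases hb2 : b = 2
        · exact key d hs1 hs2 ha2 (Or.inr hb2)
        · exact key d.swap hs2 hs1 hb2 (Or.inl hab)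
  · rw [e1, e2, one_mul] at hc; exact absurd (by linear_combination -hc) h2
  · rw [e1, e2, mul_one] at hc; exact absurd (by linear_combination -hc) h2
  · have hf1 := isSymplecticForm_of_skew h2 d.unit₁ hs1
    have hf2 := isSymplecticForm_of_skew h2 d.unit₂ hs2
    refine mk d hf1 hf2 fun u v => mul_left_cancel₀ h2 ?_
    obtain ⟨c, -, hst⟩ := d.structureEq h
    have e3 := hst (fun p => u p.1 * v p.2) (fun p => u p.1 * v p.2)
    rw [two_mul_quad hQ, e3, mul_zero, gram_formOfGram, gram_formOfGram, formOfGram_eq,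
      show ((RingEquiv.refl F : F ≃+* F) ∘ fun p : Fin a × Fin b => u p.1 * v p.2)
        = fun p : Fin a × Fin b => u p.1 * v p.2 from rfl]
    have e4 : (fun p : Fin a × Fin b => u p.1 * v p.2) ⬝ᵥ
        ((G₁ ⊗ₖ G₂) *ᵥ fun p : Fin a × Fin b => u p.1 * v p.2)
        = (u ⬝ᵥ (G₁ *ᵥ u)) * (v ⬝ᵥ (G₂ *ᵥ v)) := by
      have e1 : ((G₁ ⊗ₖ G₂) *ᵥ fun p : Fin a × Fin b => u p.1 * v p.2)
          = fun p : Fin a × Fin b => (G₁ *ᵥ u) p.1 * (G₂ *ᵥ v) p.2 := by
        funext p
        simp only [Matrix.mulVec, dotProduct, Matrix.kroneckerMap_apply, Fintype.sum_prod_type,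
          Finset.sum_mul_sum]
        exact Finset.sum_congr rfl fun i _ => Finset.sum_congr rfl fun l _ => by ring
      rw [e1]
      simp only [dotProduct, Fintype.sum_prod_type, Finset.sum_mul_sum]
      exact Finset.sum_congr rfl fun i _ => Finset.sum_congr rfl fun l _ => by ring
    rw [e4, dotProduct_mulVec_self_of_symplectic hf1, zero_mul, mul_zero]

/-- The tensor power case. -/
lemma EvenOutcome.of_power [Fintype F] [Nonempty ι] (hQ : IsNondegenerateQuadraticForm Q)
    (hdim : 4 ≤ Fintype.card ι) (hev : Even (Fintype.card ι))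
    (hHQ : FixesQuadForm (matrixSet H) Q) (hirr : ActsIrreducibly (matrixSet H)) {t k : ℕ}
    {A : Fin t → Subalgebra F (Matrix ι ι F)} (hA : TensorPowerData (H ⊔ scalars ι F) t k A) :
    EvenOutcome Q H := by
  have h := formSpace_polar hQ
  have hH := fixesForm_polar hHQ
  obtain ⟨e, P, G₀, i₀, d₀, hslot⟩ :=
    h.exists_powerFormData_of_tensorPower hA (h.sup_scalars_le_similarity hH)
  have d : PowerFormData (RingEquiv.refl F) (QuadraticMap.polar Q) H k t e P G₀ :=
    { d₀ with le := le_sup_left.trans d₀.le }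
  have hk := d.two_le_k
  have hkev : Even k := by
    rw [← d.card, Nat.even_pow] at hev
    exact hev.1
  have hsolv : Group.IsSolvable (gramFix (RingEquiv.refl F) G₀) → False := by
    intro hsol
    obtain ⟨D, hDH, hperf, hns, henv⟩ := hA.perfect i₀
    exact hns (d.no_perfect h hsol
      (fun s hs => by
        obtain ⟨x, hx, rfl⟩ := hs
        exact hH _ (mem_matrixSet (le_of_perfect hDH hperf hx)))
      hperf i₀ fun x hx => hslot _ (henv (val_mem_env hx)))
  have hsmall : ¬ (Fintype.card F ≤ 3 ∧ k = 2) := by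
    rintro ⟨hq, rfl⟩
    have := Fintype.one_lt_card (α := F)
    rcases (show Fintype.card F = 2 ∨ Fintype.card F = 3 by omega) with hq | hq
    · exact hsolv (isSolvable_gramFix_two_two hq _ _)
    · exact hsolv (isSolvable_gramFix_three_two hq _ _)
  by_cases h2 : (2 : F) = 0
  · haveI : CharP F 2 := CharTwo.of_one_ne_zero_of_two_eq_zero one_ne_zero h2
    obtain ⟨hdiag, Q', hQ', hpol, hH', hQ0⟩ :=
      d.char_two_strong (formSpace_polar_two hQ h2) (polar_self_zero hQ h2) h2 hH
    have hQQ := quad_eq_of_invariant h2 (by omega) hirr hQ.smul hQ'.smul hpol hHQ hH'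
    subst hQQ
    obtain ⟨c, hG, -, -⟩ := d.exists_herm h
    have hskew : ∀ i j, G₀ i j = -G₀ j i := fun i j => by
      rw [CharTwo.neg_eq]
      rcases bilinear_sign (by omega) d.unit hG with ⟨-, hs⟩ | ⟨-, hs⟩ <;>
        have := congrFun (congrFun hs j) i
      · simpa using this
      · simpa [CharTwo.neg_eq] using this
    exact .powerSymp k t e P _ hk hkev d.two_le_t (fun hne => absurd h2 hne) hsmall d.card
      (isSymplecticForm_formOfGram d.unit hskew hdiag) (d.structureEq h) hQ0 d.le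
  obtain ⟨c, hG, -, hct⟩ := d.exists_herm h
  have hct' := hct rfl
  rcases bilinear_sign (by omega) d.unit hG with ⟨-, hs⟩ | ⟨e1, hs⟩
  · refine .powerSym k t e P _ h2 ?_ hkev d.two_le_t d.card (isSymmetricForm_formOfGram d.unit hs)
      (d.structureEq h) d.le
    by_contra hk4
    obtain rfl : k = 2 := by obtain ⟨j, hj⟩ := hkev; omega
    exact hsolv (isSolvable_gramFix_symmetric_two d.unit hs h2)
  have ht : Even t := by
    rw [← Nat.not_odd_iff_even]
    intro hodd
    rw [e1, hodd.neg_one_pow] at hct'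
    exact h2 (by linear_combination -hct')
  have hf := isSymplecticForm_of_skew h2 d.unit hs
  refine .powerSymp k t e P _ hk hkev d.two_le_t (fun _ => ht) hsmall d.card hf (d.structureEq h)
    (fun u => mul_left_cancel₀ h2 ?_) d.le
  obtain ⟨c', -, hG'⟩ := d.gram
  rw [two_mul_quad hQ, mul_zero,
    show QuadraticMap.polar Q _ _ = coordForm e P (QuadraticMap.polar Q) (pureVec u) (pureVec u) from rfl,
    (h.coord e P).sesq.eq_formOfGram, hG', formOfGram_eq,
    show ((RingEquiv.refl F : F ≃+* F) ∘ pureVec u : (Fin t → Fin k) → F) = pureVec u from rfl,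
    Matrix.smul_mulVec, dotProduct_smul, smul_eq_mul, pureMat_mulVec, pureVec_dot,
    Finset.prod_eq_zero (Finset.mem_univ (⟨0, by have := d.two_le_t; omega⟩ : Fin t))
      (dotProduct_mulVec_self_of_symplectic hf _), mul_zero]

/-- The case of a group of symplectic type. -/
lemma EvenOutcome.of_sympData [Fintype F] [Nonempty ι] (hQ : IsNondegenerateQuadraticForm Q)
    (hdim : 4 ≤ Fintype.card ι) {r m z : ℕ}
    {R : Subgroup (GL ι F)}
    (d : IsoSympData (RingEquiv.refl F) (QuadraticMap.polar Q) H r m z R) : EvenOutcome Q H := by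
  have h := formSpace_polar hQ
  obtain ⟨hr2, h2⟩ := d.bilinear_prime
  subst hr2
  have hRQ : FixesQuadForm (matrixSet R) Q := fun s hs v => mul_left_cancel₀ h2 (by
    rw [two_mul_quad hQ, two_mul_quad hQ, d.fixes s hs])
  by_cases hsub : ∃ F₀ : Subfield F, F₀ ≠ ⊤
  · obtain ⟨F₀, hne⟩ := hsub
    obtain ⟨F₁, r', B, ζ, hr', hF₁, hζ, -, hrat, hle, hB⟩ :=
      h.subfield_case d.absIrred d.normal d.fixes hne (d.realisable_of_bilinear F₀)
    exact .subfld F₁ r' B ζ hr' hF₁ hζ
      (quad_rational_of_real hQ (by omega) d.absIrred hRQ hrat hB) hle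
  push Not at hsub
  have hp : (Fintype.card F).Prime := by
    by_contra hp
    exact bot_ne_top_of_not_prime hp (hsub ⊥)
  have hroots := d.card_roots_bilinear
  refine .symp R (Fintype.card F) m d.sympType d.absIrred (le_similarityGroup_of_fixes d.fixes) hRQ
    hp (odd_card_iff.mpr h2) rfl
    (by rw [d.card_R, hroots, pow_add, pow_one]) (by rw [d.card_center, hroots]) d.card_eq
    (le_subgroupNormalizer_of_normalises d.normal)

/-- Aschbacher's theorem for orthogonal groups in even dimension. -/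
theorem even_orthogonal_aschbacher [Fintype F] (hQ : IsNondegenerateQuadraticForm Q)
    (hev : Even (Fintype.card ι)) (hdim : 4 ≤ Fintype.card ι)
    (hHQ : FixesQuadForm (matrixSet H) Q) : EvenOutcome Q H := by
  classical
  haveI : Nonempty ι := Fintype.card_pos_iff.mp (by omega)
  have h := formSpace_polar hQ
  have hH := fixesForm_polar hHQ
  by_cases hirr : ActsIrreducibly (matrixSet H)
  swap
  · rcases h.reducible_cases hH hirr with ⟨W, h0, hts, hle⟩ | ⟨W, h0, hnd, hk, hle⟩ |
      ⟨k, D, hk, hD, hle⟩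
    · rcases ts_or_point hQ hHQ h0 hts hle with ⟨W', h0', hts', hle'⟩ | ⟨h2, v, hv, hle'⟩
      · exact .ts W' h0' hts' hle'
      · exact .point v h2 hv hle'
    · refine .nd W h0 (fun htop => ?_) hnd hk hle
      rw [htop, finrank_top, Module.finrank_fintype_fun_eq_card] at hk
      omega
    · by_cases hiso : AreIsometricFor Q (D 0) (D 1)
      · refine .decomp 2 k D (by omega) ⟨hD, fun i j => ?_⟩ hk hle
        have hrefl : ∀ W : Submodule F (ι → F), AreIsometricFor Q W W :=
          fun W => ⟨LinearEquiv.refl F W, fun w => rfl⟩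
        have hsymm : AreIsometricFor Q (D 1) (D 0) := by
          obtain ⟨E, hE⟩ := hiso
          refine ⟨E.symm, fun w => ?_⟩
          have := hE (E.symm w)
          rw [E.apply_symm_apply] at this
          exact this.symm
        fin_cases i <;> fin_cases j
        exacts [hrefl _, hiso, hsymm, hrefl _]
      · refine .pair k D hk hD hiso (fun i g hg => ?_) hle
        obtain ⟨π, hπ⟩ := hle hg
        have hπ0 : π 0 = 0 := by
          by_contra h0
          have h1 : π 0 = 1 := by omega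
          refine hiso (areIsometricFor_of_map (fun v => hHQ _ (mem_matrixSet hg) v) ?_)
          rw [hπ 0, h1]
        have hπi : π i = i := by
          fin_cases i
          · exact hπ0
          · show π 1 = 1
            have : π 1 ≠ 0 := fun h1 => absurd (π.injective (h1.trans hπ0.symm)) (by decide)
            omega
        have h5 := hπ i
        rw [hπi] at h5
        exact (le_subspaceStabilizer (H := Subgroup.closure {g}) fun x hx v hv => by
          induction hx using Subgroup.closure_induction generalizing v with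
          | mem y hy =>
            obtain rfl := hy
            rw [← h5, ← Matrix.toLin'_apply]
            exact Submodule.mem_map_of_mem hv
          | one => simpa using hv
          | mul y z _ _ hy hz => rw [Units.val_mul, ← Matrix.mulVec_mulVec]; exact hy _ (hz _ hv)
          | inv y _ hy =>
            have hb : (D i).map (Matrix.toLin' (y : Matrix ι ι F)) = D i :=
              Submodule.eq_of_le_of_finrank_eq (by
                rintro _ ⟨w, hw, rfl⟩; rw [Matrix.toLin'_apply]; exact hy _ hw)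
                (LinearEquiv.finrank_eq (Submodule.equivMapOfInjective _ (fun a b hab =>
                  Matrix.mulVec_injective_iff_isUnit.mpr y.isUnit (by
                    simpa only [Matrix.toLin'_apply] using hab)) _)).symm
            obtain ⟨w, hw, rfl⟩ := (hb.symm ▸ hv : v ∈ (D i).map _)
            rw [Matrix.toLin'_apply, Matrix.mulVec_mulVec, Units.inv_mul, Matrix.one_mulVec]
            exact hw) (Subgroup.mem_closure_singleton_self g)
  set H' := H ⊔ scalars ι F with hH'
  have hHle : H ≤ H' := le_sup_left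
  obtain ⟨N, hZN, hNH, hNn, hmin, hcases⟩ := structure_theorem H' (actsIrreducibly_mono hHle hirr)
    le_sup_right (by omega)
  have hAdj : AdjClosed (RingEquiv.refl F) (QuadraticMap.polar Q) (env N) :=
    h.adjClosed_env (hNH.trans (h.sup_scalars_le_similarity hH))
  have hNA : H' ≤ subalgebraNormalizer (env N) :=
    le_subalgebraNormalizer fun g hg X hX => cj_mem_env (fun x hx => hNn g hg x hx) hX
  rcases hcases with ⟨t, e, he⟩ | ⟨d, hd, hK⟩ | ⟨a, ha1, ha2, ⟨φ⟩⟩ | ⟨-, hrest⟩
  · rcases h.imprimitive_cases hH hAdj he with ⟨t', m, D, hD, hcard, hle, htrans⟩ |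
      ⟨k, D, hk, hD, hts, hle⟩
    swap
    · exact .tsPair k D hk hD (pair_singular hQ hHQ hirr (by omega) hk hD hts hle) hle
    have hiso : IsOrthogonalMDecomposition Q m D := ⟨hD, fun i j => by
      obtain ⟨g, hg, hij⟩ := htrans i j
      exact areIsometricFor_of_map (fun v => hHQ _ (mem_matrixSet hg) v) hij⟩
    by_cases hm : m = 1
    swap
    · exact .decomp t' m D (by have := hD.decomp.pos; omega) hiso hcard hle
    subst hm
    rw [mul_one] at hcard
    subst hcard
    have h2 : (2 : F) ≠ 0 := by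
      intro h2
      let i₀ : Fin (Fintype.card ι) := ⟨0, by omega⟩
      obtain ⟨w, hw, hw0⟩ := (D i₀).exists_mem_ne_zero_of_ne_bot fun hb => by
        have := hD.decomp.finrank_eq i₀
        rw [hb, finrank_bot] at this; exact zero_ne_one this
      obtain ⟨⟨x, hx, hxw⟩, -⟩ := hD.nondegenerate i₀ w hw hw0
      have hsp : D i₀ = F ∙ w :=
        (Submodule.eq_of_le_of_finrank_eq ((Submodule.span_singleton_le_iff_mem _ _).2 hw)
          (by rw [finrank_span_singleton hw0, hD.decomp.finrank_eq])).symm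
      rw [hsp, Submodule.mem_span_singleton] at hx
      obtain ⟨c, rfl⟩ := hx
      apply hxw
      rw [hQ.polar_bilinear.smul_left, polar_self_zero hQ h2, mul_zero]
    by_cases hp : (Fintype.card F).Prime
    · exact .frame D hp h2 hiso hle
    obtain ⟨F₁, r, B, ζ, hr, hF, hζ, hrat, hle'⟩ :=
      frame_subfield_even hQ h2 hHQ hp hiso rfl hle
    exact .subfld F₁ r B ζ hr hF hζ hrat hle'
  · obtain ⟨r, L, hr, hdvd, hLK, hL, hLA, hLn⟩ :=
      h.exists_prime_field hd hK (h.adjClosed_centre hAdj)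
    have hHL : H ≤ subalgebraNormalizer L := hHle.trans ((normalizer_centre_le hNA).trans hLn)
    by_cases hsa : ∀ X ∈ L, adj (RingEquiv.refl F) (QuadraticMap.polar Q) X = X
    · refine .fieldSA r L hr hdvd (h.field_degree_ne hH hNH hd hK hLK hL hsa) hL
        ((isSelfAdjointFor_iff h).mpr hsa) (fun h2 => ?_) hHL
      have halt := (formSpace_polar_two hQ h2).field_alternating (polar_self_zero hQ h2) hH hirr hL
        hHL hsa
      exact ⟨field_dvd_half hQ hL hr.pos ((isSelfAdjointFor_iff h).mpr hsa) halt, halt⟩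
    obtain rfl : r = 2 := (((h.field_parity hL hr hLA).2 rfl)).resolve_left hsa
    push Not at hsa
    exact .fieldU L hL (isAdjointClosedFor h hLA)
      (fun hh => by
        obtain ⟨k₀, hk₀, hne⟩ := hsa
        exact hne ((isSelfAdjointFor_iff h).mp hh _ hk₀))
      (field_similar hQ hHQ (by omega) (fun _ => hirr) hL hLA hsa hHL) hHL
  · obtain ⟨b, e, P, G₁, G₂, c₁, c₂, d, hc⟩ :=
      h.exists_tensorFormData (by omega) ha2 (env N) hAdj (hHle.trans hNA) φ
    exact EvenOutcome.of_tensor hQ hdim hHQ hirr d hc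
  rcases hrest with ⟨r, m, z, R, hd⟩ | ⟨t, k, A, hA⟩ | hcore
  · obtain ⟨R₁, hR₁⟩ := h.exists_isoSympData (by omega) hH hNH hmin hNn hZN hd
    exact EvenOutcome.of_sympData hQ hdim hR₁
  · exact EvenOutcome.of_power hQ hdim hev hHQ hirr hA
  -- the almost simple case
  set P := ⁅N, N⁆
  have hP := hcore.absIrred
  have hPH : P ≤ H := le_of_perfect hcore.le hcore.perfect
  have hPf : FixesForm (matrixSet P) (QuadraticMap.polar Q) := by
    rintro _ ⟨x, hx, rfl⟩; exact hH _ (mem_matrixSet (hPH hx))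
  have hPQ : FixesQuadForm (matrixSet P) Q := by
    rintro _ ⟨x, hx, rfl⟩; exact hHQ _ (mem_matrixSet (hPH hx))
  have hn : ∀ g ∈ H, ∀ x ∈ P, g * x * g⁻¹ ∈ P := fun g hg => hcore.normal g (hHle hg)
  have hsubf : ∀ {F₀ : Subfield F}, F₀ ≠ ⊤ → RealisableOver F₀ (matrixSet P) → EvenOutcome Q H := by
    intro F₀ hne hreal
    obtain ⟨F₁, r, B, ζ, hr, hF, hζ, -, hrat, hle, hB⟩ := h.subfield_case hP hn hPf hne hreal
    exact .subfld F₁ r B ζ hr hF hζ (quad_rational_of_real hQ (by omega) hP hPQ hrat hB) hle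
  rcases residualCore_or_subfield hcore with hres | ⟨F₀, hne, hreal⟩
  swap
  · exact hsubf hne hreal
  by_cases hu : ∃ (σ : F ≃+* F) (g : (ι → F) → (ι → F) → F), IsUnitaryForm σ g ∧
      FixesForm (matrixSet P) g
  · obtain ⟨σ, g, hg, hfix⟩ := hu
    exact hsubf (eqLocusField_ne_top hg.ne_refl) (descent_of_forms hP (isSesq_of_unitary hg)
      hg.nondegenerate h.sesq h.nondeg hfix hPf)
  exact .residual ⟨P, hres, hu⟩

/-- In characteristic two the non-degenerate subspaces have even dimension. -/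
lemma even_finrank_of_char_two (hQ : IsNondegenerateQuadraticForm Q) (h2 : (2 : F) = 0)
    {W : Submodule F (ι → F)} (hW : IsNondegenerateOn (QuadraticMap.polar Q) W) :
    Even (Module.finrank F W) :=
  Symplectic.Asch.even_finrank_of_nondegenerate (formSpace_polar_two hQ h2)
    (polar_self_zero hQ h2) hW

end Cfsg.Agent.Aschbacher
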