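/-
Over the field with four elements the normaliser of a cubic field in SL_3 lies in a subfield group.
-/
import Cfsg.Agent.Aschbacher.Subfield
import Cfsg.Agent.Aschbacher.FieldSub

set_option autoImplicit false
set_option maxHeartbeats 1000000
set_option linter.unusedSectionVars false
set_option linter.style.haveILetI false

namespace Cfsg.Agent.Aschbacher

open scoped MatrixGroups Matrix
open Cfsg.Geo

variable {ι : Type} [Fintype ι] [DecidableEq ι] {F : Type*} [Field F]

/-- An invertible matrix with entries in a subfield comes from the subfield. -/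
lemma mem_map_range (F₀ : Subfield F) {g : GL ι F} (h : ∀ i j, (g : Matrix ι ι F) i j ∈ F₀) :
    g ∈ (Matrix.GeneralLinearGroup.map (F₀.subtype : F₀ →+* F) : GL ι F₀ →* GL ι F).range := by
  let M : Matrix ι ι F₀ := Matrix.of fun i j => ⟨_, h i j⟩
  have hM : M.map F₀.subtype = (g : Matrix ι ι F) := Matrix.ext fun i j => rfl
  have hd : M.det ≠ 0 := fun h0 => by
    have hg := ((Matrix.isUnit_iff_isUnit_det _).mp g.isUnit).ne_zero
    rw [← hM, show M.map F₀.subtype = F₀.subtype.mapMatrix M from rfl, ← RingHom.map_det, h0,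
      map_zero] at hg
    exact hg rfl
  exact ⟨Matrix.GeneralLinearGroup.mkOfDetNeZero M hd, Units.ext hM⟩

theorem fieldNormalizer_four [Fintype F] (hq : Fintype.card F = 4) (h3 : Fintype.card ι = 3)
    {K : Subalgebra F (Matrix ι ι F)} (hK : IsFieldSubalgebra 3 K) :
    ∃ (F₀ : Subfield F) (P : GL ι F), Fintype.card F = Nat.card F₀ ^ 2 ∧
      subalgebraNormalizer K ⊓ specialLinear ι F ≤ subfieldSubgroup F₀ P := by
  classical
  haveI : Nonempty ι := Fintype.card_pos_iff.mp (by omega)
  letI := (isField_of_isFieldSubalgebra hK).toField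
  haveI : Finite K := Module.finite_of_finite F
  haveI : Fintype K := Fintype.ofFinite K
  have hcardK : Nat.card K = 64 := by
    rw [Module.natCard_eq_pow_finrank (K := F) (V := K), hK.finrank_eq, Nat.card_eq_fintype_card,
      hq]
    norm_num
  haveI : Fact (Nat.Prime 2) := ⟨Nat.prime_two⟩
  haveI : CharP F 2 := by
    obtain ⟨p, hp⟩ := CharP.exists F
    obtain ⟨k, hk, hcard⟩ := FiniteField.card F p
    have hdvd : p ∣ 2 ^ 2 := by
      rw [show (2 : ℕ) ^ 2 = Fintype.card F by rw [hq]; norm_num, hcard]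
      exact dvd_pow_self p k.pos.ne'
    exact (Nat.prime_dvd_prime_iff_eq hk Nat.prime_two).mp (hk.dvd_of_dvd_pow hdvd) ▸ hp
  haveI : CharP K 2 := charP_of_injective_algebraMap (algebraMap F K).injective 2
  let F₀ : Subfield F := frobFixed 2 1
  have hF₀card : Nat.card F₀ = 2 := by
    have h := card_frobFixed (F := F) (p := 2) (e := 1) (f := 2) (by rw [hq]; norm_num)
      (one_dvd _) one_pos
    rwa [pow_one] at h
  have hF₀ : ∀ c : F, c ^ 8 = c → c ∈ F₀ := fun c hc => by
    rw [mem_frobFixed]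
    have h4 : c ^ 4 = c := by have := FiniteField.pow_card c; rwa [hq] at this
    calc c ^ (2 ^ 1) = c ^ 4 * c ^ 4 := by rw [h4, pow_one, sq]
      _ = c := by rw [← pow_add]; exact hc
  have hroot : ∀ x : K, x ^ 4 = x → ∃ c : F, x = algebraMap F K c := by
    intro x hx
    by_contra hc
    push Not at hc
    let S : Finset K := insert x (Finset.univ.image (algebraMap F K))
    have hS : S.card = 5 := by
      rw [Finset.card_insert_of_notMem (fun h => by
        obtain ⟨c, -, hc'⟩ := Finset.mem_image.mp h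
        exact hc c hc'.symm),
        Finset.card_image_of_injective _ (algebraMap F K).injective, Finset.card_univ, hq]
    let p : Polynomial K := Polynomial.X ^ 4 - Polynomial.X
    have hdeg : p.natDegree = 4 :=
      FiniteField.X_pow_card_sub_X_natDegree_eq K (by norm_num)
    have hp0 : p ≠ 0 := fun h => by rw [h, Polynomial.natDegree_zero] at hdeg; omega
    have := (Polynomial.card_le_degree_of_subset_roots (p := p) (Z := S) fun y hy => by
      rw [Polynomial.mem_roots hp0]
      rw [Finset.mem_val, Finset.mem_insert, Finset.mem_image] at hy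
      rcases hy with rfl | ⟨c, -, rfl⟩
      · simp [p, hx]
      · have h4 : c ^ 4 = c := by have := FiniteField.pow_card c; rwa [hq] at this
        simp [p, ← map_pow, h4])
    omega
  -- the field and the space
  obtain ⟨v, hv⟩ := exists_ne (0 : ι → F)
  let ev : K →ₗ[F] (ι → F) :=
    ((Matrix.mulVecBilin F F).flip v).comp (Subalgebra.val K).toLinearMap
  have hevinj : Function.Injective ev := by
    rw [← LinearMap.ker_eq_bot, eq_bot_iff]
    intro k hk
    rw [Submodule.mem_bot]
    by_contra hne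
    have h0 : (k : Matrix ι ι F) *ᵥ v = 0 := hk
    obtain ⟨y, hy, hky⟩ := hK.inv k k.2 fun h => hne (Subtype.ext h)
    refine hv ?_
    rw [← Matrix.one_mulVec v, ← hky, hK.comm k k.2 y hy, ← Matrix.mulVec_mulVec, h0,
      Matrix.mulVec_zero]
  have hfin : Module.finrank F K = Module.finrank F (ι → F) := by
    rw [Module.finrank_pi, h3]; exact hK.finrank_eq
  let E : K ≃ₗ[F] (ι → F) := LinearEquiv.ofInjectiveOfFinrankEq ev hevinj hfin
  have hE : ∀ k : K, E k = (k : Matrix ι ι F) *ᵥ v := fun k => rfl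
  -- a seventh root of unity spanning K
  obtain ⟨w, hw7, hw1⟩ : ∃ w : K, w ^ 7 = 1 ∧ w ≠ 1 := by
    haveI : Fact (Nat.Prime 7) := ⟨by norm_num⟩
    obtain ⟨u, hu⟩ := exists_prime_orderOf_dvd_card' (G := Kˣ) 7 (by rw [Nat.card_units, hcardK]; norm_num)
    refine ⟨(u : K), ?_, ?_⟩
    · rw [← Units.val_pow_eq_pow_val, ← hu, pow_orderOf_eq_one, Units.val_one]
    · intro h
      rw [show u = 1 from Units.ext h, orderOf_one] at hu
      omega
  have hw8 : w ^ 8 = w := by rw [pow_succ, hw7, one_mul]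
  have hwF : ∀ c : F, w ≠ algebraMap F K c := by
    intro c hc
    have h4 : c ^ 4 = c := by have := FiniteField.pow_card c; rwa [hq] at this
    have h4' : w ^ 4 = w := by rw [hc, ← map_pow, h4]
    have hw0 : w ≠ 0 := fun h => by rw [h, zero_pow (by norm_num)] at hw7; exact zero_ne_one hw7
    have hw3 : w ^ 3 = 1 := by
      refine mul_right_cancel₀ hw0 ?_
      rw [← pow_succ, one_mul]; exact h4'
    refine hw1 ?_
    calc w = w * (w ^ 3) ^ 2 := by rw [hw3, one_pow, mul_one]
      _ = w ^ 7 := by ring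
      _ = 1 := hw7
  have hli : LinearIndependent F (fun i : Fin 3 => w ^ (i : ℕ)) := by
    have hint : IsIntegral F w := IsIntegral.of_finite F w
    have hdeg : (minpoly F w).natDegree = 3 := by
      have hd : (minpoly F w).natDegree ∣ 3 := hK.finrank_eq ▸ minpoly.degree_dvd hint
      rcases (Nat.dvd_prime (by norm_num : Nat.Prime 3)).mp hd with h | h
      · obtain ⟨c, hc⟩ := minpoly.natDegree_eq_one_iff.mp h
        exact absurd hc.symm (hwF c)
      · exact h
    have := linearIndependent_pow (K := F) w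
    exact this.comp (Fin.cast hdeg.symm) (Fin.cast_injective _)
  let bK : Module.Basis (Fin 3) F K := basisOfLinearIndependentOfCardEqFinrank hli
    (by rw [Fintype.card_fin, hK.finrank_eq])
  have hbK : ∀ i, bK i = w ^ (i : ℕ) := fun i => by simp [bK]
  have hcoord : ∀ k : K, k ^ 8 = k → ∀ i, bK.repr k i ∈ F₀ := by
    intro k hk i
    refine hF₀ _ ?_
    have h1 : k ^ 8 = ∑ i, (bK.repr k i) ^ 8 • bK i := by
      conv_lhs => rw [← bK.sum_repr k]
      rw [show (8 : ℕ) = 2 ^ 3 by norm_num, sum_pow_char_pow]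
      refine Finset.sum_congr rfl fun i _ => ?_
      rw [_root_.smul_pow, hbK, ← pow_mul, mul_comm (i : ℕ), pow_mul, show (2 : ℕ) ^ 3 = 8 by norm_num, hw8]
    rw [hk] at h1
    have h2 := congrArg (fun x => bK.repr x i) h1
    simp only [bK.repr_sum_self] at h2
    exact h2.symm
  let eι : Fin 3 ≃ ι := Fintype.equivOfCardEq (by rw [Fintype.card_fin, h3])
  let bV : Module.Basis ι F (ι → F) := (bK.map E).reindex eι
  have hBdet : IsUnit (Matrix.of fun i j => bV j i).det := by
    have := bV.isUnit_det (Pi.basisFun F ι)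
    have h2 := (Pi.basisFun F ι).isUnit_det bV
    rw [Module.Basis.det_apply] at h2
    exact h2
  let B : GL ι F := Matrix.GeneralLinearGroup.mkOfDetNeZero _ hBdet.ne_zero
  have hBcol : ∀ j, (B : Matrix ι ι F) *ᵥ Pi.single j 1 = bV j := fun j => by
    ext i; simp [B]
  refine ⟨F₀, B, by rw [hq, hF₀card]; norm_num, ?_⟩
  intro g hg
  obtain ⟨hgN, hgS⟩ := Subgroup.mem_inf.mp hg
  -- the semilinear description of g
  have hg1 : ∀ k : K, cj g (k : Matrix ι ι F) ∈ K := fun k => cj_mem_of_mem_normalizer hgN k.2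
  let τ : K → K := fun k => ⟨_, hg1 k⟩
  have hτpow : ∀ (k : K) (n : ℕ), τ (k ^ n) = τ k ^ n := fun k n => Subtype.ext (by
    show cj g ((k ^ n : K) : Matrix ι ι F) = ((τ k ^ n : K) : Matrix ι ι F)
    rw [SubmonoidClass.coe_pow, SubmonoidClass.coe_pow, map_pow])
  set a : K := E.symm ((g : Matrix ι ι F) *ᵥ v) with hadef
  have ha : (a : Matrix ι ι F) *ᵥ v = (g : Matrix ι ι F) *ᵥ v := by
    rw [← hE, hadef, LinearEquiv.apply_symm_apply]
  have hact : ∀ k : K, (g : Matrix ι ι F) *ᵥ E k = E (τ k * a) := fun k => by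
    rw [hE, hE, Matrix.mulVec_mulVec, mul_eq_cj_mul, ← Matrix.mulVec_mulVec, ← ha,
      Matrix.mulVec_mulVec]
    rfl
  have ha0 : a ≠ 0 := fun h => by
    rw [h, ZeroMemClass.coe_zero, Matrix.zero_mulVec] at ha
    refine hv ?_
    have := congrArg (((g⁻¹ : GL ι F) : Matrix ι ι F) *ᵥ ·) ha
    simpa only [Matrix.mulVec_mulVec, ← Units.val_mul, inv_mul_cancel, Units.val_one,
      Matrix.one_mulVec, Matrix.mulVec_zero] using this.symm
  obtain ⟨y, hy, hay⟩ := hK.inv a a.2 fun h => ha0 (Subtype.ext h)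
  let ua : GL ι F := ⟨a, y, hay, by rw [← hK.comm a a.2 y hy]; exact hay⟩
  set g' : GL ι F := ua⁻¹ * g with hg'
  have hentries : ∀ (h : GL ι F) (s : K), s ^ 8 = s →
      (∀ k : K, (h : Matrix ι ι F) *ᵥ E k = E (τ k * s)) →
      ∀ i j, ((B⁻¹ * h * B : GL ι F) : Matrix ι ι F) i j ∈ F₀ := by
    intro h s hs hh i j
    have h1 : ((h * B : GL ι F) : Matrix ι ι F) *ᵥ Pi.single j 1 =
        (B : Matrix ι ι F) *ᵥ (fun i => bK.repr (τ (w ^ ((eι.symm j : Fin 3) : ℕ)) * s) (eι.symm i)) := by
      rw [Units.val_mul, ← Matrix.mulVec_mulVec, hBcol]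
      rw [show bV j = E (w ^ ((eι.symm j : Fin 3) : ℕ)) by simp [bV, hbK], hh]
      conv_lhs => rw [← bK.sum_repr (τ (w ^ ((eι.symm j : Fin 3) : ℕ)) * s), map_sum]
      rw [Matrix.mulVec_eq_sum, ← Equiv.sum_comp eι]
      refine Finset.sum_congr rfl fun i _ => ?_
      rw [map_smul, Equiv.symm_apply_apply]
      ext l
      simp [B, bV, mul_comm]
    have h2 := congrArg (fun x => (((B⁻¹ : GL ι F) : Matrix ι ι F) *ᵥ x) i) h1
    simp only [Matrix.mulVec_mulVec, ← Units.val_mul, inv_mul_cancel, Units.val_one,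
      Matrix.one_mulVec, ← mul_assoc] at h2
    rw [Matrix.mulVec_single_one, Matrix.col_apply] at h2
    rw [h2]
    refine hcoord _ ?_ _
    rw [mul_pow, hs, ← hτpow, ← pow_mul, mul_comm _ 8, pow_mul, hw8]
  have hg'act : ∀ k : K, (g' : Matrix ι ι F) *ᵥ E k = E (τ k * 1) := fun k => by
    rw [hg', Units.val_mul, ← Matrix.mulVec_mulVec, hact, hE, hE, Matrix.mulVec_mulVec, mul_one]
    congr 1
    show y * ((τ k : Matrix ι ι F) * (a : Matrix ι ι F)) = (τ k : Matrix ι ι F)
    rw [hK.comm _ (τ k).2 _ a.2, ← mul_assoc, ← hK.comm a a.2 y hy, hay, one_mul]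
  have he' := hentries g' 1 (one_pow _) hg'act
  -- determinants
  have hdet' : (g' : Matrix ι ι F).det = 1 := by
    have h1 : ((B⁻¹ * g' * B : GL ι F) : Matrix ι ι F).det = (g' : Matrix ι ι F).det := by
      rw [Units.val_mul, Units.val_mul, Matrix.det_mul_right_comm, ← Units.val_mul,
        inv_mul_cancel, Units.val_one, one_mul]
    rw [← h1]
    obtain ⟨M, hM⟩ := mem_map_range F₀ he'
    have h0 : ((B⁻¹ * g' * B : GL ι F) : Matrix ι ι F).det ≠ 0 :=
      ((Matrix.isUnit_iff_isUnit_det _).mp (B⁻¹ * g' * B).isUnit).ne_zero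
    have hmem : ((B⁻¹ * g' * B : GL ι F) : Matrix ι ι F).det ∈ F₀ := by
      rw [← hM]
      show (F₀.subtype.mapMatrix (M : Matrix ι ι F₀)).det ∈ F₀
      rw [← RingHom.map_det]
      exact SetLike.coe_mem _
    rw [mem_frobFixed, pow_one, sq] at hmem
    exact mul_right_cancel₀ h0 (hmem.trans (one_mul _).symm)
  have hdeta : (a : Matrix ι ι F).det = 1 := by
    have hgd : (g : Matrix ι ι F).det = 1 := by
      rw [specialLinear, MonoidHom.mem_ker] at hgS
      simpa using congrArg Units.val hgS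
    have : (g : Matrix ι ι F) = (a : Matrix ι ι F) * (g' : Matrix ι ι F) := by
      rw [hg', show (a : Matrix ι ι F) = (ua : Matrix ι ι F) from rfl, ← Units.val_mul,
        mul_inv_cancel_left]
    rw [this, Matrix.det_mul, hdet', mul_one] at hgd
    exact hgd
  have hnorm : a ^ 21 = 1 := by
    have hn : Algebra.norm F a = 1 := by
      rw [Algebra.norm_apply, ← LinearMap.det_conj (Algebra.lmul F K a) E, ← hdeta,
        ← LinearMap.det_toLin']
      congr 1
      refine LinearMap.ext fun x => ?_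
      obtain ⟨k, rfl⟩ := E.surjective x
      simp only [LinearMap.coe_comp, LinearEquiv.coe_coe, Function.comp_apply,
        LinearEquiv.symm_apply_apply, Matrix.toLin'_apply]
      rw [hE, hE, Matrix.mulVec_mulVec]
      rfl
    have h := FiniteField.algebraMap_norm_eq_pow (K := F) (x := a)
    rw [hn, map_one, hcardK, Nat.card_eq_fintype_card, hq] at h
    exact h.symm
  obtain ⟨c, hc⟩ := hroot (a ^ 7) (by
    rw [← pow_mul, show 7 * 4 = 21 + 7 by norm_num, pow_add, hnorm, one_mul])
  have hc0 : c ≠ 0 := fun h => by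
    rw [h, map_zero] at hc
    exact ha0 (eq_zero_of_pow_eq_zero hc)
  have hs : (a ^ 15) ^ 8 = a ^ 15 := by
    rw [← pow_mul, show 15 * 8 = 21 * 5 + 15 by norm_num, pow_add, pow_mul, hnorm, one_pow, one_mul]
  have hdecomp : algebraMap F K c * a ^ 15 = a := by
    rw [← hc, ← pow_add, show 7 + 15 = 21 + 1 by norm_num, pow_add, hnorm, one_mul, pow_one]
  let z : GL ι F := Units.map (Matrix.scalar ι : F →+* Matrix ι ι F).toMonoidHom (Units.mk0 c hc0)
  have hzval : (z : Matrix ι ι F) = c • (1 : Matrix ι ι F) := by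
    simp [z, Matrix.smul_one_eq_diagonal]
  have hzinv : ((z⁻¹ : GL ι F) : Matrix ι ι F) = c⁻¹ • (1 : Matrix ι ι F) := by
    simp [z, Matrix.smul_one_eq_diagonal]
  have hh : ∀ k : K, ((z⁻¹ * g : GL ι F) : Matrix ι ι F) *ᵥ E k = E (τ k * a ^ 15) := fun k => by
    rw [Units.val_mul, ← Matrix.mulVec_mulVec, hact, hzinv, Matrix.smul_mulVec, Matrix.one_mulVec,
      ← map_smul]
    congr 1
    conv_lhs => rw [← hdecomp]
    rw [← Algebra.smul_def, mul_smul_comm, smul_smul, inv_mul_cancel₀ hc0, one_smul]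
  have hmemM := mem_map_range F₀ (hentries _ _ hs hh)
  refine ⟨B⁻¹ * (z⁻¹ * g) * B * z, Subgroup.mul_mem_sup hmemM ⟨Units.mk0 c hc0, rfl⟩, ?_⟩
  show B * (B⁻¹ * (z⁻¹ * g) * B * z) * B⁻¹ = g
  have hzc : ∀ x : GL ι F, z * x = x * z := fun x => Units.ext (by simp [hzval])
  rw [mul_assoc, mul_assoc, mul_assoc, mul_assoc, hzc B⁻¹]
  simp only [← mul_assoc, mul_inv_cancel, one_mul]
  rw [mul_assoc, ← hzc g, inv_mul_cancel_left]

end Cfsg.Agent.Aschbacher
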