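/-
Dimension nine over four elements: the tensor square of the three-dimensional unitary space lies in
the normaliser of a symplectic-type group of order 243.
-/
import Cfsg.Agent.Aschbacher.FormedPowerTwo

set_option autoImplicit false
set_option linter.unusedSectionVars false
set_option linter.style.haveILetI false
set_option maxHeartbeats 1000000

namespace Cfsg.Agent.Aschbacher

open scoped MatrixGroups Matrix Kronecker
open Cfsg.Geo

variable {F : Type*} [Field F]

/-- A monomial matrix whose permutation is a rotation. -/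
def rotMat (a : Fin 3 → F) (s : Fin 3) : Matrix (Fin 3) (Fin 3) F :=
  Matrix.of fun i j => if j = i + s then a i else 0

lemma rotMat_mul (a b : Fin 3 → F) (s r : Fin 3) :
    rotMat a s * rotMat b r = rotMat (fun i => a i * b (i + s)) (s + r) := by
  ext i j
  simp only [rotMat, Matrix.mul_apply, Matrix.of_apply]
  rw [Finset.sum_eq_single (i + s)]
  · rw [if_pos rfl, mul_ite, mul_zero, add_assoc]
  · intro k _ hk; rw [if_neg hk, zero_mul]
  · simp

lemma rotMat_one : rotMat (fun _ => (1 : F)) 0 = 1 := by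
  ext i j; simp [rotMat, Matrix.one_apply, eq_comm]

lemma rotMat_mulVec (a : Fin 3 → F) (s : Fin 3) (v : Fin 3 → F) (i : Fin 3) :
    (rotMat a s *ᵥ v) i = a i * v (i + s) := by
  simp [rotMat, Matrix.mulVec, dotProduct]

lemma rotMat_det (a : Fin 3 → F) (s : Fin 3) : (rotMat a s).det = a 0 * a 1 * a 2 := by
  fin_cases s <;> simp [rotMat, Matrix.det_fin_three, mul_comm, mul_left_comm, mul_assoc]

/-- The rotation monomial matrices of determinant one. -/
def rotGroup (F : Type*) [Field F] : Subgroup (GL (Fin 3) F) where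
  carrier := {g | ∃ (a : Fin 3 → F) (s : Fin 3), a 0 * a 1 * a 2 = 1 ∧
    (g : Matrix (Fin 3) (Fin 3) F) = rotMat a s}
  one_mem' := ⟨fun _ => 1, 0, by simp, by simp [rotMat_one]⟩
  mul_mem' {x y} hx hy := by
    obtain ⟨a, s, ha, hx⟩ := hx
    obtain ⟨b, r, hb, hy⟩ := hy
    refine ⟨fun i => a i * b (i + s), s + r, ?_, by rw [Units.val_mul, hx, hy, rotMat_mul]⟩
    have : b (0 + s) * b (1 + s) * b (2 + s) = b 0 * b 1 * b 2 := by
      fin_cases s <;> simp [show (2 : Fin 3) + 1 = 0 from rfl, show (1 : Fin 3) + 2 = 0 from rfl,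
        show (2 : Fin 3) + 2 = 1 from rfl, show (1 : Fin 3) + 1 = 2 from rfl] <;> ring
    calc a 0 * b (0 + s) * (a 1 * b (1 + s)) * (a 2 * b (2 + s))
        = (a 0 * a 1 * a 2) * (b (0 + s) * b (1 + s) * b (2 + s)) := by ring
      _ = 1 := by rw [this, ha, hb, one_mul]
  inv_mem' {x} hx := by
    obtain ⟨a, s, ha, hx⟩ := hx
    have ha0 : ∀ i, a i ≠ 0 := fun i h0 => by
      fin_cases i <;> simp_all
    refine ⟨fun i => (a (i - s))⁻¹, -s, ?_, ?_⟩
    · have : a (0 - s) * a (1 - s) * a (2 - s) = a 0 * a 1 * a 2 := by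
        fin_cases s <;> simp [show (0 : Fin 3) - 1 = 2 from rfl, show (0 : Fin 3) - 2 = 1 from rfl,
          show (1 : Fin 3) - 2 = 2 from rfl, show (2 : Fin 3) - 1 = 1 from rfl,
          show (-1 : Fin 3) = 2 from rfl, show (-2 : Fin 3) = 1 from rfl] <;> ring
      rw [← mul_inv, ← mul_inv, this, ha, inv_one]
    · refine Units.inv_eq_of_mul_eq_one_right ?_
      rw [hx, rotMat_mul, add_neg_cancel, ← rotMat_one]
      congr 1
      funext i
      simp [ha0 i]

section four

variable [Fintype F] (hF : Fintype.card F = 2 ^ 2)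
include hF

lemma four_facts : (2 : F) = 0 ∧ (∀ x : F, x ≠ 0 → x ^ 3 = 1) ∧
    (∀ x : F, Unitary.frob hF x = x ^ 2) ∧ ∃ w : F, w ≠ 0 ∧ w ≠ 1 ∧ w ^ 2 + w + 1 = 0 := by
  classical
  have h3 : ∀ x : F, x ≠ 0 → x ^ 3 = 1 := fun x hx => by
    have := FiniteField.pow_card_sub_one_eq_one x hx
    rwa [hF] at this
  have h2 : (2 : F) = 0 := by
    have := FiniteField.cast_card_eq_zero F
    rw [hF] at this
    push_cast at this
    exact mul_self_eq_zero.mp (show (2 : F) * 2 = 0 by linear_combination this)
  refine ⟨h2, h3, fun x => Unitary.frob_apply hF x, ?_⟩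
  obtain ⟨w, hw⟩ : ∃ w : F, w ∉ ({0, 1} : Finset F) := by
    by_contra hh
    push Not at hh
    have h1 := Finset.card_le_card (s := (Finset.univ : Finset F)) fun x _ => hh x
    rw [Finset.card_univ, hF] at h1
    have := Finset.card_le_two (a := (0 : F)) (b := 1)
    omega
  simp only [Finset.mem_insert, Finset.mem_singleton, not_or] at hw
  refine ⟨w, hw.1, hw.2, ?_⟩
  have h5 : (w - 1) * (w ^ 2 + w + 1) = 0 := by linear_combination h3 w hw.1
  exact (mul_eq_zero.mp h5).resolve_left (sub_ne_zero.mpr hw.2)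

lemma three_roots {a b c : F} (h : a * b * c = 1) :
    (a = b ∧ b = c) ∨ (a + b + c = 0 ∧ a ≠ b ∧ b ≠ c ∧ a ≠ c) := by
  obtain ⟨-, h3, -, -⟩ := four_facts hF
  have ha : a ≠ 0 := fun h0 => by simp [h0] at h
  have hb : b ≠ 0 := fun h0 => by simp [h0] at h
  have hc : c ≠ 0 := fun h0 => by simp [h0] at h
  by_cases hab : a = b
  · left
    refine ⟨hab, mul_left_cancel₀ (pow_ne_zero 2 hb) ?_⟩
    rw [← pow_succ, h3 b hb, ← h, hab, sq]
  by_cases hbc : b = c
  · left
    refine absurd ?_ hab
    refine mul_right_cancel₀ (pow_ne_zero 2 hb) ?_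
    rw [← pow_succ', h3 b hb, ← h, ← hbc]; ring
  by_cases hac : a = c
  · left
    refine absurd ?_ hab
    refine mul_right_cancel₀ (pow_ne_zero 2 ha) ?_
    rw [← pow_succ', h3 a ha, ← h, ← hac]; ring
  refine Or.inr ⟨?_, hab, hbc, hac⟩
  have e1 : (a - b) * (a ^ 2 + a * b + b ^ 2) = 0 := by linear_combination h3 a ha - h3 b hb
  have e2 : (a - c) * (a ^ 2 + a * c + c ^ 2) = 0 := by linear_combination h3 a ha - h3 c hc
  have e3 := (mul_eq_zero.mp e1).resolve_left (sub_ne_zero.mpr hab)
  have e4 := (mul_eq_zero.mp e2).resolve_left (sub_ne_zero.mpr hac)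
  have e5 : (b - c) * (a + b + c) = 0 := by linear_combination e3 - e4
  exact (mul_eq_zero.mp e5).resolve_left (sub_ne_zero.mpr hbc)

lemma mem_gramFix_one_iff {x : GL (Fin 3) F} :
    x ∈ gramFix (Unitary.frob hF) (1 : Matrix (Fin 3) (Fin 3) F) ↔
      ∀ u v : Fin 3 → F, ((x : Matrix (Fin 3) (Fin 3) F) *ᵥ u) ⬝ᵥ
        (Unitary.frob hF ∘ ((x : Matrix (Fin 3) (Fin 3) F) *ᵥ v)) = u ⬝ᵥ (Unitary.frob hF ∘ v) := by
  have e : ∀ u v : Fin 3 → F, formOfGram (Unitary.frob hF) (1 : Matrix (Fin 3) (Fin 3) F) u v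
      = u ⬝ᵥ (Unitary.frob hF ∘ v) := fun u v => by rw [formOfGram_eq, Matrix.one_mulVec]
  constructor
  · intro hx u v
    rw [← e, ← e, formOfGram_mulVec, hx]
  · intro hx
    show gtr _ _ _ = _
    have h1 : formOfGram (Unitary.frob hF) (gtr (Unitary.frob hF) 1 (x : Matrix (Fin 3) (Fin 3) F))
        = formOfGram (Unitary.frob hF) 1 := by
      funext u v; rw [← formOfGram_mulVec, e, e, hx]
    have := congrArg gramMatrix h1
    rwa [gram_formOfGram, gram_formOfGram] at this

lemma rotGroup_le_gramFix :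
    rotGroup F ≤ gramFix (Unitary.frob hF) (1 : Matrix (Fin 3) (Fin 3) F) := by
  obtain ⟨-, h3, hσ, -⟩ := four_facts hF
  rintro x ⟨a, s, ha, hx⟩
  rw [mem_gramFix_one_iff hF]
  intro u v
  have hn : ∀ i, a i * a i ^ 2 = 1 := fun i => by
    have h0 : a i ≠ 0 := fun h0 => by fin_cases i <;> simp_all
    rw [← pow_succ', h3 _ h0]
  simp only [hx, dotProduct, Function.comp_apply, rotMat_mulVec, hσ]
  rw [← Equiv.sum_comp (Equiv.addRight s) fun i => u i * v i ^ 2]
  refine Finset.sum_congr rfl fun i _ => ?_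
  simp only [Equiv.coe_addRight]
  linear_combination (u (i + s) * v (i + s) ^ 2) * hn i

/-- The rotation group described without reference to the basis. -/
lemma mem_rotGroup_iff {x : GL (Fin 3) F} :
    x ∈ rotGroup F ↔ x ∈ gramFix (Unitary.frob hF) (1 : Matrix (Fin 3) (Fin 3) F) ∧ x ^ 3 = 1 ∧
      (x : Matrix (Fin 3) (Fin 3) F).det = 1 ∧
      ∀ v : Fin 3 → F, v ⬝ᵥ (Unitary.frob hF ∘ v) ≠ 0 →
        ((x : Matrix (Fin 3) (Fin 3) F) *ᵥ v) ⬝ᵥ (Unitary.frob hF ∘ v) = 0 ∨
        ∃ c : F, (x : Matrix (Fin 3) (Fin 3) F) *ᵥ v = c • v := by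
  obtain ⟨h2, h3, hσ, -⟩ := four_facts hF
  have hnorm : ∀ x : F, x ≠ 0 → x * x ^ 2 = 1 := fun x hx => by rw [← pow_succ', h3 x hx]
  constructor
  · rintro hmem
    obtain ⟨a, s, ha, hx⟩ := hmem
    refine ⟨rotGroup_le_gramFix hF ⟨a, s, ha, hx⟩, ?_, by rw [hx, rotMat_det, ha], ?_⟩
    · refine Units.ext ?_
      rw [Units.val_pow_eq_pow_val, hx, pow_succ, sq, rotMat_mul, rotMat_mul, Units.val_one,
        ← rotMat_one]
      have hs : s + s + s = 0 := by fin_cases s <;> rfl
      rw [hs]
      congr 1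
      funext i
      by_cases hs0 : s = 0
      · subst hs0
        simp only [add_zero]
        have h0 : a i ≠ 0 := fun h0 => by fin_cases i <;> simp_all
        linear_combination hnorm _ h0
      · rw [← ha]
        revert hs0
        fin_cases s <;> fin_cases i <;>
          simp only [Fin.zero_eta, Fin.mk_one, Fin.reduceFinMk, Fin.reduceAdd, zero_add, add_zero,
            not_true_eq_false, false_imp_iff] <;> intros <;> first | trivial | ring
    · intro v hv
      simp only [hx]
      simp only [dotProduct, Function.comp_apply, Fin.sum_univ_three, rotMat_mulVec, hσ] at hv ⊢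
      have hsupp : (∀ i, v i ≠ 0) ∨ ∃ k, ∀ i, i ≠ k → v i = 0 := by
        by_cases h0 : v 0 = 0 <;> by_cases h1 : v 1 = 0 <;> by_cases h2' : v 2 = 0
        · exact absurd (by rw [h0, h1, h2']; ring) hv
        · exact Or.inr ⟨2, fun i hi => by fin_cases i <;> first | exact h0 | exact h1 | exact absurd rfl hi⟩
        · exact Or.inr ⟨1, fun i hi => by fin_cases i <;> first | exact h0 | exact h2' | exact absurd rfl hi⟩
        · exact absurd (by rw [h0]; linear_combination hnorm _ h1 + hnorm _ h2' + h2) hv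
        · exact Or.inr ⟨0, fun i hi => by fin_cases i <;> first | exact h1 | exact h2' | exact absurd rfl hi⟩
        · exact absurd (by rw [h1]; linear_combination hnorm _ h0 + hnorm _ h2' + h2) hv
        · exact absurd (by rw [h2']; linear_combination hnorm _ h0 + hnorm _ h1 + h2) hv
        · exact Or.inl fun i => by fin_cases i <;> assumption
      rcases hsupp with hall0 | ⟨k, hk⟩
      · have hp : (a 0 * v (0 + s) * v 0 ^ 2) * (a 1 * v (1 + s) * v 1 ^ 2) * (a 2 * v (2 + s) * v 2 ^ 2) = 1 := by
          have : v (0 + s) * v (1 + s) * v (2 + s) = v 0 * v 1 * v 2 := by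
            fin_cases s <;> simp only [Fin.zero_eta, Fin.mk_one, Fin.reduceFinMk, Fin.reduceAdd,
              zero_add, add_zero] <;> ring
          calc _ = (a 0 * a 1 * a 2) * (v (0 + s) * v (1 + s) * v (2 + s)) * (v 0 ^ 2 * v 1 ^ 2 * v 2 ^ 2) := by
                ring
            _ = (v 0 * v 0 ^ 2) * (v 1 * v 1 ^ 2) * (v 2 * v 2 ^ 2) := by rw [ha, this]; ring
            _ = 1 := by rw [hnorm _ (hall0 0), hnorm _ (hall0 1), hnorm _ (hall0 2)]; ring
        rcases three_roots hF hp with ⟨e1, e2⟩ | ⟨e1, -⟩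
        · right
          refine ⟨a 0 * v (0 + s) * v 0 ^ 2, funext fun i => ?_⟩
          have hall : ∀ j, a j * v (j + s) * v j ^ 2 = a 0 * v (0 + s) * v 0 ^ 2 := by
            intro j; fin_cases j
            · rfl
            · exact e1.symm
            · exact (e1.trans e2).symm
          rw [rotMat_mulVec, Pi.smul_apply, smul_eq_mul, ← hall i]
          linear_combination (-(a i * v (i + s))) * hnorm _ (hall0 i)
        · exact Or.inl e1
      · by_cases hs0 : s = 0
        · right
          refine ⟨a k, funext fun i => ?_⟩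
          rw [rotMat_mulVec, hs0, add_zero, Pi.smul_apply, smul_eq_mul]
          by_cases hik : i = k
          · rw [hik]
          · rw [hk i hik, mul_zero, mul_zero]
        · left
          have hz : ∀ i, a i * v (i + s) * v i ^ 2 = 0 := fun i => by
            by_cases hik : i = k
            · rw [hk (i + s) (fun h => hs0 (add_left_cancel (a := i) (by rw [h, add_zero, hik]))),
                mul_zero, zero_mul]
            · rw [hk i hik]; ring
          rw [hz, hz, hz, add_zero, add_zero]
  · rintro ⟨hu, hx3, hdet, hfr⟩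
    rw [mem_gramFix_one_iff hF] at hu
    set X := (x : Matrix (Fin 3) (Fin 3) F) with hX
    have hcol : ∀ j, ∃ i, X i j ≠ 0 ∧ ∀ k, k ≠ i → X k j = 0 := by
      intro j
      have hn := hu (Pi.single j 1) (Pi.single j 1)
      simp [dotProduct, Fin.sum_univ_three, Function.comp_apply, hσ, Matrix.mulVec_single_one] at hn
      have hself : (Pi.single j 1 : Fin 3 → F) ⬝ᵥ (Unitary.frob hF ∘ Pi.single j 1) ≠ 0 := by
        simp [hσ]
      have hh := hfr _ hself
      simp [hσ, Matrix.mulVec_single_one, dotProduct, Fin.sum_univ_three] at hh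
      rcases hh with hjj | ⟨c, hc⟩
      · have hsum : X 0 j * X 0 j ^ 2 + X 1 j * X 1 j ^ 2 + X 2 j * X 2 j ^ 2 = 1 := by
          rw [hn]; fin_cases j <;> simp
        have hz : X j j = 0 := by fin_cases j <;> simpa using hjj
        by_cases h0 : X 0 j = 0 <;> by_cases h1 : X 1 j = 0 <;> by_cases h2' : X 2 j = 0
        · simp [h0, h1, h2'] at hsum
        · exact ⟨2, h2', fun k hk => by fin_cases k <;> first | exact h0 | exact h1 | exact absurd rfl hk⟩
        · exact ⟨1, h1, fun k hk => by fin_cases k <;> first | exact h0 | exact h2' | exact absurd rfl hk⟩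
        · exfalso
          simp only [h0, zero_mul, hnorm _ h1, hnorm _ h2', zero_add] at hsum
          exact one_ne_zero (α := F) (by linear_combination h2 - hsum)
        · exact ⟨0, h0, fun k hk => by fin_cases k <;> first | exact h1 | exact h2' | exact absurd rfl hk⟩
        · exfalso
          simp only [h1, zero_mul, hnorm _ h0, hnorm _ h2', add_zero] at hsum
          exact one_ne_zero (α := F) (by linear_combination h2 - hsum)
        · exfalso
          simp only [h2', zero_mul, hnorm _ h0, hnorm _ h1, add_zero] at hsum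
          exact one_ne_zero (α := F) (by linear_combination h2 - hsum)
        · exfalso; fin_cases j <;> contradiction
      · have hk : ∀ k, k ≠ j → X k j = 0 := fun k hk => by
          have := congrFun hc k
          simpa [Pi.single_eq_of_ne hk, Matrix.col] using this
        refine ⟨j, fun h0 => ?_, hk⟩
        have h5 : Matrix.det X = 0 := Matrix.det_eq_zero_of_column_eq_zero j fun k => by
          by_cases hkj : k = j
          · rw [hkj]; exact h0
          · exact hk k hkj
        rw [hdet] at h5; exact one_ne_zero h5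
    choose π hπ0 hπ using hcol
    have hXe : ∀ j, X *ᵥ Pi.single j 1 = X (π j) j • Pi.single (π j) 1 := fun j => by
      funext k
      by_cases hk : k = π j
      · subst hk; simp [Matrix.mulVec_single_one]
      · simp [Matrix.mulVec_single_one, hπ j k hk, Pi.single_eq_of_ne hk]
    have hXe3 : ∀ j, π (π (π j)) = j := by
      intro j
      have h5 : (x ^ 3 : GL (Fin 3) F).val *ᵥ Pi.single j 1 = Pi.single j 1 := by
        rw [hx3, Units.val_one, Matrix.one_mulVec]
      rw [Units.val_pow_eq_pow_val, ← hX, pow_succ, sq, ← Matrix.mulVec_mulVec, ← Matrix.mulVec_mulVec,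
        hXe, Matrix.mulVec_smul, hXe, Matrix.mulVec_smul, Matrix.mulVec_smul, hXe, smul_smul,
        smul_smul] at h5
      by_contra hne
      have := congrFun h5 (π (π (π j)))
      simp [Pi.single_eq_of_ne hne, hπ0] at this
    have hperm : ∀ π : Fin 3 → Fin 3, (∀ j, π (π (π j)) = j) → ∃ s : Fin 3, ∀ j, π j + s = j := by
      decide
    obtain ⟨s, hs⟩ := hperm π hXe3
    have hrot : X = rotMat (fun i => X i (i + s)) s := by
      ext i j
      simp only [rotMat, Matrix.of_apply]
      split_ifs with h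
      · rw [h]
      · refine hπ j i fun hi => h ?_
        rw [hi, hs]
    refine ⟨fun i => X i (i + s), s, ?_, hrot⟩
    show X 0 (0 + s) * X 1 (1 + s) * X 2 (2 + s) = 1
    rw [← hdet, hrot, rotMat_det]
    rw [← hrot]

lemma conj_mem_rotGroup {y x : GL (Fin 3) F}
    (hy : y ∈ gramFix (Unitary.frob hF) (1 : Matrix (Fin 3) (Fin 3) F)) (hx : x ∈ rotGroup F) :
    y * x * y⁻¹ ∈ rotGroup F := by
  rw [mem_rotGroup_iff hF] at hx ⊢
  obtain ⟨hu, hx3, hdet, hfr⟩ := hx
  refine ⟨mul_mem (mul_mem hy hu) (inv_mem hy), ?_, ?_, fun v hv => ?_⟩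
  · rw [conj_pow, hx3, mul_one, mul_inv_cancel]
  · rw [Units.val_mul, Units.val_mul, Matrix.coe_units_inv, Matrix.det_conj y.isUnit, hdet]
  · set w := ((y⁻¹ : GL (Fin 3) F) : Matrix (Fin 3) (Fin 3) F) *ᵥ v with hw
    have hyw : (y : Matrix (Fin 3) (Fin 3) F) *ᵥ w = v := by
      rw [hw, Matrix.mulVec_mulVec, ← Units.val_mul, mul_inv_cancel, Units.val_one, Matrix.one_mulVec]
    have hxv : ((y * x * y⁻¹ : GL (Fin 3) F) : Matrix (Fin 3) (Fin 3) F) *ᵥ v
        = (y : Matrix (Fin 3) (Fin 3) F) *ᵥ ((x : Matrix (Fin 3) (Fin 3) F) *ᵥ w) := by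
      rw [Units.val_mul, Units.val_mul, ← Matrix.mulVec_mulVec, ← Matrix.mulVec_mulVec, ← hw]
    rw [mem_gramFix_one_iff hF] at hy
    rw [hxv, ← hyw]
    rw [← hyw, hy] at hv
    rcases hfr w hv with h0 | ⟨c, hc⟩
    · exact Or.inl (by rw [hy]; exact h0)
    · exact Or.inr ⟨c, by rw [hc, Matrix.mulVec_smul]⟩

end four

section nine

variable {ι : Type} [Fintype ι] [DecidableEq ι] [Fintype F]

/-- Pure tensors of rotation matrices. -/
def nineGroup (F : Type*) [Field F] : Subgroup (GL (Fin 2 → Fin 3) F) :=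
  (Subgroup.pi Set.univ fun _ : Fin 2 => rotGroup F).map (pureHom 3 2)

/-- Representatives of the rotation group modulo scalars. -/
noncomputable def rotRep (p : Fˣ × Fin 3) : GL (Fin 3) F :=
  ⟨rotMat ![1, (p.1 : F), ((p.1⁻¹ : Fˣ) : F)] p.2,
    rotMat (fun i => (![1, (p.1 : F), ((p.1⁻¹ : Fˣ) : F)] (i - p.2))⁻¹) (-p.2),
    by
      rw [rotMat_mul, add_neg_cancel, ← rotMat_one]
      congr 1; funext i
      rw [add_sub_cancel_right]
      fin_cases i <;> simp,
    by
      rw [rotMat_mul, neg_add_cancel, ← rotMat_one]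
      congr 1; funext i
      rw [← sub_eq_add_neg]
      generalize i - p.2 = j
      fin_cases j <;> simp⟩

lemma rotRep_mem (p : Fˣ × Fin 3) : rotRep p ∈ rotGroup F :=
  ⟨_, p.2, by simp, rfl⟩

lemma rotRep_eq {p p' : Fˣ × Fin 3} {c : F}
    (h : (rotRep p : Matrix (Fin 3) (Fin 3) F) = c • (rotRep p' : Matrix (Fin 3) (Fin 3) F)) :
    p = p' ∧ c = 1 := by
  have h0 := congrFun (congrFun h 0) (0 + p.2)
  simp [rotRep, rotMat] at h0
  have hs : p.2 = p'.2 := by
    by_contra hne
    rw [if_neg hne] at h0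
    exact one_ne_zero h0
  rw [if_pos hs] at h0
  have h1 := congrFun (congrFun h 1) (1 + p.2)
  simp [rotRep, rotMat, hs] at h1
  have hc : c = 1 := h0.symm
  rw [hc, one_mul] at h1
  exact ⟨Prod.ext (Units.ext h1) hs, hc⟩

variable (hF : Fintype.card F = 2 ^ 2)
include hF

lemma exists_rotRep {x : GL (Fin 3) F} (hx : x ∈ rotGroup F) :
    ∃ (c : Fˣ) (p : Fˣ × Fin 3),
      (x : Matrix (Fin 3) (Fin 3) F) = (c : F) • (rotRep p : Matrix (Fin 3) (Fin 3) F) := by
  obtain ⟨a, s, ha, hx⟩ := hx
  obtain ⟨-, h3, -, -⟩ := four_facts hF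
  have ha0 : ∀ i, a i ≠ 0 := fun i h0 => by fin_cases i <;> simp_all
  refine ⟨Units.mk0 (a 0) (ha0 0), (Units.mk0 (a 1 / a 0) (div_ne_zero (ha0 1) (ha0 0)), s), ?_⟩
  rw [hx]
  ext i j
  have e := h3 _ (ha0 0)
  fin_cases i <;> simp [rotRep, rotMat] <;> split_ifs <;> try rfl
  · field_simp [ha0 0]
  · field_simp [ha0 1]
    exact mul_left_cancel₀ (ha0 0) (by linear_combination ha - e)

/-- Some similitude moves a non-scalar rotation to one not commuting with it. -/
lemma exists_noncommuting {x : GL (Fin 3) F} (hx : x ∈ rotGroup F)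
    (hns : ¬ ∃ c : F, (x : Matrix (Fin 3) (Fin 3) F) = c • 1) :
    ∃ g ∈ gramFix (Unitary.frob hF) (1 : Matrix (Fin 3) (Fin 3) F),
      ¬ Commute x (g * x * g⁻¹) := by
  obtain ⟨h2, h3, hσ, w, hw0, hw1, hw⟩ := four_facts hF
  obtain ⟨a, s, ha, hx⟩ := hx
  have ha0 : ∀ i, a i ≠ 0 := fun i h0 => by fin_cases i <;> simp_all
  by_cases hs : s = 0
  · subst hs
    have hw3 : w * w ^ 2 = 1 := by rw [← pow_succ', h3 w hw0]
    let W : Matrix (Fin 3) (Fin 3) F := !![1, 1, 1; 1, w, w ^ 2; 1, w ^ 2, w]
    have hWW : W * W.map (Unitary.frob hF) = 1 := by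
      ext i j
      fin_cases i <;> fin_cases j <;>
        simp [W, Matrix.mul_apply, Fin.sum_univ_three, hσ] <;> grind
    have hWT : Wᵀ = W := by
      ext i j; fin_cases i <;> fin_cases j <;> rfl
    let g : GL (Fin 3) F := ⟨W, W.map (Unitary.frob hF), hWW, mul_eq_one_comm.mp hWW⟩
    refine ⟨g, by show gtr _ 1 W = 1; rw [gtr, hWT, mul_one, hWW], fun hcomm => ?_⟩
    obtain ⟨b, r, -, hy⟩ := conj_mem_rotGroup hF
      (show g ∈ gramFix (Unitary.frob hF) (1 : Matrix (Fin 3) (Fin 3) F) by
        show gtr _ 1 W = 1; rw [gtr, hWT, mul_one, hWW]) (x := x) ⟨a, 0, ha, hx⟩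
    have h5 := congrArg Units.val hcomm.eq
    rw [Units.val_mul x, Units.val_mul _ x, hy, hx, rotMat_mul, rotMat_mul] at h5
    have hne : ¬ (a 0 = a 1 ∧ a 1 = a 2) := fun ⟨e1, e2⟩ => hns ⟨a 0, by
      rw [hx]; ext i j
      fin_cases i <;> fin_cases j <;> simp [rotMat, e1, e2]⟩
    obtain ⟨-, hab, hbc, hac⟩ := (three_roots hF ha).resolve_left hne
    have hr : r = 0 := by
      by_contra hr
      have e0 := congrFun (congrFun h5 0) (0 + (0 + r))
      simp [rotMat] at e0
      have hb0 : b 0 ≠ 0 := by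
        intro hb
        have := congrArg Matrix.det hy
        rw [rotMat_det, hb, zero_mul, zero_mul] at this
        exact ((Matrix.isUnit_iff_isUnit_det _).mp (g * x * g⁻¹).isUnit).ne_zero this
      rw [mul_comm (b 0)] at e0
      have e1 := mul_right_cancel₀ hb0 e0
      fin_cases r
      · exact hr rfl
      · exact hab e1
      · exact hac e1
    subst hr
    have e : ((g * x * g⁻¹ : GL (Fin 3) F) : Matrix (Fin 3) (Fin 3) F) * W
        = W * (x : Matrix (Fin 3) (Fin 3) F) := by
      rw [show W = (g : Matrix (Fin 3) (Fin 3) F) from rfl, ← Units.val_mul, ← Units.val_mul,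
        inv_mul_cancel_right]
    rw [hy, hx] at e
    have e00 := congrFun (congrFun e 0) 0
    have e01 := congrFun (congrFun e 0) 1
    simp [W, rotMat, Matrix.mul_apply, Fin.sum_univ_three] at e00 e01
    exact hab (e00.symm.trans e01)
  · have hw3 : w * w ^ 2 = 1 := by rw [← pow_succ', h3 w hw0]
    let g : GL (Fin 3) F := ⟨Matrix.diagonal ![w, 1, 1], Matrix.diagonal ![w ^ 2, 1, 1],
      by rw [Matrix.diagonal_mul_diagonal, ← Matrix.diagonal_one]; congr 1; funext i
         fin_cases i <;> simp [hw3],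
      by rw [Matrix.diagonal_mul_diagonal, ← Matrix.diagonal_one]; congr 1; funext i
         fin_cases i <;> simp [mul_comm, hw3]⟩
    have hg : g ∈ gramFix (Unitary.frob hF) (1 : Matrix (Fin 3) (Fin 3) F) := by
      show gtr _ 1 (Matrix.diagonal ![w, 1, 1]) = 1
      rw [gtr, Matrix.diagonal_transpose, mul_one, Matrix.diagonal_map (map_zero _),
        Matrix.diagonal_mul_diagonal, ← Matrix.diagonal_one]
      congr 1; funext i
      fin_cases i <;> simp [hσ, hw3]
    refine ⟨g, hg, fun hcomm => ?_⟩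
    have hy : ((g * x * g⁻¹ : GL (Fin 3) F) : Matrix (Fin 3) (Fin 3) F)
        = rotMat (fun i => ![w, 1, 1] i * a i * ![w ^ 2, 1, 1] (i + s)) s := by
      rw [Units.val_mul, Units.val_mul, hx]
      show Matrix.diagonal _ * rotMat a s * Matrix.diagonal _ = _
      ext i j
      simp only [Matrix.mul_diagonal, Matrix.diagonal_mul, rotMat, Matrix.of_apply]
      split_ifs with h
      · subst h; rfl
      · ring
    have h5 := congrArg Units.val hcomm.eq
    rw [Units.val_mul x, Units.val_mul _ x, hy, hx, rotMat_mul, rotMat_mul] at h5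
    have e0 := congrFun (congrFun h5 0) (0 + (s + s))
    have e1 := congrFun (congrFun h5 1) (1 + (s + s))
    simp only [rotMat, Matrix.of_apply, if_pos] at e0 e1
    fin_cases s
    · exact hs rfl
    · simp at e0
      have e2 : w ^ 2 * w ^ 0 = w := by grind
      exact hw1 (by grind)
    · simp at e0
      exact hw1 (by grind)

lemma mem_nineGroup {x : GL (Fin 2 → Fin 3) F} :
    x ∈ nineGroup F ↔ ∃ u : Fin 2 → GL (Fin 3) F, (∀ i, u i ∈ rotGroup F) ∧ pureGL u = x := by
  refine ⟨?_, ?_⟩
  · rintro ⟨u, hu, rfl⟩; exact ⟨u, fun i => hu i trivial, rfl⟩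
  · rintro ⟨u, hu, rfl⟩; exact ⟨u, fun i _ => hu i, rfl⟩

omit hF in
lemma pure_update_sub {m t : ℕ} (M : Fin t → Matrix (Fin m) (Fin m) F) (i : Fin t)
    (X Y : Matrix (Fin m) (Fin m) F) (hM : ∀ j, j ≠ i → M j ≠ 0)
    (h : pureMat (Function.update M i X) = pureMat (Function.update M i Y)) : X = Y := by
  by_contra hne
  have h1 : pureMat (Function.update M i (X - Y)) = 0 := by
    have h2 := pureMat_update_add M i (X - Y) Y
    rw [sub_add_cancel, h] at h2
    exact eq_of_sub_eq_zero (by simpa using (congrArg (fun z => z - pureMat (Function.update M i Y)) h2).symm)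
  refine pureMat_ne_zero (fun j => ?_) h1
  by_cases hj : j = i
  · subst hj; rw [Function.update_self]; exact sub_ne_zero.mpr hne
  · rw [Function.update_of_ne hj]; exact hM j hj

/-- The tensor square over four elements normalises a group of symplectic type of order 243. -/
theorem PowerFormData.nine [Nonempty ι] {f : (ι → F) → (ι → F) → F} {H : Subgroup (GL ι F)}
    {e : ι ≃ (Fin 2 → Fin 3)} {P : GL ι F}
    (d : PowerFormData (Unitary.frob hF) f H 3 2 e P 1)
    (h : FormSpace (Unitary.frob hF) 1 f) (hH : FixesForm (matrixSet H) f) :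
    ∃ R : Subgroup (GL ι F), IsSymplecticTypeGroup 3 R ∧ ActsAbsolutelyIrreducibly (matrixSet R) ∧
      R ≤ similarityGroup f ∧ FixesForm (matrixSet R) f ∧
      Nat.card (Subgroup.center R) = 3 ∧ Nat.card R = 3 ^ (1 + 2 * 2) ∧
      IsMinimalFieldFor 3 2 2 F ∧ H ≤ subgroupNormalizer R := by
  classical
  obtain ⟨h2, h3, hσ, w, hw0, hw1, hw⟩ := four_facts hF
  have hchar : CharP F 2 := CharTwo.of_one_ne_zero_of_two_eq_zero one_ne_zero h2
  set R := (nineGroup F).map (coordEquiv e P).toMonoidHom with hR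
  have hmemR : ∀ {x : GL ι F}, x ∈ R → ∃ u : Fin 2 → GL (Fin 3) F,
      (∀ i, u i ∈ rotGroup F) ∧ coordEquiv e P (pureGL u) = x := by
    rintro _ ⟨y, hy, rfl⟩
    obtain ⟨u, hu, rfl⟩ := (mem_nineGroup hF).mp hy
    exact ⟨u, hu, rfl⟩
  have hRmem : ∀ u : Fin 2 → GL (Fin 3) F, (∀ i, u i ∈ rotGroup F) → coordEquiv e P (pureGL u) ∈ R :=
    fun u hu => ⟨_, (mem_nineGroup hF).mpr ⟨u, hu, rfl⟩, rfl⟩
  obtain ⟨c₀, hc₀, hG⟩ := d.gram
  have h' := h.coord e P
  have hfix : FixesForm (matrixSet R) f := by
    rintro _ ⟨x, hx, rfl⟩ a b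
    obtain ⟨u, hu, rfl⟩ := hmemR hx
    obtain ⟨a', rfl⟩ := exists_coord e P a
    obtain ⟨b', rfl⟩ := exists_coord e P b
    show f (coordAlg e P _ *ᵥ _) (coordAlg e P _ *ᵥ _) = _
    rw [coordAlg_mulVec, coordAlg_mulVec]
    show coordForm e P f _ _ = coordForm e P f _ _
    rw [h'.sesq.eq_formOfGram, h'.sesq.eq_formOfGram a', formOfGram_mulVec]
    congr 1
    rw [hG, gtr_smul]
    congr 1
    show gtr _ (pureMat _) (pureMat _) = _
    rw [gtr, pureMat_transpose, pureMat_map, pureMat_mul, pureMat_mul]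
    exact congrArg pureMat (funext fun i => rotGroup_le_gramFix hF (hu i))
  -- the span
  have hspan1 : ∀ i j : Fin 3, Matrix.single i j (1 : F) ∈ Submodule.span F (matrixSet (rotGroup F)) := by
    intro i j
    obtain ⟨s, rfl⟩ : ∃ s, j = i + s := ⟨j - i, by rw [add_sub_cancel]⟩
    have hmem : ∀ b : Fin 3 → F, b 0 * b 1 * b 2 = 1 → (∀ k, b k ≠ 0) →
        rotMat b s ∈ Submodule.span F (matrixSet (rotGroup F)) := by
      intro b hb hb0
      have hu : IsUnit (rotMat b s) := by
        rw [Matrix.isUnit_iff_isUnit_det, rotMat_det, hb]; exact isUnit_one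
      exact Submodule.subset_span ⟨hu.unit, ⟨b, s, hb, rfl⟩, rfl⟩
    have hw3 : w * w ^ 2 = 1 := by rw [← pow_succ', h3 w hw0]
    have m1 := hmem (fun _ => 1) (by simp) (fun _ => one_ne_zero)
    have m2 := hmem ![1, w, w ^ 2] (by simpa using hw3) (fun k => by fin_cases k <;> simp [hw0])
    have m3 := hmem ![1, w ^ 2, w] (by simpa [mul_comm] using hw3) (fun k => by fin_cases k <;> simp [hw0])
    have e : Matrix.single i (i + s) (1 : F) = rotMat (fun _ => 1) s
        + (![1, w ^ 2, w] i) • rotMat ![1, w, w ^ 2] s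
        + (![1, w, w ^ 2] i) • rotMat ![1, w ^ 2, w] s := by
      ext k l
      simp only [Matrix.add_apply, Matrix.smul_apply, rotMat, Matrix.of_apply, smul_eq_mul,
        Matrix.single_apply]
      by_cases hl : l = k + s
      · subst hl
        simp only [if_pos, add_left_inj]
        fin_cases i <;> fin_cases k <;> simp <;> grind
      · rw [if_neg (fun hh => hl (by rw [← hh.1, hh.2])), if_neg hl, if_neg hl, if_neg hl]
        ring
    rw [e]
    exact Submodule.add_mem _ (Submodule.add_mem _ m1 (Submodule.smul_mem _ _ m2)) (Submodule.smul_mem _ _ m3)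
  have hspan : Submodule.span F (matrixSet R) = ⊤ := by
    rw [eq_top_iff]
    rintro M -
    obtain ⟨M', rfl⟩ := (coordAlg e P).surjective M
    rw [Matrix.matrix_eq_sum_single M']
    simp only [map_sum]
    refine Submodule.sum_mem _ fun p _ => Submodule.sum_mem _ fun q _ => ?_
    rw [show Matrix.single p q (M' p q) = M' p q • pureMat (fun i => Matrix.single (p i) (q i) (1 : F)) by
      ext x y
      simp only [Matrix.smul_apply, pureMat, Matrix.of_apply, Matrix.single_apply, smul_eq_mul,
        Fin.prod_univ_two]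
      by_cases hx : p = x <;> by_cases hy : q = y
      · subst hx hy; simp
      all_goals
        rw [if_neg (by tauto)]
        simp only [funext_iff, Fin.forall_fin_two] at hx hy
        split_ifs <;> first | tauto | simp]
    rw [map_smul]
    refine Submodule.smul_mem _ _ ?_
    let T : Matrix (Fin 3) (Fin 3) F → Matrix (Fin 3) (Fin 3) F → Matrix ι ι F :=
      fun X Y => coordAlg e P (pureMat ![X, Y])
    have hlin : ∀ X Y, X ∈ Submodule.span F (matrixSet (rotGroup F)) →
        Y ∈ Submodule.span F (matrixSet (rotGroup F)) → T X Y ∈ Submodule.span F (matrixSet R) := by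
      intro X Y hX hY
      induction hX using Submodule.span_induction with
      | mem X hX =>
        induction hY using Submodule.span_induction with
        | mem Y hY =>
          obtain ⟨x, hx, rfl⟩ := hX
          obtain ⟨y, hy, rfl⟩ := hY
          refine Submodule.subset_span ⟨_, hRmem ![x, y] (fun i => by fin_cases i <;> assumption), ?_⟩
          show coordAlg e P (pureMat _) = _
          congr 2
        | zero =>
          have : T X 0 = 0 := by
            show coordAlg e P _ = 0
            rw [show pureMat ![X, (0 : Matrix (Fin 3) (Fin 3) F)] = 0 by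
              ext a b; simp [pureMat, Fin.prod_univ_two], map_zero]
          rw [this]; exact Submodule.zero_mem _
        | add A B _ _ hA hB =>
          have : T X (A + B) = T X A + T X B := by
            show coordAlg e P _ = coordAlg e P _ + coordAlg e P _
            rw [← map_add]; congr 1; ext a b; simp [pureMat, Fin.prod_univ_two, mul_add]
          rw [this]; exact Submodule.add_mem _ hA hB
        | smul k A _ hA =>
          have : T X (k • A) = k • T X A := by
            show coordAlg e P _ = k • coordAlg e P _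
            rw [← map_smul]; congr 1; ext a b; simp [pureMat, Fin.prod_univ_two]; ring
          rw [this]; exact Submodule.smul_mem _ _ hA
      | zero =>
        have : T 0 Y = 0 := by
          show coordAlg e P _ = 0
          rw [show pureMat ![(0 : Matrix (Fin 3) (Fin 3) F), Y] = 0 by
            ext a b; simp [pureMat, Fin.prod_univ_two], map_zero]
        rw [this]; exact Submodule.zero_mem _
      | add A B _ _ hA hB =>
        have : T (A + B) Y = T A Y + T B Y := by
          show coordAlg e P _ = coordAlg e P _ + coordAlg e P _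
          rw [← map_add]; congr 1; ext a b; simp [pureMat, Fin.prod_univ_two, add_mul]
        rw [this]; exact Submodule.add_mem _ hA hB
      | smul k A _ hA =>
        have : T (k • A) Y = k • T A Y := by
          show coordAlg e P _ = k • coordAlg e P _
          rw [← map_smul]; congr 1; ext a b; simp [pureMat, Fin.prod_univ_two]; ring
        rw [this]; exact Submodule.smul_mem _ _ hA
    have h9 := hlin _ _ (hspan1 (p 0) (q 0)) (hspan1 (p 1) (q 1))
    rw [show (fun i => Matrix.single (p i) (q i) (1 : F))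
      = ![Matrix.single (p 0) (q 0) (1 : F), Matrix.single (p 1) (q 1) (1 : F)] from
      funext fun i => by fin_cases i <;> rfl]
    exact h9
  have habs : ActsAbsolutelyIrreducibly (matrixSet R) := by
    apply absIrred_of_env_eq_top
    rw [← Algebra.toSubmodule_eq_top, env_toSubmodule, hspan]
  have hx3 : ∀ x ∈ R, x ^ 3 = 1 := by
    intro x hx
    obtain ⟨u, hu, rfl⟩ := hmemR hx
    rw [← map_pow, show pureGL u ^ 3 = pureHom 3 2 (u ^ 3) from (map_pow (pureHom 3 2) u 3).symm,
      show u ^ 3 = 1 from funext fun i => ((mem_rotGroup_iff hF).mp (hu i)).2.1, map_one, map_one]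
  -- scalars
  have hscmem : ∀ c : Fˣ, Units.map (Matrix.scalar ι : F →+* Matrix ι ι F).toMonoidHom c ∈ R := by
    intro c
    have hc3 : (c : F) * c * c = 1 := by rw [← h3 (c : F) c.ne_zero]; ring
    let z : GL (Fin 3) F := Units.map (Matrix.scalar (Fin 3) : F →+* _).toMonoidHom c
    have hz : z ∈ rotGroup F := ⟨fun _ => c, 0, hc3, by
      ext i j; simp [z, rotMat, Matrix.diagonal_apply, eq_comm]⟩
    have hmem := hRmem ![z, 1] (fun i => by fin_cases i; exacts [hz, one_mem _])
    have he : (pureMat fun i => ((![z, 1] : Fin 2 → GL (Fin 3) F) i : Matrix (Fin 3) (Fin 3) F))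
        = (c : F) • (1 : Matrix (Fin 2 → Fin 3) (Fin 2 → Fin 3) F) := by
      have h7 := pureMat_update_smul (fun _ : Fin 2 => (1 : Matrix (Fin 3) (Fin 3) F)) 0 (c : F) 1
      rw [Function.update_eq_self 0 (fun _ : Fin 2 => (1 : Matrix (Fin 3) (Fin 3) F)), pureMat_one] at h7
      rw [← h7]
      congr 1; funext i
      fin_cases i <;> simp [z, Matrix.smul_one_eq_diagonal]
    have heq : coordEquiv e P (pureGL ![z, 1])
        = Units.map (Matrix.scalar ι : F →+* Matrix ι ι F).toMonoidHom c := by
      refine Units.ext ?_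
      show coordAlg e P (pureMat _) = _
      rw [he, map_smul, map_one]
      simp [Matrix.smul_one_eq_diagonal]
    exact heq ▸ hmem
  have hcent : ∀ x : R, x ∈ Subgroup.center R ↔ (x : GL ι F) ∈ scalars ι F := by
    intro x
    rw [Subgroup.mem_center_iff]
    refine ⟨fun hx => ?_, fun hx y => Subtype.ext (scalars_comm hx _).symm⟩
    obtain ⟨c, hc⟩ := habs.2 ((x : GL ι F) : Matrix ι ι F) (by
      rintro _ ⟨y, hy, rfl⟩
      simpa using congrArg (fun v : R => ((v : GL ι F) : Matrix ι ι F)) (hx ⟨y, hy⟩).symm)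
    have hc0 : c ≠ 0 := fun h0 => (x : GL ι F).ne_zero (by rw [hc, h0, zero_smul])
    exact (mem_scalars_iff _).mpr ⟨Units.mk0 c hc0, hc⟩
  have hcardU : Nat.card Fˣ = 3 := by
    rw [Nat.card_eq_fintype_card, Fintype.card_units, hF]; rfl
  have hcardc : Nat.card (Subgroup.center R) = 3 := by
    rw [← hcardU]
    refine (Nat.card_congr (Equiv.ofBijective (fun c : Fˣ =>
      (⟨⟨_, hscmem c⟩, (hcent _).mpr ⟨c, rfl⟩⟩ : Subgroup.center R)) ⟨fun a b hab => ?_, fun x => ?_⟩)).symm
    · have h9 := congrArg (fun z : Subgroup.center R => (((z : R) : GL ι F) : Matrix ι ι F)) hab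
      exact Units.ext (Matrix.scalar_inj.mp h9)
    · obtain ⟨c, hc⟩ := scalars_ext ((hcent _).mp x.2)
      exact ⟨c, Subtype.ext (Subtype.ext hc.symm)⟩
  have hcard : Nat.card R = 3 ^ (1 + 2 * 2) := by
    let ψ : Fˣ × (Fˣ × Fin 3) × (Fˣ × Fin 3) → R := fun q =>
      ⟨Units.map (Matrix.scalar ι : F →+* Matrix ι ι F).toMonoidHom q.1 *
          coordEquiv e P (pureGL ![rotRep q.2.1, rotRep q.2.2]),
        R.mul_mem (hscmem q.1) (hRmem _ fun i => by fin_cases i <;> exact rotRep_mem _)⟩
    have hψv : ∀ q, ((ψ q : GL ι F) : Matrix ι ι F) = coordAlg e P ((q.1 : F) •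
        pureMat ![(rotRep q.2.1 : Matrix (Fin 3) (Fin 3) F), (rotRep q.2.2 : Matrix (Fin 3) (Fin 3) F)]) := by
      intro q
      show (Matrix.scalar ι (q.1 : F)) * coordAlg e P (pureMat _) = _
      rw [show (Matrix.scalar ι (q.1 : F)) = (q.1 : F) • (1 : Matrix ι ι F) by
        simp [Matrix.smul_one_eq_diagonal], Matrix.smul_mul, one_mul, map_smul]
      congr 3
    have hψ : Function.Bijective ψ := by
      refine ⟨fun q q' hqq => ?_, fun x => ?_⟩
      · have h9 := congrArg (fun z : R => ((z : GL ι F) : Matrix ι ι F)) hqq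
        simp only [hψv] at h9
        have h10 := (coordAlg e P).injective h9
        have h11 : pureMat ![(q.1 : F) • (rotRep q.2.1 : Matrix (Fin 3) (Fin 3) F), (rotRep q.2.2 : Matrix (Fin 3) (Fin 3) F)]
            = pureMat ![(q'.1 : F) • (rotRep q'.2.1 : Matrix (Fin 3) (Fin 3) F), (rotRep q'.2.2 : Matrix (Fin 3) (Fin 3) F)] := by
          refine Eq.trans ?_ (h10.trans ?_) <;>
            (ext a b; simp [pureMat, Fin.prod_univ_two, mul_assoc])
        have hne : ∀ i, ![(q.1 : F) • (rotRep q.2.1 : Matrix (Fin 3) (Fin 3) F), (rotRep q.2.2 : Matrix (Fin 3) (Fin 3) F)] i ≠ 0 := by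
          intro i; fin_cases i
          · exact smul_ne_zero q.1.ne_zero (rotRep q.2.1).ne_zero
          · exact (rotRep q.2.2).ne_zero
        obtain ⟨a, -, ha⟩ := pureMat_unique hne h11 1
        obtain ⟨b, -, hb⟩ := pureMat_unique hne h11 0
        simp only [Matrix.cons_val_one, Matrix.cons_val_zero] at ha hb
        obtain ⟨e1, -⟩ := rotRep_eq ha
        have hb' : (rotRep q.2.1 : Matrix (Fin 3) (Fin 3) F)
            = ((q.1 : F)⁻¹ * b * (q'.1 : F)) • (rotRep q'.2.1 : Matrix (Fin 3) (Fin 3) F) := by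
          rw [mul_assoc, ← smul_smul, ← smul_smul, ← hb, smul_smul, inv_mul_cancel₀ q.1.ne_zero, one_smul]
        obtain ⟨e0, -⟩ := rotRep_eq hb'
        rw [e0, e1] at h10
        exact Prod.ext (Units.ext (smul_left_injective F (pureMat_ne_zero fun i => by
          fin_cases i
          exacts [(rotRep q'.2.1).ne_zero, (rotRep q'.2.2).ne_zero]) h10)) (Prod.ext e0 e1)
      · obtain ⟨u, hu, hux⟩ := hmemR x.2
        obtain ⟨c, p, hc⟩ := exists_rotRep hF (hu 0)
        obtain ⟨c', p', hc'⟩ := exists_rotRep hF (hu 1)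
        refine ⟨(c * c', p, p'), Subtype.ext (Units.ext ?_)⟩
        rw [hψv, ← hux]
        show coordAlg e P _ = coordAlg e P (pureMat _)
        congr 1
        ext a b
        simp [pureMat, Fin.prod_univ_two, hc, hc']
        ring
    rw [← Nat.card_congr (Equiv.ofBijective ψ hψ), Nat.card_prod, Nat.card_prod, Nat.card_prod, hcardU,
      Nat.card_eq_fintype_card (α := Fin 3), Fintype.card_fin]
    norm_num
  have hn : ∀ g ∈ H, ∀ x ∈ R, g * x * g⁻¹ ∈ R := by
    intro g hg x hx
    obtain ⟨u, hu, rfl⟩ := hmemR hx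
    obtain ⟨g', rfl⟩ := (coordEquiv e P).surjective g
    obtain ⟨y, π, ν, hy, hν⟩ := d.normalForm h hH hg
    have hy1 : ∀ j, y j ∈ gramFix (Unitary.frob hF) (1 : Matrix (Fin 3) (Fin 3) F) := by
      intro j
      obtain ⟨hν0, hνj⟩ := hν j
      have h9 : ((gtr (Unitary.frob hF) (1 : Matrix (Fin 3) (Fin 3) F) (y j : Matrix (Fin 3) (Fin 3) F)).map
          (Unitary.frob hF))ᵀ
          = gtr (Unitary.frob hF) (1 : Matrix (Fin 3) (Fin 3) F) (y j : Matrix (Fin 3) (Fin 3) F) := by
        simp only [gtr, mul_one, Matrix.map_mul, Matrix.transpose_mul, Matrix.transpose_map,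
          Matrix.transpose_transpose]
        congr 1
        ext a b
        exact Unitary.pow_q_q hF _
      rw [hνj] at h9
      have h10 := congrFun (congrFun h9 0) 0
      simp [hσ] at h10
      show gtr _ _ _ = _
      rw [hνj, show ν j = 1 by
        have h11 : ν j * (ν j - 1) = 0 := by linear_combination h10
        exact sub_eq_zero.mp ((mul_eq_zero.mp h11).resolve_left hν0), one_smul]
    rw [show coordEquiv e P g' * coordEquiv e P (pureGL u) * (coordEquiv e P g')⁻¹
        = coordEquiv e P (g' * pureGL u * g'⁻¹) by rw [map_mul, map_mul, map_inv]]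
    have e1 : g' * pureGL u * g'⁻¹ = pureGL fun j => y j * u (π.symm j) * (y j)⁻¹ := by
      refine mul_inv_eq_iff_eq_mul.mpr (Units.ext ?_)
      rw [Units.val_mul, Units.val_mul, hy]
      show _ * pureMat _ = pureMat _ * _
      rw [mul_assoc, factorPerm_conj, ← mul_assoc, ← mul_assoc, pureMat_mul, pureMat_mul]
      simp [mul_assoc]
    rw [e1]
    exact hRmem _ fun j => conj_mem_rotGroup hF (hy1 j) (hu _)
  refine ⟨R, ⟨Nat.prime_three, fun x => ⟨1, by rw [pow_one]; exact Subtype.ext (hx3 x x.2)⟩, ?_, ?_⟩,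
    habs, le_similarityGroup_of_fixes hfix, hfix, hcardc, hcard,
    ⟨Nat.prime_two, hchar, hF, by norm_num, fun d' hd hlt => by
      obtain rfl : d' = 1 := by omega
      norm_num⟩, le_subgroupNormalizer_of_normalises hn⟩
  · intro A hA hAc
    have hAle : ∀ a ∈ A, a ∈ Subgroup.center R := by
      intro a ha
      rw [hcent]
      by_contra hns
      obtain ⟨u, hu, hua⟩ := hmemR a.2
      obtain ⟨i, hi⟩ : ∃ i, ¬ ∃ c : F, (u i : Matrix (Fin 3) (Fin 3) F) = c • 1 := by
        by_contra hall
        push Not at hall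
        choose c hc using hall
        apply hns
        refine (mem_scalars_iff _).mpr ⟨Units.mk0 (∏ i, c i) (Finset.prod_ne_zero_iff.mpr fun i _ h0 =>
          (u i).ne_zero (by rw [hc, h0, zero_smul])), ?_⟩
        rw [← hua]
        show coordAlg e P (pureMat _) = _
        rw [show (fun j => (u j : Matrix (Fin 3) (Fin 3) F)) = fun j => c j • 1 from funext hc,
          pureMat_smul, pureMat_one, map_smul, map_one]
        rfl
      obtain ⟨g, hg, hgc⟩ := exists_noncommuting hF (hu i) hi
      let G : GL ι F := coordEquiv e P (pureGL (Function.update (fun _ => 1) i g))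
      let v : Fin 2 → GL (Fin 3) F := Function.update u i (g * u i * g⁻¹)
      have hconj : ∀ (s : Fin 2 → GL (Fin 3) F) (k : GL (Fin 3) F),
          coordEquiv e P (pureGL (Function.update (fun _ => 1) i k)) * coordEquiv e P (pureGL s) *
            (coordEquiv e P (pureGL (Function.update (fun _ => 1) i k)))⁻¹
          = coordEquiv e P (pureGL (Function.update s i (k * s i * k⁻¹))) := by
        intro s k
        rw [← map_mul, ← map_inv, ← map_mul]
        congr 1
        show pureHom 3 2 _ * pureHom 3 2 _ * (pureHom 3 2 _)⁻¹ = pureHom 3 2 _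
        rw [← map_mul, ← map_inv, ← map_mul]
        congr 1
        funext j
        by_cases hj : j = i
        · subst hj; simp
        · simp [Function.update_of_ne hj]
      have hGR : ∀ k : GL (Fin 3) F, k ∈ gramFix (Unitary.frob hF) (1 : Matrix (Fin 3) (Fin 3) F) →
          ∀ x ∈ R, coordEquiv e P (pureGL (Function.update (fun _ => 1) i k)) * x *
            (coordEquiv e P (pureGL (Function.update (fun _ => 1) i k)))⁻¹ ∈ R := by
        intro k hk x hx
        obtain ⟨s, hs, rfl⟩ := hmemR hx
        rw [hconj]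
        refine hRmem _ fun j => ?_
        by_cases hj : j = i
        · subst hj; rw [Function.update_self]; exact conj_mem_rotGroup hF hk (hs _)
        · rw [Function.update_of_ne hj]; exact hs j
      let φ : R ≃* R :=
        { toFun := fun x => ⟨G * x * G⁻¹, hGR g hg x x.2⟩
          invFun := fun x => ⟨G⁻¹ * x * G, by
            have := hGR g⁻¹ (inv_mem hg) x x.2
            have e2 : coordEquiv e P (pureGL (Function.update (fun _ => 1) i g⁻¹)) = G⁻¹ := by
              show coordEquiv e P (pureHom 3 2 _) = (coordEquiv e P (pureHom 3 2 _))⁻¹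
              rw [← map_inv, ← map_inv]
              congr 2
              funext j
              by_cases hj : j = i
              · subst hj; simp
              · simp [Function.update_of_ne hj]
            rwa [e2, inv_inv] at this⟩
          left_inv := fun x => Subtype.ext (by simp [mul_assoc])
          right_inv := fun x => Subtype.ext (by simp [mul_assoc])
          map_mul' := fun x y => Subtype.ext (by simp [mul_assoc]) }
      have hφA : φ a ∈ A := by
        have := hA.fixed φ
        rw [← this] at ha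
        exact ha
      have hcomm : (a : GL ι F) * (φ a : R) = (φ a : R) * (a : GL ι F) :=
        congrArg (fun z : A => ((z : R) : GL ι F)) (hAc.is_comm.comm ⟨a, ha⟩ ⟨φ a, hφA⟩)
      have hφv : ((φ a : R) : GL ι F) = coordEquiv e P (pureGL v) := by
        show G * (a : GL ι F) * G⁻¹ = _
        rw [← hua]; exact hconj u g
      rw [hφv, ← hua, ← map_mul, ← map_mul] at hcomm
      have h9 := congrArg Units.val ((coordEquiv e P).injective hcomm)
      change pureMat _ * pureMat _ = pureMat _ * pureMat _ at h9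
      rw [pureMat_mul, pureMat_mul] at h9
      apply hgc
      refine Units.ext ?_
      refine pure_update_sub (fun j => (u j : Matrix (Fin 3) (Fin 3) F) * (u j : Matrix (Fin 3) (Fin 3) F)) i
        ((u i * (g * u i * g⁻¹) : GL (Fin 3) F) : Matrix (Fin 3) (Fin 3) F)
        ((g * u i * g⁻¹ * u i : GL (Fin 3) F) : Matrix (Fin 3) (Fin 3) F)
        (fun j _ => by rw [← Units.val_mul]; exact (u j * u j).ne_zero) ?_
      refine Eq.trans (congrArg pureMat (funext fun j => ?_)) (h9.trans (congrArg pureMat (funext fun j => ?_)))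
      all_goals by_cases hj : j = i
      all_goals first
        | (subst hj; simp [v]; done)
        | simp [v, Function.update_of_ne hj]
    let ψ : A →* Subgroup.center R :=
      { toFun := fun a => ⟨a, hAle a a.2⟩, map_one' := rfl, map_mul' := fun _ _ => rfl }
    haveI : Fact (Nat.Prime 3) := ⟨Nat.prime_three⟩
    haveI : IsCyclic (Subgroup.center R) := isCyclic_of_prime_card hcardc
    exact isCyclic_of_injective ψ fun a b hab => Subtype.ext (congrArg (fun z : Subgroup.center R => (z : R)) hab)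
  · rw [show (3 : ℕ) * Nat.gcd 2 3 = 3 by norm_num]
    refine ((Nat.dvd_prime Nat.prime_three).mp
      (Monoid.exponent_dvd_of_forall_pow_eq_one fun x : R => Subtype.ext (hx3 x x.2))).resolve_left fun h1 => ?_
    haveI := Monoid.exp_eq_one_iff.mp h1
    rw [Nat.card_unique] at hcard
    norm_num at hcard

end nine

end Cfsg.Agent.Aschbacher
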