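/-
Frames over fields with at most four elements: the monomial group fixes a vector or a form.
-/
import Cfsg.Agent.Aschbacher.Basic

set_option autoImplicit false
set_option maxHeartbeats 1000000
set_option linter.unusedSectionVars false
set_option linter.style.haveILetI false

namespace Cfsg.Agent.Aschbacher

open scoped MatrixGroups Matrix
open Cfsg.Geo

variable {ι : Type} [Fintype ι] [DecidableEq ι] {F : Type*} [Field F]

/-- A decomposition into lines comes from a basis permuted up to scalars by its stabiliser. -/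
lemma exists_frame {t : ℕ} {D : Fin t → Submodule F (ι → F)} (hD : IsMDecomposition 1 D) :
    ∃ b : Module.Basis (Fin t) F (ι → F), ∀ g ∈ decompositionStabilizer D,
      ∃ (σ : Equiv.Perm (Fin t)) (a : Fin t → F), (∀ i, a i ≠ 0) ∧
        ∀ i, (g : Matrix ι ι F) *ᵥ b i = a i • b (σ i) := by
  have hex : ∀ i, ∃ v ∈ D i, v ≠ 0 := fun i => Submodule.exists_mem_ne_zero_of_ne_bot fun h => by
    have := hD.finrank_eq i
    rw [h, finrank_bot] at this
    exact one_ne_zero this.symm
  choose v hv hv0 using hex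
  have hli : LinearIndependent F v := hD.indep.linearIndependent _ hv hv0
  have hline : ∀ i, ∀ w ∈ D i, ∃ c : F, w = c • v i := by
    intro i w hw
    obtain ⟨c, hc⟩ := exists_smul_eq_of_finrank_eq_one (hD.finrank_eq i)
      (x := ⟨v i, hv i⟩) (fun h => hv0 i (congrArg Subtype.val h)) ⟨w, hw⟩
    exact ⟨c, (congrArg Subtype.val hc).symm⟩
  have hspan : ⊤ ≤ Submodule.span F (Set.range v) := by
    rw [← hD.iSup_eq_top]
    refine iSup_le fun i w hw => ?_
    obtain ⟨c, rfl⟩ := hline i w hw
    exact Submodule.smul_mem _ _ (Submodule.subset_span ⟨i, rfl⟩)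
  refine ⟨Module.Basis.mk hli hspan, fun g hg => ?_⟩
  obtain ⟨σ, hσ⟩ := hg
  have hmem : ∀ i, (g : Matrix ι ι F) *ᵥ v i ∈ D (σ i) := fun i =>
    hσ i ▸ ⟨v i, hv i, Matrix.toLin'_apply _ _⟩
  choose a ha using fun i => hline _ _ (hmem i)
  refine ⟨σ, a, fun i h => hv0 i ?_, fun i => by simp [ha]⟩
  have h0 : (g : Matrix ι ι F) *ᵥ v i = 0 := by rw [ha, h, zero_smul]
  have := congrArg (((g⁻¹ : GL ι F) : Matrix ι ι F) *ᵥ ·) h0
  simpa only [Matrix.mulVec_mulVec, ← Units.val_mul, inv_mul_cancel, Units.val_one,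
    Matrix.one_mulVec, Matrix.mulVec_zero] using this

/-- Coordinates of the image under a monomial map. -/
lemma frame_repr {t : ℕ} (b : Module.Basis (Fin t) F (ι → F)) {M : Matrix ι ι F}
    {σ : Equiv.Perm (Fin t)} {a : Fin t → F} (h : ∀ i, M *ᵥ b i = a i • b (σ i))
    (u : ι → F) (i : Fin t) : b.repr (M *ᵥ u) (σ i) = a i * b.repr u i := by
  have h1 : M *ᵥ u = ∑ j, (a (σ.symm j) * b.repr u (σ.symm j)) • b j := by
    conv_lhs => rw [← b.sum_repr u]
    rw [Matrix.mulVec_sum]
    refine Fintype.sum_equiv σ _ _ fun j => ?_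
    rw [Matrix.mulVec_smul, h, smul_smul, Equiv.symm_apply_apply, mul_comm]
  rw [h1, b.repr_sum_self, Equiv.symm_apply_apply]

/-- The diagonal form of a frame. -/
noncomputable def frameForm {t : ℕ} (b : Module.Basis (Fin t) F (ι → F)) (σ : F →+* F) (u v : ι → F) : F :=
  ∑ i, b.repr u i * σ (b.repr v i)

lemma frameForm_invariant {t : ℕ} {b : Module.Basis (Fin t) F (ι → F)} {σ : F →+* F}
    {M : Matrix ι ι F} {π : Equiv.Perm (Fin t)} {a : Fin t → F}
    (h : ∀ i, M *ᵥ b i = a i • b (π i)) (ha : ∀ i, a i * σ (a i) = 1) (u v : ι → F) :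
    frameForm b σ (M *ᵥ u) (M *ᵥ v) = frameForm b σ u v := by
  rw [frameForm, ← Equiv.sum_comp π]
  refine Finset.sum_congr rfl fun i _ => ?_
  rw [frame_repr b h, frame_repr b h, map_mul]
  linear_combination (b.repr u i * σ (b.repr v i)) * ha i

lemma frameForm_nondegenerate {t : ℕ} (b : Module.Basis (Fin t) F (ι → F)) (σ : F →+* F) :
    IsNondegenerateForm (frameForm b σ) := by
  intro v hv
  obtain ⟨i, hi⟩ : ∃ i, b.repr v i ≠ 0 := by
    by_contra h; push Not at h
    exact hv (b.repr.map_eq_zero_iff.mp (Finsupp.ext fun i => h i))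
  constructor
  · refine ⟨b i, ?_⟩
    rw [frameForm, Finset.sum_eq_single i (fun j _ hj => by simp [Finsupp.single_eq_of_ne hj])
      (by simp)]
    simpa using hi
  · refine ⟨b i, ?_⟩
    rw [frameForm, Finset.sum_eq_single i (fun j _ hj => by simp [Finsupp.single_eq_of_ne hj])
      (by simp)]
    simpa using hi

variable [Fintype F]

/-- Over the field with two elements the stabiliser of a frame fixes a nonzero proper subspace. -/
lemma frame_two {t : ℕ} {D : Fin t → Submodule F (ι → F)} (hD : IsMDecomposition 1 D)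
    (hq : Fintype.card F = 2) :
    ∃ W : Submodule F (ι → F), W ≠ ⊥ ∧ W ≠ ⊤ ∧ decompositionStabilizer D ≤ subspaceStabilizer W := by
  obtain ⟨b, hb⟩ := exists_frame hD
  have ht := hD.two_le
  haveI : Nonempty (Fin t) := ⟨⟨0, by omega⟩⟩
  have hne : (∑ i, b i) ≠ 0 := fun h => by
    have := congrArg (fun w => b.repr w (Classical.arbitrary (Fin t))) h
    simp [Finsupp.finsetSum_apply, Finsupp.single_apply] at this
  refine ⟨F ∙ (∑ i, b i), by simpa using hne, fun h => ?_, fun g hg => ?_⟩
  · have h1 := finrank_span_singleton (K := F) hne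
    rw [h, finrank_top, Module.finrank_eq_card_basis b, Fintype.card_fin] at h1
    omega
  · have hfix : ∀ x ∈ decompositionStabilizer D,
        ((x : GL ι F) : Matrix ι ι F) *ᵥ (∑ i, b i) = ∑ i, b i := by
      intro x hx
      obtain ⟨σ, a, ha, h⟩ := hb x hx
      rw [Matrix.mulVec_sum]
      conv_rhs => rw [← Equiv.sum_comp σ]
      refine Finset.sum_congr rfl fun i _ => ?_
      have : a i = 1 := by
        have := FiniteField.pow_card_sub_one_eq_one (a i) (ha i)
        simpa [hq] using this
      rw [h, this, one_smul]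
    have key : ∀ x ∈ decompositionStabilizer D, ∀ v ∈ F ∙ (∑ i, b i),
        ((x : GL ι F) : Matrix ι ι F) *ᵥ v ∈ F ∙ (∑ i, b i) := by
      intro x hx v hv
      obtain ⟨c, rfl⟩ := Submodule.mem_span_singleton.mp hv
      rw [Matrix.mulVec_smul, hfix x hx]
      exact hv
    intro v
    refine ⟨key g hg v, fun hv => ?_⟩
    have h2 := key g⁻¹ ((decompositionStabilizer D).inv_mem hg) _ hv
    have e : ((g⁻¹ : GL ι F) : Matrix ι ι F) *ᵥ ((g : Matrix ι ι F) *ᵥ v) = v := by
      rw [Matrix.mulVec_mulVec, ← Units.val_mul, inv_mul_cancel, Units.val_one, Matrix.one_mulVec]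
    exact e ▸ h2

/-- Over the field with three elements the stabiliser of a frame preserves a quadratic form. -/
lemma frame_three {t : ℕ} {D : Fin t → Submodule F (ι → F)} (hD : IsMDecomposition 1 D)
    (hq : Fintype.card F = 3) :
    ∃ Q : (ι → F) → F, IsNondegenerateQuadraticForm Q ∧
      decompositionStabilizer D ≤ quadSimilarityGroup Q := by
  obtain ⟨b, hb⟩ := exists_frame hD
  have h2 : (2 : F) ≠ 0 := fun h => by
    have h3 : ((Fintype.card F : ℕ) : F) = 0 := FiniteField.cast_card_eq_zero F
    rw [hq] at h3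
    exact one_ne_zero (show (1 : F) = 0 by push_cast at h3; linear_combination h3 - h)
  let f := frameForm b (RingHom.id F)
  have hpol : ∀ u v, QuadraticMap.polar (fun w => f w w) u v = 2 * f u v := by
    intro u v
    simp only [QuadraticMap.polar, f, frameForm, Finset.mul_sum, ← Finset.sum_sub_distrib, map_add,
      Finsupp.add_apply, RingHom.id_apply]
    exact Finset.sum_congr rfl fun i _ => by ring
  refine ⟨fun w => f w w, ⟨fun c v => ?_, ⟨?_, ?_, ?_, ?_⟩, fun v hv => ?_⟩, fun g hg => ⟨1, fun v => ?_⟩⟩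
  · simp only [f, frameForm, map_smul, Finsupp.smul_apply, smul_eq_mul, RingHom.id_apply,
      Finset.mul_sum]
    exact Finset.sum_congr rfl fun i _ => by ring
  · intro x y v
    rw [hpol, hpol, hpol]
    simp only [f, frameForm, map_add, Finsupp.add_apply, add_mul, Finset.sum_add_distrib, mul_add]
  · intro c x v
    rw [hpol, hpol]
    simp only [f, frameForm, map_smul, Finsupp.smul_apply, smul_eq_mul, Finset.mul_sum]
    exact Finset.sum_congr rfl fun i _ => by ring
  · intro v x y
    rw [hpol, hpol, hpol]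
    simp only [f, frameForm, map_add, Finsupp.add_apply, mul_add, Finset.sum_add_distrib]
  · intro c v x
    rw [hpol, hpol]
    simp only [f, frameForm, map_smul, Finsupp.smul_apply, smul_eq_mul, Finset.mul_sum,
      RingHom.id_apply]
    exact Finset.sum_congr rfl fun i _ => by ring
  · obtain ⟨⟨x, hx⟩, ⟨y, hy⟩⟩ := frameForm_nondegenerate b (RingHom.id F) v hv
    exact ⟨⟨x, by rw [hpol]; exact mul_ne_zero h2 hx⟩, ⟨y, by rw [hpol]; exact mul_ne_zero h2 hy⟩⟩
  · obtain ⟨σ, a, ha, h⟩ := hb g hg
    rw [Units.val_one, one_mul]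
    refine frameForm_invariant h (fun i => ?_) v v
    have := FiniteField.pow_card_sub_one_eq_one (a i) (ha i)
    rw [hq] at this
    simpa [sq] using this

/-- Over the field with four elements the stabiliser of a frame preserves a unitary form. -/
lemma frame_four {t : ℕ} {D : Fin t → Submodule F (ι → F)} (hD : IsMDecomposition 1 D)
    (hq : Fintype.card F = 4) :
    ∃ (τ : F ≃+* F) (f : (ι → F) → (ι → F) → F), IsUnitaryForm τ f ∧
      decompositionStabilizer D ≤ similarityGroup f := by
  obtain ⟨b, hb⟩ := exists_frame hD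
  haveI : CharP F 2 := by
    obtain ⟨p, hp⟩ := CharP.exists F
    obtain ⟨k, hk, hcard⟩ := FiniteField.card F p
    haveI := Fact.mk hk
    have hdvd : p ∣ 2 ^ 2 := by
      rw [show (2 : ℕ) ^ 2 = Fintype.card F by rw [hq]; norm_num, hcard]
      exact dvd_pow_self p k.pos.ne'
    have := (Nat.prime_dvd_prime_iff_eq hk Nat.prime_two).mp (hk.dvd_of_dvd_pow hdvd)
    exact this ▸ hp
  haveI := Fact.mk Nat.prime_two
  let τ : F ≃+* F := RingEquiv.ofBijective (frobenius F 2)
    ⟨(frobenius F 2).injective, Finite.injective_iff_surjective.mp (frobenius F 2).injective⟩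
  have hτ : ∀ a : F, τ a = a ^ 2 := fun a => rfl
  have hinv : ∀ a : F, τ (τ a) = a := fun a => by
    rw [hτ, hτ, ← pow_mul]
    have := FiniteField.pow_card a
    rwa [hq] at this
  classical
  refine ⟨τ, frameForm b τ.toRingHom, ⟨?_, hinv, ?_, ?_, ?_, frameForm_nondegenerate _ _⟩, fun g hg => ⟨1, fun u v => ?_⟩⟩
  · intro h
    have hall : ∀ a : F, a = 0 ∨ a = 1 := fun a => by
      have h1 : a ^ 2 = a := by rw [← hτ, h]; rfl
      rcases mul_eq_zero.mp (show a * (a - 1) = 0 by linear_combination h1) with h | h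
      · exact Or.inl h
      · exact Or.inr (sub_eq_zero.mp h)
    have h2 : Fintype.card F ≤ 2 := by
      rw [← Finset.card_univ]
      refine (Finset.card_le_card (t := {0, 1}) fun a _ => ?_).trans Finset.card_le_two
      rcases hall a with h | h <;> simp [h]
    omega
  · intro x y v
    simp [frameForm, add_mul, Finset.sum_add_distrib]
  · intro c x v
    simp [frameForm, Finset.mul_sum, mul_assoc]
  · intro v w
    simp only [frameForm, map_sum, map_mul, RingEquiv.toRingHom_eq_coe, RingEquiv.coe_toRingHom, hinv]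
    exact Finset.sum_congr rfl fun i _ => mul_comm _ _
  · obtain ⟨σ, a, ha, h⟩ := hb g hg
    rw [Units.val_one, one_mul]
    refine frameForm_invariant h (fun i => ?_) u v
    show a i * τ (a i) = 1
    rw [hτ, ← pow_succ']
    have := FiniteField.pow_card_sub_one_eq_one (a i) (ha i)
    rw [hq] at this
    exact this

end Cfsg.Agent.Aschbacher
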