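/-
The symplectic-type group of order 64 in dimension four and the monomial matrices with fourth roots
of unity that normalise it.
-/
import Cfsg.Agent.Aschbacher.Basic

set_option autoImplicit false
set_option Elab.async false
set_option maxHeartbeats 1000000
set_option linter.unusedSectionVars false
set_option linter.style.haveILetI false

namespace Cfsg.Agent.Aschbacher.Four

open scoped MatrixGroups Matrix
open Cfsg.Geo

/-- The pairing of two two-bit numbers, with values in {0, 2}. -/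
def d : Fin 4 → Fin 4 → ZMod 4 :=
  ![![0, 0, 0, 0], ![0, 2, 0, 2], ![0, 0, 2, 2], ![0, 2, 2, 0]]

/-- Bitwise addition of two-bit numbers. -/
def xo : Fin 4 → Fin 4 → Fin 4 :=
  ![![0, 1, 2, 3], ![1, 0, 3, 2], ![2, 3, 0, 1], ![3, 2, 1, 0]]

lemma xo_invol : ∀ v x, xo v (xo v x) = x := by decide
lemma xo_assoc : ∀ v w x, xo w (xo v x) = xo (xo v w) x := by decide
lemma d_left : ∀ u w x, d (xo u w) x = d u x + d w x := by decide
lemma d_right : ∀ u v x, d u (xo v x) = d u v + d u x := by decide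
lemma d_comm : ∀ u v, d u v = d v u := by decide
lemma two_d : ∀ u v, 2 * d u v = 0 := by decide
lemma perm_conj : ∀ (τ : Equiv.Perm (Fin 4)) (v : Fin 4),
    ∃ w, ∀ x, xo v (τ x) = τ (xo w x) := by decide
lemma d_perm : ∀ (τ : Equiv.Perm (Fin 4)) (u : Fin 4),
    ∃ (m : ZMod 4) (u' : Fin 4), ∀ x, d u (τ x) = m + d u' x := by decide
lemma diag_conj : ∀ (w : Fin 4) (b0 b1 b2 b3 : ZMod 4), 2 * (b0 + b1 + b2 + b3) = 0 →
    ∃ (m : ZMod 4) (u' : Fin 4),
      ∀ x, ![b0, b1, b2, b3] x - ![b0, b1, b2, b3] (xo w x) = m + d u' x := by decide +kernel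

/-- Parameters of the elements of the group. -/
abbrev Par := ZMod 4 × Fin 4 × Fin 4

/-- The exponents of an element. -/
def expo (p : Par) : Fin 4 → ZMod 4 := fun x => p.1 + d p.2.1 x

/-- Translation. -/
def xorPerm (v : Fin 4) : Equiv.Perm (Fin 4) := ⟨xo v, xo v, xo_invol v, xo_invol v⟩

/-- Product of parameters. -/
def pmul (p q : Par) : Par :=
  (p.1 + q.1 + d q.2.1 p.2.2, xo p.2.1 q.2.1, xo p.2.2 q.2.2)

/-- Inverse of parameters. -/
def pinv (p : Par) : Par := (-p.1 + d p.2.1 p.2.2, p.2.1, p.2.2)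

lemma pmul_pinv : ∀ p, pmul p (pinv p) = (0, 0, 0) := by decide
lemma pinv_pmul : ∀ p, pmul (pinv p) p = (0, 0, 0) := by decide
lemma xorPerm_trans (v w : Fin 4) : (xorPerm v).trans (xorPerm w) = xorPerm (xo v w) :=
  Equiv.ext fun x => xo_assoc v w x
lemma noncentral : ∀ u v : Fin 4, (u, v) ≠ (0, 0) → ∃ u' v', d u' v ≠ d u v' := by decide
/-- Diagonal exponents moving a translation to a non-commuting element. -/
lemma moving : ∀ v : Fin 4, v ≠ 0 → ∃ b : Fin 4 → Fin 2,
    2 * ∑ x, ((b x).val : ZMod 4) = 0 ∧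
      ∀ (m : ZMod 4) (w : Fin 4),
        (∀ x, ((b x).val : ZMod 4) - (b (xo v x)).val = m + d w x) → d w v ≠ 0 := by decide +kernel

variable {F : Type*} [Field F] {J : F}

/-- Powers of the fourth root of unity. -/
def zp (J : F) (k : ZMod 4) : F := J ^ k.val

variable (hJ : J ^ 2 = -1)

include hJ in
lemma pow_four : J ^ 4 = 1 := by
  rw [show (4 : ℕ) = 2 * 2 from rfl, pow_mul, hJ]; ring

include hJ in
lemma zp_add (a b : ZMod 4) : zp J (a + b) = zp J a * zp J b := by
  rw [zp, zp, zp, ← pow_add, ZMod.val_add]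
  conv_rhs => rw [← Nat.mod_add_div (a.val + b.val) 4, pow_add, pow_mul, pow_four hJ, one_pow, mul_one]

include hJ in
lemma zp_ne_zero (a : ZMod 4) : zp J a ≠ 0 := by
  refine pow_ne_zero _ fun h => ?_
  rw [h, zero_pow two_ne_zero, eq_comm, neg_eq_zero] at hJ
  exact one_ne_zero hJ

include hJ in
lemma zp_zero : zp J (0 : ZMod 4) = 1 := by simp [zp]

include hJ in
lemma zp_neg_mul (a : ZMod 4) : zp J (-a) * zp J a = 1 := by
  rw [← zp_add hJ, neg_add_cancel, zp_zero hJ]

variable (h2 : (2 : F) ≠ 0)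

include hJ h2 in
lemma zp_eq_one {a : ZMod 4} (h : zp J a = 1) : a = 0 := by
  have h11 : (-1 : F) ≠ 1 := fun h' => h2 (by linear_combination -h')
  fin_cases a
  · rfl
  all_goals exfalso; apply h2
  · have h' : J = 1 := by simpa [zp, ZMod.val] using h
    rw [h', one_pow] at hJ; linear_combination hJ
  · have h' : J ^ 2 = 1 := by simpa [zp, ZMod.val] using h
    rw [hJ] at h'; exact absurd h' h11
  · have h' : J ^ 3 = 1 := by simpa [zp, ZMod.val] using h
    have : J = -1 := by linear_combination J * hJ - h'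
    rw [this] at hJ; linear_combination hJ

include hJ h2 in
lemma zp_injective : Function.Injective (zp J) := by
  intro a b h
  have : zp J (a - b) = 1 := by
    rw [sub_eq_add_neg, zp_add hJ, h, mul_comm, zp_neg_mul hJ]
  exact sub_eq_zero.mp (zp_eq_one hJ h2 this)

/-- A monomial matrix with entries powers of J. -/
def mat (J : F) (σ : Equiv.Perm (Fin 4)) (a : Fin 4 → ZMod 4) : Matrix (Fin 4) (Fin 4) F :=
  Matrix.of fun i j => if j = σ i then zp J (a i) else 0


lemma mat_mul_apply (σ : Equiv.Perm (Fin 4)) (a : Fin 4 → ZMod 4) (M : Matrix (Fin 4) (Fin 4) F)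
    (i j : Fin 4) : (mat J σ a * M) i j = zp J (a i) * M (σ i) j := by
  simp [mat, Matrix.mul_apply]

lemma mul_mat_apply (σ : Equiv.Perm (Fin 4)) (a : Fin 4 → ZMod 4) (M : Matrix (Fin 4) (Fin 4) F)
    (i j : Fin 4) : (M * mat J σ a) i j = M i (σ.symm j) * zp J (a (σ.symm j)) := by
  simp [mat, Matrix.mul_apply, ← Equiv.symm_apply_eq]

include hJ in
lemma mat_mul (σ τ : Equiv.Perm (Fin 4)) (a b : Fin 4 → ZMod 4) :
    mat J σ a * mat J τ b = mat J (σ.trans τ) (a + b ∘ σ) := by
  ext i j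
  rw [mat_mul_apply]
  simp [mat, zp_add hJ]

include hJ in
lemma mat_one : mat J 1 (fun _ => 0) = 1 := by
  ext i j
  simp [mat, zp_zero hJ, Matrix.one_apply, eq_comm]

/-- A monomial matrix as an invertible matrix. -/
def mon (hJ : J ^ 2 = -1) (σ : Equiv.Perm (Fin 4)) (a : Fin 4 → ZMod 4) : GL (Fin 4) F :=
  ⟨mat J σ a, mat J σ.symm fun x => -a (σ.symm x),
    by rw [mat_mul hJ, ← mat_one hJ]; congr 1
       · exact Equiv.self_trans_symm σ
       · funext x; simp,
    by rw [mat_mul hJ, ← mat_one hJ]; congr 1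
       · exact Equiv.symm_trans_self σ
       · funext x; simp⟩

lemma mon_val (σ : Equiv.Perm (Fin 4)) (a : Fin 4 → ZMod 4) :
    (mon hJ σ a : Matrix (Fin 4) (Fin 4) F) = mat J σ a := rfl

lemma mon_mul (σ τ : Equiv.Perm (Fin 4)) (a b : Fin 4 → ZMod 4) :
    mon hJ σ a * mon hJ τ b = mon hJ (σ.trans τ) (a + b ∘ σ) := Units.ext (mat_mul hJ σ τ a b)

/-- An element of the group. -/
def el (hJ : J ^ 2 = -1) (p : Par) : GL (Fin 4) F := mon hJ (xorPerm p.2.2) (expo p)

lemma el_zero : el hJ (0, 0, 0) = 1 := by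
  refine Units.ext ?_
  rw [el, mon_val, Units.val_one, ← mat_one hJ]
  congr 1
  · exact Equiv.ext (by decide)
  · funext x; revert x; decide

lemma el_mul (p q : Par) : el hJ p * el hJ q = el hJ (pmul p q) := by
  rw [el, el, el, mon_mul, xorPerm_trans]
  congr 1
  funext x
  simp only [expo, pmul, Pi.add_apply, Function.comp_apply]
  rw [show xorPerm p.2.2 x = xo p.2.2 x from rfl, d_right, d_left]
  ring

include h2 in
lemma el_injective : Function.Injective (el hJ) := by
  intro p q h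
  have h' : mat J (xorPerm p.2.2) (expo p) = mat J (xorPerm q.2.2) (expo q) :=
    congrArg Units.val h
  have key : ∀ i, xorPerm p.2.2 i = xorPerm q.2.2 i ∧ expo p i = expo q i := by
    intro i
    have := congrFun (congrFun h' i) (xorPerm p.2.2 i)
    simp only [mat, Matrix.of_apply, if_pos] at this
    split_ifs at this with hc
    · exact ⟨hc, zp_injective hJ h2 this⟩
    · exact absurd this (zp_ne_zero hJ _)
  have hfin : ∀ u u' : Fin 4, (∀ x, d u x = d u' x) → u = u' := by decide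
  have hv : p.2.2 = q.2.2 := by
    have h0 := (key 0).1
    revert h0
    generalize p.2.2 = a
    generalize q.2.2 = b
    revert a b
    decide
  have hd0 : ∀ u, d u 0 = 0 := by decide
  have hk : p.1 = q.1 := by
    have := (key 0).2
    simpa [expo, hd0] using this
  have hu : p.2.1 = q.2.1 := hfin _ _ fun x => by
    have := (key x).2
    simpa [expo, hk] using this
  exact Prod.ext hk (Prod.ext hu hv)

/-- The group. -/
def R₀ (hJ : J ^ 2 = -1) : Subgroup (GL (Fin 4) F) where
  carrier := Set.range (el hJ)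
  one_mem' := ⟨_, el_zero hJ⟩
  mul_mem' := by rintro _ _ ⟨p, rfl⟩ ⟨q, rfl⟩; exact ⟨_, (el_mul hJ p q).symm⟩
  inv_mem' := by
    rintro _ ⟨p, rfl⟩
    exact ⟨pinv p, eq_inv_of_mul_eq_one_left (by rw [el_mul, pinv_pmul, el_zero])⟩

lemma mem_R₀ {g : GL (Fin 4) F} : g ∈ R₀ hJ ↔ ∃ p, el hJ p = g := Iff.rfl

lemma el_mem (p : Par) : el hJ p ∈ R₀ hJ := ⟨p, rfl⟩

lemma el_inv (p : Par) : (el hJ p)⁻¹ = el hJ (pinv p) :=
  inv_eq_of_mul_eq_one_right (by rw [el_mul, pmul_pinv, el_zero])

/-- Monomial matrices with exponent sum even normalise the group. -/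
lemma mon_conj {τ : Equiv.Perm (Fin 4)} {b : Fin 4 → ZMod 4} (hb : 2 * ∑ x, b x = 0) (p : Par) :
    ∃ (q : Par), mon hJ τ b * el hJ p = el hJ q * mon hJ τ b ∧
      (τ = 1 → q.2.2 = p.2.2 ∧ ∃ (m : ZMod 4) (w : Fin 4),
        (∀ x, b x - b (xo p.2.2 x) = m + d w x) ∧ q.2.1 = xo p.2.1 w) := by
  obtain ⟨k, u, v⟩ := p
  obtain ⟨w, hw⟩ := perm_conj τ v
  obtain ⟨m₁, u₁, h₁⟩ := d_perm τ u
  rw [Fin.sum_univ_four] at hb
  obtain ⟨m₂, u₂, h₂⟩ := diag_conj w (b 0) (b 1) (b 2) (b 3) hb
  have hb4 : ![b 0, b 1, b 2, b 3] = b := by funext x; fin_cases x <;> rfl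
  rw [hb4] at h₂
  refine ⟨(k + m₁ + m₂, xo u₁ u₂, w), ?_, ?_⟩
  · rw [el, el, mon_mul, mon_mul]
    congr 1
    · exact Equiv.ext hw
    · funext x
      simp only [expo, Pi.add_apply, Function.comp_apply]
      rw [show xorPerm w x = xo w x from rfl, h₁, d_left]
      linear_combination h₂ x
  · intro hτ
    subst hτ
    have hinj : ∀ a c : Fin 4, (∀ x, xo a x = xo c x) → a = c := by decide
    have hvw : v = w := hinj _ _ hw
    subst hvw
    have huu : ∀ (m : ZMod 4) (a c : Fin 4), (∀ x, d a x = m + d c x) → a = c := by decide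
    have := huu _ _ _ h₁
    subst this
    exact ⟨rfl, m₂, u₂, h₂, rfl⟩

/-- The character table of the Klein four group. -/
def four (hJ : J ^ 2 = -1) : Matrix (Fin 4) (Fin 4) F :=
  have := hJ
  Matrix.of fun i j => zp J (d i j)

include hJ h2 in
lemma sum_zp_d (w : Fin 4) : ∑ x, zp J (d w x) = if w = 0 then 4 else 0 := by
  have h2' : zp J (2 : ZMod 4) = -1 := by
    show J ^ (2 : ZMod 4).val = -1
    exact hJ
  (fin_cases w <;> simp [Fin.sum_univ_four, d, zp_zero hJ, h2']); all_goals ring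

include hJ h2 in
lemma four_sq : four hJ * four hJ = (4 : F) • (1 : Matrix (Fin 4) (Fin 4) F) := by
  ext i j
  rw [Matrix.mul_apply]
  simp only [four, Matrix.of_apply, ← zp_add hJ]
  rw [Finset.sum_congr rfl fun x _ => show zp J (d i x + d x j) = zp J (d (xo i j) x) by
    rw [d_left, d_comm x j], sum_zp_d hJ h2, Matrix.smul_apply, Matrix.one_apply]
  have : ∀ i j : Fin 4, xo i j = 0 ↔ i = j := by decide
  simp [this]

/-- The character table as an invertible matrix. -/
def fourGL (hJ : J ^ 2 = -1) (h2 : (2 : F) ≠ 0) : GL (Fin 4) F :=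
  have h4 : (4 : F) ≠ 0 := by
    rw [show (4 : F) = 2 * 2 by norm_num]; exact mul_ne_zero h2 h2
  ⟨four hJ, (4 : F)⁻¹ • four hJ,
    by rw [Matrix.mul_smul, four_sq hJ h2, smul_smul, inv_mul_cancel₀ h4, one_smul],
    by rw [Matrix.smul_mul, four_sq hJ h2, smul_smul, inv_mul_cancel₀ h4, one_smul]⟩

lemma fourGL_conj (p : Par) :
    fourGL hJ h2 * el hJ p = el hJ (p.1 + d p.2.1 p.2.2, p.2.2, p.2.1) * fourGL hJ h2 := by
  obtain ⟨k, u, v⟩ := p
  refine Units.ext (Matrix.ext fun i j => ?_)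
  rw [Units.val_mul, Units.val_mul, el, el, mon_val, mon_val, mul_mat_apply, mat_mul_apply]
  simp only [fourGL, four, Matrix.of_apply, expo, ← zp_add hJ]
  congr 1
  rw [show (xorPerm v).symm j = xo v j from rfl, show xorPerm u i = xo u i from rfl,
    d_right i v j, d_right u v j, d_left, d_comm i v]
  ring

/-- The normaliser of the group contains the monomial matrices with even exponent sum. -/
lemma mon_mem_normalizer [Finite F] {τ : Equiv.Perm (Fin 4)} {b : Fin 4 → ZMod 4}
    (hb : 2 * ∑ x, b x = 0) : mon hJ τ b ∈ subgroupNormalizer (R₀ hJ) := by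
  have key : ∀ (τ : Equiv.Perm (Fin 4)) (b : Fin 4 → ZMod 4), 2 * ∑ x, b x = 0 →
      ∀ x ∈ R₀ hJ, mon hJ τ b * x * (mon hJ τ b)⁻¹ ∈ R₀ hJ := by
    rintro τ b hb _ ⟨p, rfl⟩
    obtain ⟨q, hq, -⟩ := mon_conj hJ (τ := τ) hb p
    exact ⟨q, by rw [hq, mul_inv_cancel_right]⟩
  show _ ∈ Subgroup.normalizer (R₀ hJ : Set (GL (Fin 4) F))
  rw [Subgroup.mem_normalizer_iff]
  intro x
  refine ⟨key τ b hb x, fun hx => ?_⟩
  have hinv : (mon hJ τ b)⁻¹ = mon hJ τ.symm fun x => -b (τ.symm x) := by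
    refine inv_eq_of_mul_eq_one_right (Units.ext ?_)
    rw [mon_mul, mon_val, Units.val_one, ← mat_one hJ]
    congr 1
    · exact Equiv.self_trans_symm τ
    · funext x; simp
  have h := key τ.symm (fun x => -b (τ.symm x)) (by
    rw [Finset.sum_neg_distrib, Equiv.sum_comp τ.symm b, mul_neg, hb, neg_zero]) _ hx
  rw [← hinv] at h
  simpa [mul_assoc] using h

include h2 in
/-- The group has symplectic type, exponent four and is absolutely irreducible. -/
theorem isSymplecticType [Finite F] :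
    IsSymplecticTypeGroup 2 (R₀ hJ) ∧ ActsAbsolutelyIrreducibly (matrixSet (R₀ hJ)) ∧
      Nat.card (Subgroup.center (R₀ hJ)) = 4 ∧ Nat.card (R₀ hJ) = 2 ^ (2 + 2 * 2) := by
  have hinj := el_injective hJ h2
  have hcard : Nat.card (R₀ hJ) = 64 := by
    rw [show Nat.card (R₀ hJ) = Nat.card Par from
      (Nat.card_congr (Equiv.ofInjective _ hinj)).symm, Nat.card_eq_fintype_card]
    rfl
  have hcomm : ∀ p q : Par, el hJ p * el hJ q = el hJ q * el hJ p ↔
      d q.2.1 p.2.2 = d p.2.1 q.2.2 := by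
    intro p q
    rw [el_mul, el_mul, hinj.eq_iff]
    have hx : ∀ a c : Fin 4, xo a c = xo c a := by decide
    simp only [pmul, Prod.mk.injEq, hx p.2.1, hx p.2.2, and_true, add_comm p.1 q.1, add_right_inj]
  have hcen : ∀ p : Par, (∀ q, el hJ p * el hJ q = el hJ q * el hJ p) ↔
      p.2.1 = 0 ∧ p.2.2 = 0 := by
    intro p
    constructor
    · intro h
      by_contra hne
      obtain ⟨u', v', hne'⟩ := noncentral p.2.1 p.2.2 (by rw [Ne, Prod.mk.injEq]; exact hne)
      exact hne' ((hcomm p (0, u', v')).mp (h _))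
    · rintro ⟨h1, h2'⟩ q
      rw [hcomm, h1, h2']
      have h0 : ∀ a, d a 0 = 0 ∧ d 0 a = 0 := by decide
      rw [(h0 _).1, (h0 _).2]
  refine ⟨⟨Nat.prime_two, ?_, ?_, ?_⟩, ⟨?_, ?_⟩, ?_, ?_⟩
  · exact IsPGroup.of_card (n := 6) (by rw [hcard]; norm_num)
  · -- characteristic abelian subgroups are central, hence cyclic
    intro A hA hAc
    have hnorm : ∀ g : GL (Fin 4) F, (∀ p, ∃ q, g * el hJ p = el hJ q * g) →
        ∀ p q, g * el hJ p = el hJ q * g → (⟨el hJ p, el_mem hJ p⟩ : R₀ hJ) ∈ A →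
          (⟨el hJ q, el_mem hJ q⟩ : R₀ hJ) ∈ A := by
      intro g hg p q hpq hp
      let φ : R₀ hJ →* R₀ hJ :=
        MonoidHom.mk' (fun x => ⟨g * x * g⁻¹, by
          obtain ⟨x, p', rfl⟩ := x
          obtain ⟨q', hq'⟩ := hg p'
          exact ⟨q', by rw [hq', mul_inv_cancel_right]⟩⟩)
          (fun x y => Subtype.ext (by simp [mul_assoc]))
      have hφ : Function.Bijective φ :=
        Finite.injective_iff_bijective.mp fun x y h => by
          have := congrArg Subtype.val h
          simpa [φ] using this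
      have := (Subgroup.characteristic_iff_map_eq.mp hA) (MulEquiv.ofBijective φ hφ)
      rw [← this]
      exact ⟨_, hp, Subtype.ext (by
        show g * el hJ p * g⁻¹ = el hJ q
        rw [hpq, mul_inv_cancel_right])⟩
    have hzero : ∀ k u v, (⟨el hJ (k, u, v), el_mem hJ _⟩ : R₀ hJ) ∈ A → v = 0 := by
      intro k u v hmem
      by_contra hv
      obtain ⟨b, hb, hbne⟩ := moving v hv
      obtain ⟨q, hq, hq'⟩ := mon_conj hJ (τ := 1) hb (k, u, v)
      obtain ⟨hqv, m, w, hw, hqu⟩ := hq' rfl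
      have hmem' := hnorm _ (fun p => (mon_conj hJ (τ := 1) hb p).imp fun _ h => h.1) _ _ hq hmem
      have := congrArg Subtype.val (hAc.is_comm.comm ⟨_, hmem⟩ ⟨_, hmem'⟩)
      have hc := (hcomm (k, u, v) q).mp (congrArg Subtype.val this)
      rw [hqu, hqv, d_left, add_eq_left] at hc
      exact hbne m w hw hc
    have hscal : ∀ x ∈ A, ∃ k, (x : GL (Fin 4) F) = el hJ (k, 0, 0) := by
      rintro ⟨_, ⟨k, u, v⟩, rfl⟩ hx
      obtain rfl := hzero k u v hx
      have h4 := hnorm _ (fun p => ⟨_, fourGL_conj hJ h2 p⟩) _ _ (fourGL_conj hJ h2 (k, u, 0)) hx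
      have hu : u = 0 := hzero _ _ _ h4
      exact ⟨k, by rw [hu]⟩
    have hgen : ∀ x ∈ A, x ∈ Subgroup.zpowers (⟨el hJ (1, 0, 0), el_mem hJ _⟩ : R₀ hJ) := by
      intro x hx
      obtain ⟨k, hk⟩ := hscal x hx
      refine ⟨(k.val : ℤ), Subtype.ext ?_⟩
      have key : ∀ n : ℕ, el hJ (1, 0, 0) ^ n = el hJ ((n : ZMod 4), 0, 0) := by
        intro n
        induction n with
        | zero => rw [pow_zero, Nat.cast_zero, el_zero]
        | succ n ih =>
          rw [pow_succ, ih, el_mul]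
          congr 1
          have h00 : d 0 0 = 0 ∧ xo 0 0 = 0 := by decide
          simp [pmul, h00]
      show el hJ (1, 0, 0) ^ (k.val : ℤ) = _
      rw [zpow_natCast, key, ZMod.natCast_zmod_val, hk]
    exact isCyclic_of_injective (Subgroup.inclusion hgen) (Subgroup.inclusion_injective hgen)
  · -- exponent four
    rw [show 2 * Nat.gcd 2 2 = 4 from rfl]
    refine Nat.dvd_antisymm (Monoid.exponent_dvd_of_forall_pow_eq_one ?_) ?_
    · rintro ⟨_, p, rfl⟩
      refine Subtype.ext ?_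
      show el hJ p ^ (2 + 2) = 1
      have : ∀ p, pmul (pmul p p) (pmul p p) = (0, 0, 0) := by decide
      rw [pow_add, sq, el_mul, el_mul, this, el_zero]
    · have ho : orderOf (⟨el hJ (1, 0, 0), el_mem hJ _⟩ : R₀ hJ) = 2 ^ 2 := by
        haveI : Fact (Nat.Prime 2) := ⟨Nat.prime_two⟩
        refine orderOf_eq_prime_pow (fun h => ?_) (Subtype.ext ?_)
        · have h' : el hJ (1, 0, 0) ^ 2 = el hJ (0, 0, 0) := by
            rw [el_zero]; simpa using congrArg Subtype.val h
          rw [sq, el_mul, hinj.eq_iff] at h'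
          exact absurd h' (by decide)
        · show el hJ (1, 0, 0) ^ (2 + 2) = 1
          rw [pow_add, sq, el_mul, el_mul, ← el_zero hJ,
            hinj.eq_iff]
          decide
      show 2 ^ 2 ∣ _
      rw [← ho]
      exact Monoid.order_dvd_exponent _
  · -- irreducible
    intro W hW
    by_cases hbot : W = ⊥
    · exact Or.inl hbot
    right
    obtain ⟨w, hw, hw0⟩ := Submodule.exists_mem_ne_zero_of_ne_bot hbot
    obtain ⟨i, hi⟩ := Function.ne_iff.mp hw0
    have hinv : ∀ p, ∀ y ∈ W, (el hJ p : Matrix (Fin 4) (Fin 4) F) *ᵥ y ∈ W := fun p y hy =>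
      hW _ (mem_matrixSet (el_mem hJ p)) ⟨y, hy, Matrix.toLin'_apply _ _⟩
    have hval : ∀ (k : ZMod 4) (u v : Fin 4) (y : Fin 4 → F) (x : Fin 4),
        ((el hJ (k, u, v) : Matrix (Fin 4) (Fin 4) F) *ᵥ y) x = zp J (k + d u x) * y (xo v x) := by
      intro k u v y x
      rw [el, mon_val]
      show ∑ j, mat J (xorPerm v) (expo (k, u, v)) x j * y j = _
      rw [Finset.sum_eq_single (xo v x) (fun j _ hj => by simp [mat, xorPerm, hj]) (by simp)]
      simp [mat, xorPerm, expo]
    have h4 : (4 : F) ≠ 0 := by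
      rw [show (4 : F) = 2 * 2 by norm_num]; exact mul_ne_zero h2 h2
    have hei : (Pi.single i 1 : Fin 4 → F) ∈ W := by
      have hsum : ∑ u, ((el hJ (d u i, u, 0) : Matrix (Fin 4) (Fin 4) F) *ᵥ w)
          = ((4 : F) * w i) • Pi.single i 1 := by
        funext x
        rw [Finset.sum_apply]
        simp only [hval]
        have h0 : ∀ x, xo 0 x = x := by decide
        have hxo : ∀ i x : Fin 4, xo i x = 0 ↔ x = i := by decide
        simp only [h0, ← Finset.sum_mul]
        rw [Finset.sum_congr rfl fun u _ => show zp J (d u i + d u x) = zp J (d (xo i x) u) by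
          rw [d_left, d_comm u i, d_comm u x], sum_zp_d hJ h2]
        by_cases hxi : x = i
        · subst hxi; simp [(hxo x x).mpr rfl]
        · simp [hxo, hxi]
      have hmem : ((4 : F) * w i) • (Pi.single i 1 : Fin 4 → F) ∈ W := by
        rw [← hsum]; exact W.sum_mem fun u _ => hinv _ w hw
      have := W.smul_mem ((4 : F) * w i)⁻¹ hmem
      rwa [smul_smul, inv_mul_cancel₀ (mul_ne_zero h4 hi), one_smul] at this
    refine Submodule.eq_top_iff'.mpr fun y => ?_
    rw [← Finset.univ_sum_single y]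
    refine W.sum_mem fun x _ => ?_
    have h := W.smul_mem (y x) (hinv (0, 0, xo x i) _ hei)
    convert h using 1
    funext j
    rw [Pi.smul_apply, hval]
    have h1 : ∀ a b c : Fin 4, xo (xo a b) c = b ↔ c = a := by decide
    have h0 : ∀ c, d 0 c = 0 := by decide
    by_cases hj : j = x
    · subst hj; simp [h0, zp_zero hJ, (h1 j i j).mpr rfl]
    · simp [h0, zp_zero hJ, hj, h1]
  · -- centraliser
    intro M hM
    have hcm : ∀ p, M * (el hJ p : Matrix (Fin 4) (Fin 4) F) = (el hJ p : Matrix (Fin 4) (Fin 4) F) * M :=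
      fun p => hM _ (mem_matrixSet (el_mem hJ p))
    have hdiag : ∀ i j, i ≠ j → M i j = 0 := by
      intro i j hij
      have hsep : ∀ i j : Fin 4, i ≠ j → ∃ u, d u i ≠ d u j := by decide
      obtain ⟨u, hu⟩ := hsep i j hij
      have := congrFun (congrFun (hcm (0, u, 0)) i) j
      rw [el, mon_val, mul_mat_apply, mat_mul_apply] at this
      have h0 : ∀ x, xo 0 x = x := by decide
      simp only [show ∀ x, (xorPerm 0).symm x = x from h0, show ∀ x, xorPerm 0 x = x from h0,
        expo, zero_add] at this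
      by_contra hne
      exact hu (zp_injective hJ h2 (mul_left_cancel₀ hne (this.trans (mul_comm _ _)))).symm
    refine ⟨M 0 0, Matrix.ext fun i j => ?_⟩
    by_cases hij : i = j
    · subst hij
      have := congrFun (congrFun (hcm (0, 0, i)) 0) i
      rw [el, mon_val, mul_mat_apply, mat_mul_apply] at this
      have h1 : ∀ v, xo v v = 0 ∧ xo v 0 = v := by decide
      simp only [show (xorPerm i).symm i = 0 from (h1 i).1, show xorPerm i 0 = i from (h1 i).2,
        expo, zero_add] at this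
      have h0 : d 0 0 = 0 := by decide
      rw [h0, zp_zero hJ, mul_one, one_mul] at this
      simp [this]
    · simp [hdiag i j hij, hij]
  · -- the centre
    let f : ZMod 4 → Subgroup.center (R₀ hJ) := fun k => ⟨⟨el hJ (k, 0, 0), el_mem hJ _⟩, by
      rw [Subgroup.mem_center_iff]
      rintro ⟨_, q, rfl⟩
      exact Subtype.ext ((hcen (k, 0, 0)).mpr ⟨rfl, rfl⟩ q).symm⟩
    have hf : Function.Bijective f := by
      refine ⟨fun a b h => ?_, ?_⟩
      · have := hinj (congrArg (fun x : Subgroup.center (R₀ hJ) => ((x : R₀ hJ) : GL (Fin 4) F)) h)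
        simpa using this
      · rintro ⟨⟨_, ⟨k, u, v⟩, rfl⟩, hx⟩
        rw [Subgroup.mem_center_iff] at hx
        obtain ⟨h1, h2'⟩ := (hcen (k, u, v)).mp fun q =>
          (congrArg Subtype.val (hx ⟨el hJ q, el_mem hJ q⟩)).symm
        simp only at h1 h2'
        subst h1 h2'
        exact ⟨k, rfl⟩
    rw [← Nat.card_congr (Equiv.ofBijective f hf), Nat.card_eq_fintype_card, ZMod.card]
  · rw [hcard]; norm_num

end Cfsg.Agent.Aschbacher.Four
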