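/-
Over the field with five elements the stabiliser in SL_4 of a frame normalises a symplectic-type
group of order 64.
-/
import Cfsg.Agent.Aschbacher.SympFour
import Cfsg.Agent.Aschbacher.Frames

set_option autoImplicit false
set_option maxHeartbeats 1000000
set_option linter.unusedSectionVars false
set_option linter.style.haveILetI false

namespace Cfsg.Agent.Aschbacher

open scoped MatrixGroups Matrix
open Cfsg.Geo

variable {F : Type*} [Field F]

/-- Absolute irreducibility is invariant under conjugation. -/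
lemma absIrred_map_conj {n : ℕ} {R : Subgroup (GL (Fin n) F)} (B : GL (Fin n) F)
    (h : ActsAbsolutelyIrreducibly (matrixSet R)) :
    ActsAbsolutelyIrreducibly (matrixSet (R.map (MulAut.conj B).toMonoidHom)) := by
  have hmem : ∀ x ∈ R, ((B * x * B⁻¹ : GL (Fin n) F) : Matrix (Fin n) (Fin n) F)
      ∈ matrixSet (R.map (MulAut.conj B).toMonoidHom) := fun x hx =>
    mem_matrixSet ⟨x, hx, rfl⟩
  constructor
  · intro W hW
    have hW' : ∀ x ∈ R, ∀ w ∈ W, ((B * x * B⁻¹ : GL (Fin n) F) : Matrix (Fin n) (Fin n) F) *ᵥ w ∈ W :=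
      fun x hx w hw => hW _ (hmem x hx) ⟨w, hw, Matrix.toLin'_apply _ _⟩
    let f : (Fin n → F) →ₗ[F] (Fin n → F) := Matrix.toLin' (B : Matrix (Fin n) (Fin n) F)
    rcases eq_bot_or_eq_top h.1 (W.comap f) (fun x hx w hw => by
      simp only [Submodule.mem_comap, f, Matrix.toLin'_apply] at hw ⊢
      have h1 := hW' x hx _ hw
      rwa [Matrix.mulVec_mulVec, ← Units.val_mul, inv_mul_cancel_right, Units.val_mul,
        ← Matrix.mulVec_mulVec] at h1) with h1 | h1
    · left
      rw [eq_bot_iff]
      intro w hw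
      have : ((B⁻¹ : GL (Fin n) F) : Matrix (Fin n) (Fin n) F) *ᵥ w ∈ W.comap f := by
        simpa only [Submodule.mem_comap, f, Matrix.toLin'_apply, Matrix.mulVec_mulVec,
          ← Units.val_mul, mul_inv_cancel, Units.val_one, Matrix.one_mulVec] using hw
      rw [h1, Submodule.mem_bot] at this
      have h2 := congrArg ((B : Matrix (Fin n) (Fin n) F) *ᵥ ·) this
      simp only [Matrix.mulVec_mulVec, ← Units.val_mul, mul_inv_cancel, Units.val_one,
        Matrix.one_mulVec, Matrix.mulVec_zero] at h2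
      exact h2
    · right
      rw [eq_top_iff]
      intro w _
      have : ((B⁻¹ : GL (Fin n) F) : Matrix (Fin n) (Fin n) F) *ᵥ w ∈ W.comap f := h1 ▸ Submodule.mem_top
      simpa only [Submodule.mem_comap, f, Matrix.toLin'_apply, Matrix.mulVec_mulVec,
        ← Units.val_mul, mul_inv_cancel, Units.val_one, Matrix.one_mulVec] using this
  · intro M hM
    obtain ⟨c, hc⟩ := h.2 (cj B⁻¹ M) (by
      rintro _ ⟨x, hx, rfl⟩
      have h1 := congrArg (cj B⁻¹) (hM _ (hmem x hx))
      rw [map_mul, map_mul, cj_val, inv_inv,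
        show B⁻¹ * (B * x * B⁻¹) * B = x by group] at h1
      exact h1)
    refine ⟨c, ?_⟩
    have := congrArg (cj B) hc
    rwa [map_smul, map_one, ← cj_mul, mul_inv_cancel, cj_apply, inv_one, Units.val_one, one_mul,
      mul_one] at this

lemma center_card_map {G : Type*} [Group G] (φ : G ≃* G) (R : Subgroup G) :
    Nat.card (Subgroup.center (R.map φ.toMonoidHom)) = Nat.card (Subgroup.center R) := by
  let e := φ.subgroupMap R
  exact (Nat.card_congr (Subgroup.centerCongr e).toEquiv).symm

/-- Symplectic type is invariant under conjugation. -/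
lemma sympType_map_conj {n r : ℕ} {R : Subgroup (GL (Fin n) F)} (B : GL (Fin n) F)
    (h : IsSymplecticTypeGroup r R) :
    IsSymplecticTypeGroup r (R.map (MulAut.conj B).toMonoidHom) := by
  let e : R ≃* R.map (MulAut.conj B).toMonoidHom := (MulAut.conj B).subgroupMap R
  refine ⟨h.prime, h.pGroup.of_equiv e, fun A hA hAc => ?_, ?_⟩
  · let A' : Subgroup R := A.comap e.toMonoidHom
    let eA : A' ≃* A :=
      { toFun := fun x => ⟨e x.1, x.2⟩
        invFun := fun y => ⟨e.symm y.1, show e (e.symm y.1) ∈ A from (e.apply_symm_apply y.1).symm ▸ y.2⟩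
        left_inv := fun x => Subtype.ext (e.symm_apply_apply _)
        right_inv := fun y => Subtype.ext (e.apply_symm_apply _)
        map_mul' := fun x y => Subtype.ext (map_mul e _ _) }
    have hA' : A'.Characteristic := by
      rw [Subgroup.characteristic_iff_comap_eq]
      intro φ
      ext x
      have := SetLike.ext_iff.mp ((Subgroup.characteristic_iff_comap_eq.mp hA) ((e.symm.trans φ).trans e)) (e x)
      show e (φ x) ∈ A ↔ e x ∈ A
      rw [← this]
      show _ ↔ e (φ (e.symm (e x))) ∈ A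
      rw [e.symm_apply_apply]
    have hAc' : IsMulCommutative A' :=
      ⟨⟨fun x y => eA.injective (by rw [map_mul, map_mul]; exact hAc.is_comm.comm _ _)⟩⟩
    haveI := h.cyclic_of_characteristic A' hA' hAc'
    exact isCyclic_of_surjective eA eA.surjective
  · rw [← Monoid.exponent_eq_of_mulEquiv e]
    exact h.exponent_eq

theorem frame_five [Fintype F] (hq : Fintype.card F = 5)
    {D : Fin 4 → Submodule F (Fin 4 → F)} (hD : IsMDecomposition 1 D) :
    ∃ R : Subgroup (GL (Fin 4) F), IsLinearSymplecticTypeData 2 R ∧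
      decompositionStabilizer D ⊓ specialLinear (Fin 4) F ≤ subgroupNormalizer R := by
  obtain ⟨p, hp⟩ := CharP.exists F
  obtain ⟨k, hk, hcard⟩ := FiniteField.card F p
  have hp5 : p = 5 := by
    have hdvd : p ∣ 5 ^ 1 := by
      rw [show (5 : ℕ) ^ 1 = Fintype.card F by rw [hq]; norm_num, hcard]
      exact dvd_pow_self p k.pos.ne'
    exact (Nat.prime_dvd_prime_iff_eq hk (by norm_num)).mp (hk.dvd_of_dvd_pow hdvd)
  subst hp5
  have h2 : (2 : F) ≠ 0 := fun h => by
    have h' : ((2 : ℕ) : F) = 0 := by exact_mod_cast h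
    rw [CharP.cast_eq_zero_iff F 5] at h'
    norm_num at h'
  have hJ : (2 : F) ^ 2 = -1 := by
    have h5 : ((5 : ℕ) : F) = 0 := CharP.cast_eq_zero F 5
    push_cast at h5
    linear_combination h5
  have hlog : ∀ a : F, a ≠ 0 → ∃ k : ZMod 4, a = Four.zp (2 : F) k := by
    intro a ha
    have h4 : a ^ 4 = 1 := by
      have := FiniteField.pow_card_sub_one_eq_one a ha
      rwa [hq] at this
    have : (a - 1) * (a + 1) * ((a - 2) * (a + 2)) = 0 := by
      linear_combination h4 - (a ^ 2 - 1) * hJ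
    rcases mul_eq_zero.mp this with h | h <;> rcases mul_eq_zero.mp h with h | h
    · exact ⟨0, by rw [sub_eq_zero.mp h, Four.zp_zero hJ]⟩
    · exact ⟨2, by rw [eq_neg_of_add_eq_zero_left h]; exact hJ.symm⟩
    · exact ⟨1, by rw [sub_eq_zero.mp h]; exact (pow_one _).symm⟩
    · refine ⟨3, ?_⟩
      rw [eq_neg_of_add_eq_zero_left h]
      show -(2 : F) = 2 ^ 3
      linear_combination (-2 : F) * hJ
  obtain ⟨b, hb⟩ := exists_frame hD
  let M : Matrix (Fin 4) (Fin 4) F := Matrix.of fun i j => b j i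
  have hM : IsUnit M.det := by
    have h := (Pi.basisFun F (Fin 4)).isUnit_det b
    rwa [Module.Basis.det_apply] at h
  let B : GL (Fin 4) F := Matrix.GeneralLinearGroup.mkOfDetNeZero M hM.ne_zero
  obtain ⟨hS, hI, hZ, hC⟩ := Four.isSymplecticType hJ h2
  let R := (Four.R₀ hJ).map (MulAut.conj B).toMonoidHom
  have hZ' : Nat.card (Subgroup.center R) = 4 := (center_card_map _ _).trans hZ
  refine ⟨R, ⟨sympType_map_conj B hS, absIrred_map_conj B hI,
    5, 1, by norm_num, ⟨by norm_num, hp, by rw [hq]; norm_num, by rw [hZ']; norm_num,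
      fun d h1 h2' => by omega⟩, Or.inr (Or.inl ⟨rfl, rfl, hZ', by simp, 2, ?_⟩)⟩, ?_⟩
  · rw [← hC]
    exact (Nat.card_congr ((MulAut.conj B).subgroupMap (Four.R₀ hJ)).toEquiv).symm
  intro g hg
  obtain ⟨hgD, hgS⟩ := Subgroup.mem_inf.mp hg
  obtain ⟨σ, a, ha, h⟩ := hb g hgD
  choose e he using fun i => hlog (a i) (ha i)
  let a' : Fin 4 → ZMod 4 := fun i => e (σ.symm i)
  have hgeq : g = B * Four.mon hJ σ.symm a' * B⁻¹ := by
    rw [eq_mul_inv_iff_mul_eq]
    refine Units.ext (Matrix.ext fun i j => ?_)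
    rw [Units.val_mul, Units.val_mul, Four.mon_val, Four.mul_mat_apply]
    have h' := congrFun (h j) i
    simp only [Matrix.mulVec, dotProduct, Pi.smul_apply, smul_eq_mul] at h'
    rw [Matrix.mul_apply]
    refine h'.trans ?_
    simp only [a', Equiv.symm_symm, Equiv.symm_apply_apply, ← he]
    exact mul_comm _ _
  have hdet : (Four.mat (2 : F) σ.symm a').det = 1 := by
    have hgd : (g : Matrix (Fin 4) (Fin 4) F).det = 1 := by
      rw [specialLinear, MonoidHom.mem_ker] at hgS
      simpa using congrArg Units.val hgS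
    rw [hgeq, Units.val_mul, Units.val_mul, Matrix.det_mul_right_comm, ← Units.val_mul,
      mul_inv_cancel, Units.val_one, one_mul, Four.mon_val] at hgd
    exact hgd
  have hsum : 2 * ∑ x, a' x = 0 := by
    have hm : Four.mat (2 : F) σ.symm a' =
        Matrix.diagonal (fun i => Four.zp (2 : F) (a' i)) * σ.symm.toPEquiv.toMatrix := by
      ext i j
      rw [Matrix.diagonal_mul]
      simp [Four.mat, PEquiv.toMatrix_apply, eq_comm]
    rw [hm, Matrix.det_mul, Matrix.det_diagonal, ← Equiv.Perm.permMatrix, Matrix.det_permutation] at hdet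
    have hprod : ∀ s : Finset (Fin 4), ∏ i ∈ s, Four.zp (2 : F) (a' i) = Four.zp (2 : F) (∑ i ∈ s, a' i) := by
      intro s
      induction s using Finset.induction_on with
      | empty => simp [Four.zp_zero hJ]
      | insert x s hx ih => rw [Finset.prod_insert hx, Finset.sum_insert hx, Four.zp_add hJ, ih]
    rw [hprod] at hdet
    refine Four.zp_eq_one hJ h2 ?_
    rw [two_mul, Four.zp_add hJ]
    rcases Int.units_eq_one_or (Equiv.Perm.sign σ.symm) with hs | hs <;> rw [hs] at hdet <;>
      simp at hdet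
    · rw [hdet, one_mul]
    · rw [show Four.zp (2 : F) (∑ i, a' i) = -1 by linear_combination -hdet]
      ring
  have hmem := Four.mon_mem_normalizer hJ (τ := σ.symm) hsum
  rw [hgeq]
  show _ ∈ Subgroup.normalizer (R : Set (GL (Fin 4) F))
  rw [Subgroup.mem_normalizer_iff]
  intro x
  simp only [R, Subgroup.mem_map, MulEquiv.coe_toMonoidHom, MulAut.conj_apply]
  have hm := Subgroup.mem_normalizer_iff.mp hmem
  constructor
  · rintro ⟨y, hy, rfl⟩
    exact ⟨_, (hm y).mp hy, by group⟩
  · rintro ⟨y, hy, hyx⟩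
    refine ⟨(Four.mon hJ σ.symm a')⁻¹ * y * Four.mon hJ σ.symm a', (hm _).mpr (by simpa [mul_assoc] using hy), ?_⟩
    rw [show x = (B * Four.mon hJ σ.symm a' * B⁻¹)⁻¹ * (B * y * B⁻¹) * (B * Four.mon hJ σ.symm a' * B⁻¹) by
      rw [hyx]; group]
    group

end Cfsg.Agent.Aschbacher
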