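/-
Aschbacher's theorem, linear case.
-/
import Cfsg.Agent.Aschbacher.Structure
import Cfsg.Agent.Aschbacher.TwoFactor

set_option autoImplicit false
set_option maxHeartbeats 1000000

namespace Cfsg.Agent.Aschbacher

open scoped MatrixGroups Matrix
open Cfsg.Geo

variable {ι : Type} [Fintype ι] [DecidableEq ι] {F : Type*} [Field F]

/-- The alternatives of Aschbacher's theorem for a subgroup of GL, with the numerical side
conditions that the specialisations need. -/
inductive LinearOutcome [Fintype F] (H : Subgroup (GL ι F)) : Prop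
  | reducible (W : Submodule F (ι → F)) (h1 : W ≠ ⊥) (h2 : W ≠ ⊤) (h : H ≤ subspaceStabilizer W)
  | decomp (t m : ℕ) (D : Fin t → Submodule F (ι → F)) (hD : IsMDecomposition m D)
      (hcard : t * m = Fintype.card ι) (h : H ≤ decompositionStabilizer D)
  | field (r : ℕ) (K : Subalgebra F (Matrix ι ι F)) (hr : r.Prime) (hdvd : r ∣ Fintype.card ι)
      (hK : IsFieldSubalgebra r K) (h : H ≤ subalgebraNormalizer K)
  | tensor (n₁ n₂ : ℕ) (e : ι ≃ Fin n₁ × Fin n₂) (P : GL ι F) (h1 : 2 ≤ n₁) (h2 : n₁ < n₂)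
      (h : H ≤ tensorProductSubgroup n₁ n₂ e P)
  | subfld (F₀ : Subfield F) (r : ℕ) (P : GL ι F) (hr : r.Prime)
      (hF : Fintype.card F = Nat.card F₀ ^ r) (h : H ≤ subfieldSubgroup F₀ P)
  | symp (r m : ℕ) (R : Subgroup (GL ι F)) (hm : 1 ≤ m) (hcard : Fintype.card ι = r ^ m)
      (hR : IsLinearSymplecticTypeData r R) (hcardR : Nat.card R = Nat.card (Subgroup.center R) * r ^ (2 * m))
      (h : H ≤ subgroupNormalizer R)
  | wreath (m t : ℕ) (e : ι ≃ (Fin t → Fin m)) (P : GL ι F) (h1 : 3 ≤ m) (h2 : 2 ≤ t)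
      (hcard : Fintype.card ι = m ^ t) (h : H ≤ tensorWreathSubgroup m t e P)
  | sympForm (f : (ι → F) → (ι → F) → F) (hf : IsSymplecticForm f)
      (hev : Even (Fintype.card ι)) (h : H ≤ similarityGroup f)
  | unitForm (σ : F ≃+* F) (f : (ι → F) → (ι → F) → F) (hf : IsUnitaryForm σ f)
      (h : H ≤ similarityGroup f)
  | quadForm (Q : (ι → F) → F) (hQ : IsNondegenerateQuadraticForm Q)
      (hodd : Odd (Fintype.card F)) (h : H ≤ quadSimilarityGroup Q)
  | residual (h : InLinearResidualClass H)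

lemma odd_card_of_two_ne_zero [Fintype F] (h2 : (2 : F) ≠ 0) : Odd (Fintype.card F) := by
  rw [Nat.odd_iff]
  refine FiniteField.odd_card_of_char_ne_two fun h => h2 ?_
  haveI := ringChar.charP F
  have h22 : ((2 : ℕ) : F) = 0 := by rw [CharP.cast_eq_zero_iff F (ringChar F), h]
  exact_mod_cast h22

lemma kronecker_le_wreath {a : ℕ} (e : ι ≃ Fin a × Fin a) (P : GL ι F) :
    tensorProductSubgroup a a e P ≤
      tensorWreathSubgroup a 2 (e.trans (finTwoArrowEquiv (Fin a)).symm) P := by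
  rintro _ ⟨_, ⟨k, ⟨x, y, hk⟩, rfl⟩, rfl⟩
  let k' : GL (Fin 2 → Fin a) F := glReindex (finTwoArrowEquiv (Fin a)).symm k
  refine ⟨glReindex (e.trans (finTwoArrowEquiv (Fin a)).symm).symm k', ⟨k', Subgroup.subset_closure
    (Or.inl ⟨![x, y], fun u v => ?_⟩), rfl⟩, ?_⟩
  · show (k : Matrix (Fin a × Fin a) (Fin a × Fin a) F) (u 0, u 1) (v 0, v 1) = _
    rw [hk, Fin.prod_univ_two, Matrix.kroneckerMap_apply]
    rfl
  · rfl

lemma linearOutcome_wreath [Fintype F] {H : Subgroup (GL ι F)} {m t : ℕ} (hm : 2 ≤ m)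
    (ht : 2 ≤ t) (hcard : Fintype.card ι = m ^ t) (e : ι ≃ (Fin t → Fin m)) (P : GL ι F)
    (h : H ≤ tensorWreathSubgroup m t e P) : LinearOutcome H := by
  by_cases hm3 : 3 ≤ m
  · exact .wreath m t e P hm3 ht hcard h
  obtain rfl : m = 2 := by omega
  rcases wreath_two_le (by omega) e P with ⟨f, hf, hle⟩ | ⟨Q, hQ, hodd, hle⟩
  · exact .sympForm f hf (even_card_of_symplectic hf) (h.trans hle)
  · exact .quadForm Q hQ (by rwa [Nat.card_eq_fintype_card] at hodd) (h.trans hle)

/-- The almost simple case: a form, a subfield, or the residual class. -/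
lemma linearOutcome_core [Fintype F] [Nonempty ι] {H P : Subgroup (GL ι F)}
    (hle : P ≤ H) (h : PreCore (H ⊔ scalars ι F) P) : LinearOutcome H := by
  have hn : ∀ g ∈ H, ∀ x ∈ P, g * x * g⁻¹ ∈ P := fun g hg => h.normal g (Subgroup.mem_sup_left hg)
  by_cases hq : ∃ Q : (ι → F) → F, IsNondegenerateQuadraticForm Q ∧ FixesQuadForm (matrixSet P) Q
  · obtain ⟨Q, hQ, hfix⟩ := hq
    by_cases h2 : (2 : F) = 0
    · have hs := isSymplecticForm_polar hQ h2
      exact .sympForm _ hs (even_card_of_symplectic hs) (le_similarityGroup h.absIrred hn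
        (isSesq_of_bilinear hs.bilinear) hs.nondegenerate (fixesForm_polar hfix))
    · exact .quadForm Q hQ (odd_card_of_two_ne_zero h2) (le_quadSimilarityGroup h.absIrred hn hQ h2 hfix)
  by_cases hs : ∃ f : (ι → F) → (ι → F) → F, IsSymplecticForm f ∧ FixesForm (matrixSet P) f
  · obtain ⟨f, hf, hfix⟩ := hs
    exact .sympForm f hf (even_card_of_symplectic hf) (le_similarityGroup h.absIrred hn
      (isSesq_of_bilinear hf.bilinear) hf.nondegenerate hfix)
  by_cases hu : ∃ (σ : F ≃+* F) (f : (ι → F) → (ι → F) → F),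
      IsUnitaryForm σ f ∧ FixesForm (matrixSet P) f
  · obtain ⟨σ, f, hf, hfix⟩ := hu
    exact .unitForm σ f hf (le_similarityGroup h.absIrred hn (isSesq_of_unitary hf)
      hf.nondegenerate hfix)
  by_cases hsub : ∃ F₀ : Subfield F, F₀ ≠ ⊤ ∧ RealisableOver F₀ (matrixSet P)
  · obtain ⟨F₀, hne, B, hB⟩ := hsub
    obtain ⟨F₁, r, hle1, hr, hF₁⟩ := exists_prime_index_subfield F₀ hne
    exact .subfld F₁ r B⁻¹ hr hF₁ (le_subfieldSubgroup h.absIrred hn F₁ B
      fun s hs i j => hle1 (hB s hs i j))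
  push Not at hsub
  exact .residual ⟨P, ⟨hle, hn, h.perfect, h.simple, h.nonabelian,
    fun g hg => h.centralizer_scalar g (Subgroup.mem_sup_left hg), h.absIrred, hsub⟩, hq, hs, hu⟩

/-- Aschbacher's theorem for the linear groups, with numerical side conditions. -/
theorem linear_aschbacher [Fintype F] (H : Subgroup (GL ι F)) (hn : 3 ≤ Fintype.card ι) :
    LinearOutcome H := by
  classical
  haveI : Nonempty ι := Fintype.card_pos_iff.mp (by omega)
  by_cases hirr : ActsIrreducibly (matrixSet H)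
  swap
  · simp only [ActsIrreducibly, not_forall, not_or] at hirr
    obtain ⟨W, hW, h1, h2⟩ := hirr
    refine .reducible W h1 h2 fun g hg => ?_
    have key : ∀ x ∈ H, ∀ v ∈ W, (x : Matrix ι ι F) *ᵥ v ∈ W := fun x hx v hv => by
      simpa using hW _ (mem_matrixSet hx) (Submodule.mem_map_of_mem hv)
    intro v
    refine ⟨key g hg v, fun hv => ?_⟩
    have := key g⁻¹ (H.inv_mem hg) _ hv
    have e : ((g⁻¹ : GL ι F) : Matrix ι ι F) *ᵥ ((g : Matrix ι ι F) *ᵥ v) = v := by
      rw [Matrix.mulVec_mulVec, ← Units.val_mul, inv_mul_cancel, Units.val_one, Matrix.one_mulVec]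
    exact e ▸ this
  set H' := H ⊔ scalars ι F with hH'
  have hHle : H ≤ H' := le_sup_left
  obtain ⟨N, hZN, hNH, hNn, -, hcases⟩ := structure_theorem H' (actsIrreducibly_mono hHle hirr)
    le_sup_right (by omega)
  have hNA : H' ≤ subalgebraNormalizer (env N) :=
    le_subalgebraNormalizer fun g hg X hX => cj_mem_env (fun x hx => hNn g hg x hx) hX
  rcases hcases with ⟨t, e, he⟩ | ⟨d, hd, hK⟩ | ⟨a, ha1, ha2, ⟨f⟩⟩ | ⟨hNabs, hrest⟩
  · obtain ⟨m, hm, hle, hc⟩ := he.isMDecomposition
    exact .decomp t m _ hm hc (hHle.trans hle)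
  · obtain ⟨r, hr, hrd⟩ := Nat.exists_prime_and_dvd (show d ≠ 1 by omega)
    obtain ⟨L, hL, -, hLeq⟩ := exists_prime_subfield hK hrd (by omega)
    exact .field r L hr (isFieldSubalgebra_dvd hL) hL
      (hHle.trans ((normalizer_centre_le hNA).trans (normalizer_le_of_fieldPart hLeq)))
  · obtain ⟨b, e, P, hb, -, hle⟩ := exists_tensorProduct (by omega) (env N) f
    have hab : a * b = Fintype.card ι := by
      have := Fintype.card_congr e; simpa using this.symm
    have hb2 : 2 ≤ b := by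
      by_contra h
      have : b = 1 := by omega
      subst this; omega
    have hH : H ≤ tensorProductSubgroup a b e P := hHle.trans (hNA.trans hle)
    rcases lt_trichotomy a b with h | rfl | h
    · exact .tensor a b e P ha1 h hH
    · exact linearOutcome_wreath ha1 le_rfl (by rw [sq]; exact hab.symm) _ P
        (hH.trans (kronecker_le_wreath e P))
    · exact .tensor b a _ P hb2 h (hH.trans (tensorProductSubgroup_swap e P))
  rcases hrest with ⟨r, m, z, R, hd⟩ | ⟨t, m, A, hA⟩ | hcore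
  · rcases hd.classes hn with ⟨F₁, r', P, hr', hF, h⟩ | ⟨hR, h⟩ | ⟨f, hf, h⟩ | ⟨σ, f, hf, h⟩ |
      ⟨Q, hQ, hodd, h⟩
    · exact .subfld F₁ r' P hr' hF (hHle.trans h)
    · exact .symp r m R hd.pos hd.card_eq hR (by rw [hd.card_center, hd.card_R]) (hHle.trans h)
    · exact .sympForm f hf (even_card_of_symplectic hf) (hHle.trans h)
    · exact .unitForm σ f hf (hHle.trans h)
    · exact .quadForm Q hQ hodd (hHle.trans h)
  · have hf := fun i => (hA.iso i).some
    obtain ⟨hcard, e, P, hperm, -⟩ := exists_tensorPower (by have := hA.two_le_m; omega)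
      (by have := hA.two_le; omega) A hf hA.comm hA.gen
    refine linearOutcome_wreath hA.two_le_m hA.two_le hcard e P fun g hg => ?_
    obtain ⟨σ, hσ⟩ := hA.perm g (hHle hg)
    exact hperm g σ hσ
  · refine linearOutcome_core (P := ⁅N, N⁆) ?_ hcore
    have h1 : ⁅N, N⁆ ≤ ⁅H', H'⁆ := Subgroup.commutator_mono hNH hNH
    rw [hH', commutator_sup_scalars] at h1
    refine h1.trans (Subgroup.commutator_le.mpr fun x hx y hy => ?_)
    rw [commutatorElement_def]
    exact H.mul_mem (H.mul_mem (H.mul_mem hx hy) (H.inv_mem hx)) (H.inv_mem hy)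

end Cfsg.Agent.Aschbacher
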