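/-
Maximal subgroups of the special linear groups: the outcomes of Aschbacher's theorem as equalities.
-/
import Cfsg.Agent.Aschbacher.Linear
import Cfsg.Agent.Aschbacher.Proper
import Cfsg.Agent.Aschbacher.Frames

set_option autoImplicit false
set_option maxHeartbeats 1000000
set_option linter.unusedSectionVars false
set_option linter.style.haveILetI false

namespace Cfsg.Agent.Aschbacher

open scoped MatrixGroups Matrix
open Cfsg.Geo

variable {ι : Type} [Fintype ι] [DecidableEq ι] {F : Type*} [Field F] [Fintype F]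

/-- A maximal subgroup `H` of SL equals the trace on SL of a subgroup from one of the classes. -/
inductive MaxOutcome (H : Subgroup (GL ι F)) : Prop
  | reducible (W : Submodule F (ι → F)) (h1 : W ≠ ⊥) (h2 : W ≠ ⊤)
      (h : H = subspaceStabilizer W ⊓ specialLinear ι F)
  | decomp (t m : ℕ) (D : Fin t → Submodule F (ι → F)) (hD : IsMDecomposition m D)
      (hcard : t * m = Fintype.card ι) (hq : m = 1 → 5 ≤ Fintype.card F)
      (h : H = decompositionStabilizer D ⊓ specialLinear ι F)
  | field (r : ℕ) (K : Subalgebra F (Matrix ι ι F)) (hr : r.Prime) (hdvd : r ∣ Fintype.card ι)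
      (hK : IsFieldSubalgebra r K) (h : H = subalgebraNormalizer K ⊓ specialLinear ι F)
  | tensor (n₁ n₂ : ℕ) (e : ι ≃ Fin n₁ × Fin n₂) (P : GL ι F) (h1 : 2 ≤ n₁) (h2 : n₁ < n₂)
      (hcard : n₁ * n₂ = Fintype.card ι)
      (h : H = tensorProductSubgroup n₁ n₂ e P ⊓ specialLinear ι F)
  | subfld (F₀ : Subfield F) (r : ℕ) (P : GL ι F) (hr : r.Prime)
      (hF : Fintype.card F = Nat.card F₀ ^ r) (h : H = subfieldSubgroup F₀ P ⊓ specialLinear ι F)
  | symp (r m : ℕ) (R : Subgroup (GL ι F)) (hm : 1 ≤ m) (hcard : Fintype.card ι = r ^ m)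
      (hR : IsLinearSymplecticTypeData r R)
      (hcardR : Nat.card R = Nat.card (Subgroup.center R) * r ^ (2 * m))
      (h : H = subgroupNormalizer R ⊓ specialLinear ι F)
  | wreath (m t : ℕ) (e : ι ≃ (Fin t → Fin m)) (P : GL ι F) (h1 : 3 ≤ m) (h2 : 2 ≤ t)
      (hcard : Fintype.card ι = m ^ t) (h : H = tensorWreathSubgroup m t e P ⊓ specialLinear ι F)
  | sympForm (f : (ι → F) → (ι → F) → F) (hf : IsSymplecticForm f) (hev : Even (Fintype.card ι))
      (h : H = similarityGroup f ⊓ specialLinear ι F)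
  | unitForm (σ : F ≃+* F) (f : (ι → F) → (ι → F) → F) (hf : IsUnitaryForm σ f)
      (h : H = similarityGroup f ⊓ specialLinear ι F)
  | quadForm (Q : (ι → F) → F) (hQ : IsNondegenerateQuadraticForm Q)
      (hodd : Odd (Fintype.card F)) (h : H = quadSimilarityGroup Q ⊓ specialLinear ι F)
  | residual (h : InLinearResidualClass H)

lemma subfield_ne_top {F₀ : Subfield F} {r : ℕ} (hr : r.Prime)
    (hF : Fintype.card F = Nat.card F₀ ^ r) : F₀ ≠ ⊤ := by
  intro h
  subst h
  have e : Nat.card (⊤ : Subfield F) = Fintype.card F := by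
    rw [← Nat.card_eq_fintype_card]
    exact Nat.card_congr Subfield.topEquiv.toEquiv
  rw [e] at hF
  have h1 : 1 < Fintype.card F := Fintype.one_lt_card
  have := Nat.pow_right_injective h1 (show Fintype.card F ^ 1 = Fintype.card F ^ r by rw [pow_one]; exact hF)
  exact hr.ne_one this.symm

lemma sympData_char_ne {r : ℕ} {R : Subgroup (GL ι F)} (hR : IsLinearSymplecticTypeData r R) :
    (r : F) ≠ 0 := by
  obtain ⟨p, e, hne, ⟨hp, hc, -⟩, -⟩ := hR.field
  intro h
  rw [CharP.cast_eq_zero_iff F p] at h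
  exact hne ((Nat.prime_dvd_prime_iff_eq hp hR.symplecticType.prime).mp h).symm

lemma absIrred_not_le_scalars (h2 : 2 ≤ Fintype.card ι) {R : Subgroup (GL ι F)}
    (hR : ActsAbsolutelyIrreducibly (matrixSet R)) : ¬ R ≤ scalars ι F := by
  intro h
  obtain ⟨i, j, hij⟩ := Fintype.exists_pair_of_one_lt_card h2
  obtain ⟨c, hc⟩ := hR.2 (Matrix.single i j 1) (by
    rintro _ ⟨x, hx, rfl⟩
    obtain ⟨d, hd⟩ := (mem_scalars_iff x).mp (h hx)
    simp [hd])
  have := congrFun (congrFun hc i) j
  simp [hij] at this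

/-- Aschbacher's theorem for a maximal subgroup of SL: equality with a member of a class. -/
theorem linear_maximal (H : Subgroup (GL ι F)) (h3 : 3 ≤ Fintype.card ι)
    (hH : IsMaximalIn (specialLinear ι F) H) : MaxOutcome H := by
  haveI : Nonempty ι := Fintype.card_pos_iff.mp (by omega)
  have eq := fun {M : Subgroup (GL ι F)} (h : H ≤ M) (hM : ¬ specialLinear ι F ≤ M) =>
    maximal_eq_inf hH h hM
  cases linear_aschbacher H h3 with
  | reducible W h1 h2 h => exact .reducible W h1 h2 (eq h (subspaceStabilizer_proper h1 h2))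
  | decomp t m D hD hcard h =>
    by_cases hq : m = 1 ∧ Fintype.card F < 5
    · obtain ⟨rfl, hq⟩ := hq
      have hcases : Fintype.card F = 2 ∨ Fintype.card F = 3 ∨ Fintype.card F = 4 := by
        have : 1 < Fintype.card F := Fintype.one_lt_card
        omega
      rcases hcases with h' | h' | h'
      · obtain ⟨W, h1, h2, hle⟩ := frame_two hD h'
        exact .reducible W h1 h2 (eq (h.trans hle) (subspaceStabilizer_proper h1 h2))
      · obtain ⟨Q, hQ, hle⟩ := frame_three hD h'
        exact .quadForm Q hQ (h' ▸ by decide) (eq (h.trans hle) (quadSimilarityGroup_proper h3 hQ))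
      · obtain ⟨σ, f, hf, hle⟩ := frame_four hD h'
        exact .unitForm σ f hf (eq (h.trans hle)
          (similarityGroup_proper h3 (isSesq_of_unitary hf) hf.nondegenerate))
    · exact .decomp t m D hD hcard (fun hm => by
        rw [not_and, not_lt] at hq; exact hq hm) (eq h (decompositionStabilizer_proper hD))
  | field r K hr hdvd hK h =>
    exact .field r K hr hdvd hK (eq h (subalgebraNormalizer_proper h3 hK hr.two_le))
  | tensor n₁ n₂ e P h1 h2 h =>
    have hc : n₁ * n₂ = Fintype.card ι := by simpa using (Fintype.card_congr e).symm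
    exact .tensor n₁ n₂ e P h1 h2 hc (eq h (tensorProductSubgroup_proper e P h1 (by omega)))
  | subfld F₀ r P hr hF h =>
    exact .subfld F₀ r P hr hF (eq h (subfieldSubgroup_proper (by omega) (subfield_ne_top hr hF) P))
  | symp r m R hm hcard hR hcardR h =>
    exact .symp r m R hm hcard hR hcardR (eq h (subgroupNormalizer_proper h3
      hR.symplecticType.pGroup (sympData_char_ne hR) (absIrred_not_le_scalars (by omega) hR.absIrred)))
  | wreath m t e P h1 h2 hcard h =>
    exact .wreath m t e P h1 h2 hcard (eq h (tensorWreathSubgroup_proper e P h1 h2))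
  | sympForm f hf hev h =>
    exact .sympForm f hf hev (eq h
      (similarityGroup_proper h3 (isSesq_of_bilinear hf.bilinear) hf.nondegenerate))
  | unitForm σ f hf h =>
    exact .unitForm σ f hf (eq h (similarityGroup_proper h3 (isSesq_of_unitary hf) hf.nondegenerate))
  | quadForm Q hQ hodd h => exact .quadForm Q hQ hodd (eq h (quadSimilarityGroup_proper h3 hQ))
  | residual h => exact .residual h

/-- In prime dimension only few classes occur. -/
theorem linear_maximal_prime {n : ℕ} (hn : n.Prime) (hι : Fintype.card ι = n) (h3 : 3 ≤ n)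
    (H : Subgroup (GL ι F)) (hH : IsMaximalIn (specialLinear ι F) H) :
    (∃ W : Submodule F (ι → F), W ≠ ⊥ ∧ W ≠ ⊤ ∧ H = subspaceStabilizer W ⊓ specialLinear ι F) ∨
    (5 ≤ Fintype.card F ∧ ∃ D : Fin n → Submodule F (ι → F), IsMDecomposition 1 D ∧
      H = decompositionStabilizer D ⊓ specialLinear ι F) ∨
    (∃ K : Subalgebra F (Matrix ι ι F), IsFieldSubalgebra n K ∧
      H = subalgebraNormalizer K ⊓ specialLinear ι F) ∨
    (∃ (F₀ : Subfield F) (r : ℕ) (P : GL ι F), r.Prime ∧ Fintype.card F = Nat.card F₀ ^ r ∧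
      H = subfieldSubgroup F₀ P ⊓ specialLinear ι F) ∨
    ((∃ p e : ℕ, p.Prime ∧ CharP F p ∧ Fintype.card F = p ^ e ∧ Odd e ∧
        p ^ e % n = 1 ∧ ∀ d, 0 < d → d < e → p ^ d % n ≠ 1) ∧
      ∃ R : Subgroup (GL ι F), IsLinearSymplecticTypeData n R ∧
        H = subgroupNormalizer R ⊓ specialLinear ι F) ∨
    (Odd (Fintype.card F) ∧ ∃ Q : (ι → F) → F, IsNondegenerateQuadraticForm Q ∧
      H = quadSimilarityGroup Q ⊓ specialLinear ι F) ∨
    (∃ (σ : F ≃+* F) (f : (ι → F) → (ι → F) → F), IsUnitaryForm σ f ∧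
      H = similarityGroup f ⊓ specialLinear ι F) ∨
    InLinearResidualClass H := by
  cases linear_maximal H (hι ▸ h3) hH with
  | reducible W h1 h2 h => exact Or.inl ⟨W, h1, h2, h⟩
  | decomp t m D hD hcard hq h =>
    rw [hι] at hcard
    have ht : t = n := (hn.eq_one_or_self_of_dvd t ⟨m, hcard.symm⟩).resolve_left (by
      have := hD.two_le; omega)
    subst ht
    have hm : m = 1 := Nat.eq_of_mul_eq_mul_left (by omega : 0 < t) (hcard.trans (mul_one t).symm)
    subst hm
    exact Or.inr <| Or.inl ⟨hq rfl, D, hD, h⟩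
  | field r K hr hdvd hK h =>
    rw [hι, Nat.prime_dvd_prime_iff_eq hr hn] at hdvd
    subst hdvd
    exact Or.inr <| Or.inr <| Or.inl ⟨K, hK, h⟩
  | tensor n₁ n₂ e P h1 h2 hcard h =>
    exfalso
    rcases hn.eq_one_or_self_of_dvd n₁ ⟨n₂, (hι ▸ hcard).symm⟩ with h' | h'
    · omega
    · rw [hι, h'] at hcard
      have := (Nat.mul_eq_left (by omega)).mp hcard
      omega
  | subfld F₀ r P hr hF h => exact Or.inr <| Or.inr <| Or.inr <| Or.inl ⟨F₀, r, P, hr, hF, h⟩
  | symp r m R hm hcard hR hcardR h =>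
    rw [hι] at hcard
    have hm1 : m = 1 := ((Nat.Prime.pow_eq_iff hn).mp hcard.symm).2
    subst hm1
    rw [pow_one] at hcard
    subst hcard
    refine Or.inr <| Or.inr <| Or.inr <| Or.inr <| Or.inl ⟨?_, R, hR, h⟩
    have hodd : Odd n := hn.odd_of_ne_two (by omega)
    obtain ⟨p, e, -, ⟨hp, hc, hF, hz, hmin⟩, hcases⟩ := hR.field
    rcases hcases with ⟨-, he, hZ, -⟩ | ⟨h2, -⟩ | ⟨h2, -⟩
    · have key : ∀ d, n ∣ p ^ d - 1 ↔ p ^ d % n = 1 := fun d => by
        have h1 : 1 ≤ p ^ d := Nat.one_le_pow _ _ hp.pos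
        rw [← Nat.modEq_iff_dvd' h1, Nat.ModEq, Nat.one_mod_eq_one.mpr hn.ne_one, eq_comm]
      rw [hZ] at hz hmin
      exact ⟨p, e, hp, hc, hF, he, (key e).mp hz, fun d h1 h2 h' => hmin d h1 h2 ((key d).mpr h')⟩
    · omega
    · omega
  | wreath m t e P h1 h2 hcard h =>
    exfalso
    have := ((Nat.Prime.pow_eq_iff hn).mp (hι ▸ hcard).symm).2
    omega
  | sympForm f hf hev h =>
    exfalso
    rw [hι, Nat.even_iff] at hev
    have := Nat.odd_iff.mp (hn.odd_of_ne_two (by omega))
    omega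
  | unitForm σ f hf h =>
    exact Or.inr <| Or.inr <| Or.inr <| Or.inr <| Or.inr <| Or.inr <| Or.inl ⟨σ, f, hf, h⟩
  | quadForm Q hQ hodd h =>
    exact Or.inr <| Or.inr <| Or.inr <| Or.inr <| Or.inr <| Or.inl ⟨hodd, Q, hQ, h⟩
  | residual h => exact Or.inr <| Or.inr <| Or.inr <| Or.inr <| Or.inr <| Or.inr <| Or.inr h

end Cfsg.Agent.Aschbacher
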