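/-
Outcomes for composite dimensions, with the exceptions over the field with two elements removed.
-/
import Cfsg.Agent.Aschbacher.LinearMaximal
import Cfsg.Agent.Aschbacher.BlocksTwo
import Cfsg.Agent.Aschbacher.TensorTwo

set_option autoImplicit false
set_option maxHeartbeats 1000000
set_option linter.unusedSectionVars false

namespace Cfsg.Agent.Aschbacher

open scoped MatrixGroups Matrix
open Cfsg.Geo

variable {ι : Type} [Fintype ι] [DecidableEq ι] {F : Type*} [Field F] [Fintype F]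

lemma planes_cases {H : Subgroup (GL ι F)} (hH : IsMaximalIn (specialLinear ι F) H)
    (h3 : 3 ≤ Fintype.card ι) {t : ℕ} {D : Fin t → Submodule F (ι → F)}
    (hD : IsMDecomposition 2 D) (h : H = decompositionStabilizer D ⊓ specialLinear ι F) :
    3 ≤ Fintype.card F ∨ ∃ f : (ι → F) → (ι → F) → F, IsSymplecticForm f ∧
      H = similarityGroup f ⊓ specialLinear ι F := by
  by_cases hq : Fintype.card F = 2
  · obtain ⟨f, hf, hle⟩ := blocks_two hD hq
    exact Or.inr ⟨f, hf, maximal_eq_inf hH (h.le.trans (inf_le_left.trans hle))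
      (similarityGroup_proper h3 (isSesq_of_bilinear hf.bilinear) hf.nondegenerate)⟩
  · left
    have : 1 < Fintype.card F := Fintype.one_lt_card
    omega

lemma tensor_cases {H : Subgroup (GL ι F)} (hH : IsMaximalIn (specialLinear ι F) H)
    (h3 : 3 ≤ Fintype.card ι) {b : ℕ} {e : ι ≃ Fin 2 × Fin b} {P : GL ι F}
    (h : H = tensorProductSubgroup 2 b e P ⊓ specialLinear ι F) :
    3 ≤ Fintype.card F ∨ ∃ K : Subalgebra F (Matrix ι ι F), IsFieldSubalgebra 2 K ∧
      H = subalgebraNormalizer K ⊓ specialLinear ι F := by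
  by_cases hq : Fintype.card F = 2
  · have hb : 0 < b := by
      rcases Nat.eq_zero_or_pos b with rfl | hb
      · have := Fintype.card_congr e
        simp at this
        omega
      · exact hb
    obtain ⟨K, hK, hle⟩ := tensor_two hq e P hb
    exact Or.inr ⟨K, hK, maximal_eq_inf hH (h.le.trans (inf_le_left.trans hle))
      (subalgebraNormalizer_proper h3 hK le_rfl)⟩
  · left
    have : 1 < Fintype.card F := Fintype.one_lt_card
    omega

lemma symp_odd_cases {r : ℕ} {R : Subgroup (GL ι F)} (hR : IsLinearSymplecticTypeData r R)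
    (hr : r ≠ 2) :
    ∃ p e : ℕ, p.Prime ∧ CharP F p ∧ Fintype.card F = p ^ e ∧ Odd e ∧
      p ^ e % r = 1 ∧ ∀ d, 0 < d → d < e → p ^ d % r ≠ 1 := by
  obtain ⟨p, e, -, ⟨hp, hc, hF, hz, hmin⟩, hcases⟩ := hR.field
  rcases hcases with ⟨-, he, hZ, -⟩ | ⟨h2, -⟩ | ⟨h2, -⟩
  · have hn := hR.symplecticType.prime
    have key : ∀ d, r ∣ p ^ d - 1 ↔ p ^ d % r = 1 := fun d => by
      have h1 : 1 ≤ p ^ d := Nat.one_le_pow _ _ hp.pos
      rw [← Nat.modEq_iff_dvd' h1, Nat.ModEq, Nat.one_mod_eq_one.mpr hn.ne_one, eq_comm]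
    rw [hZ] at hz hmin
    exact ⟨p, e, hp, hc, hF, he, (key e).mp hz, fun d h1 h2 h' => hmin d h1 h2 ((key d).mpr h')⟩
  · exact absurd h2 hr
  · exact absurd h2 hr

lemma symp_two_cases {R : Subgroup (GL ι F)} (hR : IsLinearSymplecticTypeData 2 R)
    (h3 : 3 ≤ Fintype.card ι) : ∃ p : ℕ, p.Prime ∧ Fintype.card F = p ∧ p % 4 = 1 := by
  obtain ⟨p, e, -, ⟨hp, -, hF, hz, -⟩, hcases⟩ := hR.field
  rcases hcases with ⟨h, -⟩ | ⟨-, he, hZ, -⟩ | ⟨-, -, h, -⟩
  · exact absurd h (by decide)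
  · subst he
    rw [hZ, pow_one] at hz
    rw [pow_one] at hF
    have := hp.two_le
    exact ⟨p, hp, hF, by omega⟩
  · omega

lemma not_pow_eq {r m n : ℕ} (hr : r.Prime) (hm : 1 ≤ m)
    (hn : ∀ a < n + 1, ∀ b < n, a.Prime → a ^ (b + 1) ≠ n) : r ^ m ≠ n := by
  intro h
  have hr2 := hr.two_le
  have h1 : m < r ^ m := Nat.lt_pow_self (by omega)
  have h2 : r ≤ r ^ m := Nat.le_self_pow (by omega) r
  exact hn r (by omega) (m - 1) (by omega) hr (by rwa [Nat.sub_add_cancel hm])

end Cfsg.Agent.Aschbacher
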