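/-
Aschbacher's theorem for unitary groups.
-/
import Cfsg.Agent.Aschbacher.FormedCore
import Cfsg.Agent.Aschbacher.FormedPowerTwo
import Cfsg.Agent.Aschbacher.FormedNine
import Cfsg.Agent.Aschbacher.FormCongruence
import Cfsg.Agent.Aschbacher.FormedSympCases

set_option autoImplicit false
set_option linter.unusedSectionVars false
set_option linter.style.haveILetI false
set_option maxHeartbeats 1000000

namespace Cfsg.Agent.Aschbacher

open scoped MatrixGroups Matrix Kronecker
open Cfsg.Geo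

variable {ι : Type} [Fintype ι] [DecidableEq ι] {F : Type*} [Field F]

/-- The alternatives of Aschbacher's theorem for a subgroup of a unitary group over the field
with `q²` elements, with the numerical side conditions that the specialisations need. -/
inductive UnitOutcome [Fintype F] (q : ℕ) (f : (ι → F) → (ι → F) → F) (H : Subgroup (GL ι F)) : Prop
  | ts (W : Submodule F (ι → F)) (h0 : W ≠ ⊥) (hts : IsTotallySingularFor f W)
      (h : H ≤ subspaceStabilizer W)
  | nd (W : Submodule F (ι → F)) (h0 : W ≠ ⊥) (hnd : IsNondegenerateOn f W)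
      (hk : 2 * Module.finrank F W < Fintype.card ι) (h : H ≤ subspaceStabilizer W)
  | decomp (t k : ℕ) (D : Fin t → Submodule F (ι → F)) (hD : IsNondegenerateMDecomposition f k D)
      (hcard : t * k = Fintype.card ι) (h : H ≤ decompositionStabilizer D)
  | tsPair (k : ℕ) (D : Fin 2 → Submodule F (ι → F))
      (hk : 2 * k = Fintype.card ι) (hD : IsMDecomposition k D)
      (hts : ∀ i, IsTotallySingularFor f (D i)) (h : H ≤ decompositionStabilizer D)
  | fieldU (r : ℕ) (K : Subalgebra F (Matrix ι ι F)) (hr : r.Prime) (hodd : Odd r)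
      (hdvd : r ∣ Fintype.card ι) (hK : IsFieldSubalgebra r K) (hA : IsAdjointClosedFor f K)
      (h : H ≤ subalgebraNormalizer K)
  | tensor (n₁ n₂ : ℕ) (e : ι ≃ Fin n₁ × Fin n₂) (P : GL ι F)
      (f₁ : (Fin n₁ → F) → (Fin n₁ → F) → F) (f₂ : (Fin n₂ → F) → (Fin n₂ → F) → F)
      (h1 : 2 ≤ n₁) (h2 : n₁ < n₂) (hcard : n₁ * n₂ = Fintype.card ι)
      (hf₁ : IsUnitaryFormPow q f₁) (hf₂ : IsUnitaryFormPow q f₂)
      (hs : IsTensorFormStructure (fun x : F => x ^ q) f f₁ f₂ e P)
      (h : H ≤ tensorProductSubgroup n₁ n₂ e P)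
  | subfld (hsub : UnitSubfield q f H)
  | symp (r p e k : ℕ) (R : Subgroup (GL ι F)) (hR : IsSymplecticTypeGroup r R)
      (habs : ActsAbsolutelyIrreducibly (matrixSet R)) (hsim : R ≤ similarityGroup f)
      (hfix : FixesForm (matrixSet R) f) (hrp : r ≠ p)
      (hmin : IsMinimalFieldFor (Nat.card (Subgroup.center R)) p e F)
      (hcase : (Odd r ∧ Nat.card (Subgroup.center R) = r ∧ 1 ≤ k ∧ Nat.card R = r ^ (1 + 2 * k)) ∨
        (r = 2 ∧ e = 2 ∧ Nat.card (Subgroup.center R) = 4 ∧ Nat.card R = 2 ^ (2 + 2 * k)))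
      (hn : Fintype.card ι = r ^ k) (hdvd : Nat.card (Subgroup.center R) ∣ q + 1)
      (h : H ≤ subgroupNormalizer R)
  | power (k t : ℕ) (e : ι ≃ (Fin t → Fin k)) (P : GL ι F) (f₁ : (Fin k → F) → (Fin k → F) → F)
      (hk : 3 ≤ k) (ht : 2 ≤ t) (hne : ¬ (q = 2 ∧ k = 3)) (hcard : k ^ t = Fintype.card ι)
      (hf₁ : IsUnitaryFormPow q f₁)
      (hs : IsTensorPowerFormStructure (fun x : F => x ^ q) f f₁ e P)
      (h : H ≤ tensorWreathSubgroup k t e P)
  | residual (h : InUnitaryResidualClass H)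

lemma frob_ne_refl [Fintype F] {q : ℕ} (hF : Fintype.card F = q ^ 2) :
    Unitary.frob hF ≠ RingEquiv.refl F := by
  intro hc
  have h1 := Unitary.card_ker_pow_sub hF
  have h2 : (powMonoidHom (q - 1) : Fˣ →* Fˣ).ker = ⊤ := by
    refine eq_top_iff.mpr fun u _ => ?_
    rw [MonoidHom.mem_ker, powMonoidHom_apply]
    refine Units.ext (mul_left_cancel₀ u.ne_zero ?_)
    have hu : Unitary.frob hF (u : F) = u := by rw [hc]; rfl
    rw [Unitary.frob_apply] at hu
    rw [Units.val_pow_eq_pow_val, Units.val_one, mul_one, ← pow_succ',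
      Nat.sub_add_cancel (by have := Unitary.two_le_q hF; omega), hu]
  rw [h2, Subgroup.card_top, Unitary.card_units hF] at h1
  have := Unitary.two_le_q hF
  have : (q + 1) * (q - 1) > q - 1 := by
    have : 0 < q - 1 := by omega
    nlinarith
  omega

lemma isUnitaryFormPow_formOfGram [Fintype F] {q : ℕ} (hF : Fintype.card F = q ^ 2) {n : Type}
    [Fintype n] [DecidableEq n] {G : Matrix n n F} (hu : IsUnit G)
    (hh : Gᵀ = (1 : F) • G.map (Unitary.frob hF)) :
    IsUnitaryFormPow q (formOfGram (Unitary.frob hF) G) := by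
  have h := isUnitaryForm_formOfGram (frob_ne_refl hF) (Unitary.pow_q_q hF) hu fun i j => by
    have := congrFun (congrFun hh j) i
    simp only [Matrix.transpose_apply, one_smul, Matrix.map_apply] at this
    exact this.symm
  exact ⟨h.add_left, h.smul_left, fun v w => h.herm v w, h.nondegenerate⟩

variable {f : (ι → F) → (ι → F) → F} {H : Subgroup (GL ι F)}

/-- A power decomposition with trivial Gram matrix. -/
lemma UnitOutcome.of_powerData [Fintype F] [Nonempty ι] {q : ℕ} (hF : Fintype.card F = q ^ 2)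
    (h : FormSpace (Unitary.frob hF) 1 f) (hH : FixesForm (matrixSet H) f) {k t : ℕ}
    {e : ι ≃ (Fin t → Fin k)} {P : GL ι F}
    (d : PowerFormData (Unitary.frob hF) f H k t e P 1) (hne : ¬ (q = 2 ∧ k = 3)) :
    UnitOutcome q f H := by
  by_cases hk : k = 2
  · subst hk
    exact .subfld (d.unitary_two hF h hH)
  have := d.two_le_k
  refine .power k t e P _ (by omega) d.two_le_t hne d.card
    (isUnitaryFormPow_formOfGram hF isUnit_one ?_) (d.structureEq h) d.le
  rw [Matrix.transpose_one, one_smul, Matrix.map_one _ (map_zero _) (map_one _)]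

/-- The tensor case. -/
lemma UnitOutcome.of_tensor [Fintype F] [Nonempty ι] {q : ℕ} (hF : Fintype.card F = q ^ 2)
    (h : FormSpace (Unitary.frob hF) 1 f) (hH : FixesForm (matrixSet H) f)
    {a b : ℕ} {e : ι ≃ Fin a × Fin b} {P : GL ι F} {G₁ : Matrix (Fin a) (Fin a) F}
    {G₂ : Matrix (Fin b) (Fin b) F}
    (d : TensorFormData (Unitary.frob hF) 1 f H a b e P G₁ G₂ 1 1) : UnitOutcome q f H := by
  rcases lt_trichotomy a b with hab | hab | hab
  · exact .tensor a b e P _ _ d.two_le₁ hab d.card (isUnitaryFormPow_formOfGram hF d.unit₁ d.herm₁)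
      (isUnitaryFormPow_formOfGram hF d.unit₂ d.herm₂) (d.structureEq h) d.le
  · subst hab
    obtain ⟨e', P', d'⟩ := d.toPower h isUnit_one
      (exists_gtr_eq_one hF d.unit₁ d.herm₁ (by simp))
      (exists_gtr_eq_one hF d.unit₂ d.herm₂ (by simp))
    by_cases hex : q = 2 ∧ a = 3
    · obtain ⟨rfl, rfl⟩ := hex
      obtain ⟨R, h1, h2, h3, h4, h5, h6, h7, h8⟩ := d'.nine hF h hH
      refine .symp 3 2 2 2 R h1 h2 h3 h4 (by norm_num) (by rw [h5]; exact h7)
        (Or.inl ⟨by decide, h5, by norm_num, h6⟩) (by rw [← d.card]; norm_num) (by rw [h5]) h8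
    · exact of_powerData hF h hH d' hex
  · exact .tensor b a (e.trans (Equiv.prodComm _ _)) P _ _ d.two_le₂ hab
      (by rw [mul_comm]; exact d.card) (isUnitaryFormPow_formOfGram hF d.unit₂ d.herm₂)
      (isUnitaryFormPow_formOfGram hF d.unit₁ d.herm₁) (d.swap.structureEq h) d.swap.le

/-- The tensor power case. -/
lemma UnitOutcome.of_power [Fintype F] [Nonempty ι] {q : ℕ} (hF : Fintype.card F = q ^ 2)
    (h : FormSpace (Unitary.frob hF) 1 f) (hH : FixesForm (matrixSet H) f) {t k : ℕ}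
    {A : Fin t → Subalgebra F (Matrix ι ι F)} (hA : TensorPowerData (H ⊔ scalars ι F) t k A) :
    UnitOutcome q f H := by
  obtain ⟨e, P, G₀, i₀, d₀, hslot⟩ :=
    h.exists_powerFormData_of_tensorPower hA (h.sup_scalars_le_similarity hH)
  have d : PowerFormData (Unitary.frob hF) f H k t e P G₀ :=
    { d₀ with le := le_sup_left.trans d₀.le }
  obtain ⟨c, hG, hc, -⟩ := d.exists_herm h
  by_cases hex : q = 2 ∧ k = 3
  · obtain ⟨rfl, rfl⟩ := hex
    obtain ⟨D, hDH, hperf, hns, henv⟩ := hA.perfect i₀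
    exact absurd (d.no_perfect h (isSolvable_gramFix_two_three hF d.unit hG hc)
      (fun s hs => by
        obtain ⟨x, hx, rfl⟩ := hs
        exact hH _ (mem_matrixSet (le_of_perfect hDH hperf hx)))
      hperf i₀ fun x hx => hslot _ (henv (val_mem_env hx))) hns
  obtain ⟨B, ν, hν, hB⟩ := exists_gtr_eq_one hF d.unit hG hc
  obtain ⟨B', d'⟩ := d.change h isUnit_one B hν hB
  exact of_powerData hF h hH d' hex

/-- Aschbacher's theorem for unitary groups. -/
theorem unitary_aschbacher [Fintype F] {q : ℕ} (hF : Fintype.card F = q ^ 2)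
    (h : FormSpace (Unitary.frob hF) 1 f) (hdim : 2 ≤ Fintype.card ι)
    (hH : FixesForm (matrixSet H) f) : UnitOutcome q f H := by
  classical
  haveI : Nonempty ι := Fintype.card_pos_iff.mp (by omega)
  by_cases hirr : ActsIrreducibly (matrixSet H)
  swap
  · rcases h.reducible_cases hH hirr with ⟨W, h0, hts, hle⟩ | ⟨W, h0, hnd, hk, hle⟩ |
      ⟨k, D, hk, hD, hle⟩
    · exact .ts W h0 hts hle
    · exact .nd W h0 hnd hk hle
    · exact .decomp 2 k D hD hk hle
  set H' := H ⊔ scalars ι F with hH'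
  have hHle : H ≤ H' := le_sup_left
  obtain ⟨N, hZN, hNH, hNn, hmin, hcases⟩ := structure_theorem H' (actsIrreducibly_mono hHle hirr)
    le_sup_right hdim
  have hAdj : AdjClosed (Unitary.frob hF) f (env N) :=
    h.adjClosed_env (hNH.trans (h.sup_scalars_le_similarity hH))
  have hNA : H' ≤ subalgebraNormalizer (env N) :=
    le_subalgebraNormalizer fun g hg X hX => cj_mem_env (fun x hx => hNn g hg x hx) hX
  rcases hcases with ⟨t, e, he⟩ | ⟨d, hd, hK⟩ | ⟨a, ha1, ha2, ⟨φ⟩⟩ | ⟨-, hrest⟩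
  · rcases h.imprimitive_cases hH hAdj he with ⟨t', m, D, hD, hcard, hle, -⟩ |
      ⟨k, D, hk, hD, hts, hle⟩
    · exact .decomp t' m D hD hcard hle
    · exact .tsPair k D hk hD hts hle
  · obtain ⟨r, L, hr, hdvd, -, hL, hLA, hLn⟩ := h.exists_prime_field hd hK (h.adjClosed_centre hAdj)
    have hHL : H ≤ subalgebraNormalizer L := hHle.trans ((normalizer_centre_le hNA).trans hLn)
    exact .fieldU r L hr ((h.field_parity hL hr hLA).1 (frob_ne_refl hF)) hdvd hL
      (isAdjointClosedFor h hLA) hHL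
  · obtain ⟨b, e, P, G₁, G₂, c₁, c₂, d, -⟩ :=
      h.exists_tensorFormData (by omega) ha2 (env N) hAdj (hHle.trans hNA) φ
    obtain ⟨G₁', G₂', d'⟩ := d.exists_unitary h.invol (frob_ne_refl hF)
    exact UnitOutcome.of_tensor hF h hH d'
  rcases hrest with ⟨r, m, z, R, hd⟩ | ⟨t, k, A, hA⟩ | hcore
  · obtain ⟨R₁, hR₁⟩ := h.exists_isoSympData hdim hH hNH hmin hNn hZN hd
    rcases hR₁.unitary_case hF hdim h with hsub |
      ⟨p, e, h1, h2, h3, h4, h5, h6, h7, h8, h9, h10⟩
    · exact .subfld hsub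
    · exact .symp r p e m R₁ h1 h2 h3 h4 h5 h6 h7 h8 h9 h10
  · exact UnitOutcome.of_power hF h hH hA
  -- the almost simple case
  set P := ⁅N, N⁆
  have hP := hcore.absIrred
  have hPH : P ≤ H := le_of_perfect hcore.le hcore.perfect
  have hPf : FixesForm (matrixSet P) f := by
    rintro _ ⟨x, hx, rfl⟩; exact hH _ (mem_matrixSet (hPH hx))
  have hn : ∀ g ∈ H, ∀ x ∈ P, g * x * g⁻¹ ∈ P := fun g hg => hcore.normal g (hHle hg)
  have hsubf : ∀ {F₀ : Subfield F}, F₀ ≠ ⊤ → RealisableOver F₀ (matrixSet P) → UnitOutcome q f H :=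
    fun hne hreal => .subfld (unitary_subfield hF h hP hdim hn hPf hne hreal)
  have hbil : ∀ {g : (ι → F) → (ι → F) → F}, IsBilinearForm g → IsNondegenerateForm g →
      FixesForm (matrixSet P) g → UnitOutcome q f H := fun hg hgn hfix =>
    hsubf (eqLocusField_ne_top (frob_ne_refl hF))
      (descent_of_forms hP h.sesq h.nondeg (isSesq_of_bilinear hg) hgn hPf hfix)
  rcases residualCore_or_subfield hcore with hres | ⟨F₀, hne, hreal⟩
  swap
  · exact hsubf hne hreal
  by_cases hq : ∃ Q : (ι → F) → F, IsNondegenerateQuadraticForm Q ∧ FixesQuadForm (matrixSet P) Q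
  · obtain ⟨Q, hQ, hfix⟩ := hq
    exact hbil hQ.polar_bilinear hQ.nondegenerate (fixesForm_polar hfix)
  by_cases hs : ∃ g : (ι → F) → (ι → F) → F, IsSymplecticForm g ∧ FixesForm (matrixSet P) g
  · obtain ⟨g, hg, hfix⟩ := hs
    exact hbil hg.bilinear hg.nondegenerate hfix
  exact .residual ⟨P, hres, hq, hs⟩

lemma formSpace_hermForm [Fintype F] {q : ℕ} (hF : Fintype.card F = q ^ 2) (n : ℕ) :
    FormSpace (Unitary.frob hF) 1 (Cfsg.hermForm n F q) := by
  have he : Cfsg.hermForm n F q = formOfGram (Unitary.frob hF) (1 : Matrix (Fin n) (Fin n) F) := by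
    funext u v
    rw [formOfGram_eq, Matrix.one_mulVec]
    rfl
  have h := isUnitaryForm_formOfGram (frob_ne_refl hF) (Unitary.pow_q_q hF)
    (isUnit_one (M := Matrix (Fin n) (Fin n) F)) fun i j => by
      by_cases hij : i = j
      · subst hij; simp [Unitary.frob_apply]
      · simp [Ne.symm hij, hij, Unitary.frob_apply, Unitary.q_ne_zero hF]
  rw [he]
  exact ⟨isSesq_of_unitary h, Unitary.pow_q_q hF, h.nondegenerate, fun u v => by
    rw [one_mul]; exact h.herm v u⟩

lemma fixesForm_of_le_GU {n q : ℕ} {H : Subgroup (GL (Fin n) F)} (hH : H ≤ Cfsg.GU n F q) :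
    FixesForm (matrixSet H) (Cfsg.hermForm n F q) := by
  rintro _ ⟨g, hg, rfl⟩
  exact hH hg

end Cfsg.Agent.Aschbacher
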